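import Mathlib.GroupTheory.Sylow
import Mathlib.GroupTheory.PGroup

set_option autoImplicit false

namespace Cfsg.Agent.Lib.Helper85

open scoped Pointwise

variable {G : Type*} [Group G]

theorem mem_map_conj_iff {P : Subgroup G} {g x : G} :
    x ∈ P.map (MulAut.conj g).toMonoidHom ↔ g⁻¹ * x * g ∈ P := by
  constructor
  · rintro ⟨y, hy, rfl⟩
    simpa [mul_assoc] using hy
  · intro h
    refine ⟨g⁻¹ * x * g, h, ?_⟩
    simp [mul_assoc]

theorem conj_mem_map_conj {P : Subgroup G} (g : G) {x : G} (hx : x ∈ P) :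
    g * x * g⁻¹ ∈ P.map (MulAut.conj g).toMonoidHom :=
  ⟨x, hx, rfl⟩

theorem card_map_conj (P : Subgroup G) (g : G) :
    Nat.card (P.map (MulAut.conj g).toMonoidHom) = Nat.card P :=
  Subgroup.card_map_of_injective (MulAut.conj g).injective

theorem map_conj_map_conj (P : Subgroup G) (g h : G) :
    (P.map (MulAut.conj g).toMonoidHom).map (MulAut.conj h).toMonoidHom =
      P.map (MulAut.conj (h * g)).toMonoidHom := by
  ext x
  simp only [mem_map_conj_iff]
  have : g⁻¹ * (h⁻¹ * x * h) * g = (h * g)⁻¹ * x * (h * g) := by group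
  rw [this]

theorem map_conj_inv_map_conj (P : Subgroup G) (g : G) :
    (P.map (MulAut.conj g).toMonoidHom).map (MulAut.conj g⁻¹).toMonoidHom = P := by
  rw [map_conj_map_conj]
  ext x
  simp

theorem map_conj_mono {P Q : Subgroup G} (h : P ≤ Q) (g : G) :
    P.map (MulAut.conj g).toMonoidHom ≤ Q.map (MulAut.conj g).toMonoidHom :=
  Subgroup.map_mono h

theorem normalizer_map_conj (P : Subgroup G) (g : G) :
    Subgroup.normalizer ((P.map (MulAut.conj g).toMonoidHom : Subgroup G) : Set G) =
      (Subgroup.normalizer (P : Set G)).map (MulAut.conj g).toMonoidHom := by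
  ext x
  rw [mem_map_conj_iff, Subgroup.mem_normalizer_iff, Subgroup.mem_normalizer_iff]
  constructor
  · intro h y
    have := h (g * y * g⁻¹)
    rw [mem_map_conj_iff, mem_map_conj_iff] at this
    have e1 : g⁻¹ * (g * y * g⁻¹) * g = y := by group
    have e2 : g⁻¹ * (x * (g * y * g⁻¹) * x⁻¹) * g = g⁻¹ * x * g * y * (g⁻¹ * x * g)⁻¹ := by group
    rw [e1, e2] at this
    exact this
  · intro h y
    rw [mem_map_conj_iff, mem_map_conj_iff]
    have := h (g⁻¹ * y * g)
    have e2 : g⁻¹ * x * g * (g⁻¹ * y * g) * (g⁻¹ * x * g)⁻¹ = g⁻¹ * (x * y * x⁻¹) * g := by group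
    rw [e2] at this
    exact this

theorem centralizer_map_conj (P : Subgroup G) (g : G) :
    Subgroup.centralizer ((P.map (MulAut.conj g).toMonoidHom : Subgroup G) : Set G) =
      (Subgroup.centralizer (P : Set G)).map (MulAut.conj g).toMonoidHom := by
  ext x
  rw [mem_map_conj_iff, Subgroup.mem_centralizer_iff, Subgroup.mem_centralizer_iff]
  constructor
  · intro h y hy
    have := h (g * y * g⁻¹) (conj_mem_map_conj g hy)
    have e : y * (g⁻¹ * x * g) = g⁻¹ * (g * y * g⁻¹ * x) * g := by group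
    rw [e, this]
    group
  · intro h y hy
    have hy' : g⁻¹ * y * g ∈ P := mem_map_conj_iff.mp hy
    have := h _ hy'
    have e : y * x = g * (g⁻¹ * y * g * (g⁻¹ * x * g)) * g⁻¹ := by group
    rw [e, this]
    group

theorem exists_conj_le_sylow {p : ℕ} [Fact p.Prime] [Finite G] (S : Sylow p G) {T : Subgroup G}
    (hT : IsPGroup p T) : ∃ g : G, T.map (MulAut.conj g).toMonoidHom ≤ S := by
  obtain ⟨S', hS'⟩ := hT.exists_le_sylow
  obtain ⟨g, hg⟩ := MulAction.exists_smul_eq G S' S
  refine ⟨g, ?_⟩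
  rw [← hg]
  rintro _ ⟨x, hx, rfl⟩
  rw [Sylow.smul_def]
  show _ ∈ (MulAut.conj g • (S' : Subgroup G))
  exact Subgroup.smul_mem_pointwise_smul _ _ _ (hS' hx)

theorem card_subgroupOf_of_le {H K : Subgroup G} (h : H ≤ K) :
    Nat.card (H.subgroupOf K) = Nat.card H :=
  Nat.card_congr (Subgroup.subgroupOfEquivOfLe h).toEquiv

/-- `H ≤ K` is (the image of) a Sylow `p`-subgroup of `K` iff it is a `p`-group at least as large as every
`p`-subgroup of `K`. -/
theorem sylow_subgroupOf_iff [Finite G] {p : ℕ} [Fact p.Prime] {H K : Subgroup G} (hHK : H ≤ K) :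
    (∃ R : Sylow p K, (R : Subgroup K) = H.subgroupOf K) ↔
      IsPGroup p H ∧ ∀ T : Subgroup G, T ≤ K → IsPGroup p T → Nat.card T ≤ Nat.card H := by
  constructor
  · rintro ⟨R, hR⟩
    have hH : IsPGroup p H := by
      have : IsPGroup p (H.subgroupOf K) := hR ▸ R.isPGroup'
      exact this.of_equiv (Subgroup.subgroupOfEquivOfLe hHK)
    refine ⟨hH, fun T hTK hT => ?_⟩
    have hT' : IsPGroup p (T.subgroupOf K) := hT.comap_subtype
    obtain ⟨R', hR'⟩ := hT'.exists_le_sylow
    calc Nat.card T = Nat.card (T.subgroupOf K) := (card_subgroupOf_of_le hTK).symm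
      _ ≤ Nat.card R' := Subgroup.card_le_of_le hR'
      _ = Nat.card R := by rw [Sylow.card_eq_multiplicity, Sylow.card_eq_multiplicity]
      _ = Nat.card (H.subgroupOf K) := by rw [← hR]
      _ = Nat.card H := card_subgroupOf_of_le hHK
  · rintro ⟨hH, hmax⟩
    have hH' : IsPGroup p (H.subgroupOf K) := hH.comap_subtype
    obtain ⟨R, hR⟩ := hH'.exists_le_sylow
    refine ⟨R, ?_⟩
    symm
    apply Subgroup.eq_of_le_of_card_ge hR
    have h1 : Nat.card ((R : Subgroup K).map K.subtype) = Nat.card R :=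
      Subgroup.card_map_of_injective K.subtype_injective
    have h2 := hmax ((R : Subgroup K).map K.subtype) (Subgroup.map_subtype_le _) (R.isPGroup'.map _)
    rw [card_subgroupOf_of_le hHK]
    calc Nat.card R = Nat.card ((R : Subgroup K).map K.subtype) := h1.symm
      _ ≤ Nat.card H := h2

/-- Every `p`-subgroup of `K` has order at most that of a Sylow `p`-subgroup of `K`. -/
theorem card_le_card_sylow [Finite G] {p : ℕ} [Fact p.Prime] {K : Subgroup G} (R : Sylow p K)
    {T : Subgroup G} (hTK : T ≤ K) (hT : IsPGroup p T) : Nat.card T ≤ Nat.card R := by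
  have hT' : IsPGroup p (T.subgroupOf K) := hT.comap_subtype
  obtain ⟨R', hR'⟩ := hT'.exists_le_sylow
  calc Nat.card T = Nat.card (T.subgroupOf K) := (card_subgroupOf_of_le hTK).symm
    _ ≤ Nat.card R' := Subgroup.card_le_of_le hR'
    _ = Nat.card R := by rw [Sylow.card_eq_multiplicity, Sylow.card_eq_multiplicity]

end Cfsg.Agent.Lib.Helper85
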