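import Mathlib
import Cfsg.Prelude.Def_SolvableStructure
import Cfsg.Prelude.Def_Solvable

/-!
# Project SQF (S4130, Chillag-Herzog): groups all of whose conjugacy class sizes are squarefree (helper85)

Definitions only.  Sheet: `Cfsg/Agent/Lib/Helper85/Sqf/SQF_SHEET.md`, exact statements: `SQF_SKEL.lean.txt`.
-/

set_option autoImplicit false

namespace Cfsg.Agent.Lib.Helper85.Sqf

/-- all conjugacy class sizes of `G` are squarefree -/
def SqF (G : Type*) [Group G] : Prop :=
  ∀ x : G, Squarefree (Subgroup.centralizer ({x} : Set G)).index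

theorem SqF.def {G : Type*} [Group G] (h : SqF G) (x : G) :
    Squarefree (Subgroup.centralizer ({x} : Set G)).index := h x

end Cfsg.Agent.Lib.Helper85.Sqf
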