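import Cfsg.Prelude.Def_FusionSystem

set_option autoImplicit false

namespace Cfsg.Agent.Lib.Helper85

open Cfsg Cfsg.FusionSystem

variable {Ω : Type*} [Group Ω] {S : Subgroup Ω}

/-- The conjugation by `1` on `P` is the inclusion. -/
theorem conjHom_one (P : Subgroup Ω) : conjHom P (1 : Ω) = P.subtype := by
  ext x
  simp [conjHom]

@[simp] theorem conjHom_apply (P : Subgroup Ω) (g : Ω) (x : P) : conjHom P g x = g * (x : Ω) * g⁻¹ := rfl

/-- The inclusion of a subgroup of `S` is a map of the system. -/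
theorem id_mem (F : FusionSystem S) {P : Subgroup Ω} (hP : P ≤ S) : P.subtype ∈ F.Hom P := by
  have h := F.conj_mem (P := P) (g := 1) hP S.one_mem
  rwa [conjHom_one] at h

/-- Flexible form of composition: any homomorphism that is pointwise the composite is a map. -/
theorem comp_mem' (F : FusionSystem S) {P Q : Subgroup Ω} {φ : P →* Ω} {ψ : Q →* Ω}
    (hφ : φ ∈ F.Hom P) (hψ : ψ ∈ F.Hom Q) (h : ∀ x : P, φ x ∈ Q) (χ : P →* Ω)
    (hχ : ∀ x : P, χ x = ψ ⟨φ x, h x⟩) : χ ∈ F.Hom P := by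
  have := F.comp_mem hφ hψ h
  have e : χ = ψ.comp (φ.codRestrict Q h) := by
    ext x
    rw [hχ]
    rfl
  rwa [e]

/-- Restriction of a map to a smaller subgroup is a map. -/
theorem restrict_mem (F : FusionSystem S) {P Q : Subgroup Ω} {φ : P →* Ω} (hφ : φ ∈ F.Hom P)
    (hQP : Q ≤ P) : φ.comp (Subgroup.inclusion hQP) ∈ F.Hom Q :=
  comp_mem' F (id_mem F (hQP.trans (F.le_of_mem hφ).1)) hφ (fun x => hQP x.2) _ (fun _ => rfl)

/-- Flexible form of restriction. -/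
theorem restrict_mem' (F : FusionSystem S) {P Q : Subgroup Ω} {φ : P →* Ω} (hφ : φ ∈ F.Hom P)
    (hQP : Q ≤ P) (χ : Q →* Ω) (hχ : ∀ x : Q, χ x = φ ⟨x, hQP x.2⟩) : χ ∈ F.Hom Q := by
  have := restrict_mem F hφ hQP
  have e : χ = φ.comp (Subgroup.inclusion hQP) := by
    ext x
    rw [hχ]
    rfl
  rwa [e]

theorem le_of_mem_Hom (F : FusionSystem S) {P : Subgroup Ω} {φ : P →* Ω} (hφ : φ ∈ F.Hom P) : P ≤ S :=
  (F.le_of_mem hφ).1

theorem apply_mem_of_mem_Hom (F : FusionSystem S) {P : Subgroup Ω} {φ : P →* Ω} (hφ : φ ∈ F.Hom P)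
    (x : P) : φ x ∈ S :=
  (F.le_of_mem hφ).2 x

theorem range_le_of_mem_Hom (F : FusionSystem S) {P : Subgroup Ω} {φ : P →* Ω} (hφ : φ ∈ F.Hom P) :
    φ.range ≤ S := by
  rintro _ ⟨x, rfl⟩
  exact apply_mem_of_mem_Hom F hφ x

/-- Inverse of a map, in flexible form: if `φ.range = Q`, there is a map on `Q` undoing `φ`. -/
theorem exists_inv (F : FusionSystem S) {P Q : Subgroup Ω} {φ : P →* Ω} (hφ : φ ∈ F.Hom P)
    (hQ : φ.range = Q) :
    ∃ ψ ∈ F.Hom Q, (∀ x : P, ∀ h : φ x ∈ Q, ψ ⟨φ x, h⟩ = (x : Ω)) ∧ ψ.range = P := by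
  subst hQ
  obtain ⟨ψ, hψ, hψx⟩ := F.inv_mem hφ
  refine ⟨ψ, hψ, fun x _ => hψx x, ?_⟩
  apply le_antisymm
  · rintro _ ⟨⟨_, x, rfl⟩, rfl⟩
    rw [hψx x]
    exact x.2
  · intro x hx
    exact ⟨⟨φ ⟨x, hx⟩, ⟨⟨x, hx⟩, rfl⟩⟩, hψx ⟨x, hx⟩⟩

/-! ### Conjugacy of subgroups -/

theorem isConj_refl (F : FusionSystem S) {P : Subgroup Ω} (hP : P ≤ S) : F.IsConj P P :=
  ⟨P.subtype, id_mem F hP, Subgroup.range_subtype P⟩

theorem isConj_symm (F : FusionSystem S) {P Q : Subgroup Ω} (h : F.IsConj P Q) : F.IsConj Q P := by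
  obtain ⟨φ, hφ, hr⟩ := h
  obtain ⟨ψ, hψ, -, hψr⟩ := exists_inv F hφ hr
  exact ⟨ψ, hψ, hψr⟩

theorem isConj_trans (F : FusionSystem S) {P Q R : Subgroup Ω} (h₁ : F.IsConj P Q) (h₂ : F.IsConj Q R) :
    F.IsConj P R := by
  obtain ⟨φ, hφ, hr⟩ := h₁
  obtain ⟨ψ, hψ, hr'⟩ := h₂
  have h : ∀ x : P, φ x ∈ Q := fun x => hr ▸ ⟨x, rfl⟩
  refine ⟨ψ.comp (φ.codRestrict Q h), F.comp_mem hφ hψ h, ?_⟩
  rw [← hr']
  apply le_antisymm
  · rintro _ ⟨x, rfl⟩
    exact ⟨_, rfl⟩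
  · rintro _ ⟨y, rfl⟩
    have hy : (y : Ω) ∈ φ.range := hr ▸ y.2
    obtain ⟨x, hx⟩ := hy
    refine ⟨x, ?_⟩
    show ψ ⟨φ x, _⟩ = ψ y
    congr 1
    exact Subtype.ext hx

theorem isConj_le_left (F : FusionSystem S) {P Q : Subgroup Ω} (h : F.IsConj P Q) : P ≤ S := by
  obtain ⟨φ, hφ, -⟩ := h
  exact le_of_mem_Hom F hφ

theorem isConj_le_right (F : FusionSystem S) {P Q : Subgroup Ω} (h : F.IsConj P Q) : Q ≤ S := by
  obtain ⟨φ, hφ, hr⟩ := h
  exact hr ▸ range_le_of_mem_Hom F hφ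

/-- Conjugate subgroups have the same cardinality. -/
theorem isConj_card_eq (F : FusionSystem S) {P Q : Subgroup Ω} (h : F.IsConj P Q) :
    Nat.card P = Nat.card Q := by
  obtain ⟨φ, hφ, hr⟩ := h
  subst hr
  exact Nat.card_congr (Equiv.ofInjective φ (F.injective_of_mem hφ))

/-! ### `Aut_F(P)` is the set of automorphisms that are maps of the system -/

theorem mem_autGroup_iff (F : FusionSystem S) {P : Subgroup Ω} (hP : P ≤ S) (α : MulAut P) :
    α ∈ F.autGroup P ↔ P.subtype.comp α.toMonoidHom ∈ F.Hom P := by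
  constructor
  · intro h
    unfold FusionSystem.autGroup at h
    induction h using Subgroup.closure_induction with
    | mem x hx => exact hx
    | one =>
      have : P.subtype.comp (1 : MulAut P).toMonoidHom = P.subtype := by
        ext x; rfl
      rw [this]
      exact id_mem F hP
    | mul x y _ _ hx hy =>
      refine comp_mem' F hy hx (fun z => (y z).2) _ (fun z => ?_)
      rfl
    | inv x _ hx =>
      have hr : (P.subtype.comp x.toMonoidHom).range = P := by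
        apply le_antisymm
        · rintro _ ⟨z, rfl⟩
          exact (x z).2
        · intro z hz
          exact ⟨x⁻¹ ⟨z, hz⟩, by simp⟩
      obtain ⟨ψ, hψ, hψx, -⟩ := exists_inv F hx hr
      have e : P.subtype.comp (x⁻¹).toMonoidHom = ψ := by
        ext z
        have := hψx (x⁻¹ z) (by simp)
        simp only [MonoidHom.coe_comp, Subgroup.coe_subtype, MulEquiv.coe_toMonoidHom,
          Function.comp_apply, MulAut.apply_inv_self, Subtype.coe_eta] at this
        simp only [MonoidHom.coe_comp, Subgroup.coe_subtype, MulEquiv.coe_toMonoidHom,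
          Function.comp_apply]
        exact this.symm
      rw [e]
      exact hψ
  · intro h
    exact Subgroup.subset_closure h

/-! ### `Aut_K(P)` is the set of automorphisms induced by conjugation by elements of `K` -/

theorem mem_autInducedBy_iff (K P : Subgroup Ω) (α : MulAut P) :
    α ∈ autInducedBy K P ↔ ∃ g ∈ K, ∀ x : P, ((α x : P) : Ω) = g * (x : Ω) * g⁻¹ := by
  constructor
  · intro h
    unfold autInducedBy at h
    induction h using Subgroup.closure_induction with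
    | mem x hx => exact hx
    | one => exact ⟨1, K.one_mem, fun x => by simp⟩
    | mul a b _ _ ha hb =>
      obtain ⟨g, hg, hga⟩ := ha
      obtain ⟨k, hk, hkb⟩ := hb
      refine ⟨g * k, K.mul_mem hg hk, fun x => ?_⟩
      rw [MulAut.mul_apply, hga, hkb]
      group
    | inv a _ ha =>
      obtain ⟨g, hg, hga⟩ := ha
      refine ⟨g⁻¹, K.inv_mem hg, fun x => ?_⟩
      have := hga (a⁻¹ x)
      rw [MulAut.apply_inv_self] at this
      rw [this]
      group
  · intro h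
    exact Subgroup.subset_closure h

/-! ### The extender `N_φ` -/

theorem mem_extender_iff (S P : Subgroup Ω) (φ : P →* Ω) (g : Ω) :
    g ∈ extender S P φ ↔ g ∈ S ∧ g ∈ Subgroup.normalizer (P : Set Ω) ∧
      ∃ h ∈ S, ∀ (x : P) (hx : g * (x : Ω) * g⁻¹ ∈ P), φ ⟨g * x * g⁻¹, hx⟩ = h * φ x * h⁻¹ := by
  constructor
  · intro hg
    unfold extender at hg
    induction hg using Subgroup.closure_induction with
    | mem x hx => exact hx
    | one =>
      refine ⟨S.one_mem, Subgroup.one_mem _, 1, S.one_mem, fun x hx => ?_⟩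
      simp
    | mul a b _ _ ha hb =>
      obtain ⟨haS, haN, h, hh, hha⟩ := ha
      obtain ⟨hbS, hbN, k, hk, hkb⟩ := hb
      refine ⟨S.mul_mem haS hbS, Subgroup.mul_mem _ haN hbN, h * k, S.mul_mem hh hk, fun x hx => ?_⟩
      have hbx : b * (x : Ω) * b⁻¹ ∈ P := (Subgroup.mem_normalizer_iff.mp hbN _).mp x.2
      have e : a * b * (x : Ω) * (a * b)⁻¹ = a * (b * x * b⁻¹) * a⁻¹ := by group
      have hx' : a * (b * (x : Ω) * b⁻¹) * a⁻¹ ∈ P := e ▸ hx
      have e2 : (⟨a * b * (x : Ω) * (a * b)⁻¹, hx⟩ : P) = ⟨a * (b * x * b⁻¹) * a⁻¹, hx'⟩ :=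
        Subtype.ext e
      rw [e2]
      have := hha ⟨b * (x : Ω) * b⁻¹, hbx⟩ hx'
      rw [this, hkb x hbx]
      group
    | inv a _ ha =>
      obtain ⟨haS, haN, h, hh, hha⟩ := ha
      refine ⟨S.inv_mem haS, Subgroup.inv_mem _ haN, h⁻¹, S.inv_mem hh, fun x hx => ?_⟩
      have e : a * (a⁻¹ * (x : Ω) * a⁻¹⁻¹) * a⁻¹ = x := by group
      have hx' : a * (a⁻¹ * (x : Ω) * a⁻¹⁻¹) * a⁻¹ ∈ P := by rw [e]; exact x.2
      have := hha ⟨a⁻¹ * (x : Ω) * a⁻¹⁻¹, hx⟩ hx'
      have e2 : (⟨a * (a⁻¹ * (x : Ω) * a⁻¹⁻¹) * a⁻¹, hx'⟩ : P) = x := Subtype.ext e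
      rw [e2] at this
      rw [this]
      group
  · intro h
    exact Subgroup.subset_closure h

end Cfsg.Agent.Lib.Helper85
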