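import Cfsg.Agent.Lib.Helper85.FusionBasic
import Cfsg.Prelude.Def_FusionComponents

set_option autoImplicit false

namespace Cfsg.Agent.Lib.Helper85

open Cfsg Cfsg.FusionSystem

variable {Ω : Type*} [Group Ω] {S : Subgroup Ω}

/-- The subgroups of the ambient group that lie in a finite subgroup `S` form a finite set. -/
theorem finite_subgroups_le (S : Subgroup Ω) [Finite S] : {Q : Subgroup Ω | Q ≤ S}.Finite := by
  have : {Q : Subgroup Ω | Q ≤ S} ⊆ Set.range (fun K : Subgroup S => K.map S.subtype) := by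
    intro Q hQ
    exact ⟨Q.subgroupOf S, Subgroup.map_subgroupOf_eq_of_le hQ⟩
  exact (Set.finite_range _).subset this

theorem isNormal_le (F : FusionSystem S) {Q : Subgroup Ω} (h : F.IsNormal Q) : Q ≤ S := h.1

theorem isCentral_le (F : FusionSystem S) {Q : Subgroup Ω} (h : F.IsCentral Q) : Q ≤ S := h.1

theorem isNormal_bot (F : FusionSystem S) : F.IsNormal (⊥ : Subgroup Ω) := by
  refine ⟨bot_le, fun P φ hφ => ?_⟩
  have hle : P ⊔ ⊥ ≤ P := by simp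
  refine ⟨φ.comp (Subgroup.inclusion hle), restrict_mem F hφ hle, fun x => rfl, ?_⟩
  rw [Subgroup.bot_subgroupOf, Subgroup.map_bot]

theorem isCentral_bot (F : FusionSystem S) : F.IsCentral (⊥ : Subgroup Ω) := by
  refine ⟨bot_le, fun P φ hφ => ?_⟩
  have hle : P ⊔ ⊥ ≤ P := by simp
  refine ⟨φ.comp (Subgroup.inclusion hle), restrict_mem F hφ hle, fun x => rfl, ?_⟩
  rintro ⟨x, hx⟩
  have : x = 1 := Subgroup.mem_bot.mp hx
  subst this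
  have e : (Subgroup.inclusion (le_sup_right : (⊥ : Subgroup Ω) ≤ P ⊔ ⊥) ⟨1, hx⟩) = 1 := Subtype.ext rfl
  rw [e, map_one]

theorem isNormal_sup (F : FusionSystem S) {Q₁ Q₂ : Subgroup Ω} (h₁ : F.IsNormal Q₁) (h₂ : F.IsNormal Q₂) :
    F.IsNormal (Q₁ ⊔ Q₂) := by
  refine ⟨sup_le h₁.1 h₂.1, fun P φ hφ => ?_⟩
  obtain ⟨ψ₁, hψ₁, hψ₁P, hψ₁Q⟩ := h₁.2 P φ hφ
  obtain ⟨ψ₂, hψ₂, hψ₂P, hψ₂Q⟩ := h₂.2 (P ⊔ Q₁) ψ₁ hψ₁
  have hle : P ⊔ (Q₁ ⊔ Q₂) ≤ P ⊔ Q₁ ⊔ Q₂ := by rw [sup_assoc]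
  refine ⟨ψ₂.comp (Subgroup.inclusion hle), restrict_mem F hψ₂ hle, fun x => ?_, ?_⟩
  · rw [← hψ₁P x, ← hψ₂P]
    rfl
  · -- image of `Q₁ ⊔ Q₂`
    have hQ₁le : Q₁ ≤ P ⊔ (Q₁ ⊔ Q₂) := le_sup_left.trans le_sup_right
    have hQ₂le : Q₂ ≤ P ⊔ (Q₁ ⊔ Q₂) := le_sup_right.trans le_sup_right
    rw [Subgroup.subgroupOf_sup hQ₁le hQ₂le, Subgroup.map_sup]
    congr 1
    · -- image of Q₁
      refine Eq.trans ?_ hψ₁Q
      ext y
      constructor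
      · rintro ⟨⟨x, hx⟩, hxQ, rfl⟩
        have hxQ₁ : x ∈ Q₁ := hxQ
        have hx1 : x ∈ P ⊔ Q₁ := le_sup_right (a := P) hxQ₁
        refine ⟨⟨x, hx1⟩, hxQ₁, ?_⟩
        rw [← hψ₂P]
        rfl
      · rintro ⟨⟨x, hx⟩, hxQ, rfl⟩
        have hxQ₁ : x ∈ Q₁ := hxQ
        refine ⟨⟨x, hQ₁le hxQ₁⟩, hxQ₁, ?_⟩
        rw [← hψ₂P]
        rfl
    · refine Eq.trans ?_ hψ₂Q
      ext y
      constructor
      · rintro ⟨⟨x, hx⟩, hxQ, rfl⟩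
        have hxQ₂ : x ∈ Q₂ := hxQ
        exact ⟨⟨x, hle hx⟩, hxQ₂, rfl⟩
      · rintro ⟨⟨x, hx⟩, hxQ, rfl⟩
        have hxQ₂ : x ∈ Q₂ := hxQ
        exact ⟨⟨x, hQ₂le hxQ₂⟩, hxQ₂, rfl⟩

theorem isCentral_sup (F : FusionSystem S) {Q₁ Q₂ : Subgroup Ω} (h₁ : F.IsCentral Q₁)
    (h₂ : F.IsCentral Q₂) : F.IsCentral (Q₁ ⊔ Q₂) := by
  refine ⟨sup_le h₁.1 h₂.1, fun P φ hφ => ?_⟩
  obtain ⟨ψ₁, hψ₁, hψ₁P, hψ₁Q⟩ := h₁.2 P φ hφ
  obtain ⟨ψ₂, hψ₂, hψ₂P, hψ₂Q⟩ := h₂.2 (P ⊔ Q₁) ψ₁ hψ₁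
  have hle : P ⊔ (Q₁ ⊔ Q₂) ≤ P ⊔ Q₁ ⊔ Q₂ := by rw [sup_assoc]
  refine ⟨ψ₂.comp (Subgroup.inclusion hle), restrict_mem F hψ₂ hle, fun x => ?_, ?_⟩
  · rw [← hψ₁P x, ← hψ₂P]
    rfl
  · set R := P ⊔ (Q₁ ⊔ Q₂) with hR
    set ψ := ψ₂.comp (Subgroup.inclusion hle) with hψ
    have hQ₁le : Q₁ ≤ R := le_sup_left.trans le_sup_right
    have hQ₂le : Q₂ ≤ R := le_sup_right.trans le_sup_right
    have key : (Q₁ ⊔ Q₂).subgroupOf R ≤ MonoidHom.eqLocus ψ R.subtype := by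
      rw [Subgroup.subgroupOf_sup hQ₁le hQ₂le]
      apply sup_le
      · rintro ⟨x, hx⟩ hxQ
        have hxQ₁ : x ∈ Q₁ := hxQ
        show ψ ⟨x, hx⟩ = x
        have := hψ₁Q ⟨x, hxQ₁⟩
        rw [← hψ₂P] at this
        exact this
      · rintro ⟨x, hx⟩ hxQ
        have hxQ₂ : x ∈ Q₂ := hxQ
        show ψ ⟨x, hx⟩ = x
        exact hψ₂Q ⟨x, hxQ₂⟩
    rintro ⟨x, hx⟩
    exact key (show (Subgroup.inclusion (le_sup_right : Q₁ ⊔ Q₂ ≤ R) ⟨x, hx⟩) ∈ (Q₁ ⊔ Q₂).subgroupOf R from hx)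

theorem isNormal_sSup_of_finite (F : FusionSystem S) {s : Set (Subgroup Ω)} (hs : s.Finite)
    (h : ∀ Q ∈ s, F.IsNormal Q) : F.IsNormal (sSup s) := by
  induction s, hs using Set.Finite.induction_on with
  | empty => rw [sSup_empty]; exact isNormal_bot F
  | insert _ _ ih =>
    rw [sSup_insert]
    exact isNormal_sup F (h _ (Set.mem_insert _ _)) (ih fun Q hQ => h Q (Set.mem_insert_of_mem _ hQ))

theorem isCentral_sSup_of_finite (F : FusionSystem S) {s : Set (Subgroup Ω)} (hs : s.Finite)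
    (h : ∀ Q ∈ s, F.IsCentral Q) : F.IsCentral (sSup s) := by
  induction s, hs using Set.Finite.induction_on with
  | empty => rw [sSup_empty]; exact isCentral_bot F
  | insert _ _ ih =>
    rw [sSup_insert]
    exact isCentral_sup F (h _ (Set.mem_insert _ _)) (ih fun Q hQ => h Q (Set.mem_insert_of_mem _ hQ))

/-- For finite `S`, `O_p(F)` is normal in `F`. -/
theorem isNormal_core [Finite S] (F : FusionSystem S) : F.IsNormal F.core :=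
  isNormal_sSup_of_finite F ((finite_subgroups_le S).subset fun _ hQ => hQ.1) fun _ hQ => hQ

/-- For finite `S`, `Z(F)` is central in `F`. -/
theorem isCentral_center [Finite S] (F : FusionSystem S) : F.IsCentral F.center :=
  isCentral_sSup_of_finite F ((finite_subgroups_le S).subset fun _ hQ => hQ.1) fun _ hQ => hQ

theorem le_core_of_isNormal (F : FusionSystem S) {Q : Subgroup Ω} (h : F.IsNormal Q) : Q ≤ F.core :=
  le_sSup h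

theorem le_center_of_isCentral (F : FusionSystem S) {Q : Subgroup Ω} (h : F.IsCentral Q) : Q ≤ F.center :=
  le_sSup h

end Cfsg.Agent.Lib.Helper85
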