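import Mathlib

/-!
# The table of marks determines a finite `H`-set

Two finite `H`-sets with the same number of fixed points for every subgroup of `H` are isomorphic.
-/

set_option autoImplicit false

namespace Cfsg.Agent.Lib.Helper85

open MulAction

section Marks

variable {H : Type*} [Group H] {X Y : Type*} [MulAction H X] [MulAction H Y]

/-- The points of `A` fixed by the subgroup `K`. -/
def fixIn (K : Subgroup H) (A : Set X) : Set X := {a | a ∈ A ∧ ∀ k ∈ K, k • a = a}

theorem fixIn_subset (K : Subgroup H) (A : Set X) : fixIn K A ⊆ A := fun _ h => h.1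

theorem fixIn_diff (K : Subgroup H) (A O : Set X) :
    fixIn K (A \ O) = fixIn K A \ fixIn K O := by
  ext a
  simp only [fixIn, Set.mem_ofPred_eq, Set.mem_sdiff]
  tauto

theorem fixIn_bot (C : Set X) : fixIn (⊥ : Subgroup H) C = C := by
  ext a
  simp only [fixIn, Set.mem_ofPred_eq, Subgroup.mem_bot, forall_eq, one_smul, and_true]

theorem fixIn_univ (K : Subgroup H) : fixIn K (Set.univ : Set X) = fixedPoints K X := by
  ext z
  simp only [fixIn, Set.mem_univ, true_and, Set.mem_ofPred_eq, mem_fixedPoints, Subtype.forall,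
    Subgroup.mk_smul]

theorem smul_mem_orbit_iff' (z : X) (h : H) (a : X) : h • a ∈ orbit H z ↔ a ∈ orbit H z := by
  constructor
  · rintro ⟨g, hg⟩
    refine ⟨h⁻¹ * g, ?_⟩
    change (h⁻¹ * g) • z = a
    change g • z = h • a at hg
    rw [mul_smul, hg, inv_smul_smul]
  · rintro ⟨g, rfl⟩
    exact ⟨h * g, mul_smul _ _ _⟩

open Classical in
/-- the orbit map: an equivariant map from the orbit of `x` to that of `y` when the stabilizers agree -/
noncomputable def orbitMap [Nonempty Y] (x : X) (y : Y) : X → Y := fun z =>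
  if hz : ∃ h : H, h • x = z then (Classical.choose hz) • y else Classical.arbitrary Y

theorem orbitMap_smul [Nonempty Y] {x : X} {y : Y} (hst : stabilizer H x = stabilizer H y) (h : H) :
    orbitMap (H := H) x y (h • x) = h • y := by
  have hz : ∃ h' : H, h' • x = h • x := ⟨h, rfl⟩
  unfold orbitMap
  rw [dif_pos hz]
  have h1 := Classical.choose_spec hz
  have h2 : h⁻¹ * Classical.choose hz ∈ stabilizer H x := by
    rw [mem_stabilizer_iff, mul_smul, h1, inv_smul_smul]
  rw [hst, mem_stabilizer_iff, mul_smul, inv_smul_eq_iff] at h2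
  exact h2

theorem orbitMap_bijOn [Nonempty Y] {x : X} {y : Y} (hst : stabilizer H x = stabilizer H y) :
    Set.BijOn (orbitMap (H := H) x y) (orbit H x) (orbit H y) := by
  refine ⟨?_, ?_, ?_⟩
  · rintro _ ⟨h, rfl⟩
    change orbitMap (H := H) x y (h • x) ∈ _
    rw [orbitMap_smul hst]
    exact ⟨h, rfl⟩
  · rintro _ ⟨h₁, rfl⟩ _ ⟨h₂, rfl⟩ he
    change orbitMap (H := H) x y (h₁ • x) = orbitMap (H := H) x y (h₂ • x) at he
    rw [orbitMap_smul hst, orbitMap_smul hst] at he
    have h2 : h₂⁻¹ * h₁ ∈ stabilizer H y := by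
      rw [mem_stabilizer_iff, mul_smul, he, inv_smul_smul]
    rw [← hst, mem_stabilizer_iff, mul_smul, inv_smul_eq_iff] at h2
    exact h2
  · rintro _ ⟨h, rfl⟩
    exact ⟨h • x, ⟨h, rfl⟩, orbitMap_smul hst h⟩

theorem orbitMap_equivariant [Nonempty Y] {x : X} {y : Y} (hst : stabilizer H x = stabilizer H y)
    (g : H) {a : X} (ha : a ∈ orbit H x) :
    orbitMap (H := H) x y (g • a) = g • orbitMap (H := H) x y a := by
  obtain ⟨h, rfl⟩ := ha
  change orbitMap (H := H) x y (g • h • x) = g • orbitMap (H := H) x y (h • x)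
  rw [← mul_smul, orbitMap_smul hst, orbitMap_smul hst, mul_smul]

theorem ncard_fixIn_orbit [Nonempty Y] {x : X} {y : Y} (hst : stabilizer H x = stabilizer H y)
    (K : Subgroup H) : (fixIn K (orbit H x)).ncard = (fixIn K (orbit H y)).ncard := by
  have himg : fixIn K (orbit H y) = orbitMap (H := H) x y '' fixIn K (orbit H x) := by
    ext b
    constructor
    · rintro ⟨hb, hfix⟩
      obtain ⟨a, ha, rfl⟩ := (orbitMap_bijOn hst).surjOn hb
      refine ⟨a, ⟨ha, fun k hk => ?_⟩, rfl⟩
      have h1 := hfix k hk
      rw [← orbitMap_equivariant hst k ha] at h1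
      exact (orbitMap_bijOn hst).injOn (by
        obtain ⟨h, rfl⟩ := ha
        exact ⟨k * h, by simp [mul_smul]⟩) ha h1
    · rintro ⟨a, ⟨ha, hfix⟩, rfl⟩
      refine ⟨(orbitMap_bijOn hst).mapsTo ha, fun k hk => ?_⟩
      rw [← orbitMap_equivariant hst k ha, hfix k hk]
  rw [himg]
  exact (Set.InjOn.ncard_image ((orbitMap_bijOn hst).injOn.mono (fixIn_subset _ _))).symm

theorem marks_aux [Finite H] [Nonempty Y] (n : ℕ) : ∀ (A : Set X) (B : Set Y), A.Finite → B.Finite →
    A.ncard = n →
    (∀ h : H, ∀ a ∈ A, h • a ∈ A) → (∀ h : H, ∀ b ∈ B, h • b ∈ B) →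
    (∀ K : Subgroup H, (fixIn K A).ncard = (fixIn K B).ncard) →
    ∃ f : X → Y, Set.BijOn f A B ∧ ∀ h : H, ∀ a ∈ A, f (h • a) = h • f a := by
  induction n using Nat.strong_induction_on with
  | _ n ih =>
    intro A B hA hB hn hAinv hBinv hmarks
    rcases A.eq_empty_or_nonempty with hAe | hAne
    · -- A empty, so B empty
      have hBe : B = ∅ := by
        have := hmarks ⊥
        rw [fixIn_bot A, fixIn_bot B, hAe, Set.ncard_empty] at this
        exact (Set.ncard_eq_zero hB).1 this.symm
      subst hAe; subst hBe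
      exact ⟨fun _ => Classical.arbitrary Y, Set.bijOn_empty _, fun _ _ h => h.elim⟩
    · -- pick a maximal subgroup with a fixed point in A
      obtain ⟨K, -, hKmax⟩ := Finite.exists_le_maximal (p := fun K : Subgroup H => (fixIn K A).Nonempty)
        (a := ⊥) (by rw [fixIn_bot A]; exact hAne)
      obtain ⟨x, hxA, hxK⟩ := hKmax.prop
      have hBK : (fixIn K B).Nonempty := by
        rw [← Set.ncard_pos (hB.subset (fixIn_subset _ _)), ← hmarks K,
          Set.ncard_pos (hA.subset (fixIn_subset _ _))]
        exact hKmax.prop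
      obtain ⟨y, hyB, hyK⟩ := hBK
      have hKmaxB : ∀ K' : Subgroup H, (fixIn K' B).Nonempty → K ≤ K' → K' ≤ K := by
        intro K' hK' hle
        have : (fixIn K' A).Nonempty := by
          rw [← Set.ncard_pos (hA.subset (fixIn_subset _ _)), hmarks K',
            Set.ncard_pos (hB.subset (fixIn_subset _ _))]
          exact hK'
        exact hKmax.le_of_ge this hle
      have hstx : stabilizer H x = K := by
        apply le_antisymm
        · exact hKmax.le_of_ge ⟨x, hxA, fun k hk => hk⟩ (fun k hk => hxK k hk)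
        · exact fun k hk => hxK k hk
      have hsty : stabilizer H y = K := by
        apply le_antisymm
        · exact hKmaxB _ ⟨y, hyB, fun k hk => hk⟩ (fun k hk => hyK k hk)
        · exact fun k hk => hyK k hk
      have hst : stabilizer H x = stabilizer H y := hstx.trans hsty.symm
      have hOxA : orbit H x ⊆ A := by
        rintro _ ⟨h, rfl⟩; exact hAinv h x hxA
      have hOyB : orbit H y ⊆ B := by
        rintro _ ⟨h, rfl⟩; exact hBinv h y hyB
      -- the smaller sets
      set A' := A \ orbit H x with hA'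
      set B' := B \ orbit H y with hB'
      have hA'fin : A'.Finite := hA.subset Set.sdiff_subset
      have hB'fin : B'.Finite := hB.subset Set.sdiff_subset
      have hlt : A'.ncard < n := by
        rw [← hn]
        apply Set.ncard_lt_ncard _ hA
        refine ⟨Set.sdiff_subset, fun hsub => ?_⟩
        exact (hsub hxA).2 (mem_orbit_self x)
      have hA'inv : ∀ h : H, ∀ a ∈ A', h • a ∈ A' := by
        intro h a ha
        exact ⟨hAinv h a ha.1, fun hmem => ha.2 ((smul_mem_orbit_iff' x h a).1 hmem)⟩
      have hB'inv : ∀ h : H, ∀ b ∈ B', h • b ∈ B' := by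
        intro h b hb
        exact ⟨hBinv h b hb.1, fun hmem => hb.2 ((smul_mem_orbit_iff' y h b).1 hmem)⟩
      have hmarks' : ∀ K' : Subgroup H, (fixIn K' A').ncard = (fixIn K' B').ncard := by
        intro K'
        rw [hA', hB', fixIn_diff, fixIn_diff,
          Set.ncard_sdiff (s := fixIn K' (orbit H x)) (t := fixIn K' A)
            (fun a ha => ⟨hOxA ha.1, ha.2⟩) ((hA.subset hOxA).subset (fixIn_subset _ _)),
          Set.ncard_sdiff (s := fixIn K' (orbit H y)) (t := fixIn K' B)
            (fun a ha => ⟨hOyB ha.1, ha.2⟩) ((hB.subset hOyB).subset (fixIn_subset _ _)),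
          hmarks K', ncard_fixIn_orbit hst K']
      obtain ⟨f', hf'bij, hf'eq⟩ := ih _ hlt A' B' hA'fin hB'fin rfl hA'inv hB'inv hmarks'
      classical
      refine ⟨fun z => if z ∈ orbit H x then orbitMap (H := H) x y z else f' z, ?_, ?_⟩
      · have hAeq : A = orbit H x ∪ A' := by
          rw [hA', Set.union_sdiff_cancel hOxA]
        have hBeq : B = orbit H y ∪ B' := by
          rw [hB', Set.union_sdiff_cancel hOyB]
        rw [hAeq, hBeq]
        have b1 : Set.BijOn (fun z => if z ∈ orbit H x then orbitMap (H := H) x y z else f' z)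
            (orbit H x) (orbit H y) :=
          (orbitMap_bijOn hst).congr (fun z hz => by simp only [if_pos hz])
        have b2 : Set.BijOn (fun z => if z ∈ orbit H x then orbitMap (H := H) x y z else f' z)
            A' B' :=
          hf'bij.congr (fun z hz => by simp only [if_neg hz.2])
        apply Set.BijOn.union b1 b2
        rw [Set.injOn_union (Set.disjoint_left.2 fun a ha ha' => ha'.2 ha)]
        refine ⟨b1.injOn, b2.injOn, fun a ha b hb he => ?_⟩
        have h1 := b1.mapsTo ha
        have h2 := b2.mapsTo hb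
        rw [he] at h1
        exact h2.2 h1
      · intro h a ha
        by_cases hao : a ∈ orbit H x
        · have : h • a ∈ orbit H x := (smul_mem_orbit_iff' x h a).2 hao
          simp only [if_pos this, if_pos hao]
          exact orbitMap_equivariant hst h hao
        · have : h • a ∉ orbit H x := fun hmem => hao ((smul_mem_orbit_iff' x h a).1 hmem)
          simp only [if_neg this, if_neg hao]
          exact hf'eq h a ⟨ha, hao⟩

/-- **Table of marks.** Two finite `H`-sets with the same number of fixed points for every subgroup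
are isomorphic. -/
theorem exists_equiv_of_card_fixedPoints_eq [Finite H] [Finite X] [Finite Y]
    (h : ∀ K : Subgroup H, Nat.card (fixedPoints K X) = Nat.card (fixedPoints K Y)) :
    ∃ e : X ≃ Y, ∀ (g : H) (x : X), e (g • x) = g • e x := by
  have hmarks : ∀ K : Subgroup H, (fixIn K (Set.univ : Set X)).ncard = (fixIn K (Set.univ : Set Y)).ncard := by
    intro K
    rw [fixIn_univ K, fixIn_univ K, ← Nat.card_coe_set_eq, ← Nat.card_coe_set_eq]
    exact h K
  rcases isEmpty_or_nonempty Y with hY | hY
  · have hX : IsEmpty X := by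
      have h0 := hmarks ⊥
      have : (Set.univ : Set X).ncard = 0 := by
        rw [fixIn_bot, fixIn_bot] at h0
        rw [h0, Set.ncard_univ, Nat.card_of_isEmpty]
      rw [Set.ncard_univ] at this
      exact (Nat.card_eq_zero.1 this).resolve_right (fun hinf => hinf.not_finite inferInstance)
    exact ⟨Equiv.equivOfIsEmpty X Y, fun g x => hX.elim x⟩
  · obtain ⟨f, hf, heq⟩ := marks_aux (H := H) (X := X) (Y := Y) _ Set.univ Set.univ Set.finite_univ
      Set.finite_univ rfl (fun _ _ _ => Set.mem_univ _) (fun _ _ _ => Set.mem_univ _) hmarks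
    exact ⟨Equiv.ofBijective f (Set.bijOn_univ.1 hf), fun g x => heq g x (Set.mem_univ _)⟩

end Marks

section TwoHoms

/-- Version of the table-of-marks theorem for two pull-backs of one action along homomorphisms
`j₁ j₂ : H' →* H`. -/
theorem exists_perm_of_card_fixedPoints_map_eq {H' H : Type*} [Group H'] [Finite H'] [Group H]
    {X : Type*} [Finite X] [MulAction H X] (j₁ j₂ : H' →* H)
    (h : ∀ K : Subgroup H', Nat.card (fixedPoints (K.map j₁) X) = Nat.card (fixedPoints (K.map j₂) X)) :
    ∃ e : Equiv.Perm X, ∀ (g : H') (x : X), e (j₁ g • x) = j₂ g • e x := by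
  have key : ∀ (j : H' →* H) (K : Subgroup H'),
      @fixedPoints K X _ (@Subgroup.instMulAction H' X _ (MulAction.compHom X j) K) =
        fixedPoints (K.map j) X := by
    intro j K
    ext x
    constructor
    · intro hx
      rintro ⟨_, k, hk, rfl⟩
      exact hx ⟨k, hk⟩
    · intro hx k
      exact hx ⟨j k, k, k.2, rfl⟩
  obtain ⟨e, he⟩ := @exists_equiv_of_card_fixedPoints_eq H' _ X X (MulAction.compHom X j₁)
    (MulAction.compHom X j₂) _ _ _ (by
      intro K
      rw [key j₁ K, key j₂ K]
      exact h K)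
  exact ⟨e, fun g x => he g x⟩

end TwoHoms

end Cfsg.Agent.Lib.Helper85
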