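import Mathlib

/-!
# Finite `H`-sets with prescribed fixed-point counts

For a finite group `H` and a family `𝒦` of subgroups closed under conjugation we build a finite
`H`-set all of whose point stabilizers lie in `𝒦` and such that the number of fixed points of
`L ∈ 𝒦` is positive and depends only on the order of `L`.
-/

set_option autoImplicit false

namespace Cfsg.Agent.Lib.Helper85

open MulAction

universe u

section General

variable {H : Type*} [Group H]

/-- fixed points of a conjugate subgroup -/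
theorem card_fixedPoints_map_conj {X : Type*} [MulAction H X] (L : Subgroup H) (g : H) :
    Nat.card (fixedPoints (L.map (MulAut.conj g).toMonoidHom) X) = Nat.card (fixedPoints L X) := by
  refine Nat.card_congr (Equiv.subtypeEquiv (MulAction.toPerm g⁻¹) ?_)
  intro x
  simp only [mem_fixedPoints, Subtype.forall, Subgroup.mk_smul, MulAction.toPerm_apply]
  constructor
  · intro hx l hl
    have := hx (g * l * g⁻¹) ⟨l, hl, by simp⟩
    calc l • g⁻¹ • x = g⁻¹ • (g * l * g⁻¹) • x := by simp [smul_smul, mul_assoc]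
      _ = g⁻¹ • x := by rw [this]
  · rintro hx _ ⟨l, hl, rfl⟩
    have := hx l hl
    simp only [MulEquiv.coe_toMonoidHom, MulAut.conj_apply, mul_smul]
    rw [this, smul_inv_smul]

theorem card_fixedPoints_sigma {ι : Type*} [Fintype ι] {α : ι → Type*} [∀ i, MulAction H (α i)]
    [∀ i, Finite (α i)] (L : Subgroup H) :
    Nat.card (fixedPoints L (Σ i, α i)) = ∑ i, Nat.card (fixedPoints L (α i)) := by
  rw [← Nat.card_sigma]
  refine Nat.card_congr ⟨fun x => ⟨x.1.1, ⟨x.1.2, fun l => ?_⟩⟩, fun y => ⟨⟨y.1, y.2.1⟩, fun l => ?_⟩,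
    fun x => ?_, fun y => ?_⟩
  · have := x.2 l
    rw [Sigma.smul_def] at this
    have h2 := congrArg (fun z => z) this
    rcases x with ⟨⟨i, a⟩, hx⟩
    simp only [Sigma.map, id_eq, Sigma.mk.injEq, heq_eq_eq, true_and] at this
    exact this
  · have := y.2.2 l
    rcases y with ⟨i, a, ha⟩
    simp only [Sigma.smul_mk] 
    rw [ha l]
  · rfl
  · rfl

end General

section Mark

variable {H : Type u} [Group H]

/-- `mark K L` is the number of fixed points of `L` on `H ⧸ K`. -/
noncomputable def mark (K L : Subgroup H) : ℕ := Nat.card (fixedPoints L (H ⧸ K))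

theorem mem_fixedPoints_quotient_iff (K L : Subgroup H) (h : H) :
    ((h : H ⧸ K) ∈ fixedPoints L (H ⧸ K)) ↔ ∀ l ∈ L, h⁻¹ * l * h ∈ K := by
  simp only [mem_fixedPoints, Subtype.forall]
  constructor
  · intro hx l hl
    have := hx l⁻¹ (L.inv_mem hl)
    change l⁻¹ • (h : H ⧸ K) = h at this
    rw [MulAction.Quotient.smul_coe, QuotientGroup.eq, smul_eq_mul] at this
    simpa [mul_assoc] using this
  · intro hx l hl
    change l • (h : H ⧸ K) = h
    rw [MulAction.Quotient.smul_coe, QuotientGroup.eq, smul_eq_mul]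
    have := hx l⁻¹ (L.inv_mem hl)
    simpa [mul_assoc] using this

theorem mark_map_conj (K L : Subgroup H) (g : H) :
    mark K (L.map (MulAut.conj g).toMonoidHom) = mark K L :=
  card_fixedPoints_map_conj L g

theorem card_mul_mark (K L : Subgroup H) :
    Nat.card K * mark K L = Nat.card {h : H | ∀ l ∈ L, h⁻¹ * l * h ∈ K} := by
  unfold mark
  rw [← Nat.card_prod, ← Nat.card_congr (QuotientGroup.preimageMkEquivSubgroupProdSet K _)]
  refine Nat.card_congr (Equiv.subtypeEquivRight fun h => ?_)
  rw [Set.mem_preimage]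
  exact mem_fixedPoints_quotient_iff K L h

theorem exists_of_mark_ne_zero {K L : Subgroup H} (h : mark K L ≠ 0) :
    ∃ g : H, ∀ l ∈ L, g⁻¹ * l * g ∈ K := by
  unfold mark at h
  have hne : Nonempty (fixedPoints L (H ⧸ K)) := by
    by_contra hcon
    rw [not_nonempty_iff] at hcon
    exact h Nat.card_of_isEmpty
  obtain ⟨⟨q, hq⟩⟩ := hne
  obtain ⟨g, rfl⟩ := QuotientGroup.mk_surjective q
  exact ⟨g, (mem_fixedPoints_quotient_iff K L g).1 hq⟩

theorem map_conj_le_of_forall {K L : Subgroup H} {g : H} (h : ∀ l ∈ L, g⁻¹ * l * g ∈ K) :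
    L.map (MulAut.conj g⁻¹).toMonoidHom ≤ K := by
  rintro _ ⟨l, hl, rfl⟩
  simpa using h l hl

theorem card_map_conj_marks [Finite H] (L : Subgroup H) (g : H) :
    Nat.card (L.map (MulAut.conj g).toMonoidHom) = Nat.card L :=
  Nat.card_congr (L.equivMapOfInjective _ (MulAut.conj g).injective).symm.toEquiv

theorem mark_eq_zero_of_card_lt [Finite H] {K L : Subgroup H} (h : Nat.card K < Nat.card L) :
    mark K L = 0 := by
  by_contra hne
  obtain ⟨g, hg⟩ := exists_of_mark_ne_zero hne
  have := Subgroup.card_le_of_le (map_conj_le_of_forall hg)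
  rw [card_map_conj_marks] at this
  omega

theorem eq_map_conj_of_mark_ne_zero [Finite H] {K L : Subgroup H} (h : mark K L ≠ 0)
    (hc : Nat.card K = Nat.card L) : ∃ g : H, K = L.map (MulAut.conj g).toMonoidHom := by
  obtain ⟨g, hg⟩ := exists_of_mark_ne_zero h
  refine ⟨g⁻¹, (Subgroup.eq_of_le_of_card_ge (map_conj_le_of_forall hg) ?_).symm⟩
  rw [card_map_conj_marks, hc]

end Mark

section Build

variable {H : Type u} [Group H] [Finite H]

/-- weighted marks of a multiplicity function -/
noncomputable def wmark [Fintype (Subgroup H)] (c : Subgroup H → ℕ) (L : Subgroup H) : ℕ :=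
  ∑ K : Subgroup H, c K * mark K L

omit [Finite H] in
theorem wmark_map_conj [Fintype (Subgroup H)] (c : Subgroup H → ℕ) (L : Subgroup H) (g : H) :
    wmark c (L.map (MulAut.conj g).toMonoidHom) = wmark c L := by
  simp only [wmark, mark_map_conj]

open Classical in
theorem sum_card_mul_mark [Fintype (Subgroup H)] (𝒦 : Set (Subgroup H))
    (hconj : ∀ K ∈ 𝒦, ∀ h : H, K.map (MulAut.conj h).toMonoidHom ∈ 𝒦) {L : Subgroup H}
    (hL : L ∈ 𝒦) :
    ∑ K : Subgroup H, (if K ∈ 𝒦 ∧ Nat.card K = Nat.card L then Nat.card K * mark K L else 0)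
      = Nat.card H := by
  have : Fintype H := Fintype.ofFinite H
  have key : ∀ K : Subgroup H,
      (if K ∈ 𝒦 ∧ Nat.card K = Nat.card L then Nat.card K * mark K L else 0) =
        (Finset.univ.filter (fun h : H => L.map (MulAut.conj h⁻¹).toMonoidHom = K)).card := by
    intro K
    split_ifs with hK
    · rw [card_mul_mark, Nat.card_eq_fintype_card, ← Fintype.card_subtype]
      refine Fintype.card_congr (Equiv.subtypeEquivRight fun h => ?_)
      constructor
      · intro hl
        exact Subgroup.eq_of_le_of_card_ge (map_conj_le_of_forall hl)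
          (by rw [card_map_conj_marks, hK.2])
      · intro he l hl
        rw [← he]
        exact ⟨l, hl, by simp⟩
    · symm
      rw [Finset.card_eq_zero, Finset.filter_eq_empty_iff]
      intro h _ he
      apply hK
      rw [← he]
      exact ⟨hconj L hL _, card_map_conj_marks _ _⟩
  have hfib := Finset.card_eq_sum_card_fiberwise
    (f := fun h : H => L.map (MulAut.conj h⁻¹).toMonoidHom) (s := Finset.univ) (t := Finset.univ)
    (fun _ _ => Finset.mem_univ _)
  rw [Finset.sum_congr rfl (fun K _ => key K), Nat.card_eq_fintype_card, ← Finset.card_univ, hfib]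

open Classical in
theorem build_step [Fintype (Subgroup H)] (𝒦 : Set (Subgroup H))
    (hconj : ∀ K ∈ 𝒦, ∀ h : H, K.map (MulAut.conj h).toMonoidHom ∈ 𝒦)
    (n : ℕ) (c : Subgroup H → ℕ) (N : ℕ → ℕ)
    (hc : ∀ K, c K ≠ 0 → K ∈ 𝒦)
    (hN : ∀ L ∈ 𝒦, n + 1 < Nat.card L → wmark c L = N (Nat.card L) ∧ 0 < N (Nat.card L)) :
    ∃ (c' : Subgroup H → ℕ) (N' : ℕ → ℕ), (∀ K, c' K ≠ 0 → K ∈ 𝒦) ∧
      ∀ L ∈ 𝒦, n < Nat.card L → wmark c' L = N' (Nat.card L) ∧ 0 < N' (Nat.card L) := by
  set M : ℕ := 1 + ∑ K : Subgroup H, wmark c K with hMdef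
  have hM : ∀ K : Subgroup H, wmark c K < M := by
    intro K
    have := Finset.single_le_sum (f := fun K : Subgroup H => wmark c K) (fun _ _ => Nat.zero_le _)
      (Finset.mem_univ K)
    omega
  have hHpos : 0 < Nat.card H := Nat.card_pos
  refine ⟨fun K => Nat.card H * c K +
      (if K ∈ 𝒦 ∧ Nat.card K = n + 1 then Nat.card K * (M - wmark c K) else 0),
    fun k => if k = n + 1 then Nat.card H * M else Nat.card H * N k, ?_, ?_⟩
  · intro K hK
    by_cases hcK : c K = 0
    · by_contra hKn
      apply hK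
      simp only [hcK, mul_zero, zero_add, hKn, false_and, if_false]
    · exact hc K hcK
  · intro L hL hn
    have hsplit : wmark (fun K => Nat.card H * c K +
        (if K ∈ 𝒦 ∧ Nat.card K = n + 1 then Nat.card K * (M - wmark c K) else 0)) L =
        Nat.card H * wmark c L + ∑ K : Subgroup H,
          (if K ∈ 𝒦 ∧ Nat.card K = n + 1 then Nat.card K * (M - wmark c K) else 0) * mark K L := by
      simp only [wmark, add_mul, Finset.sum_add_distrib, Finset.mul_sum, mul_assoc]
    rw [hsplit]
    rcases Nat.lt_or_ge (n + 1) (Nat.card L) with hlt | hge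
    · -- larger subgroups: nothing new
      have hzero : ∑ K : Subgroup H,
          (if K ∈ 𝒦 ∧ Nat.card K = n + 1 then Nat.card K * (M - wmark c K) else 0) * mark K L = 0 := by
        apply Finset.sum_eq_zero
        intro K _
        split_ifs with hK
        · rw [mark_eq_zero_of_card_lt (by omega), mul_zero]
        · rw [zero_mul]
      obtain ⟨h1, h2⟩ := hN L hL hlt
      have hne : Nat.card L ≠ n + 1 := by omega
      simp only [hzero, add_zero, hne, if_false, h1]
      exact ⟨trivial, Nat.mul_pos hHpos h2⟩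
    · have heq : Nat.card L = n + 1 := by omega
      have hterm : ∀ K : Subgroup H,
          (if K ∈ 𝒦 ∧ Nat.card K = n + 1 then Nat.card K * (M - wmark c K) else 0) * mark K L =
          (M - wmark c L) *
            (if K ∈ 𝒦 ∧ Nat.card K = Nat.card L then Nat.card K * mark K L else 0) := by
        intro K
        rw [heq]
        split_ifs with hK
        · by_cases hm : mark K L = 0
          · rw [hm, mul_zero, mul_zero, mul_zero]
          · obtain ⟨g, hg⟩ := eq_map_conj_of_mark_ne_zero hm (hK.2.trans heq.symm)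
            rw [hg, wmark_map_conj]
            ring
        · rw [zero_mul, mul_zero]
      rw [Finset.sum_congr rfl (fun K _ => hterm K), ← Finset.mul_sum,
        sum_card_mul_mark 𝒦 hconj hL]
      simp only [heq, if_true]
      obtain ⟨d, hd⟩ := Nat.exists_eq_add_of_le (hM L).le
      refine ⟨?_, Nat.mul_pos hHpos (by omega)⟩
      rw [hd, Nat.add_sub_cancel_left]
      ring

theorem build_aux [Fintype (Subgroup H)] (𝒦 : Set (Subgroup H))
    (hconj : ∀ K ∈ 𝒦, ∀ h : H, K.map (MulAut.conj h).toMonoidHom ∈ 𝒦) :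
    ∀ k n : ℕ, n + k = Nat.card H → ∃ (c : Subgroup H → ℕ) (N : ℕ → ℕ), (∀ K, c K ≠ 0 → K ∈ 𝒦) ∧
      ∀ L ∈ 𝒦, n < Nat.card L → wmark c L = N (Nat.card L) ∧ 0 < N (Nat.card L) := by
  intro k
  induction k with
  | zero =>
    intro n hn
    refine ⟨fun _ => 0, fun _ => 0, fun K hK => (hK rfl).elim, fun L _ hlt => ?_⟩
    have := Subgroup.card_le_card_group L
    omega
  | succ k ih =>
    intro n hn
    obtain ⟨c, N, hc, hN⟩ := ih (n + 1) (by omega)
    exact build_step 𝒦 hconj n c N hc hN

/-- **Construction of a finite `H`-set with prescribed marks.** -/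
theorem exists_mulAction_card_fixedPoints (𝒦 : Set (Subgroup H))
    (hconj : ∀ K ∈ 𝒦, ∀ h : H, K.map (MulAut.conj h).toMonoidHom ∈ 𝒦) :
    ∃ (X : Type u) (_ : Finite X) (_ : MulAction H X) (N : ℕ → ℕ),
      (∀ x : X, stabilizer H x ∈ 𝒦) ∧
      ∀ L ∈ 𝒦, Nat.card (fixedPoints L X) = N (Nat.card L) ∧ 0 < N (Nat.card L) := by
  have : Fintype (Subgroup H) := Fintype.ofFinite _
  obtain ⟨c, N, hc, hN⟩ := build_aux 𝒦 hconj (Nat.card H) 0 (by omega)
  refine ⟨Σ K : Subgroup H, Σ _ : Fin (c K), H ⧸ K, inferInstance, inferInstance, N, ?_, ?_⟩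
  · rintro ⟨K, i, q⟩
    obtain ⟨g, rfl⟩ := QuotientGroup.mk_surjective q
    have hK : K ∈ 𝒦 := hc K (by
      intro h0
      rw [h0] at i
      exact i.elim0)
    have hst : stabilizer H (⟨K, i, (g : H ⧸ K)⟩ : Σ K : Subgroup H, Σ _ : Fin (c K), H ⧸ K) =
        stabilizer H (g • ((1 : H) : H ⧸ K)) := by
      ext h
      simp only [mem_stabilizer_iff, Sigma.smul_mk, Sigma.mk.injEq, heq_eq_eq, true_and,
        MulAction.Quotient.smul_coe, smul_eq_mul, mul_one]
    rw [hst, stabilizer_smul_eq_stabilizer_map_conj, stabilizer_quotient]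
    exact hconj K hK g
  · intro L hL
    obtain ⟨h1, h2⟩ := hN L hL (Nat.card_pos)
    refine ⟨?_, h2⟩
    rw [← h1, wmark, card_fixedPoints_sigma]
    refine Finset.sum_congr rfl fun K _ => ?_
    rw [card_fixedPoints_sigma]
    simp only [Finset.sum_const, Finset.card_univ, Fintype.card_fin, smul_eq_mul, mark]
    rfl

end Build

end Cfsg.Agent.Lib.Helper85
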