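import Mathlib
import Cfsg.Agent.Lib.Helper33.StabChain
import Cfsg.Agent.Lib.Helper33.WeakClosureMin

/-!
helper85: auxiliary lemmas for the `S₄`-free case of Glauberman's weak closure theorem: a homomorphism into a `2`-group
whose kernel contains a subgroup of odd index is trivial; the Frattini argument in `SylIn` form.
-/

set_option autoImplicit false
set_option linter.unusedSectionVars false
set_option linter.style.haveILetI false

namespace Cfsg.Agent.Lib.Helper85

open Cfsg Cfsg.Agent.Lib.Helper33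

theorem hom_trivial_of_odd_index_le_ker {C' E' : Type*} [Group C'] [Finite C'] [Group E'] [Finite E']
    (φ : C' →* E') (hE : IsPGroup 2 E') (T : Subgroup C') (hT : ¬ 2 ∣ T.index) (hTk : T ≤ φ.ker) :
    ∀ c : C', φ c = 1 := by
  haveI : Fact (Nat.Prime 2) := ⟨Nat.prime_two⟩
  have h1 : φ.ker.index ∣ T.index := Subgroup.index_dvd_of_le hTk
  have h2 : φ.ker.index = Nat.card φ.range := Subgroup.index_ker φ
  obtain ⟨e, he⟩ := IsPGroup.iff_card.mp (hE.to_subgroup φ.range)
  rw [he] at h2
  have h3 : φ.ker.index = 1 := by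
    rcases e with _ | e
    · simpa using h2
    · exfalso
      apply hT
      refine dvd_trans ?_ h1
      rw [h2, pow_succ]
      exact dvd_mul_left 2 _
  have h4 : φ.ker = ⊤ := Subgroup.index_eq_one.1 h3
  intro c
  have : c ∈ φ.ker := by rw [h4]; exact Subgroup.mem_top c
  exact MonoidHom.mem_ker.1 this

variable {G : Type*} [Group G] [Finite G] {p : ℕ} [Fact p.Prime]

/-- Frattini argument: `G = N · N_G(S ∩ N)` for a normal subgroup `N` and a Sylow subgroup `S`. -/
theorem exists_mul_mem_normalizer_inf (S : Sylow p G) (N : Subgroup G) [hN : N.Normal] (g : G) :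
    ∃ n ∈ N, n * g ∈ Subgroup.normalizer (((S : Subgroup G) ⊓ N : Subgroup G) : Set G) := by
  have hNtop : (⊤ : Subgroup G) ≤ Subgroup.normalizer (N : Set G) := by
    rw [Subgroup.normalizer_eq_top]
  have hT : SylIn p ((S : Subgroup G) ⊓ N) N := SylIn.inf_of_normal (sylIn_top S) le_top hNtop
  have hcjN : cj g N = N := cj_eq_self_of_mem_normalizer (hNtop (Subgroup.mem_top g))
  have hle : cj g ((S : Subgroup G) ⊓ N) ≤ N := by
    have := cj_mono (g := g) (inf_le_right : (S : Subgroup G) ⊓ N ≤ N)
    rwa [hcjN] at this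
  obtain ⟨n, hn, hle2⟩ := hT.exists_cj_le hle (isPGroup_cj hT.isPGroup)
  refine ⟨n, hn, ?_⟩
  rw [mem_normalizer_iff_cj_eq, cj_mul]
  apply Subgroup.eq_of_le_of_card_ge hle2
  rw [card_cj, card_cj]

end Cfsg.Agent.Lib.Helper85
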