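import Mathlib
import Cfsg.Agent.Lib.Helper33.WeakClosureMin

/-!
helper85: a variant of helper33's `wcElt_top_of_minimal` (weak closure of elements, the minimal situation) with an abstract
hypothesis for the final configuration: `x ∈ Z(O_p(G))`, `C_G(x)` is the unique maximal subgroup containing the Sylow subgroup `S`,
and all elements of smaller order are already known to be weakly closed.
-/

set_option autoImplicit false
set_option linter.unusedSectionVars false
set_option linter.style.haveILetI false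

namespace Cfsg.Agent.Lib.Helper85

open Cfsg Cfsg.Agent.Lib.Helper33

variable {G : Type*} [Group G] {p : ℕ}

theorem wcElt_top_of_kill [Finite G] [hp : Fact p.Prime] (S : Sylow p G) (W : Subgroup G → Subgroup G)
    (hW : Cfsg.IsConjugacyFunctor p W)
    (hWZ : ∀ P : Subgroup G, IsPGroup p ↥P → P ⊓ Subgroup.centralizer (P : Set G) ≤ W P)
    (IH : ∀ H T : Subgroup G, H ≠ ⊤ → SylIn p T H → WCElt W H T)
    (hkill : ∀ x : G, x ∈ Cfsg.pCore p G ⊓ Subgroup.centralizer ((Cfsg.pCore p G : Subgroup G) : Set G) →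
      x ∈ Subgroup.centralizer ((S : Subgroup G) : Set G) →
      Subgroup.normalizer ((W (S : Subgroup G) : Subgroup G) : Set G) ≤ Subgroup.centralizer ({x} : Set G) →
      (∀ H : Subgroup G, (S : Subgroup G) ≤ H → H ≠ ⊤ → H ≤ Subgroup.centralizer ({x} : Set G)) →
      (∀ y : G, y ∈ (S : Subgroup G) → Subgroup.normalizer ((W (S : Subgroup G) : Subgroup G) : Set G) ≤
        Subgroup.centralizer ({y} : Set G) → orderOf y < orderOf x →
        ∀ h : G, h * y * h⁻¹ ∈ (S : Subgroup G) → h * y * h⁻¹ = y) →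
      ∀ g : G, g * x * g⁻¹ = x) :
    WCElt W ⊤ (S : Subgroup G) := by
  classical
  have main : ∀ n : ℕ, ∀ x : G, orderOf x = n → x ∈ (S : Subgroup G) →
      Subgroup.normalizer ((W (S : Subgroup G) : Subgroup G) : Set G) ≤ Subgroup.centralizer ({x} : Set G) →
      ∀ h : G, h * x * h⁻¹ ∈ (S : Subgroup G) → h * x * h⁻¹ = x := by
    intro n
    induction n using Nat.strong_induction_on with
    | _ n IHn =>
    intro x hxn hxS hxN h hhx
    by_contra hne
    have hcomm : ∀ n ∈ Subgroup.normalizer ((W (S : Subgroup G) : Subgroup G) : Set G), n * x = x * n := by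
      intro n hn
      exact (Subgroup.mem_centralizer_singleton_iff.mp (hxN hn))
    have hSN : (S : Subgroup G) ≤ Subgroup.normalizer ((W (S : Subgroup G) : Subgroup G) : Set G) :=
      Subgroup.le_normalizer.trans (cf_normalizer_le hW S.isPGroup')
    have hxC : x ∈ Subgroup.centralizer ((S : Subgroup G) : Set G) := by
      rw [Subgroup.mem_centralizer_iff]
      intro s hs
      exact hcomm s (hSN hs)
    obtain ⟨R, hRwp, hxR, hNR, n', hn', hnx⟩ := exists_wellPlaced_elt S W hW hWZ x hxS hxC hxN h hhx hne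
    have hnxR : n' * x * n'⁻¹ ∈ R := (Subgroup.mem_normalizer_iff.mp hn' x).mp hxR
    have hPn : (Cfsg.pCore p G).Normal := Subgroup.sSup_normal _ (fun _ h => h.1)
    have hPS : Cfsg.pCore p G ≤ (S : Subgroup G) := Cfsg.Agent.Lib.Helper76.pCore_le_sylow p S
    by_cases hH₁ : Subgroup.normalizer (R : Set G) = ⊤
    swap
    · -- the weak closure fails in the proper subgroup `N_G(R)`
      have hsyl : SylIn p ((S : Subgroup G) ⊓ Subgroup.normalizer (R : Set G)) (Subgroup.normalizer (R : Set G)) :=
        ⟨inf_le_right, S.isPGroup'.to_le inf_le_left, hRwp.2 0⟩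
      have hRle : R ≤ (S : Subgroup G) ⊓ Subgroup.normalizer (R : Set G) := le_inf hRwp.1 Subgroup.le_normalizer
      have := IH _ _ hH₁ hsyl x (Subgroup.mem_inf.mpr ⟨hRle hxR, by
        rw [Subgroup.mem_centralizer_iff]
        intro y hy
        have := hNR (Subgroup.mem_inf.mp hy).2
        rw [Subgroup.mem_centralizer_singleton_iff] at this
        exact this⟩) n' hn' (hRle hnxR)
      exact hnx this
    -- now `R` is normal
    have hRn : R.Normal := Subgroup.normalizer_eq_top_iff.mp hH₁
    have hRP : R ≤ Cfsg.pCore p G :=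
      Cfsg.Agent.Lib.Helper76.le_pCore p R hRn (S.isPGroup'.to_le hRwp.1)
    have hxP : x ∈ Cfsg.pCore p G := hRP hxR
    have hxZP : x ∈ Cfsg.pCore p G ⊓ Subgroup.centralizer ((Cfsg.pCore p G : Subgroup G) : Set G) :=
      Subgroup.mem_inf.mpr ⟨hxP, (Subgroup.centralizer_le (fun _ hy => hPS hy)) hxC⟩
    have hMmax : ∀ H : Subgroup G, (S : Subgroup G) ≤ H → H ≠ ⊤ → H ≤ Subgroup.centralizer ({x} : Set G) := by
      intro H hSH hH k hk
      have h1 := IH H (S : Subgroup G) hH (sylIn_of_sylow_le S hSH) x (Subgroup.mem_inf.mpr ⟨hxS, by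
        rw [Subgroup.mem_centralizer_iff]
        intro y hy
        exact hcomm y (Subgroup.mem_inf.mp hy).2⟩) k hk (hPS (hPn.conj_mem x hxP k))
      rw [Subgroup.mem_centralizer_singleton_iff]
      calc k * x = k * x * k⁻¹ * k := by group
        _ = x * k := by rw [h1]
    exact hne (hkill x hxZP hxC hxN hMmax
      (fun y hyS hyN hlt h' hh' => IHn (orderOf y) (hxn ▸ hlt) y rfl hyS hyN h' hh') h)
  intro x hx h _ hhx
  obtain ⟨hxS, hxcent⟩ := Subgroup.mem_inf.mp hx
  refine main _ x rfl hxS ?_ h hhx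
  intro n hn
  rw [Subgroup.mem_centralizer_singleton_iff]
  exact (Subgroup.mem_centralizer_iff.mp hxcent) n (Subgroup.mem_inf.mpr ⟨Subgroup.mem_top n, hn⟩)

end Cfsg.Agent.Lib.Helper85
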