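import Mathlib
import Cfsg.Agent.Lib.Helper33.EngelCocycle
import Cfsg.Agent.Lib.Helper96.BaerSuzuki

/-!
helper85: a generalized form of Glauberman's trace argument for the prime `2`.

Let `S` be a Sylow `2`-subgroup of the finite group `G` lying in a unique maximal subgroup `M`, let `V` be an abelian group of
exponent `2` on which `G` acts (`ρ : G →* MulAut V`), and let `D : G → V` be a 1-cocycle which is constant on the left cosets of
`M` and separates them.  If some subgroup `B ≤ S`, not contained in a normal `2`-subgroup of `G`, acts quadratically on `V` and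
no element of `V` has a centralizer of index exactly `2` in `B` (`Good`), then `D` is trivial (`cocycle_trivial_of_good`).
-/

set_option autoImplicit false
set_option linter.unusedSectionVars false
set_option linter.style.haveILetI false

namespace Cfsg.Agent.Lib.Helper85

open Cfsg Cfsg.Agent.Lib.Helper33

section klein

variable {V : Type*} [CommGroup V]

/-- In a commutative group of exponent `2`, the product over a finite set closed under multiplication by two distinct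
non-identity elements is trivial. -/
theorem prod_eq_one_of_klein (hexp : ∀ v : V, v * v = 1) (u₁ u₂ : V) (h1 : u₁ ≠ 1) (h2 : u₂ ≠ 1) (h12 : u₁ ≠ u₂) :
    ∀ (n : ℕ) (t : Finset V), t.card = n → (∀ w ∈ t, w * u₁ ∈ t) → (∀ w ∈ t, w * u₂ ∈ t) → ∏ w ∈ t, w = 1 := by
  classical
  intro n
  induction n using Nat.strong_induction_on with
  | _ n IH =>
  intro t hcard hc1 hc2
  rcases t.eq_empty_or_nonempty with ht | ⟨w, hw⟩
  · rw [ht, Finset.prod_empty]
  have hu12 : u₁ * u₂ ≠ 1 := by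
    intro h
    apply h12
    calc u₁ = u₁ * (u₂ * u₂) := by rw [hexp, mul_one]
      _ = u₁ * u₂ * u₂ := by rw [mul_assoc]
      _ = u₂ := by rw [h, one_mul]
  set q : Finset V := {w, w * u₁, w * u₂, w * u₁ * u₂} with hq
  have hmemq : ∀ z, z ∈ q ↔ z = w ∨ z = w * u₁ ∨ z = w * u₂ ∨ z = w * u₁ * u₂ := by
    intro z
    simp only [hq, Finset.mem_insert, Finset.mem_singleton]
  have hqt : q ⊆ t := by
    intro z hz
    rcases (hmemq z).1 hz with rfl | rfl | rfl | rfl
    · exact hw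
    · exact hc1 _ hw
    · exact hc2 _ hw
    · exact hc2 _ (hc1 _ hw)
  have hq1 : ∀ z ∈ q, z * u₁ ∈ q := by
    intro z hz
    rw [hmemq]
    rcases (hmemq z).1 hz with rfl | rfl | rfl | rfl
    · right; left; rfl
    · left; rw [mul_assoc, hexp, mul_one]
    · right; right; right; rw [mul_assoc, mul_comm u₂ u₁, ← mul_assoc]
    · right; right; left
      calc w * u₁ * u₂ * u₁ = w * u₂ * (u₁ * u₁) := by ac_rfl
        _ = w * u₂ := by rw [hexp, mul_one]
  have hq2 : ∀ z ∈ q, z * u₂ ∈ q := by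
    intro z hz
    rw [hmemq]
    rcases (hmemq z).1 hz with rfl | rfl | rfl | rfl
    · right; right; left; rfl
    · right; right; right; rfl
    · left; rw [mul_assoc, hexp, mul_one]
    · right; left
      rw [mul_assoc, hexp, mul_one]
  have hprod : ∏ z ∈ q, z = 1 := by
    have e1 : w ∉ ({w * u₁, w * u₂, w * u₁ * u₂} : Finset V) := by
      simp only [Finset.mem_insert, Finset.mem_singleton, not_or]
      refine ⟨?_, ?_, ?_⟩
      · intro h; exact h1 (by simpa using h.symm)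
      · intro h; exact h2 (by simpa using h.symm)
      · intro h
        apply hu12
        have : w * (u₁ * u₂) = w := by rw [← mul_assoc]; exact h.symm
        simpa using this
    have e2 : w * u₁ ∉ ({w * u₂, w * u₁ * u₂} : Finset V) := by
      simp only [Finset.mem_insert, Finset.mem_singleton, not_or]
      refine ⟨?_, ?_⟩
      · intro h; exact h12 (mul_left_cancel h)
      · intro h; exact h2 (by simpa using h.symm)
    have e3 : w * u₂ ∉ ({w * u₁ * u₂} : Finset V) := by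
      simp only [Finset.mem_singleton]
      intro h
      apply h1
      have : w * u₂ * 1 = w * u₂ * u₁ := by
        rw [mul_one]
        calc w * u₂ = w * u₁ * u₂ := h
          _ = w * u₂ * u₁ := by ac_rfl
      exact (mul_left_cancel this).symm
    rw [hq, Finset.prod_insert e1, Finset.prod_insert e2, Finset.prod_insert e3, Finset.prod_singleton]
    calc w * (w * u₁ * (w * u₂ * (w * u₁ * u₂))) = (w * w) * (w * w) * (u₁ * u₁) * (u₂ * u₂) := by ac_rfl
      _ = 1 := by rw [hexp w, hexp u₁, hexp u₂]; simp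
  have hsd1 : ∀ z ∈ t \ q, z * u₁ ∈ t \ q := by
    intro z hz
    rw [Finset.mem_sdiff] at hz ⊢
    refine ⟨hc1 z hz.1, fun h => hz.2 ?_⟩
    have := hq1 _ h
    rwa [mul_assoc, hexp, mul_one] at this
  have hsd2 : ∀ z ∈ t \ q, z * u₂ ∈ t \ q := by
    intro z hz
    rw [Finset.mem_sdiff] at hz ⊢
    refine ⟨hc2 z hz.1, fun h => hz.2 ?_⟩
    have := hq2 _ h
    rwa [mul_assoc, hexp, mul_one] at this
  have hcard' : (t \ q).card < n := by
    rw [← hcard]
    apply Finset.card_lt_card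
    refine ⟨Finset.sdiff_subset, fun hsub => ?_⟩
    have := hsub hw
    rw [Finset.mem_sdiff] at this
    exact this.2 ((hmemq w).2 (Or.inl rfl))
  rw [← Finset.prod_sdiff hqt, IH _ hcard' _ rfl hsd1 hsd2, hprod, one_mul]

end klein

section good

variable {G : Type*} [Group G] {V : Type*} [CommGroup V]

/-- `B` acts quadratically on `V` and no element of `V` has a centralizer of index exactly `2` in `B`. -/
structure Good (ρ : G →* MulAut V) (B : Subgroup G) : Prop where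
  quad : ∀ v : V, ∀ b ∈ B, ∀ b' ∈ B, ρ b' (v⁻¹ * ρ b v) = v⁻¹ * ρ b v
  dag : ∀ v : V, ∀ b₀ ∈ B, (∀ b ∈ B, ρ b v = v ∨ ρ (b₀ * b) v = v) → ∀ b ∈ B, ρ b v = v

theorem rho_mul (ρ : G →* MulAut V) (a b : G) (v : V) : ρ (a * b) v = ρ a (ρ b v) := by
  rw [map_mul]; rfl

theorem rho_one (ρ : G →* MulAut V) (v : V) : ρ 1 v = v := by
  rw [map_one]; rfl

theorem rho_inv_cancel (ρ : G →* MulAut V) (a : G) (v : V) : ρ a (ρ a⁻¹ v) = v := by
  rw [← rho_mul, mul_inv_cancel, rho_one]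

theorem rho_inv_cancel' (ρ : G →* MulAut V) (a : G) (v : V) : ρ a⁻¹ (ρ a v) = v := by
  rw [← rho_mul, inv_mul_cancel, rho_one]

theorem rho_conj (ρ : G →* MulAut V) (w b : G) (v : V) : ρ (w * b * w⁻¹) v = ρ w (ρ b (ρ w⁻¹ v)) := by
  rw [rho_mul, rho_mul]

theorem Good.conj {ρ : G →* MulAut V} {B : Subgroup G} (h : Good ρ B) (w : G) : Good ρ (Helper33.cj w B) := by
  have key : ∀ b ∈ cj w B, ∀ v : V, ρ b v = ρ w (ρ (w⁻¹ * b * w) (ρ w⁻¹ v)) := by
    intro b _ v
    rw [← rho_conj]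
    congr 2
    group
  refine ⟨?_, ?_⟩
  · intro v b hb b' hb'
    have hb₁ : w⁻¹ * b * w ∈ B := mem_cj.1 hb
    have hb₁' : w⁻¹ * b' * w ∈ B := mem_cj.1 hb'
    have h1 := h.quad (ρ w⁻¹ v) _ hb₁ _ hb₁'
    have e : v⁻¹ * ρ b v = ρ w ((ρ w⁻¹ v)⁻¹ * ρ (w⁻¹ * b * w) (ρ w⁻¹ v)) := by
      rw [map_mul, map_inv, rho_inv_cancel, ← key b hb v]
    rw [e, key b' hb', rho_inv_cancel', h1]
  · intro v b₀ hb₀ hcov b hb
    have hb₀₁ : w⁻¹ * b₀ * w ∈ B := mem_cj.1 hb₀
    have h1 : ∀ b₁ ∈ B, ρ b₁ (ρ w⁻¹ v) = ρ w⁻¹ v := by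
      apply h.dag (ρ w⁻¹ v) _ hb₀₁
      intro b₁ hb₁
      have hmem : w * b₁ * w⁻¹ ∈ cj w B := conj_mem_cj hb₁
      rcases hcov _ hmem with h2 | h2
      · left
        rw [rho_conj] at h2
        have := congrArg (ρ w⁻¹) h2
        rwa [rho_inv_cancel'] at this
      · right
        have e : b₀ * (w * b₁ * w⁻¹) = w * ((w⁻¹ * b₀ * w) * b₁) * w⁻¹ := by group
        rw [e, rho_conj] at h2
        have := congrArg (ρ w⁻¹) h2
        rwa [rho_inv_cancel'] at this
    rw [key b hb, h1 _ (mem_cj.1 hb), rho_inv_cancel]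

variable [Finite G]

/-- The product over a non-trivial `B`-orbit is trivial. -/
theorem prod_orbit_eq_one (hexp : ∀ v : V, v * v = 1) {ρ : G →* MulAut V} {B : Subgroup G} (hB : Good ρ B)
    [Fintype ↥B] [DecidableEq V] (v : V) (hv : ∃ b ∈ B, ρ b v ≠ v) :
    ∏ w ∈ (Finset.univ : Finset ↥B).image (fun b : ↥B => ρ (b : G) v), w = 1 := by
  obtain ⟨b₁, hb₁, hb₁v⟩ := hv
  obtain ⟨b₂, hb₂, hb₂v, hb₁₂v⟩ : ∃ b₂ ∈ B, ρ b₂ v ≠ v ∧ ρ (b₁ * b₂) v ≠ v := by
    by_contra hcon
    push Not at hcon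
    apply hb₁v
    refine hB.dag v b₁ hb₁ ?_ b₁ hb₁
    intro b hb
    by_cases h : ρ b v = v
    · exact Or.inl h
    · exact Or.inr (hcon b hb h)
  set u₁ := v⁻¹ * ρ b₁ v with hu₁
  set u₂ := v⁻¹ * ρ b₂ v with hu₂
  have hfix : ∀ b ∈ B, ρ b u₁ = u₁ ∧ ρ b u₂ = u₂ := fun b hb =>
    ⟨hB.quad v b₁ hb₁ b hb, hB.quad v b₂ hb₂ b hb⟩
  have hvu₁ : v * u₁ = ρ b₁ v := by rw [hu₁, mul_inv_cancel_left]
  have hvu₂ : v * u₂ = ρ b₂ v := by rw [hu₂, mul_inv_cancel_left]
  have h1 : u₁ ≠ 1 := by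
    intro h
    apply hb₁v
    rw [← hvu₁, h, mul_one]
  have h2 : u₂ ≠ 1 := by
    intro h
    apply hb₂v
    rw [← hvu₂, h, mul_one]
  have h12 : u₁ ≠ u₂ := by
    intro h
    apply hb₁₂v
    rw [rho_mul, ← hvu₂, map_mul, (hfix b₁ hb₁).2, ← hvu₁, ← h, mul_assoc, hexp, mul_one]
  refine prod_eq_one_of_klein hexp u₁ u₂ h1 h2 h12 _ _ rfl ?_ ?_
  · intro z hz
    rw [Finset.mem_image] at hz ⊢
    obtain ⟨b, -, rfl⟩ := hz
    refine ⟨b * ⟨b₁, hb₁⟩, Finset.mem_univ _, ?_⟩
    show ρ ((b : G) * b₁) v = ρ (b : G) v * u₁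
    rw [rho_mul, ← hvu₁, map_mul, (hfix b b.2).1]
  · intro z hz
    rw [Finset.mem_image] at hz ⊢
    obtain ⟨b, -, rfl⟩ := hz
    refine ⟨b * ⟨b₂, hb₂⟩, Finset.mem_univ _, ?_⟩
    show ρ ((b : G) * b₂) v = ρ (b : G) v * u₂
    rw [rho_mul, ← hvu₂, map_mul, (hfix b b.2).2]

/-- The product over a `B`-invariant finite set without `B`-fixed points is trivial. -/
theorem prod_eq_one_of_good (hexp : ∀ v : V, v * v = 1) {ρ : G →* MulAut V} {B : Subgroup G} (hB : Good ρ B) :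
    ∀ (n : ℕ) (s : Finset V), s.card = n → (∀ b ∈ B, ∀ v ∈ s, ρ b v ∈ s) →
      (∀ v ∈ s, ∃ b ∈ B, ρ b v ≠ v) → ∏ v ∈ s, v = 1 := by
  classical
  haveI : Fintype ↥B := Fintype.ofFinite _
  intro n
  induction n using Nat.strong_induction_on with
  | _ n IH =>
  intro s hcard hinv hnf
  rcases s.eq_empty_or_nonempty with hs | ⟨v, hv⟩
  · rw [hs, Finset.prod_empty]
  set o := (Finset.univ : Finset ↥B).image (fun b : ↥B => ρ (b : G) v) with ho
  have hos : o ⊆ s := by
    intro z hz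
    rw [ho, Finset.mem_image] at hz
    obtain ⟨b, -, rfl⟩ := hz
    exact hinv b b.2 v hv
  have hvo : v ∈ o := by
    rw [ho, Finset.mem_image]
    exact ⟨1, Finset.mem_univ _, by show ρ ((1 : ↥B) : G) v = v; rw [Subgroup.coe_one, rho_one]⟩
  have hprod : ∏ z ∈ o, z = 1 := prod_orbit_eq_one hexp hB v (hnf v hv)
  have hsd : ∀ b ∈ B, ∀ z ∈ s \ o, ρ b z ∈ s \ o := by
    intro b hb z hz
    rw [Finset.mem_sdiff] at hz ⊢
    refine ⟨hinv b hb z hz.1, fun h => hz.2 ?_⟩
    rw [ho, Finset.mem_image] at h ⊢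
    obtain ⟨b', -, hb'⟩ := h
    refine ⟨⟨b, hb⟩⁻¹ * b', Finset.mem_univ _, ?_⟩
    show ρ ((b : G)⁻¹ * (b' : G)) v = z
    rw [rho_mul, hb', rho_inv_cancel']
  have hcard' : (s \ o).card < n := by
    rw [← hcard]
    apply Finset.card_lt_card
    refine ⟨Finset.sdiff_subset, fun hsub => ?_⟩
    have := hsub hv
    rw [Finset.mem_sdiff] at this
    exact this.2 hvo
  rw [← Finset.prod_sdiff hos, IH _ hcard' _ rfl hsd (fun z hz => hnf z (Finset.mem_sdiff.1 hz).1), hprod, one_mul]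

end good

section main

variable {G : Type*} [Group G] [Finite G] {V : Type*} [CommGroup V]

/-- **The generalized trace argument.** -/
theorem cocycle_trivial_of_good (S : Sylow 2 G) (M : Subgroup G) (hSM : (S : Subgroup G) ≤ M)
    (hMmax : ∀ H : Subgroup G, (S : Subgroup G) ≤ H → H ≠ ⊤ → H ≤ M)
    (hexp : ∀ v : V, v * v = 1) (ρ : G →* MulAut V) (D : G → V)
    (hDM : ∀ g : G, ∀ m ∈ M, D (g * m) = D g) (hDinj : ∀ g g' : G, D g = D g' → g⁻¹ * g' ∈ M)
    (hDmul : ∀ h g : G, D (h * g) = D h * ρ h (D g))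
    (B : Subgroup G) (hBS : B ≤ (S : Subgroup G))
    (hBN : ∀ N : Subgroup G, N.Normal → IsPGroup 2 N → ¬ B ≤ N) (hB : Good ρ B) : ∀ g : G, D g = 1 := by
  classical
  haveI : Fact (Nat.Prime 2) := ⟨Nat.prime_two⟩
  haveI : Fintype G := Fintype.ofFinite G
  have hSp : IsPGroup 2 (S : Subgroup G) := S.isPGroup'
  -- the generating set
  set 𝓔 : Set G := {e | ∃ B' : Subgroup G, B' ≤ (S : Subgroup G) ∧ Good ρ B' ∧ e ∈ B'} with h𝓔
  set U₀ := Subgroup.closure 𝓔 with hU₀
  have hle𝓔 : ∀ B' : Subgroup G, B' ≤ (S : Subgroup G) → Good ρ B' → B' ≤ U₀ :=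
    fun B' h1 h2 b hb => Subgroup.subset_closure ⟨B', h1, h2, hb⟩
  have hU₀S : U₀ ≤ (S : Subgroup G) := (Subgroup.closure_le _).mpr (fun e he => by
    obtain ⟨B', hB'S, -, he⟩ := he
    exact hB'S he)
  have hBU₀ : B ≤ U₀ := hle𝓔 B hBS hB
  have hU₀p : IsPGroup 2 U₀ := hSp.to_le hU₀S
  have hU₀wc : ∀ w : G, cj w U₀ ≤ (S : Subgroup G) → cj w U₀ = U₀ := by
    intro w hw
    apply Subgroup.eq_of_le_of_card_ge
    · rw [hU₀, cj_closure, Subgroup.closure_le]
      rintro _ ⟨e, ⟨B', hB'S, hB'g, he⟩, rfl⟩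
      apply Subgroup.subset_closure
      refine ⟨cj w B', ?_, hB'g.conj w, conj_mem_cj he⟩
      exact (cj_mono (hle𝓔 B' hB'S hB'g)).trans hw
    · rw [card_cj]
  have hSN : (S : Subgroup G) ≤ Subgroup.normalizer (U₀ : Set G) := by
    intro s hs
    rw [mem_normalizer_iff_cj_eq]
    apply hU₀wc
    have := cj_mono (g := s) hU₀S
    rwa [cj_eq_self_of_mem hs] at this
  have hNM : Subgroup.normalizer (U₀ : Set G) ≤ M := by
    apply hMmax _ hSN
    intro htop
    have hn : U₀.Normal := Subgroup.normalizer_eq_top_iff.mp htop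
    exact hBN U₀ hn hU₀p hBU₀
  -- `M` is the unique fixed point of `U₀` on `G ⧸ M`
  have hfix : ∀ g : G, (∀ h ∈ U₀, g⁻¹ * h * g ∈ M) → g ∈ M := by
    intro g hg
    have hle : cj g⁻¹ U₀ ≤ M := by
      intro x hx
      rw [mem_cj, inv_inv] at hx
      have := hg _ hx
      have e : g⁻¹ * (g * x * g⁻¹) * g = x := by group
      rwa [e] at this
    obtain ⟨m, hm, hle2⟩ := (sylIn_of_sylow_le S hSM).exists_cj_le hle (isPGroup_cj hU₀p)
    have h1 : cj (m * g⁻¹) U₀ = U₀ := hU₀wc _ (by rw [cj_mul]; exact hle2)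
    have h2 : m * g⁻¹ ∈ M := hNM (mem_normalizer_iff_cj_eq.mpr h1)
    have e : g = (m * g⁻¹)⁻¹ * m := by group
    rw [e]
    exact mul_mem (inv_mem h2) hm
  -- the cocycle
  have hD1 : D 1 = 1 := by
    have h := hDmul 1 1
    rw [one_mul, rho_one] at h
    exact (mul_eq_left.mp h.symm)
  have hDM1 : ∀ m ∈ M, D m = 1 := by
    intro m hm
    have h := hDM 1 m hm
    rwa [one_mul, hD1] at h
  have hDact : ∀ m ∈ M, ∀ g : G, D (m * g) = ρ m (D g) := by
    intro m hm g
    rw [hDmul, hDM1 m hm, one_mul]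
  set 𝒟 : Finset V := (Finset.univ : Finset G).image D with h𝒟
  have hmem𝒟 : ∀ g : G, D g ∈ 𝒟 := fun g => Finset.mem_image_of_mem D (Finset.mem_univ g)
  -- the sum over the values other than `1` vanishes
  have hrest : ∀ (n : ℕ) (s : Finset V), s.card = n → s ⊆ 𝒟 →
      (∀ h ∈ U₀, ∀ v ∈ s, ρ h v ∈ s) → (1 : V) ∉ s → ∏ v ∈ s, v = 1 := by
    intro n
    induction n using Nat.strong_induction_on with
    | _ n IH =>
    intro s hcard hs𝒟 hinv h1s
    rcases s.eq_empty_or_nonempty with hs | ⟨v, hv⟩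
    · rw [hs, Finset.prod_empty]
    obtain ⟨g, -, hgv⟩ := Finset.mem_image.1 (hs𝒟 hv)
    set Q := U₀ ⊓ (MulAction.stabilizer (MulAut V) v).comap ρ with hQ
    have hmemQ : ∀ h : G, h ∈ Q ↔ h ∈ U₀ ∧ ρ h v = v := by
      intro h
      rw [hQ, Subgroup.mem_inf, Subgroup.mem_comap, MulAction.mem_stabilizer_iff]
      rfl
    have hQlt : Q < U₀ := by
      refine lt_of_le_of_ne inf_le_left ?_
      intro hQU
      have hgM : g ∈ M := by
        apply hfix g
        intro h hh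
        have h2 : ρ h v = v := ((hmemQ h).1 (by rw [hQU]; exact hh)).2
        have h3 : D (h * g) = D g := by
          rw [hDact h (hSM (hU₀S hh)), hgv, h2]
        have h4 := hDinj _ _ h3
        have e : (h * g)⁻¹ * g = g⁻¹ * h⁻¹ * g := by group
        rw [e] at h4
        have h5 := M.inv_mem h4
        have e2 : (g⁻¹ * h⁻¹ * g)⁻¹ = g⁻¹ * h * g := by group
        rwa [e2] at h5
      apply h1s
      rw [← hDM1 g hgM, hgv]
      exact hv
    obtain ⟨Q', hQQ', hQ'lt, hQ'max⟩ := exists_maximal_lt U₀ _ Q hQlt rfl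
    have hU₀N : U₀ ≤ Subgroup.normalizer (Q' : Set G) := by
      obtain ⟨x, hx, hxQ', hxN⟩ := Cfsg.Agent.Lib.Helper96.exists_normalizing_not_mem hU₀p hQ'lt
      have hle : Q' ≤ U₀ ⊓ Subgroup.normalizer (Q' : Set G) := le_inf hQ'lt.le Subgroup.le_normalizer
      have hlt' : Q' < U₀ ⊓ Subgroup.normalizer (Q' : Set G) :=
        lt_of_le_of_ne hle (fun e => hxQ' (e ▸ ⟨hx, hxN⟩))
      have := hQ'max _ hlt' inf_le_left
      exact (inf_eq_left.mp this)
    obtain ⟨B', hB'S, hB'g, hB'Q'⟩ : ∃ B' : Subgroup G, B' ≤ (S : Subgroup G) ∧ Good ρ B' ∧ ¬ B' ≤ Q' := by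
      by_contra hcon
      push Not at hcon
      have : U₀ ≤ Q' := (Subgroup.closure_le _).mpr (fun e he => by
        obtain ⟨B', hB'S, hB'g, he⟩ := he
        exact hcon B' hB'S hB'g he)
      exact absurd (le_antisymm hQ'lt.le this) hQ'lt.ne
    have hB'U₀ : B' ≤ U₀ := hle𝓔 B' hB'S hB'g
    set O := s.filter (fun a => ∃ h ∈ U₀, ρ h v = a) with hO
    have hOs : O ⊆ s := Finset.filter_subset _ _
    have hvO : v ∈ O := by
      rw [hO, Finset.mem_filter]
      exact ⟨hv, 1, one_mem _, rho_one ρ v⟩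
    have hOnf : ∀ a ∈ O, ∃ b ∈ B', ρ b a ≠ a := by
      intro a ha
      rw [hO, Finset.mem_filter] at ha
      obtain ⟨-, h, hh, rfl⟩ := ha
      by_contra hcon
      push Not at hcon
      apply hB'Q'
      intro b hb
      have h1 : h⁻¹ * b * h ∈ Q := by
        rw [hmemQ]
        refine ⟨mul_mem (mul_mem (inv_mem hh) (hB'U₀ hb)) hh, ?_⟩
        rw [rho_mul, rho_mul, hcon b hb, rho_inv_cancel']
      have h2 : h * (h⁻¹ * b * h) * h⁻¹ ∈ cj h Q' := conj_mem_cj (hQQ' h1)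
      rw [cj_eq_self_of_mem_normalizer (hU₀N hh)] at h2
      have e1 : h * (h⁻¹ * b * h) * h⁻¹ = b := by group
      rwa [e1] at h2
    have hOinv : ∀ h ∈ U₀, ∀ a ∈ O, ρ h a ∈ O := by
      intro h hh a ha
      rw [hO, Finset.mem_filter] at ha ⊢
      obtain ⟨has, h', hh', rfl⟩ := ha
      exact ⟨hinv h hh _ has, h * h', mul_mem hh hh', rho_mul ρ h h' v⟩
    have hprodO : ∏ a ∈ O, a = 1 :=
      prod_eq_one_of_good hexp hB'g _ O rfl (fun b hb a ha => hOinv b (hB'U₀ hb) a ha) hOnf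
    have hsd_inv : ∀ h ∈ U₀, ∀ a ∈ s \ O, ρ h a ∈ s \ O := by
      intro h hh a ha
      rw [Finset.mem_sdiff] at ha ⊢
      refine ⟨hinv h hh a ha.1, ?_⟩
      intro hmem
      apply ha.2
      have := hOinv h⁻¹ (inv_mem hh) _ hmem
      rwa [rho_inv_cancel'] at this
    have hcard' : (s \ O).card < n := by
      rw [← hcard]
      apply Finset.card_lt_card
      refine ⟨Finset.sdiff_subset, ?_⟩
      intro hsub
      have := hsub hv
      rw [Finset.mem_sdiff] at this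
      exact this.2 hvO
    have hrest' := IH _ hcard' (s \ O) rfl (Finset.sdiff_subset.trans hs𝒟) hsd_inv
      (fun hmem => h1s (Finset.mem_sdiff.mp hmem).1)
    rw [← Finset.prod_sdiff hOs, hrest', hprodO, one_mul]
  -- the total sum vanishes
  have h1𝒟 : (1 : V) ∈ 𝒟 := by rw [← hD1]; exact hmem𝒟 1
  have hτ : ∏ v ∈ 𝒟, v = 1 := by
    rw [← Finset.mul_prod_erase 𝒟 _ h1𝒟, one_mul]
    refine hrest _ (𝒟.erase 1) rfl (Finset.erase_subset _ _) ?_ (Finset.notMem_erase _ _)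
    intro h hh v hv
    rw [Finset.mem_erase] at hv ⊢
    refine ⟨?_, ?_⟩
    · intro heq
      apply hv.1
      have := congrArg (ρ h⁻¹) heq
      rwa [rho_inv_cancel', map_one] at this
    · obtain ⟨g, -, rfl⟩ := Finset.mem_image.1 hv.2
      rw [← hDact h (hSM (hU₀S hh))]
      exact hmem𝒟 _
  -- the number of values is odd
  have hodd : ¬ 2 ∣ 𝒟.card := by
    haveI : Fintype (G ⧸ M) := Fintype.ofFinite _
    have hcard : 𝒟.card = Fintype.card (G ⧸ M) := by
      have hwd : ∀ a b : G, (QuotientGroup.leftRel M) a b → D a = D b := by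
        intro a b hab
        rw [QuotientGroup.leftRel_apply] at hab
        have := hDM a _ hab
        rw [mul_inv_cancel_left] at this
        exact this.symm
      set f : G ⧸ M → V := Quotient.lift D hwd with hf
      have hfinj : Function.Injective f := by
        intro ω ω' hωω'
        obtain ⟨a, rfl⟩ := QuotientGroup.mk_surjective ω
        obtain ⟨b, rfl⟩ := QuotientGroup.mk_surjective ω'
        rw [QuotientGroup.eq]
        exact hDinj a b hωω'
      have himg : 𝒟 = (Finset.univ : Finset (G ⧸ M)).image f := by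
        ext v
        rw [h𝒟, Finset.mem_image, Finset.mem_image]
        constructor
        · rintro ⟨g, -, rfl⟩
          exact ⟨QuotientGroup.mk g, Finset.mem_univ _, rfl⟩
        · rintro ⟨ω, -, rfl⟩
          obtain ⟨a, rfl⟩ := QuotientGroup.mk_surjective ω
          exact ⟨a, Finset.mem_univ _, rfl⟩
      rw [himg, Finset.card_image_of_injective _ hfinj, Finset.card_univ]
    rw [hcard, ← Nat.card_eq_fintype_card, ← Subgroup.index_eq_card]
    intro hdvd
    have h1 : M.index ∣ (S : Subgroup G).index := Subgroup.index_dvd_of_le hSM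
    exact S.not_dvd_index (hdvd.trans h1)
  intro g₀
  have hpow : D g₀ ^ 𝒟.card = 1 := by
    have h1 : ∏ v ∈ 𝒟, (D g₀ * ρ g₀ v) = ∏ v ∈ 𝒟, v := by
      refine Finset.prod_nbij (fun v => D g₀ * ρ g₀ v) ?_ ?_ ?_ (fun _ _ => rfl)
      · intro v hv
        obtain ⟨g, -, rfl⟩ := Finset.mem_image.1 hv
        rw [← hDmul]
        exact hmem𝒟 _
      · intro v _ v' _ hvv'
        exact (ρ g₀).injective (mul_left_cancel hvv')
      · intro v hv
        obtain ⟨g, -, rfl⟩ := Finset.mem_image.1 (Finset.mem_coe.1 hv)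
        refine ⟨D (g₀⁻¹ * g), Finset.mem_coe.2 (hmem𝒟 _), ?_⟩
        show D g₀ * ρ g₀ (D (g₀⁻¹ * g)) = D g
        rw [← hDmul, mul_inv_cancel_left]
    rw [Finset.prod_mul_distrib, Finset.prod_const, ← map_prod, hτ, map_one, mul_one] at h1
    exact h1
  have hsq : D g₀ ^ 2 = 1 := by rw [pow_two]; exact hexp _
  have h1 : orderOf (D g₀) ∣ 𝒟.card := orderOf_dvd_of_pow_eq_one hpow
  have h2 : orderOf (D g₀) ∣ 2 := orderOf_dvd_of_pow_eq_one hsq
  rcases (Nat.dvd_prime Nat.prime_two).1 h2 with h3 | h3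
  · exact orderOf_eq_one_iff.1 h3
  · exact absurd (h3 ▸ h1) hodd

end main

end Cfsg.Agent.Lib.Helper85
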