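import Mathlib

/-!
helper85: two general lemmas used for the `S₄`-free case of Glauberman's weak closure theorem.

* `isPGroup_two_closure_pair`: two involutions whose product has `2`-power order generate a `2`-group.
* `exists_inverting_pair_of_hom`: lifting of an inverted element of order `3` along a homomorphism: if `ψ q` has order `3`, is
  normalized by the image of `ψ` and inverted by `ψ b`, then some `3`-element `x` with `ψ x ≠ 1` is inverted by a `2`-element.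
-/

set_option autoImplicit false
set_option linter.unusedSectionVars false
set_option linter.style.haveILetI false

namespace Cfsg.Agent.Lib.Helper85

section pair

variable {K : Type*} [Group K]

theorem isPGroup_two_closure_pair (a a' : K) (ha : a * a = 1) (ha' : a' * a' = 1) (k : ℕ)
    (hr : (a' * a) ^ 2 ^ k = 1) : IsPGroup 2 (Subgroup.closure ({a, a'} : Set K)) := by
  haveI : Fact (Nat.Prime 2) := ⟨Nat.prime_two⟩
  set r := a' * a with hrdef
  have hainv : a⁻¹ = a := inv_eq_of_mul_eq_one_left ha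
  have ha'inv : a'⁻¹ = a' := inv_eq_of_mul_eq_one_left ha'
  have hrinv : r⁻¹ = a * a' := by rw [hrdef, mul_inv_rev, hainv, ha'inv]
  have h1 : IsPGroup 2 (Subgroup.zpowers r) := by
    obtain ⟨j, -, hj⟩ := (Nat.dvd_prime_pow Nat.prime_two).1 (orderOf_dvd_of_pow_eq_one hr)
    apply IsPGroup.of_card (n := j)
    rw [Nat.card_zpowers, hj]
  have h2 : IsPGroup 2 (Subgroup.zpowers a) := by
    have : a ^ 2 ^ 1 = 1 := by rw [pow_one, pow_two]; exact ha
    obtain ⟨j, -, hj⟩ := (Nat.dvd_prime_pow Nat.prime_two).1 (orderOf_dvd_of_pow_eq_one this)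
    apply IsPGroup.of_card (n := j)
    rw [Nat.card_zpowers, hj]
  have h3 : Subgroup.zpowers a ≤ Subgroup.normalizer (Subgroup.zpowers r : Set K) := by
    rw [Subgroup.zpowers_le, Subgroup.mem_normalizer_iff_map_conj_eq, MonoidHom.map_zpowers]
    show Subgroup.zpowers (a * r * a⁻¹) = Subgroup.zpowers r
    have : a * r * a⁻¹ = r⁻¹ := by
      rw [hrinv, hrdef, hainv]
      calc a * (a' * a) * a = a * a' * (a * a) := by group
        _ = a * a' := by rw [ha, mul_one]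
    rw [this, Subgroup.zpowers_inv]
  have h4 : IsPGroup 2 (Subgroup.zpowers a ⊔ Subgroup.zpowers r : Subgroup K) :=
    IsPGroup.to_sup_of_normal_right' h2 h1 h3
  refine h4.to_le ?_
  rw [Subgroup.closure_le]
  intro z hz
  rcases hz with rfl | rfl
  · exact Subgroup.mem_sup_left (Subgroup.mem_zpowers _)
  · have : z = r * a := by
      rw [hrdef, mul_assoc, ha, mul_one]
    rw [this]
    exact Subgroup.mul_mem _ (Subgroup.mem_sup_right (Subgroup.mem_zpowers _))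
      (Subgroup.mem_sup_left (Subgroup.mem_zpowers _))

end pair

section lifting

variable {H : Type*} [Group H] [Finite H] {K : Type*} [Group K]

theorem exists_inverting_pair_of_hom (ψ : H →* K) (q b : H) (hq : ∃ k : ℕ, orderOf q = 3 ^ k)
    (hq1 : ψ q ≠ 1) (hq3 : ψ q ^ 3 = 1) (hinv : ψ b * ψ q * (ψ b)⁻¹ = (ψ q)⁻¹)
    (hnorm : ∀ h : H, ψ h * ψ q * (ψ h)⁻¹ ∈ Subgroup.zpowers (ψ q)) :
    ∃ x y : H, (∃ k : ℕ, orderOf x = 3 ^ k) ∧ (∃ k : ℕ, orderOf y = 2 ^ k) ∧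
      y * x * y⁻¹ = x⁻¹ ∧ ψ x ≠ 1 := by
  classical
  haveI : Fact (Nat.Prime 3) := ⟨Nat.prime_three⟩
  haveI : Fact (Nat.Prime 2) := ⟨Nat.prime_two⟩
  set Z : Subgroup K := Subgroup.zpowers (ψ q) with hZ
  -- `ψ h` normalizes `Z`
  have hnormZ : ∀ h : H, ∀ c ∈ Z, ψ h * c * (ψ h)⁻¹ ∈ Z := by
    intro h c hc
    obtain ⟨i, rfl⟩ := Subgroup.mem_zpowers_iff.1 hc
    have : ψ h * ψ q ^ i * (ψ h)⁻¹ = (ψ h * ψ q * (ψ h)⁻¹) ^ i := by
      rw [conj_zpow]
    rw [this]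
    exact Subgroup.zpow_mem _ (hnorm h) i
  set L : Subgroup H := Z.comap ψ with hL
  have hLn : L.Normal := by
    refine ⟨fun l hl h => ?_⟩
    show ψ (h * l * h⁻¹) ∈ Z
    rw [map_mul, map_mul, map_inv]
    exact hnormZ h _ hl
  have hqL : q ∈ L := Subgroup.mem_zpowers (ψ q)
  -- elements of `L` commute modulo `ψ`
  have hLcomm : ∀ l ∈ L, ∀ l' ∈ L, ψ l * ψ l' = ψ l' * ψ l := by
    intro l hl l' hl'
    obtain ⟨i, hi⟩ := Subgroup.mem_zpowers_iff.1 hl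
    obtain ⟨j, hj⟩ := Subgroup.mem_zpowers_iff.1 hl'
    rw [← hi, ← hj]
    exact (Commute.refl (ψ q)).zpow_zpow i j |>.eq
  -- `b` inverts `L` modulo `ψ`
  have hbinv : ∀ l ∈ L, ψ b * ψ l * (ψ b)⁻¹ = (ψ l)⁻¹ := by
    intro l hl
    obtain ⟨i, hi⟩ := Subgroup.mem_zpowers_iff.1 hl
    rw [← hi, ← conj_zpow, hinv, inv_zpow]
  -- a Sylow 3-subgroup of `L` containing `q`
  have hZq : IsPGroup 3 (Subgroup.zpowers (⟨q, hqL⟩ : L)) := by
    obtain ⟨k, hk⟩ := hq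
    apply IsPGroup.of_card (n := k)
    rw [Nat.card_zpowers, Subgroup.orderOf_mk, hk]
  obtain ⟨P, hP⟩ := hZq.exists_le_sylow
  set P' : Subgroup H := (P : Subgroup L).map L.subtype with hP'
  have hP'3 : IsPGroup 3 P' := P.isPGroup'.map _
  have hqP : q ∈ P' := ⟨⟨q, hqL⟩, hP (Subgroup.mem_zpowers _), rfl⟩
  have hP'L : P' ≤ L := by
    rintro _ ⟨l, -, rfl⟩
    exact l.2
  -- Frattini
  have hfr := Sylow.normalizer_sup_eq_top P
  have hmem : b ∈ Subgroup.normalizer ((P' : Subgroup H) : Set H) ⊔ L := by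
    rw [hP', hfr]; trivial
  rw [Subgroup.mem_sup_of_normal_right] at hmem
  obtain ⟨n, hn, l, hl, hnl⟩ := hmem
  -- `n` inverts `L` modulo `ψ`
  have hninv : ∀ c ∈ L, ψ n * ψ c * (ψ n)⁻¹ = (ψ c)⁻¹ := by
    intro c hc
    have hn' : n = b * l⁻¹ := by rw [← hnl]; group
    have hl' : l⁻¹ ∈ L := L.inv_mem hl
    rw [hn', map_mul, mul_inv_rev]
    have h1 : ψ l⁻¹ * ψ c * (ψ l⁻¹)⁻¹ = ψ c := by
      rw [hLcomm _ hl' _ hc, mul_inv_cancel_right]
    calc ψ b * ψ l⁻¹ * ψ c * ((ψ l⁻¹)⁻¹ * (ψ b)⁻¹) = ψ b * (ψ l⁻¹ * ψ c * (ψ l⁻¹)⁻¹) * (ψ b)⁻¹ := by group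
      _ = (ψ c)⁻¹ := by rw [h1, hbinv c hc]
  -- the 2-part of `n`
  obtain ⟨k', m', hm', hkm'⟩ := Nat.exists_eq_two_pow_mul_odd (orderOf_pos n).ne'
  set y := n ^ m' with hy
  have hypow : y ^ (2 ^ k') = 1 := by
    rw [hy, ← pow_mul, mul_comm, ← hkm', pow_orderOf_eq_one]
  have hyN : y ∈ Subgroup.normalizer ((P' : Subgroup H) : Set H) := Subgroup.pow_mem _ hn _
  have hpowinv : ∀ (j : ℕ), ∀ c ∈ L, ψ (n ^ j) * ψ c * (ψ (n ^ j))⁻¹ = if Even j then ψ c else (ψ c)⁻¹ := by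
    intro j
    induction j with
    | zero => intro c _; simp
    | succ j ih =>
      intro c hc
      have hc' : n * c * n⁻¹ ∈ L := hLn.conj_mem c hc n
      have e : ψ (n ^ (j + 1)) * ψ c * (ψ (n ^ (j + 1)))⁻¹ =
          ψ (n ^ j) * ψ (n * c * n⁻¹) * (ψ (n ^ j))⁻¹ := by
        rw [pow_succ]
        simp only [map_mul, map_inv, mul_inv_rev]
        group
      rw [e, ih _ hc']
      have h2 : ψ (n * c * n⁻¹) = (ψ c)⁻¹ := by
        rw [map_mul, map_mul, map_inv]; exact hninv c hc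
      rw [h2]
      by_cases hj : Even j
      · have : ¬ Even (j + 1) := by
          rw [Nat.even_add_one]; exact not_not.2 hj
        rw [if_pos hj, if_neg this]
      · have : Even (j + 1) := by
          rw [Nat.even_add_one]; exact hj
        rw [if_neg hj, if_pos this, inv_inv]
  have hyinv : ∀ c ∈ L, ψ y * ψ c * (ψ y)⁻¹ = (ψ c)⁻¹ := by
    intro c hc
    rw [hy, hpowinv m' c hc, if_neg (Nat.not_even_iff_odd.2 hm')]
  set z := y * y with hz
  have hzN : z ∈ Subgroup.normalizer ((P' : Subgroup H) : Set H) := Subgroup.mul_mem _ hyN hyN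
  have hzc : ∀ c ∈ L, ψ z * ψ c * (ψ z)⁻¹ = ψ c := by
    intro c hc
    have hc' : y * c * y⁻¹ ∈ L := hLn.conj_mem c hc y
    have e : ψ z * ψ c * (ψ z)⁻¹ = ψ y * ψ (y * c * y⁻¹) * (ψ y)⁻¹ := by
      rw [hz]
      simp only [map_mul, map_inv, mul_inv_rev]
      group
    rw [e, hyinv _ hc', map_mul, map_mul, map_inv, hyinv c hc, inv_inv]
  have hzpow : z ^ (2 ^ k') = 1 := by
    rw [hz, ← pow_two, ← pow_mul, mul_comm, pow_mul, hypow, one_pow]
  -- the set `X`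
  let X := {g : H // g ∈ P' ∧ ψ g = ψ q}
  let _ : Fintype X := Fintype.ofFinite X
  have hXcard : ¬ 2 ∣ Fintype.card X := by
    have e : X ≃ ((P' ⊓ ψ.ker : Subgroup H) : Type _) :=
      Equiv.subtypeEquiv (Equiv.mulLeft q⁻¹) (fun g => by
        show g ∈ P' ∧ ψ g = ψ q ↔ q⁻¹ * g ∈ P' ⊓ ψ.ker
        rw [Subgroup.mem_inf, MonoidHom.mem_ker, map_mul, map_inv]
        constructor
        · rintro ⟨h1, h2⟩
          exact ⟨P'.mul_mem (P'.inv_mem hqP) h1, by rw [h2, inv_mul_cancel]⟩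
        · rintro ⟨h1, h2⟩
          refine ⟨?_, ?_⟩
          · have := P'.mul_mem hqP h1
            rwa [mul_inv_cancel_left] at this
          · exact (inv_mul_eq_one.mp h2).symm)
    have h3 : IsPGroup 3 (P' ⊓ ψ.ker : Subgroup H) := hP'3.to_le inf_le_left
    obtain ⟨j, hj⟩ := IsPGroup.iff_card.mp h3
    rw [← Nat.card_eq_fintype_card, Nat.card_congr e, hj]
    intro h2
    have := (Nat.prime_two.dvd_of_dvd_pow h2)
    omega
  -- conjugation by `z` on `X`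
  have hconjmem : ∀ (w : H), w ∈ Subgroup.normalizer ((P' : Subgroup H) : Set H) →
      (∀ c ∈ L, ψ w * ψ c * (ψ w)⁻¹ = ψ c) →
      ∀ g : X, w * g.1 * w⁻¹ ∈ P' ∧ ψ (w * g.1 * w⁻¹) = ψ q := by
    intro w hw hψw g
    refine ⟨(Subgroup.mem_normalizer_iff.mp hw g.1).mp g.2.1, ?_⟩
    rw [map_mul, map_mul, map_inv, hψw _ (hP'L g.2.1), g.2.2]
  have hz'N : z⁻¹ ∈ Subgroup.normalizer ((P' : Subgroup H) : Set H) := Subgroup.inv_mem _ hzN
  have hz'c : ∀ c ∈ L, ψ z⁻¹ * ψ c * (ψ z⁻¹)⁻¹ = ψ c := by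
    intro c hc
    have := hzc c hc
    rw [map_inv, inv_inv]
    calc (ψ z)⁻¹ * ψ c * ψ z = (ψ z)⁻¹ * (ψ z * ψ c * (ψ z)⁻¹) * ψ z := by rw [this]
      _ = ψ c := by group
  let σ : Equiv.Perm X :=
    { toFun := fun g => ⟨z * g.1 * z⁻¹, hconjmem z hzN hzc g⟩
      invFun := fun g => ⟨z⁻¹ * g.1 * z⁻¹⁻¹, hconjmem z⁻¹ hz'N hz'c g⟩
      left_inv := fun g => by apply Subtype.ext; simp only; group
      right_inv := fun g => by apply Subtype.ext; simp only; group }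
  have hσpow : ∀ (j : ℕ) (g : X), ((σ ^ j) g).1 = z ^ j * g.1 * (z ^ j)⁻¹ := by
    intro j
    induction j with
    | zero => intro g; simp
    | succ j ih =>
      intro g
      rw [pow_succ', Equiv.Perm.mul_apply]
      show z * ((σ ^ j) g).1 * z⁻¹ = _
      rw [ih g, pow_succ']; group
  have hσ : σ ^ 2 ^ k' = 1 := by
    ext g
    rw [hσpow, hzpow]; simp
  obtain ⟨g, hg⟩ := Equiv.Perm.exists_fixed_point_of_prime (p := 2) (n := k') hXcard hσ
  have hfix : z * g.1 * z⁻¹ = g.1 := congrArg Subtype.val hg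
  -- the inverted element
  set g₀ : H := g.1 with hg₀
  have hg₀P : g₀ ∈ P' := g.2.1
  have hψg₀ : ψ g₀ = ψ q := g.2.2
  have hyg : y * g₀ * y⁻¹ ∈ P' := (Subgroup.mem_normalizer_iff.mp hyN g₀).mp hg₀P
  refine ⟨g₀⁻¹ * (y * g₀ * y⁻¹), y, ?_, ?_, ?_, ?_⟩
  · obtain ⟨j, hj⟩ := (IsPGroup.iff_orderOf.mp hP'3) ⟨g₀⁻¹ * (y * g₀ * y⁻¹),
      P'.mul_mem (P'.inv_mem hg₀P) hyg⟩
    refine ⟨j, ?_⟩
    rw [← hj, Subgroup.orderOf_mk]
  · have hdvd : orderOf y ∣ 2 ^ k' := orderOf_dvd_of_pow_eq_one hypow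
    obtain ⟨j, -, hj⟩ := (Nat.dvd_prime_pow Nat.prime_two).mp hdvd
    exact ⟨j, hj⟩
  · have h1 : y * (y * g₀ * y⁻¹) * y⁻¹ = g₀ := by
      have : y * (y * g₀ * y⁻¹) * y⁻¹ = z * g₀ * z⁻¹ := by rw [hz]; group
      rw [this, hfix]
    calc y * (g₀⁻¹ * (y * g₀ * y⁻¹)) * y⁻¹ = (y * g₀ * y⁻¹)⁻¹ * (y * (y * g₀ * y⁻¹) * y⁻¹) := by group
      _ = (y * g₀ * y⁻¹)⁻¹ * g₀ := by rw [h1]
      _ = (g₀⁻¹ * (y * g₀ * y⁻¹))⁻¹ := by group
  · rw [map_mul, map_inv, map_mul, map_mul, map_inv, hyinv g₀ (hP'L hg₀P), hψg₀]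
    intro h
    apply hq1
    have h2 : (ψ q)⁻¹ * (ψ q)⁻¹ = 1 := h
    have h3 : ψ q * ψ q = 1 := by
      have := congrArg (fun t => t⁻¹) h2
      simpa using this
    calc ψ q = (ψ q * ψ q)⁻¹ * (ψ q ^ 3) := by rw [pow_succ, pow_two]; group
      _ = 1 := by rw [h3, hq3]; simp

end lifting

end Cfsg.Agent.Lib.Helper85
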