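import Mathlib
import Cfsg.Agent.Lib.Helper85.GlaubInv
import Cfsg.Agent.Lib.Helper96.BaerSuzuki
import Cfsg.Agent.Lib.Helper99.S4InvC
import Cfsg.Agent.Lib.Helper47.FourGroup
import Cfsg.Agent.Lib.Helper97.Thompson2
import Cfsg.Agent.S0055

/-!
helper85: a transvection on an elementary abelian normal `2`-subgroup `E` which does not lie in `O_2(G mod C_G(E))` forces the
symmetric group of degree `4` to be involved in `G` (no assumption that `C_G(E)` is a `2`-group).
-/

set_option autoImplicit false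
set_option linter.unusedSectionVars false
set_option linter.style.haveILetI false

namespace Cfsg.Agent.Lib.Helper85

open Cfsg

theorem eq_of_mem_of_card_two {Y : Type*} [Group Y] (W : Subgroup Y) (hW : Nat.card W = 2) {x y : Y}
    (hx : x ∈ W) (hy : y ∈ W) (hx1 : x ≠ 1) (hy1 : y ≠ 1) : x = y := by
  obtain ⟨z, -, hz⟩ := (Nat.card_eq_two_iff' (1 : W)).1 hW
  have h1 : (⟨x, hx⟩ : W) = z := hz _ (fun h => hx1 (congrArg Subtype.val h))
  have h2 : (⟨y, hy⟩ : W) = z := hz _ (fun h => hy1 (congrArg Subtype.val h))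
  exact congrArg Subtype.val (h1.trans h2.symm)

theorem involves_perm_four_of_transvection_gen {G : Type*} [Group G] [Finite G] (E : Subgroup G) [hEn : E.Normal]
    (hEc : IsMulCommutative E) (hEexp : ∀ v ∈ E, v * v = 1)
    (b : G) (hb2 : b ^ 2 ∈ Subgroup.centralizer (E : Set G))
    (hbE : Nat.card E ≤ 2 * Nat.card ↥(E ⊓ Subgroup.centralizer ({b} : Set G)))
    (hO : ∀ D : Subgroup G, D.Normal → Subgroup.centralizer (E : Set G) ≤ D →
      (∀ d ∈ D, ∃ k : ℕ, d ^ 2 ^ k ∈ Subgroup.centralizer (E : Set G)) → b ∉ D) :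
    Involves (Equiv.Perm (Fin 4)) G := by
  classical
  haveI h2 : Fact (Nat.Prime 2) := ⟨Nat.prime_two⟩
  haveI h3 : Fact (Nat.Prime 3) := ⟨Nat.prime_three⟩
  set C := Subgroup.centralizer (E : Set G) with hC
  have hCn : C.Normal := inferInstance
  set π := QuotientGroup.mk' C with hπdef
  have hπ : ∀ x, π x = 1 ↔ x ∈ C := fun x => QuotientGroup.eq_one_iff x
  have hπs : Function.Surjective π := QuotientGroup.mk'_surjective C
  have hE2 : IsPGroup 2 E := by
    intro ⟨v, hv⟩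
    refine ⟨1, Subtype.ext ?_⟩
    simpa [pow_two] using hEexp v hv
  -- Step 1: Baer–Suzuki modulo `C`
  have hBS : ∃ k : G, ∀ j : ℕ, (π (k * b * k⁻¹) * π b) ^ 2 ^ j ≠ 1 := by
    by_contra hcon
    push Not at hcon
    have haa : π b * π b = 1 := by
      rw [← map_mul, hπ, ← pow_two]; exact hb2
    have hpair : ∀ x ∈ Group.conjugatesOfSet ({π b} : Set (G ⧸ C)), ∀ y ∈ Group.conjugatesOfSet ({π b} : Set (G ⧸ C)),
        IsPGroup 2 (Subgroup.closure ({x, y} : Set (G ⧸ C))) := by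
      intro x hx y hy
      obtain ⟨x₀, hx₀, hxa⟩ := Group.mem_conjugatesOfSet_iff.mp hx
      obtain ⟨y₀, hy₀, hyb⟩ := Group.mem_conjugatesOfSet_iff.mp hy
      rw [Set.mem_singleton_iff] at hx₀ hy₀
      subst hx₀ hy₀
      obtain ⟨c₁, rfl⟩ := isConj_iff.mp hxa
      obtain ⟨c₂, rfl⟩ := isConj_iff.mp hyb
      obtain ⟨g₁, rfl⟩ := hπs c₁
      obtain ⟨g₂, rfl⟩ := hπs c₂
      obtain ⟨j, hj⟩ := hcon (g₁⁻¹ * g₂)
      have h1 : IsPGroup 2 (Subgroup.closure ({π b, π (g₁⁻¹ * g₂ * b * (g₁⁻¹ * g₂)⁻¹)} : Set (G ⧸ C))) := by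
        apply isPGroup_two_closure_pair _ _ haa _ j hj
        have : π (g₁⁻¹ * g₂ * b * (g₁⁻¹ * g₂)⁻¹) * π (g₁⁻¹ * g₂ * b * (g₁⁻¹ * g₂)⁻¹) =
            π (g₁⁻¹ * g₂) * (π b * π b) * (π (g₁⁻¹ * g₂))⁻¹ := by
          simp only [map_mul, map_inv]
          group
        rw [this, haa, mul_one, mul_inv_cancel]
      have h2 := h1.map (MulAut.conj (π g₁)).toMonoidHom
      refine h2.to_le ?_
      rw [Subgroup.closure_le]
      intro z hz
      rcases hz with rfl | rfl
      · exact ⟨π b, Subgroup.subset_closure (Set.mem_insert _ _), by simp⟩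
      · refine ⟨π (g₁⁻¹ * g₂ * b * (g₁⁻¹ * g₂)⁻¹),
          Subgroup.subset_closure (Set.mem_insert_of_mem _ (Set.mem_singleton _)), ?_⟩
        simp only [MulEquiv.toMonoidHom_eq_coe, MonoidHom.coe_coe, MulAut.conj_apply, map_mul, map_inv]
        group
    have hNp : IsPGroup 2 (Subgroup.normalClosure ({π b} : Set (G ⧸ C))) := by
      apply Cfsg.Agent.Lib.Helper96.isPGroup_closure_of_pairwise
      · intro k hk g
        exact Group.conj_mem_conjugatesOfSet hk
      · exact hpair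
    set D := (Subgroup.normalClosure ({π b} : Set (G ⧸ C))).comap π with hD
    have hDn : D.Normal := Subgroup.normalClosure_normal.comap π
    have hCD : C ≤ D := by
      intro c hc
      show π c ∈ Subgroup.normalClosure ({π b} : Set (G ⧸ C))
      rw [(hπ c).2 hc]
      exact one_mem _
    have hbD : b ∈ D := Subgroup.subset_normalClosure (Set.mem_singleton _)
    refine hO D hDn hCD ?_ hbD
    intro d hd
    obtain ⟨k, hk⟩ := hNp ⟨π d, hd⟩
    refine ⟨k, ?_⟩
    rw [← hπ, map_pow]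
    exact congrArg Subtype.val hk
  obtain ⟨k, hk⟩ := hBS
  set b₂ := k * b * k⁻¹ with hb₂
  set c := b₂ * b⁻¹ with hc
  have haa : π b * π b = 1 := by
    rw [← map_mul, hπ, ← pow_two]; exact hb2
  have hainv : (π b)⁻¹ = π b := inv_eq_of_mul_eq_one_left haa
  have ha'a' : π b₂ * π b₂ = 1 := by
    have : π b₂ * π b₂ = π k * (π b * π b) * (π k)⁻¹ := by
      rw [hb₂]
      simp only [map_mul, map_inv]
      group
    rw [this, haa, mul_one, mul_inv_cancel]
  have ha'inv : (π b₂)⁻¹ = π b₂ := inv_eq_of_mul_eq_one_left ha'a'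
  have hπc : π c = π b₂ * π b := by rw [hc, map_mul, map_inv, hainv]
  have hcinv : π b * π c * (π b)⁻¹ = (π c)⁻¹ := by
    rw [hπc, mul_inv_rev, hainv, ha'inv]
    calc π b * (π b₂ * π b) * π b = π b * π b₂ * (π b * π b) := by group
      _ = π b * π b₂ := by rw [haa, mul_one]
  -- Step 2: the odd part
  obtain ⟨j, m, hm, hjm⟩ := Nat.exists_eq_two_pow_mul_odd (orderOf_pos c).ne'
  set q₀ := c ^ 2 ^ j with hq₀
  have hq₀m : q₀ ^ m = 1 := by
    rw [hq₀, ← pow_mul, ← hjm, pow_orderOf_eq_one]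
  have hq₀odd : Nat.Coprime 2 (orderOf q₀) :=
    Nat.Coprime.coprime_dvd_right (orderOf_dvd_of_pow_eq_one hq₀m) (Nat.coprime_two_left.mpr hm)
  have hq₀C : q₀ ∉ C := by
    intro h
    apply hk j
    rw [← hπc, ← map_pow, hπ]
    exact h
  have hq₀inv : π b * π q₀ * (π b)⁻¹ = (π q₀)⁻¹ := by
    rw [hq₀, map_pow, ← conj_pow, hcinv, inv_pow]
  -- Step 3: coprime action
  set Q := Subgroup.zpowers q₀ with hQdef
  have hQE : Q ≤ Subgroup.normalizer (E : Set G) := by
    rw [Subgroup.normalizer_eq_top]; exact le_top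
  obtain ⟨e, he⟩ := hE2.exists_card_eq
  have hcopQE : (Nat.card Q).Coprime (Nat.card E) := by
    rw [Nat.card_zpowers, he]
    exact Nat.Coprime.pow_right e hq₀odd.symm
  obtain ⟨hdis, hsup⟩ := Cfsg.Agent.S0055.result Q E hQE hcopQE
  set C₀ := E ⊓ Subgroup.centralizer (Q : Set G) with hC₀def
  set W := ⁅E, Q⁆ with hWdef
  have hWE : W ≤ E := Subgroup.commutator_le_left E Q
  set D₁ := E ⊓ Subgroup.centralizer ({b} : Set G) with hD₁
  set D₂ := E ⊓ Subgroup.centralizer ({b₂} : Set G) with hD₂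
  have hDC : D₁ ⊓ D₂ ≤ C₀ := by
    intro v hv
    have hvE : v ∈ E := hv.1.1
    have hvb : Commute b v := (Subgroup.mem_centralizer_singleton_iff.mp hv.1.2).symm
    have hvb₂ : Commute b₂ v := (Subgroup.mem_centralizer_singleton_iff.mp hv.2.2).symm
    have hvc : Commute c v := by
      rw [hc]
      exact hvb₂.mul_left hvb.inv_left
    have hvq : Commute q₀ v := hvc.pow_left _
    refine ⟨hvE, ?_⟩
    show v ∈ Subgroup.centralizer ((Subgroup.zpowers q₀ : Subgroup G) : Set G)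
    rw [Subgroup.mem_centralizer_iff]
    intro x hx
    obtain ⟨i, rfl⟩ := Subgroup.mem_zpowers_iff.mp hx
    exact (hvq.zpow_left i).eq
  have hD₂card : Nat.card D₂ = Nat.card D₁ := by
    have hmap : D₁.map (MulAut.conj k).toMonoidHom = D₂ := by
      ext x
      constructor
      · rintro ⟨v, hv, rfl⟩
        refine ⟨hEn.conj_mem v hv.1 k, ?_⟩
        show (k * v * k⁻¹) ∈ Subgroup.centralizer ({b₂} : Set G)
        rw [Subgroup.mem_centralizer_singleton_iff]
        have hvb : b * v = v * b := (Subgroup.mem_centralizer_singleton_iff.mp hv.2).symm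
        symm
        rw [hb₂]
        calc k * b * k⁻¹ * (k * v * k⁻¹) = k * (b * v) * k⁻¹ := by group
          _ = k * (v * b) * k⁻¹ := by rw [hvb]
          _ = k * v * k⁻¹ * (k * b * k⁻¹) := by group
      · intro hx
        refine ⟨k⁻¹ * x * k, ⟨?_, ?_⟩, ?_⟩
        · have := hEn.conj_mem x hx.1 k⁻¹
          simpa using this
        · show k⁻¹ * x * k ∈ Subgroup.centralizer ({b} : Set G)
          rw [Subgroup.mem_centralizer_singleton_iff]
          have hxb : b₂ * x = x * b₂ := (Subgroup.mem_centralizer_singleton_iff.mp hx.2).symm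
          rw [hb₂] at hxb
          symm
          calc b * (k⁻¹ * x * k) = k⁻¹ * (k * b * k⁻¹ * x) * k := by group
            _ = k⁻¹ * (x * (k * b * k⁻¹)) * k := by rw [hxb]
            _ = k⁻¹ * x * k * b := by group
        · show k * (k⁻¹ * x * k) * k⁻¹ = x
          group
    rw [← hmap]
    exact Subgroup.card_map_of_injective (MulAut.conj k).injective
  have hcardW : Nat.card W ≤ 4 := by
    have e1 := Cfsg.Agent.Lib.Helper97.card_mul_card_le_sup_mul_inf D₁ D₂
    have e2 : Nat.card (D₁ ⊔ D₂ : Subgroup G) ≤ Nat.card E :=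
      Subgroup.card_le_of_le (sup_le inf_le_left inf_le_left)
    have e3 : Nat.card (D₁ ⊓ D₂ : Subgroup G) ≤ Nat.card C₀ := Subgroup.card_le_of_le hDC
    have e4 := Cfsg.Agent.Lib.Helper97.card_mul_card_le_sup_mul_inf C₀ W
    rw [hsup, hdis, Subgroup.card_bot, mul_one] at e4
    rw [hD₂card] at e1
    have hEpos : 0 < Nat.card E := Nat.card_pos
    have hCpos : 0 < Nat.card C₀ := Nat.card_pos
    have e5 : Nat.card E * Nat.card E ≤ 4 * (Nat.card D₁ * Nat.card D₁) := by nlinarith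
    have e6 : Nat.card D₁ * Nat.card D₁ ≤ Nat.card E * Nat.card C₀ :=
      e1.trans (Nat.mul_le_mul e2 e3)
    have e7 : Nat.card E * Nat.card E ≤ Nat.card E * (4 * Nat.card C₀) := by nlinarith
    have e8 : Nat.card E ≤ 4 * Nat.card C₀ := Nat.le_of_mul_le_mul_left e7 hEpos
    have e9 : Nat.card C₀ * Nat.card W ≤ Nat.card C₀ * 4 := by nlinarith
    exact Nat.le_of_mul_le_mul_left e9 hCpos
  have hfix : ∀ w ∈ W, q₀ * w = w * q₀ → w = 1 := by
    intro w hw hqw
    have h1 : w ∈ C₀ ⊓ W := by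
      refine ⟨⟨hWE hw, ?_⟩, hw⟩
      show w ∈ Subgroup.centralizer ((Subgroup.zpowers q₀ : Subgroup G) : Set G)
      rw [Subgroup.mem_centralizer_iff]
      intro x hx
      obtain ⟨i, rfl⟩ := Subgroup.mem_zpowers_iff.mp hx
      have h1 : Commute q₀ w := hqw
      exact (h1.zpow_left i).eq
    rw [hdis, Subgroup.mem_bot] at h1
    exact h1
  have hQNW : Q ≤ Subgroup.normalizer (W : Set G) := Subgroup.normalizer_commutator_ge_right E Q
  have hqNW : q₀ ∈ Subgroup.normalizer (W : Set G) := hQNW (Subgroup.mem_zpowers q₀)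
  have hWne : W ≠ ⊥ := by
    intro hbot
    rw [hbot, sup_bot_eq] at hsup
    apply hq₀C
    rw [hC, Subgroup.mem_centralizer_iff]
    intro v hv
    have hvC : v ∈ C₀ := by rw [hsup]; exact hv
    exact (Subgroup.mem_centralizer_iff.mp hvC.2 q₀ (Subgroup.mem_zpowers q₀)).symm
  have hW4 : Nat.card W = 4 := by
    have hW2 : IsPGroup 2 W := hE2.to_le hWE
    obtain ⟨e', he'⟩ := hW2.exists_card_eq
    have hne1 : Nat.card W ≠ 1 := by
      intro h
      exact hWne (Subgroup.card_eq_one.mp h)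
    have hne2 : Nat.card W ≠ 2 := by
      intro h
      obtain ⟨w, hw, hw1⟩ : ∃ w, w ∈ W ∧ w ≠ 1 := by
        by_contra hcon
        apply hWne
        rw [eq_bot_iff]
        intro w hw
        rw [Subgroup.mem_bot]
        by_contra hw1
        exact hcon ⟨w, hw, hw1⟩
      have hw' : q₀ * w * q₀⁻¹ ∈ W := (Subgroup.mem_normalizer_iff.mp hqNW w).mp hw
      have hw'1 : q₀ * w * q₀⁻¹ ≠ 1 := by
        intro h1
        apply hw1
        calc w = q₀⁻¹ * (q₀ * w * q₀⁻¹) * q₀ := by group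
          _ = 1 := by rw [h1]; group
      have heq := eq_of_mem_of_card_two W h hw' hw hw'1 hw1
      apply hw1
      apply hfix w hw
      calc q₀ * w = q₀ * w * q₀⁻¹ * q₀ := by group
        _ = w * q₀ := by rw [heq]
    rw [he'] at hcardW hne1 hne2 ⊢
    rcases e' with _ | _ | _ | e'
    · simp at hne1
    · simp at hne2
    · norm_num
    · exfalso
      have h8 : 2 ^ (e' + 1 + 1 + 1) = 8 * 2 ^ e' := by ring
      have h1 : 1 ≤ 2 ^ e' := Nat.one_le_two_pow
      rw [h8] at hcardW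
      omega
  have hq3W : q₀ ^ 3 ∈ Subgroup.centralizer (W : Set G) :=
    Cfsg.Agent.Lib.Helper47.cube_mem_centralizer_of_card_four W hW4 q₀ hqNW hq₀odd hfix
  have hq3C : q₀ ^ 3 ∈ C := by
    have hCle : C₀ ≤ Subgroup.centralizer ({q₀ ^ 3} : Set G) := by
      intro v hv
      rw [Subgroup.mem_centralizer_singleton_iff]
      have : Commute q₀ v := (Subgroup.mem_centralizer_iff.mp hv.2 q₀ (Subgroup.mem_zpowers q₀))
      exact (this.pow_left 3).eq.symm
    have hWle : W ≤ Subgroup.centralizer ({q₀ ^ 3} : Set G) := by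
      intro w hw
      rw [Subgroup.mem_centralizer_singleton_iff]
      exact (Subgroup.mem_centralizer_iff.mp hq3W w hw)
    have hEle : E ≤ Subgroup.centralizer ({q₀ ^ 3} : Set G) := by
      rw [← hsup]; exact sup_le hCle hWle
    rw [hC, Subgroup.mem_centralizer_iff]
    intro v hv
    exact (Subgroup.mem_centralizer_singleton_iff.mp (hEle hv))
  -- Step 4: the 3-part
  obtain ⟨k₃, m₃, hm₃, hkm₃⟩ := Nat.exists_eq_pow_mul_and_not_dvd (orderOf_pos q₀).ne' 3 (by norm_num)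
  set q := q₀ ^ m₃ with hq
  have hqpow : q ^ 3 ^ k₃ = 1 := by
    rw [hq, ← pow_mul, mul_comm, ← hkm₃, pow_orderOf_eq_one]
  have hqo : ∃ i : ℕ, orderOf q = 3 ^ i := by
    obtain ⟨i, -, hi⟩ := (Nat.dvd_prime_pow Nat.prime_three).1 (orderOf_dvd_of_pow_eq_one hqpow)
    exact ⟨i, hi⟩
  have hπq₀3 : π q₀ ^ 3 = 1 := by rw [← map_pow, hπ]; exact hq3C
  have hπq₀1 : π q₀ ≠ 1 := fun h => hq₀C ((hπ q₀).1 h)
  have hπq1 : π q ≠ 1 := by
    intro h
    rw [hq, map_pow] at h
    have h1 : orderOf (π q₀) ∣ m₃ := orderOf_dvd_of_pow_eq_one h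
    have h2 : orderOf (π q₀) = 3 := orderOf_eq_prime hπq₀3 hπq₀1
    rw [h2] at h1
    exact hm₃ h1
  have hπq3 : π q ^ 3 = 1 := by
    rw [hq, map_pow, ← pow_mul, mul_comm, pow_mul, hπq₀3, one_pow]
  have hqinv : π b * π q * (π b)⁻¹ = (π q)⁻¹ := by
    rw [hq, map_pow, ← conj_pow, hq₀inv, inv_pow]
  -- Step 5: lifting
  set H₀ := (Subgroup.normalizer ((Subgroup.zpowers (π q) : Subgroup (G ⧸ C)) : Set (G ⧸ C))).comap π with hH₀
  have hqH : q ∈ H₀ := by
    show π q ∈ Subgroup.normalizer _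
    exact Subgroup.le_normalizer (Subgroup.mem_zpowers _)
  have hbH : b ∈ H₀ := by
    show π b ∈ Subgroup.normalizer _
    rw [Subgroup.mem_normalizer_iff_map_conj_eq, MonoidHom.map_zpowers]
    show Subgroup.zpowers (π b * π q * (π b)⁻¹) = Subgroup.zpowers (π q)
    rw [hqinv, Subgroup.zpowers_inv]
  set ψ : ↥H₀ →* G ⧸ C := π.comp H₀.subtype with hψ
  obtain ⟨x, y, hx, hy, hinvxy, hψx⟩ := exists_inverting_pair_of_hom ψ ⟨q, hqH⟩ ⟨b, hbH⟩
    (by
      obtain ⟨i, hi⟩ := hqo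
      exact ⟨i, by rw [Subgroup.orderOf_mk, hi]⟩)
    hπq1 hπq3 hqinv
    (by
      intro h
      have hh : π (h : G) ∈ Subgroup.normalizer ((Subgroup.zpowers (π q) : Subgroup (G ⧸ C)) : Set (G ⧸ C)) := h.2
      exact (Subgroup.mem_normalizer_iff.mp hh (π q)).mp (Subgroup.mem_zpowers _))
  -- Step 6: conclusion
  have hN : ∀ g : G, g ∈ Subgroup.normalizer (E : Set G) := by
    intro g
    rw [Subgroup.normalizer_eq_top]
    exact Subgroup.mem_top g
  have hxo : ∃ i : ℕ, orderOf (x : G) = 3 ^ i := by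
    obtain ⟨i, hi⟩ := hx
    exact ⟨i, by rw [Subgroup.orderOf_coe, hi]⟩
  have hyo : ∃ i : ℕ, orderOf (y : G) = 2 ^ i := by
    obtain ⟨i, hi⟩ := hy
    exact ⟨i, by rw [Subgroup.orderOf_coe, hi]⟩
  have hinvG : (y : G) * (x : G) * (y : G)⁻¹ = (x : G)⁻¹ := by
    have := congrArg Subtype.val hinvxy
    simpa using this
  have hxC : (x : G) ∉ Subgroup.centralizer (E : Set G) := by
    intro h
    apply hψx
    show π (x : G) = 1
    rw [hπ]
    exact h
  obtain ⟨x', hx'N, hx', hinv', hx3, hx'V⟩ :=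
    Cfsg.Agent.Lib.Helper99.S4Inv.exists_pow_reduction E (x : G) (y : G) hxo hinvG (hN _) hxC
  exact Cfsg.Agent.Lib.Helper99.S4Inv.involves_of_two_subgroup (Nat.card E) E rfl hE2 x' (y : G) hx'N (hN _)
    hx' hyo hinv' hx3 hx'V

end Cfsg.Agent.Lib.Helper85
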