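import Mathlib
import Cfsg.Agent.Lib.Helper85.GlaubTrace
import Cfsg.Agent.Lib.Helper85.GlaubTransv
import Cfsg.Agent.Lib.Helper47.ThompsonATwoAux

/-!
helper85: a minimal offender `B` (inside a quadratically acting abelian subgroup `A`) on an elementary abelian normal
`2`-subgroup `E` of an `S₄`-free group is `Good`: it acts quadratically and no element of `E` has a centralizer of index `2` in `B`.
-/

set_option autoImplicit false
set_option linter.unusedSectionVars false
set_option linter.style.haveILetI false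

namespace Cfsg.Agent.Lib.Helper85

open Cfsg
open scoped commutatorElement

/-- the commutative group structure on a commutative subgroup -/
@[reducible] def commGroupOfComm {G : Type*} [Group G] (E : Subgroup G)
    (h : ∀ a ∈ E, ∀ b ∈ E, a * b = b * a) : CommGroup ↥E :=
  { (inferInstance : Group ↥E) with mul_comm := fun a b => Subtype.ext (h a a.2 b b.2) }

theorem conjNormal_eq_iff {G : Type*} [Group G] (E : Subgroup G) [E.Normal] (b : G) (v : ↥E) :
    (MulAut.conjNormal b : MulAut ↥E) v = v ↔ b * (v : G) = (v : G) * b := by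
  constructor
  · intro h
    have h1 := congrArg Subtype.val h
    rw [MulAut.conjNormal_apply] at h1
    calc b * (v : G) = b * (v : G) * b⁻¹ * b := by group
      _ = (v : G) * b := by rw [h1]
  · intro h
    apply Subtype.ext
    rw [MulAut.conjNormal_apply, h]
    group

theorem two_mul_card_le_of_lt {G : Type*} [Group G] [Finite G] {H K : Subgroup G} (h : H < K) :
    2 * Nat.card H ≤ Nat.card K := by
  obtain ⟨m, hm⟩ := Subgroup.card_dvd_of_le h.le
  have hHpos : 0 < Nat.card H := Nat.card_pos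
  have hKpos : 0 < Nat.card K := Nat.card_pos
  rcases m with _ | _ | m
  · rw [hm] at hKpos; simp at hKpos
  · exfalso
    rw [zero_add, mul_one] at hm
    exact h.ne (Subgroup.eq_of_le_of_card_ge h.le hm.le)
  · rw [hm]
    nlinarith

theorem good_of_minimal_offender {G : Type*} [Group G] [Finite G] (hS4 : ¬ Involves (Equiv.Perm (Fin 4)) G)
    (E : Subgroup G) [hEn : E.Normal] (hEcomm : ∀ a ∈ E, ∀ b ∈ E, a * b = b * a) (hEexp : ∀ v ∈ E, v * v = 1)
    (A B : Subgroup G) (hAcomm : ∀ a ∈ A, ∀ b ∈ A, a * b = b * a)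
    (hquadA : ⁅⁅E, A⁆, A⁆ = ⊥) (hBA : B ≤ A)
    (hoff : Nat.card ↥(B ⊓ Subgroup.centralizer (E : Set G)) * Nat.card E ≤
      Nat.card B * Nat.card ↥(E ⊓ Subgroup.centralizer (B : Set G)))
    (hmin : ∀ B₁ : Subgroup G, B₁ < B → ¬ B₁ ≤ Subgroup.centralizer (E : Set G) →
      Nat.card B₁ * Nat.card ↥(E ⊓ Subgroup.centralizer (B₁ : Set G)) <
        Nat.card ↥(B₁ ⊓ Subgroup.centralizer (E : Set G)) * Nat.card E)
    (hO : ∀ b ∈ B, b ∉ Subgroup.centralizer (E : Set G) → ∀ D : Subgroup G, D.Normal →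
      Subgroup.centralizer (E : Set G) ≤ D →
      (∀ d ∈ D, ∃ k : ℕ, d ^ 2 ^ k ∈ Subgroup.centralizer (E : Set G)) → b ∉ D) :
    @Good G _ ↥E (commGroupOfComm E hEcomm) (MulAut.conjNormal : G →* MulAut ↥E) B := by
  classical
  letI : CommGroup ↥E := commGroupOfComm E hEcomm
  set C := Subgroup.centralizer (E : Set G) with hC
  have hcent : ⁅E, A⁆ ≤ Subgroup.centralizer (A : Set G) :=
    Subgroup.commutator_eq_bot_iff_le_centralizer.1 hquadA
  refine ⟨?_, ?_⟩
  · intro v b hb b' hb'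
    apply Subtype.ext
    have hw : ⁅((v : G))⁻¹, b⁆ ∈ ⁅E, A⁆ :=
      Subgroup.commutator_mem_commutator (E.inv_mem v.2) (hBA hb)
    have hb'w := Subgroup.mem_centralizer_iff.1 (hcent hw) b' (hBA hb')
    rw [commutatorElement_def, inv_inv] at hb'w
    rw [MulAut.conjNormal_apply]
    show b' * ((v : G)⁻¹ * (((MulAut.conjNormal b : MulAut ↥E) v : ↥E) : G)) * b'⁻¹ =
      (v : G)⁻¹ * (((MulAut.conjNormal b : MulAut ↥E) v : ↥E) : G)
    rw [MulAut.conjNormal_apply]
    have e : (v : G)⁻¹ * (b * (v : G) * b⁻¹) = (v : G)⁻¹ * b * (v : G) * b⁻¹ := by group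
    rw [e, hb'w]
    group
  · intro v b₀ hb₀ hcov
    by_contra hnot
    push Not at hnot
    obtain ⟨bs, hbs, hbsv⟩ := hnot
    set B₁ := B ⊓ Subgroup.centralizer ({(v : G)} : Set G) with hB₁
    have hmemB₁ : ∀ b : G, b ∈ B₁ ↔ b ∈ B ∧ b * (v : G) = (v : G) * b := by
      intro b
      rw [hB₁, Subgroup.mem_inf, Subgroup.mem_centralizer_singleton_iff]
    have hcov' : ∀ b ∈ B, b ∈ B₁ ∨ b₀ * b ∈ B₁ := by
      intro b hb
      rcases hcov b hb with h | h
      · left
        exact (hmemB₁ b).2 ⟨hb, (conjNormal_eq_iff E b v).1 h⟩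
      · right
        exact (hmemB₁ _).2 ⟨B.mul_mem hb₀ hb, (conjNormal_eq_iff E _ v).1 h⟩
    have hbsB₁ : bs ∉ B₁ := by
      intro h
      exact hbsv ((conjNormal_eq_iff E bs v).2 ((hmemB₁ bs).1 h).2)
    have hB₁le : B₁ ≤ B := inf_le_left
    have hB₁lt : B₁ < B := lt_of_le_of_ne hB₁le (fun h => hbsB₁ (h ▸ hbs))
    have hb₀B₁ : b₀ ∉ B₁ := by
      intro h
      apply hbsB₁
      rcases hcov' bs hbs with h1 | h1
      · exact h1
      · have := B₁.mul_mem (B₁.inv_mem h) h1
        rwa [inv_mul_cancel_left] at this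
    have hidx : (B₁.subgroupOf B).index = 2 := by
      rw [Subgroup.index_eq_two_iff]
      refine ⟨⟨b₀, hb₀⟩, fun b => ?_⟩
      by_cases hb : b ∈ B₁.subgroupOf B
      · refine Or.inr ⟨hb, fun h => hb₀B₁ ?_⟩
        have h1 : (b : G) ∈ B₁ := Subgroup.mem_subgroupOf.1 hb
        have h2 : (b : G) * b₀ ∈ B₁ := Subgroup.mem_subgroupOf.1 h
        have := B₁.mul_mem (B₁.inv_mem h1) h2
        rwa [inv_mul_cancel_left] at this
      · refine Or.inl ⟨?_, hb⟩
        rw [Subgroup.mem_subgroupOf]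
        show (b : G) * b₀ ∈ B₁
        rcases hcov' b b.2 with h1 | h1
        · exact absurd (Subgroup.mem_subgroupOf.2 h1) hb
        · rw [hAcomm _ (hBA b.2) _ (hBA hb₀)]
          exact h1
    have hcardB : Nat.card B = 2 * Nat.card B₁ := by
      have h1 := Subgroup.card_mul_index (B₁.subgroupOf B)
      rw [hidx, Nat.card_congr (Subgroup.subgroupOfEquivOfLe hB₁le).toEquiv] at h1
      omega
    have hBC₁ : B ⊓ C ≤ B₁ := by
      intro c hc
      rw [hmemB₁]
      exact ⟨hc.1, Subgroup.mem_centralizer_iff.1 hc.2 (v : G) v.2 |>.symm⟩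
    have hvB : (v : G) ∉ E ⊓ Subgroup.centralizer (B : Set G) := by
      intro h
      apply hbsv
      rw [conjNormal_eq_iff]
      exact (Subgroup.mem_centralizer_iff.1 h.2 bs hbs)
    have hvB₁ : (v : G) ∈ E ⊓ Subgroup.centralizer (B₁ : Set G) := by
      refine Subgroup.mem_inf.2 ⟨v.2, ?_⟩
      rw [Subgroup.mem_centralizer_iff]
      intro b hb
      exact ((hmemB₁ b).1 hb).2
    have hB₁pos : 0 < Nat.card B₁ := Nat.card_pos
    by_cases hB₁C : B₁ ≤ C
    · -- transvection
      have hB₁eq : B ⊓ C = B₁ := le_antisymm hBC₁ (le_inf hB₁le hB₁C)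
      rw [hB₁eq, hcardB] at hoff
      have h1 : Nat.card E ≤ 2 * Nat.card ↥(E ⊓ Subgroup.centralizer (B : Set G)) := by
        have : Nat.card B₁ * Nat.card E ≤ Nat.card B₁ * (2 * Nat.card ↥(E ⊓ Subgroup.centralizer (B : Set G))) := by
          calc Nat.card B₁ * Nat.card E ≤ 2 * Nat.card B₁ * Nat.card ↥(E ⊓ Subgroup.centralizer (B : Set G)) := hoff
            _ = Nat.card B₁ * (2 * Nat.card ↥(E ⊓ Subgroup.centralizer (B : Set G))) := by ring
        exact Nat.le_of_mul_le_mul_left this hB₁pos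
      have h2 : Nat.card ↥(E ⊓ Subgroup.centralizer (B : Set G)) ≤
          Nat.card ↥(E ⊓ Subgroup.centralizer ({b₀} : Set G)) :=
        Subgroup.card_le_of_le (inf_le_inf_left E (Subgroup.centralizer_le (Set.singleton_subset_iff.2 hb₀)))
      have hb₀C : b₀ ∉ C := fun h => hb₀B₁ (hBC₁ ⟨hb₀, h⟩)
      have hb₀sq : b₀ ^ 2 ∈ C :=
        Cfsg.Agent.Lib.Helper47.sq_mem_centralizer_of_quadratic
          (fun w hw => by rw [pow_two]; exact hEexp w hw) hquadA (hBA hb₀)
      exact hS4 (involves_perm_four_of_transvection_gen E ⟨⟨fun a b => Subtype.ext (hEcomm a a.2 b b.2)⟩⟩ hEexp b₀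
        hb₀sq (by omega) (hO b₀ hb₀ hb₀C))
    · have h1 := hmin B₁ hB₁lt hB₁C
      have hB₁eq : B₁ ⊓ C = B ⊓ C := le_antisymm (inf_le_inf_right C hB₁le) (le_inf hBC₁ inf_le_right)
      rw [hB₁eq] at h1
      have hlt : E ⊓ Subgroup.centralizer (B : Set G) < E ⊓ Subgroup.centralizer (B₁ : Set G) := by
        refine lt_of_le_of_ne (inf_le_inf_left E (Subgroup.centralizer_le hB₁le)) ?_
        intro h
        exact hvB (h ▸ hvB₁)
      have h2 := two_mul_card_le_of_lt hlt
      rw [hcardB] at hoff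
      nlinarith

end Cfsg.Agent.Lib.Helper85
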