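import Mathlib
import Cfsg.Agent.Lib.Helper85.GlaubTrace
import Cfsg.Agent.Lib.Helper85.GlaubOffender
import Cfsg.Agent.Lib.Helper85.GlaubAux
import Cfsg.Agent.Lib.Helper85.GlaubKill
import Cfsg.Agent.Lib.Helper47.ThompsonALocal
import Cfsg.Agent.Lib.Helper47.ThompsonATwoAux

/-!
helper85: the final configuration of Glauberman's weak closure theorem for the (abelian version) Thompson subgroup in an
`S₄`-free group, prime `2` (`thompson_kill`).
-/

set_option autoImplicit false
set_option linter.unusedSectionVars false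
set_option linter.style.haveILetI false
set_option maxHeartbeats 1600000

universe u

namespace Cfsg.Agent.Lib.Helper85

open Cfsg Cfsg.Agent.Lib.Helper33 Cfsg.Agent.Lib.Helper47
open scoped commutatorElement

theorem thompson_kill {G : Type u} [Group G] [Finite G] (hS4 : ¬ Involves (Equiv.Perm (Fin 4)) G)
    (S : Sylow 2 G) (x : G)
    (hxZP : x ∈ Cfsg.pCore 2 G ⊓ Subgroup.centralizer ((Cfsg.pCore 2 G : Subgroup G) : Set G))
    (hxC : x ∈ Subgroup.centralizer ((S : Subgroup G) : Set G))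
    (hxN : Subgroup.normalizer ((thompsonSubgroupAOf (S : Subgroup G) : Subgroup G) : Set G) ≤
      Subgroup.centralizer ({x} : Set G))
    (hMmax : ∀ H : Subgroup G, (S : Subgroup G) ≤ H → H ≠ ⊤ → H ≤ Subgroup.centralizer ({x} : Set G))
    (hsmall : ∀ y : G, y ∈ (S : Subgroup G) →
      Subgroup.normalizer ((thompsonSubgroupAOf (S : Subgroup G) : Subgroup G) : Set G) ≤
        Subgroup.centralizer ({y} : Set G) → orderOf y < orderOf x →
      ∀ h : G, h * y * h⁻¹ ∈ (S : Subgroup G) → h * y * h⁻¹ = y) :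
    ∀ g : G, g * x * g⁻¹ = x := by
  classical
  haveI : Fact (Nat.Prime 2) := ⟨Nat.prime_two⟩
  by_contra hcon
  push Not at hcon
  obtain ⟨g₁, hg₁⟩ := hcon
  set Q := Cfsg.pCore 2 G with hQ
  have hQn : Q.Normal := Cfsg.pCore_normal 2 G
  have hQS : Q ≤ (S : Subgroup G) := Cfsg.Agent.Lib.Helper76.pCore_le_sylow 2 S
  set ZP := Q ⊓ Subgroup.centralizer (Q : Set G) with hZP
  have hZPn : ZP.Normal := inferInstance
  have hZPcomm : ∀ a ∈ ZP, ∀ b ∈ ZP, a * b = b * a := fun a ha b hb =>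
    Subgroup.mem_centralizer_iff.1 hb.2 a ha.1
  set J := thompsonSubgroupAOf (S : Subgroup G) with hJ
  set M := Subgroup.centralizer ({x} : Set G) with hM
  have hmemM : ∀ g : G, g ∈ M ↔ g * x = x * g := fun g => Subgroup.mem_centralizer_singleton_iff
  have hSM : (S : Subgroup G) ≤ M := by
    intro s hs
    rw [hmemM]
    exact Subgroup.mem_centralizer_iff.1 hxC s hs
  have hMne : M ≠ ⊤ := by
    intro h
    apply hg₁
    have h1 : g₁ ∈ M := by rw [h]; exact Subgroup.mem_top _
    rw [(hmemM g₁).1 h1]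
    group
  have hxQ : x ∈ Q := hxZP.1
  have hxS : x ∈ (S : Subgroup G) := hQS hxQ
  -- `x²` is central
  have hx2 : ∀ g : G, g * (x * x) * g⁻¹ = x * x := by
    intro g
    by_cases hx1 : x = 1
    · rw [hx1]; group
    have hlt : orderOf (x * x) < orderOf x := by
      obtain ⟨k, hk⟩ := (IsPGroup.iff_orderOf.mp S.isPGroup') ⟨x, hxS⟩
      rw [Subgroup.orderOf_mk] at hk
      rcases k with _ | k
      · exfalso
        rw [pow_zero] at hk
        exact hx1 (orderOf_eq_one_iff.1 hk)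
      · rw [← pow_two, orderOf_pow' x two_ne_zero, hk]
        have h1 : Nat.gcd (2 ^ (k + 1)) 2 = 2 := Nat.gcd_eq_right (dvd_pow_self 2 (Nat.succ_ne_zero k))
        rw [h1, pow_succ, Nat.mul_div_cancel _ (by norm_num : 0 < 2)]
        have : 0 < 2 ^ k := Nat.two_pow_pos k
        omega
    have hN' : Subgroup.normalizer ((J : Subgroup G) : Set G) ≤ Subgroup.centralizer ({x * x} : Set G) := by
      intro n hn
      have h1 : Commute n x := (hmemM n).1 (hxN hn)
      rw [Subgroup.mem_centralizer_singleton_iff]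
      exact (h1.mul_right h1).eq
    exact hsmall (x * x) (Subgroup.mul_mem _ hxS hxS) hN' hlt g
      (hQS (hQn.conj_mem _ (Q.mul_mem hxQ hxQ) g))
  -- the cocycle
  set d : G → G := fun g => x⁻¹ * (g * x * g⁻¹) with hd
  have hdZ : ∀ g, d g ∈ ZP := fun g => ZP.mul_mem (ZP.inv_mem hxZP) (hZPn.conj_mem x hxZP g)
  have hdsq : ∀ g, d g * d g = 1 := by
    intro g
    have hc : Commute (g * x * g⁻¹) x⁻¹ := hZPcomm _ (hZPn.conj_mem x hxZP g) _ (ZP.inv_mem hxZP)
    have h1 : d g * d g = x⁻¹ * x⁻¹ * (g * x * g⁻¹ * (g * x * g⁻¹)) := hc.mul_mul_mul_comm _ _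
    have h2 : g * x * g⁻¹ * (g * x * g⁻¹) = g * (x * x) * g⁻¹ := by group
    rw [h1, h2, hx2 g]
    group
  have hdmul : ∀ h g : G, d (h * g) = d h * (h * d g * h⁻¹) := by
    intro h g
    simp only [hd]
    group
  have hd1 : ∀ g : G, d g = 1 ↔ g ∈ M := by
    intro g
    rw [hmemM]
    constructor
    · intro h
      have h1 : g * x * g⁻¹ = x := by
        have : x * d g = x := by rw [h, mul_one]
        simpa [hd] using this
      calc g * x = g * x * g⁻¹ * g := by group
        _ = x * g := by rw [h1]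
    · intro h
      simp only [hd]
      rw [h]
      group
  have hdM : ∀ g : G, ∀ m ∈ M, d (g * m) = d g := by
    intro g m hm
    rw [hdmul, (hd1 m).2 hm]
    group
  have hdinj : ∀ g g' : G, d g = d g' → g⁻¹ * g' ∈ M := by
    intro g g' h
    rw [← hd1]
    have h1 : d g' = d (g * (g⁻¹ * g')) := by rw [mul_inv_cancel_left]
    rw [h1, hdmul] at h
    have h2 : g * d (g⁻¹ * g') * g⁻¹ = 1 := by
      have := mul_left_cancel (a := d g) (b := 1) (c := g * d (g⁻¹ * g') * g⁻¹) (by rw [mul_one]; exact h)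
      exact this.symm
    calc d (g⁻¹ * g') = g⁻¹ * (g * d (g⁻¹ * g') * g⁻¹) * g := by group
      _ = 1 := by rw [h2]; group
  set E : Subgroup G := Subgroup.closure (Set.range d) with hE
  have hdE : ∀ g, d g ∈ E := fun g => Subgroup.subset_closure ⟨g, rfl⟩
  have hEZ : E ≤ ZP := (Subgroup.closure_le _).mpr (by rintro _ ⟨g, rfl⟩; exact hdZ g)
  have hEn : E.Normal := by
    have hcj : ∀ k : G, cj k E ≤ E := by
      intro k
      rw [hE, cj_closure, Subgroup.closure_le]
      rintro _ ⟨_, ⟨g, rfl⟩, rfl⟩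
      have e : k * d g * k⁻¹ = (d k)⁻¹ * d (k * g) := by rw [hdmul]; group
      show k * d g * k⁻¹ ∈ Subgroup.closure (Set.range d)
      rw [e]
      exact E.mul_mem (E.inv_mem (hdE k)) (hdE (k * g))
    exact ⟨fun e he k => hcj k (conj_mem_cj he)⟩
  have hEcomm : ∀ a ∈ E, ∀ b ∈ E, a * b = b * a := fun a ha b hb => hZPcomm a (hEZ ha) b (hEZ hb)
  have hEexp : ∀ v ∈ E, v * v = 1 := by
    let Ω₂ : Subgroup G :=
      { carrier := {v | v ∈ ZP ∧ v * v = 1}
        one_mem' := ⟨ZP.one_mem, by simp⟩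
        mul_mem' := by
          rintro a b ⟨ha, ha2⟩ ⟨hb, hb2⟩
          refine ⟨ZP.mul_mem ha hb, ?_⟩
          have hc : Commute b a := hZPcomm b hb a ha
          rw [hc.mul_mul_mul_comm, ha2, hb2, mul_one]
        inv_mem' := by
          rintro a ⟨ha, ha2⟩
          refine ⟨ZP.inv_mem ha, ?_⟩
          rw [← mul_inv_rev, ha2, inv_one] }
    have hle : E ≤ Ω₂ := (Subgroup.closure_le _).mpr (by
      rintro _ ⟨g, rfl⟩
      exact ⟨hdZ g, hdsq g⟩)
    intro v hv
    exact (hle hv).2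
  have hES : E ≤ (S : Subgroup G) := hEZ.trans (inf_le_left.trans hQS)
  have hE2 : IsPGroup 2 E := S.isPGroup'.to_le hES
  -- the centralizer of `E`
  set C := Subgroup.centralizer (E : Set G) with hC
  have hCn : C.Normal := inferInstance
  have hQC : Q ≤ C := by
    intro q hq
    rw [hC, Subgroup.mem_centralizer_iff]
    intro v hv
    exact (Subgroup.mem_centralizer_iff.1 (hEZ hv).2 q hq).symm
  have hCM : C ≤ M := by
    let φ : ↥C →* ↥E := MonoidHom.mk' (fun c => ⟨d c, hdE c⟩) (by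
      intro c c'
      apply Subtype.ext
      show d ((c : G) * (c' : G)) = d c * d c'
      rw [hdmul]
      congr 1
      have := Subgroup.mem_centralizer_iff.1 c.2 (d c') (hdE c')
      calc (c : G) * d c' * (c : G)⁻¹ = d c' * (c : G) * (c : G)⁻¹ := by rw [this]
        _ = d c' := by group)
    have hφ : ∀ c : ↥C, (φ c : G) = d c := fun c => rfl
    have hsyl : SylIn 2 ((S : Subgroup G) ⊓ C) C :=
      SylIn.inf_of_normal (sylIn_top S) le_top (by rw [Subgroup.normalizer_eq_top])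
    have hT : ¬ 2 ∣ (((S : Subgroup G) ⊓ C).subgroupOf C).index := hsyl.2.2
    have hTk : ((S : Subgroup G) ⊓ C).subgroupOf C ≤ φ.ker := by
      intro c hc
      rw [MonoidHom.mem_ker]
      apply Subtype.ext
      rw [hφ]
      exact (hd1 _).2 (hSM (Subgroup.mem_subgroupOf.1 hc).1)
    have hE2' : IsPGroup 2 ↥E := hE2
    have h1 := hom_trivial_of_odd_index_le_ker φ hE2' _ hT hTk
    intro c hc
    rw [← hd1]
    have := congrArg Subtype.val (h1 ⟨c, hc⟩)
    exact this
  -- normal subgroups inside `M` centralize `E`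
  have hNM : ∀ N : Subgroup G, N.Normal → N ≤ M → N ≤ C := by
    intro N hN hNM n hn
    rw [hC, Subgroup.mem_centralizer_iff]
    have hcomm : ∀ g : G, Commute n (g * x * g⁻¹) := by
      intro g
      have h1 : g⁻¹ * n * g⁻¹⁻¹ ∈ N := hN.conj_mem n hn g⁻¹
      have h2 : Commute (g⁻¹ * n * g⁻¹⁻¹) x := (hmemM _).1 (hNM h1)
      have h3 : g * (g⁻¹ * n * g⁻¹⁻¹ * x) * g⁻¹ = g * (x * (g⁻¹ * n * g⁻¹⁻¹)) * g⁻¹ := by rw [h2.eq]
      have e1 : g * (g⁻¹ * n * g⁻¹⁻¹ * x) * g⁻¹ = n * (g * x * g⁻¹) := by group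
      have e2 : g * (x * (g⁻¹ * n * g⁻¹⁻¹)) * g⁻¹ = g * x * g⁻¹ * n := by group
      rw [e1, e2] at h3
      exact h3
    have hle : E ≤ Subgroup.centralizer ({n} : Set G) := by
      rw [hE, Subgroup.closure_le]
      rintro _ ⟨g, rfl⟩
      rw [SetLike.mem_coe, Subgroup.mem_centralizer_singleton_iff]
      have h1 : Commute n x⁻¹ := by
        have := hcomm 1
        simp only [one_mul, inv_one, mul_one] at this
        exact this.inv_right
      exact ((h1.mul_right (hcomm g)).eq).symm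
    intro v hv
    exact Subgroup.mem_centralizer_singleton_iff.1 (hle hv)
  -- `J(S)` does not centralize `E`
  have hJC : ¬ J ≤ C := by
    intro hJC
    apply hMne
    rw [eq_top_iff]
    intro g _
    set T := (S : Subgroup G) ⊓ C with hT
    have hJT : thompsonSubgroupAOf T = J :=
      thompsonSubgroupAOf_eq_of_le_of_le inf_le_left (le_inf (thompsonSubgroupAOf_le' _) hJC)
    have hTp : IsPGroup 2 T := S.isPGroup'.to_le inf_le_left
    have hNT : Subgroup.normalizer (T : Set G) ≤ M := by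
      have h6 := Cfsg.Agent.Lib.Helper34.normalizer_le_normalizer_inducedFunctor
        (fun (Q : Type u) [Group Q] => thompsonSubgroupA Q) (isCharPFunctor_thompsonA 2) T hTp
      rw [inducedFunctor_thompsonA, hJT] at h6
      exact h6.trans hxN
    obtain ⟨n, hn, hng⟩ := exists_mul_mem_normalizer_inf S C g
    have h1 : n * g ∈ M := hNT hng
    have h2 : g = n⁻¹ * (n * g) := by group
    rw [h2]
    exact M.mul_mem (M.inv_mem (hCM hn)) h1
  -- the offender
  obtain ⟨A', hA', hA'C⟩ : ∃ A' ∈ maxAbIn (S : Subgroup G), ¬ A' ≤ C := by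
    by_contra hcon
    push Not at hcon
    exact hJC (thompsonSubgroupAOf_le_of_forall hcon)
  haveI : E.Normal := hEn
  have hEc : IsMulCommutative E := ⟨⟨fun a b => Subtype.ext (hEcomm a a.2 b b.2)⟩⟩
  obtain ⟨A, hA, hAC, -, hquadA⟩ := exists_quadratic_maxAbIn S E hEc hES ⟨A', hA', hA'C⟩
  have hAS : A ≤ (S : Subgroup G) := hA.1
  have hAcomm : ∀ a ∈ A, ∀ b ∈ A, a * b = b * a := by
    intro a ha b hb
    have h1 : A ≤ Subgroup.centralizer (A : Set G) :=
      (Cfsg.Agent.Lib.Helper50.isMulCommutative_iff_le_centralizer A).mp hA.2.1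
    exact (Subgroup.mem_centralizer_iff.mp (h1 hb) a ha)
  -- the minimal offender
  let 𝓕 : Set (Subgroup G) := {B | B ≤ A ∧ ¬ B ≤ C ∧ Nat.card ↥(B ⊓ C) * Nat.card E ≤
    Nat.card B * Nat.card ↥(E ⊓ Subgroup.centralizer (B : Set G))}
  have hA𝓕 : A ∈ 𝓕 := by
    refine ⟨le_rfl, hAC, ?_⟩
    have h1 := card_mul_card_cv_le_of_mem_maxAbIn (X := A ⊓ C) hA hES hEc inf_le_left
    have h2 : E ⊓ Subgroup.centralizer ((A ⊓ C : Subgroup G) : Set G) = E := by
      apply inf_of_le_left
      rw [← Subgroup.le_centralizer_iff]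
      exact inf_le_right
    rw [h2] at h1
    exact h1
  obtain ⟨B, hB𝓕, hBmin⟩ := Set.exists_min_image 𝓕 (fun B => Nat.card B) (Set.toFinite _) ⟨A, hA𝓕⟩
  obtain ⟨hBA, hBC, hoff⟩ := hB𝓕
  have hBS : B ≤ (S : Subgroup G) := hBA.trans hAS
  have hmin : ∀ B₁ : Subgroup G, B₁ < B → ¬ B₁ ≤ C →
      Nat.card B₁ * Nat.card ↥(E ⊓ Subgroup.centralizer (B₁ : Set G)) <
        Nat.card ↥(B₁ ⊓ C) * Nat.card E := by
    intro B₁ h1 h2
    by_contra h3
    have h4 : B₁ ∈ 𝓕 := ⟨h1.le.trans hBA, h2, not_lt.mp h3⟩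
    have h5 := hBmin B₁ h4
    have h6 : Nat.card B₁ < Nat.card B := card_lt_card_of_lt h1
    omega
  -- `O_2(G / C) = 1`
  have hO : ∀ b ∈ B, b ∉ C → ∀ D : Subgroup G, D.Normal → C ≤ D →
      (∀ d' ∈ D, ∃ k : ℕ, d' ^ 2 ^ k ∈ C) → b ∉ D := by
    intro b hb hbC D hDn hCD hD2 hbD
    by_cases hDM : D ≤ M
    · exact hbC (hNM D hDn hDM hbD)
    · -- `G = D S`
      have hDS : D ⊔ (S : Subgroup G) = ⊤ := by
        by_contra hne
        exact hDM (le_sup_left.trans (hMmax _ le_sup_right hne))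
      have hall : ∀ g : G, ∃ k : ℕ, g ^ 2 ^ k ∈ C := by
        intro g
        have hg : g ∈ D ⊔ (S : Subgroup G) := by rw [hDS]; exact Subgroup.mem_top g
        rw [Subgroup.mem_sup_of_normal_left] at hg
        obtain ⟨d', hd', s, hs, rfl⟩ := hg
        obtain ⟨a, ha⟩ := (IsPGroup.iff_orderOf.mp S.isPGroup') ⟨s, hs⟩
        rw [Subgroup.orderOf_mk] at ha
        have h1 : (d' * s) ^ 2 ^ a ∈ D := by
          rw [← QuotientGroup.eq_one_iff, QuotientGroup.mk_pow, QuotientGroup.mk_mul,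
            (QuotientGroup.eq_one_iff d').2 hd', one_mul, ← QuotientGroup.mk_pow, ← ha, pow_orderOf_eq_one]
          rfl
        obtain ⟨k, hk⟩ := hD2 _ h1
        exact ⟨a + k, by rw [pow_add, pow_mul]; exact hk⟩
      have hCS : C ⊔ (S : Subgroup G) = ⊤ := by
        rw [← Subgroup.index_eq_one]
        have hq : IsPGroup 2 (G ⧸ C) := by
          intro y
          obtain ⟨g, rfl⟩ := QuotientGroup.mk_surjective y
          obtain ⟨k, hk⟩ := hall g
          exact ⟨k, by rw [← QuotientGroup.mk_pow]; exact (QuotientGroup.eq_one_iff _).2 hk⟩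
        obtain ⟨e, he⟩ := IsPGroup.iff_card.mp hq
        have h1 : (C ⊔ (S : Subgroup G)).index ∣ 2 ^ e := by
          rw [← he, ← Subgroup.index_eq_card]
          exact Subgroup.index_dvd_of_le le_sup_left
        have h2 : (C ⊔ (S : Subgroup G)).index ∣ (S : Subgroup G).index := Subgroup.index_dvd_of_le le_sup_right
        obtain ⟨j, -, hj⟩ := (Nat.dvd_prime_pow Nat.prime_two).mp h1
        rcases j with _ | j
        · simpa using hj
        · exfalso
          apply S.not_dvd_index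
          refine dvd_trans ?_ h2
          rw [hj, pow_succ]
          exact dvd_mul_left 2 _
      apply hMne
      rw [eq_top_iff, ← hCS]
      exact sup_le hCM hSM
  -- the trace argument
  have hgood := good_of_minimal_offender hS4 E hEcomm hEexp A B hAcomm hquadA hBA hoff hmin hO
  letI : CommGroup ↥E := commGroupOfComm E hEcomm
  have hexp' : ∀ v : ↥E, v * v = 1 := fun v => Subtype.ext (hEexp v v.2)
  have hBN : ∀ N : Subgroup G, N.Normal → IsPGroup 2 N → ¬ B ≤ N := by
    intro N hN hNp hBN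
    exact hBC (hBN.trans ((Cfsg.Agent.Lib.Helper76.le_pCore 2 N hN hNp).trans hQC))
  have key := cocycle_trivial_of_good S M hSM hMmax hexp' (MulAut.conjNormal : G →* MulAut ↥E)
    (fun g => ⟨d g, hdE g⟩)
    (fun g m hm => Subtype.ext (hdM g m hm))
    (fun g g' h => hdinj g g' (congrArg Subtype.val h))
    (fun h g => by
      apply Subtype.ext
      show d (h * g) = d h * ((MulAut.conjNormal h : MulAut ↥E) ⟨d g, hdE g⟩ : ↥E)
      rw [MulAut.conjNormal_apply]
      exact hdmul h g)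
    B hBS hBN hgood g₁
  apply hg₁
  have h1 : d g₁ = 1 := congrArg Subtype.val key
  have h2 : g₁ ∈ M := (hd1 g₁).1 h1
  rw [(hmemM g₁).1 h2]
  group

end Cfsg.Agent.Lib.Helper85
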