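import Mathlib
import Cfsg.Agent.Lib.Helper85.GlaubMain
import Cfsg.Agent.S1973
import Cfsg.Agent.Lib.Helper88.Involves

/-!
helper85: Glauberman's weak closure theorem for `Z(N_G(J(S)))`, prime `2`, in an `S₄`-free group
(`J` the abelian version of the Thompson subgroup): every element of a Sylow `2`-subgroup `S` which is central in `N_G(J(S))` is
weakly closed in `S` with respect to `G`.
-/

set_option autoImplicit false
set_option linter.unusedSectionVars false
set_option linter.style.haveILetI false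
set_option maxHeartbeats 800000

universe u

namespace Cfsg.Agent.Lib.Helper85

open Cfsg Cfsg.Agent.Lib.Helper33 Cfsg.Agent.Lib.Helper47

theorem zc_le_thompsonSubgroupAOf {G : Type*} [Group G] [Finite G] (P : Subgroup G) :
    P ⊓ Subgroup.centralizer (P : Set G) ≤ thompsonSubgroupAOf P := by
  obtain ⟨A₀, hA₀⟩ := maxAbIn_nonempty P
  have hcomm : IsMulCommutative ↥(P ⊓ Subgroup.centralizer (P : Set G)) :=
    ⟨⟨fun a b => Subtype.ext (Subgroup.mem_centralizer_iff.1 b.2.2 a a.2.1)⟩⟩
  exact (le_of_mem_maxAbIn_of_commute hA₀ inf_le_left hcomm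
    (inf_le_right.trans (Subgroup.centralizer_le hA₀.1))).trans (le_thompsonSubgroupAOf hA₀)

theorem resFunctor_inducedFunctor {p : ℕ} (W0 : ∀ (Q : Type u) [Group Q], Subgroup Q)
    (hW0 : Cfsg.IsCharPFunctor.{u} p W0) {G : Type u} [Group G] [Finite G] (H : Subgroup G)
    (P' : Subgroup ↥H) (hP' : IsPGroup p P') :
    Cfsg.Agent.S1973.resFunctor (Cfsg.inducedFunctor (G := G) W0) H P' =
      Cfsg.inducedFunctor (G := ↥H) W0 P' := by
  unfold Cfsg.Agent.S1973.resFunctor
  rw [Cfsg.Agent.Lib.Helper34.inducedFunctor_map_of_injOn W0 hW0 H.subtype P' hP'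
    (fun x _ hx => H.subtype_injective (by simpa using hx))]
  exact Subgroup.comap_map_eq_self_of_injective H.subtype_injective _

theorem wcElt_congr {G : Type*} [Group G] {W₁ W₂ : Subgroup G → Subgroup G} {H T : Subgroup G}
    (h : W₁ T = W₂ T) (hw : WCElt W₁ H T) : WCElt W₂ H T := by
  unfold WCElt at hw ⊢
  rw [← h]
  exact hw

theorem wcElt_thompsonA_of_s4free {G : Type u} [Group G] [Finite G]
    (hS4 : ¬ Involves (Equiv.Perm (Fin 4)) G) :
    ∀ n : ℕ, ∀ H T : Subgroup G, Nat.card H = n → SylIn 2 T H →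
      WCElt (fun P : Subgroup G => thompsonSubgroupAOf P) H T := by
  classical
  haveI : Fact (Nat.Prime 2) := ⟨Nat.prime_two⟩
  intro n
  induction n using Nat.strong_induction_on with
  | _ n IH =>
  intro H T hn hT
  have hW0 := isCharPFunctor_thompsonA.{u} 2
  set W : Subgroup G → Subgroup G := fun P : Subgroup G => thompsonSubgroupAOf P with hWdef
  have hWeq : W = Cfsg.inducedFunctor (G := G) (fun (Q : Type u) [Group Q] => thompsonSubgroupA Q) := rfl
  have hW : Cfsg.IsConjugacyFunctor 2 W := by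
    rw [hWeq]
    exact isConjugacyFunctor_inducedFunctor _ hW0
  have hinj : Function.Injective H.subtype := H.subtype_injective
  have hTmap : (T.subgroupOf H).map H.subtype = T := Subgroup.map_subgroupOf_eq_of_le hT.1
  have hTp' : IsPGroup 2 (T.subgroupOf H) := hT.isPGroup.comap_subtype
  have hW' := Cfsg.Agent.S1973.isConjugacyFunctor_resFunctor hW H
  have hres : ∀ P' : Subgroup ↥H, IsPGroup 2 P' →
      Cfsg.Agent.S1973.resFunctor W H P' = thompsonSubgroupAOf P' := by
    intro P' hP'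
    rw [hWeq]
    exact resFunctor_inducedFunctor _ hW0 H P' hP'
  have hWZ' : ∀ P' : Subgroup ↥H, IsPGroup 2 ↥P' →
      P' ⊓ Subgroup.centralizer (P' : Set ↥H) ≤ Cfsg.Agent.S1973.resFunctor W H P' := by
    intro P' hP'
    rw [hres P' hP']
    exact zc_le_thompsonSubgroupAOf P'
  have hS4' : ¬ Involves (Equiv.Perm (Fin 4)) ↥H := fun h =>
    hS4 (Cfsg.Agent.Lib.Helper88.Involves.of_subgroup H h)
  have key := wcElt_top_of_kill (hT.toSylow) (Cfsg.Agent.S1973.resFunctor W H) hW' hWZ'
    (by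
      intro H' T' hH' hT'
      apply Cfsg.Agent.S1973.res_of_wcElt hW H H' T' hT'.isPGroup
      apply IH (Nat.card (H'.map H.subtype)) _ _ _ rfl
      · refine ⟨Subgroup.map_mono hT'.1, hT'.isPGroup.map _, ?_⟩
        rw [Subgroup.relIndex_map_map_of_injective _ _ hinj]
        exact hT'.2.2
      · rw [← hn, Subgroup.card_map_of_injective hinj, ← Subgroup.card_top (G := ↥H)]
        exact card_lt_card_of_lt (lt_top_iff_ne_top.mpr hH'))
    (by
      intro x hxZP hxC hxN hMmax hsmall
      rw [hres _ hT.toSylow.isPGroup'] at hxN hsmall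
      exact thompson_kill hS4' hT.toSylow x hxZP hxC hxN hMmax hsmall)
  have h2 := Cfsg.Agent.S1973.wcElt_of_res hW H ⊤ (T.subgroupOf H) hTp' (by
    have := key
    rwa [SylIn.coe_toSylow] at this)
  rw [hTmap] at h2
  have htop : (⊤ : Subgroup ↥H).map H.subtype = H := by
    rw [← MonoidHom.range_eq_map, Subgroup.range_subtype]
  rwa [htop] at h2

/-- Glauberman's theorem, `S₄`-free case. -/
theorem weakly_closed_of_s4free {G : Type u} [Group G] [Finite G]
    (hS4 : ¬ Involves (Equiv.Perm (Fin 4)) G) (S : Sylow 2 G) (x : G) (hxS : x ∈ (S : Subgroup G))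
    (hxN : ∀ n ∈ Subgroup.normalizer ((thompsonSubgroupAOf (S : Subgroup G) : Subgroup G) : Set G), n * x = x * n) :
    ∀ g : G, g * x * g⁻¹ ∈ (S : Subgroup G) → g * x * g⁻¹ = x := by
  haveI : Fact (Nat.Prime 2) := ⟨Nat.prime_two⟩
  have h := wcElt_thompsonA_of_s4free hS4 _ ⊤ (S : Subgroup G) rfl (sylIn_top S)
  intro g hg
  refine h x (Subgroup.mem_inf.mpr ⟨hxS, ?_⟩) g (Subgroup.mem_top g) hg
  rw [Subgroup.mem_centralizer_iff]
  intro n hn
  exact hxN n (Subgroup.mem_inf.mp hn).2

end Cfsg.Agent.Lib.Helper85
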