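import Cfsg.Agent.Lib.Helper85.FusionBasic

set_option autoImplicit false

namespace Cfsg.Agent.Lib.Helper85

open Cfsg Cfsg.FusionSystem

variable {Ω : Type*} [Group Ω] {S : Subgroup Ω}

/-- A homomorphism on `A ⊔ B` sending `A` and `B` into `C` takes all its values in `C`. -/
theorem forall_mem_of_sup {Ω' : Type*} [Group Ω'] {A B : Subgroup Ω} {C : Subgroup Ω'} (ψ : ↥(A ⊔ B) →* Ω')
    (hA : ∀ a (ha : a ∈ A), ψ ⟨a, le_sup_left (b := B) ha⟩ ∈ C)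
    (hB : ∀ b (hb : b ∈ B), ψ ⟨b, le_sup_right (a := A) hb⟩ ∈ C) : ∀ x, ψ x ∈ C := by
  have h : (A ⊔ B).subgroupOf (A ⊔ B) ≤ C.comap ψ := by
    rw [Subgroup.subgroupOf_sup le_sup_left le_sup_right]
    apply sup_le
    · rintro ⟨x, hx⟩ hxA
      exact hA x hxA
    · rintro ⟨x, hx⟩ hxB
      exact hB x hxB
  intro x
  exact h (show x ∈ (A ⊔ B).subgroupOf (A ⊔ B) from x.2)

/-- Two homomorphisms on `A ⊔ B` agreeing on `A` and on `B` are equal. -/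
theorem hom_ext_sup {Ω' : Type*} [Group Ω'] {A B : Subgroup Ω} (ψ ψ' : ↥(A ⊔ B) →* Ω')
    (hA : ∀ a (ha : a ∈ A), ψ ⟨a, le_sup_left (b := B) ha⟩ = ψ' ⟨a, le_sup_left (b := B) ha⟩)
    (hB : ∀ b (hb : b ∈ B), ψ ⟨b, le_sup_right (a := A) hb⟩ = ψ' ⟨b, le_sup_right (a := A) hb⟩) :
    ψ = ψ' := by
  have h : (A ⊔ B).subgroupOf (A ⊔ B) ≤ MonoidHom.eqLocus ψ ψ' := by
    rw [Subgroup.subgroupOf_sup le_sup_left le_sup_right]
    apply sup_le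
    · rintro ⟨x, hx⟩ hxA
      exact hA x hxA
    · rintro ⟨x, hx⟩ hxB
      exact hB x hxB
  ext x
  exact h (show x ∈ (A ⊔ B).subgroupOf (A ⊔ B) from x.2)

/-- The range of a homomorphism on `A ⊔ B`. -/
theorem range_sup {Ω' : Type*} [Group Ω'] {A B : Subgroup Ω} (ψ : ↥(A ⊔ B) →* Ω') :
    ψ.range = (A.subgroupOf (A ⊔ B)).map ψ ⊔ (B.subgroupOf (A ⊔ B)).map ψ := by
  rw [← Subgroup.map_sup, ← Subgroup.subgroupOf_sup le_sup_left le_sup_right, Subgroup.subgroupOf_self,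
    MonoidHom.range_eq_map]

/-- Image of a subgroup `A ≤ R` under a map defined on `R`, as a range of the restriction. -/
theorem map_subgroupOf_eq_range {Ω' : Type*} [Group Ω'] {A R : Subgroup Ω} (hAR : A ≤ R) (ψ : R →* Ω') :
    (A.subgroupOf R).map ψ = (ψ.comp (Subgroup.inclusion hAR)).range := by
  ext y
  constructor
  · rintro ⟨⟨x, hx⟩, hxA, rfl⟩
    exact ⟨⟨x, hxA⟩, rfl⟩
  · rintro ⟨⟨x, hx⟩, rfl⟩
    exact ⟨⟨x, hAR hx⟩, hx, rfl⟩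

theorem mem_map_subgroupOf_iff {Ω' : Type*} [Group Ω'] {A R : Subgroup Ω} (ψ : R →* Ω') {y : Ω'} :
    y ∈ (A.subgroupOf R).map ψ ↔ ∃ (x : Ω) (hxR : x ∈ R), x ∈ A ∧ ψ ⟨x, hxR⟩ = y := by
  constructor
  · rintro ⟨⟨x, hx⟩, hxA, rfl⟩
    exact ⟨x, hx, hxA, rfl⟩
  · rintro ⟨x, hxR, hxA, rfl⟩
    exact ⟨⟨x, hxR⟩, hxA, rfl⟩

theorem map_subgroupOf_eq_iff {Ω' : Type*} [Group Ω'] {A R : Subgroup Ω} (ψ : R →* Ω') {B : Subgroup Ω'} :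
    (A.subgroupOf R).map ψ = B ↔ (∀ (x : Ω) (hxR : x ∈ R), x ∈ A → ψ ⟨x, hxR⟩ ∈ B) ∧
      ∀ y ∈ B, ∃ (x : Ω) (hxR : x ∈ R), x ∈ A ∧ ψ ⟨x, hxR⟩ = y := by
  constructor
  · rintro rfl
    exact ⟨fun x hxR hxA => (mem_map_subgroupOf_iff ψ).mpr ⟨x, hxR, hxA, rfl⟩,
      fun y hy => (mem_map_subgroupOf_iff ψ).mp hy⟩
  · rintro ⟨h1, h2⟩
    ext y
    rw [mem_map_subgroupOf_iff]
    constructor
    · rintro ⟨x, hxR, hxA, rfl⟩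
      exact h1 x hxR hxA
    · exact h2 y

end Cfsg.Agent.Lib.Helper85
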