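import Cfsg.Agent.Lib.Helper85.FusionNormal
import Cfsg.Agent.Lib.Helper85.FusionSub
import Cfsg.Agent.Lib.Helper87.FusionFully
import Cfsg.Agent.Lib.Helper87.FusionFrattini
import Cfsg.Agent.Lib.Helper88.FusionAut

/-!
# The Roberts–Shpectorov saturation criterion

A fusion system over a finite `p`-group `S` is saturated as soon as `S` is fully automized and every fully normalized
subgroup is receptive.
-/

set_option autoImplicit false

namespace Cfsg.Agent.Lib.Helper85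

open Cfsg Cfsg.FusionSystem
open Cfsg.Agent.Lib.Helper87 hiding restrict_mem restrict_mem' comp_mem' mem_autGroup_iff mem_autInducedBy_iff
  isConj_refl conjHom_apply conjHom_one

variable {Ω : Type*} [Group Ω] {S : Subgroup Ω}

/-- `g K g⁻¹ ≤ K` with `K` finite implies that `g` normalizes `K`. -/
theorem mem_normalizer_of_conj_le_of_finite {K : Subgroup Ω} [Finite K] {g : Ω}
    (h : ∀ x ∈ K, g * x * g⁻¹ ∈ K) : g ∈ Subgroup.normalizer (K : Set Ω) := by
  have hle : K.map (MulAut.conj g).toMonoidHom ≤ K := by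
    rintro _ ⟨x, hx, rfl⟩
    exact h x hx
  have heq : K.map (MulAut.conj g).toMonoidHom = K :=
    Subgroup.eq_of_le_of_card_ge hle (Subgroup.card_map_of_injective (MulAut.conj g).injective).ge
  rw [Subgroup.mem_normalizer_iff]
  intro x
  constructor
  · exact h x
  · intro hx
    rw [← heq] at hx
    obtain ⟨y, hy, hyx⟩ := hx
    have : y = x := by
      have h1 : g * y * g⁻¹ = g * x * g⁻¹ := hyx
      exact mul_left_cancel (mul_right_cancel h1)
    rwa [← this]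

/-- Every subgroup of `S` has a fully normalized conjugate. -/
theorem exists_fullyNormalized_conj [Finite S] (F : FusionSystem S) {P : Subgroup Ω} (hP : P ≤ S) :
    ∃ Q, F.IsConj P Q ∧ F.IsFullyNormalized Q := by
  have hfin : {Q : Subgroup Ω | F.IsConj P Q}.Finite :=
    (finite_subgroups_le S).subset fun Q hQ => isConj_le_right F hQ
  obtain ⟨Q, hQ, hmax⟩ := Set.exists_max_image _ (fun Q => Nat.card (normalizerIn S Q)) hfin
    ⟨P, isConj_refl F hP⟩
  exact ⟨Q, hQ, isConj_le_right F hQ, fun Q' hQ' => hmax Q' (isConj_trans F hQ hQ')⟩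

theorem isPGroup_zpowers_of_pow_eq_one {G : Type*} [Group G] {p : ℕ} {b : G} {a : ℕ} (hb : b ^ p ^ a = 1) :
    IsPGroup p (Subgroup.zpowers b) := by
  rintro ⟨g, hg⟩
  obtain ⟨i, rfl⟩ := Subgroup.mem_zpowers_iff.mp hg
  refine ⟨a, Subtype.ext ?_⟩
  show (b ^ i) ^ p ^ a = 1
  rw [← zpow_natCast, ← zpow_mul, mul_comm, zpow_mul, zpow_natCast, hb, one_zpow]

/-- powers of an extension restrict to powers -/
theorem pow_apply_of_restrict {Q N : Subgroup Ω} (hQN : Q ≤ N) (α : MulAut Q) (β : MulAut N)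
    (h : ∀ x : Q, ((β ⟨x, hQN x.2⟩ : N) : Ω) = ((α x : Q) : Ω)) (k : ℕ) (x : Q) :
    (((β ^ k) ⟨x, hQN x.2⟩ : N) : Ω) = (((α ^ k) x : Q) : Ω) := by
  induction k generalizing x with
  | zero => rfl
  | succ k ih =>
    rw [pow_succ, pow_succ, MulAut.mul_apply, MulAut.mul_apply]
    have h1 := h x
    have h2 : (β ⟨x, hQN x.2⟩ : N) = ⟨((α x : Q) : Ω), hQN (α x).2⟩ := Subtype.ext h1
    rw [h2]
    exact ih (α x)

/-- **Roberts–Shpectorov.** If `S` is fully automized and every fully normalized subgroup is receptive, then every fully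
normalized subgroup is fully automized. -/
theorem fullyAutomized_of_fullyNormalized_of_receptive [Finite S] {p : ℕ} [Fact p.Prime] (hS : IsPGroup p S)
    (F : FusionSystem S) (hSa : F.IsFullyAutomized p S)
    (hrec : ∀ P : Subgroup Ω, F.IsFullyNormalized P → F.IsReceptive P) :
    ∀ Q : Subgroup Ω, F.IsFullyNormalized Q → F.IsFullyAutomized p Q := by
  intro Q
  induction' hn : Nat.card S - Nat.card Q using Nat.strong_induction_on with n ih generalizing Q
  intro hQ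
  have hQS : Q ≤ S := hQ.1
  by_cases hQeq : Q = S
  · rw [hQeq]; exact hSa
  by_contra hna
  have hfinQ : Finite Q := finite_of_le hQS
  -- a `p`-element `α` of `Aut_F(Q)` normalizing `Aut_S(Q)` but not in it
  have hBA : autInducedBy S Q ≤ F.autGroup Q := autInducedBy_le_autGroup F hQS
  have hBp : IsPGroup p (autInducedBy S Q) := autInducedBy_isPGroup hS Q
  obtain ⟨R, hR⟩ := (hBp.comap_subtype (H := autInducedBy S Q) (K := F.autGroup Q)).exists_le_sylow
  have hBR : autInducedBy S Q ≤ (R : Subgroup (F.autGroup Q)).map (F.autGroup Q).subtype := by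
    intro β hβ
    exact ⟨⟨β, hBA hβ⟩, hR (Subgroup.mem_subgroupOf.mpr hβ), rfl⟩
  have hR'p : IsPGroup p ((R : Subgroup (F.autGroup Q)).map (F.autGroup Q).subtype) := R.isPGroup'.map _
  have hne : autInducedBy S Q ≠ (R : Subgroup (F.autGroup Q)).map (F.autGroup Q).subtype := by
    intro h
    apply hna
    refine ⟨hQS, R, ?_⟩
    rw [h]
    ext x
    rw [Subgroup.mem_subgroupOf]
    constructor
    · intro hx; exact ⟨x, hx, rfl⟩
    · rintro ⟨y, hy, hyx⟩
      have : y = x := Subtype.ext hyx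
      rwa [← this]
  obtain ⟨α, hαN, hαB⟩ := exists_mem_normalizerIn_not_mem hR'p hBR hne
  have hαA : α ∈ F.autGroup Q := by
    obtain ⟨y, -, rfl⟩ := hαN.1
    exact y.2
  obtain ⟨kα, hkα⟩ : ∃ k : ℕ, α ^ p ^ k = 1 := by
    obtain ⟨k, hk⟩ := hR'p ⟨α, hαN.1⟩
    exact ⟨k, congrArg Subtype.val hk⟩
  have hαnorm : ∀ β ∈ autInducedBy S Q, α * β * α⁻¹ ∈ autInducedBy S Q :=
    fun β hβ => (Subgroup.mem_normalizer_iff.mp hαN.2 β).mp hβ
  -- extend `α` to `N_S(Q)`
  have hQr : F.IsReceptive Q := hrec Q hQ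
  obtain ⟨X, ψ, hψ, hQX, hXN, hψe, hX⟩ := exists_extension_aut F hQS hQr α hαA
  have hNX : normalizerIn S Q ≤ X := fun g hg =>
    hX g hg (hαnorm _ (Cfsg.Agent.Lib.Helper87.mem_autInducedBy_iff.2 ⟨g, hg.1, fun _ => rfl⟩))
  have hQN : Q ≤ normalizerIn S Q := le_normalizerIn hQS
  have hNS : normalizerIn S Q ≤ S := inf_le_left
  have hfinN : Finite (normalizerIn S Q) := finite_of_le hNS
  have hψN : ψ.comp (Subgroup.inclusion hNX) ∈ F.Hom (normalizerIn S Q) := restrict_mem F hψ hNX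
  have hψNe : ∀ (x : Ω) (hx : x ∈ Q) (hx' : x ∈ normalizerIn S Q),
      (ψ.comp (Subgroup.inclusion hNX)) ⟨x, hx'⟩ = (α : Q ≃* Q) ⟨x, hx⟩ :=
    fun x hx hx' => hψe x hx (hNX hx')
  have hmapN := map_mem_normalizerIn F hQS hψN (α : Q ≃* Q) hψNe
  have hrange : (ψ.comp (Subgroup.inclusion hNX)).range = normalizerIn S Q := by
    apply Subgroup.eq_of_le_of_card_ge
    · rintro _ ⟨g, rfl⟩
      exact hmapN g
    · exact (Nat.card_congr (Equiv.ofInjective _ (F.injective_of_mem hψN))).le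
  obtain ⟨αbar, hαbar, hαbare⟩ := Cfsg.Agent.Lib.Helper88.exists_aut_of_range_eq F hψN hrange
  have hαbarQ : ∀ x : Q, ((αbar ⟨x, hQN x.2⟩ : normalizerIn S Q) : Ω) = ((α x : Q) : Ω) := by
    intro x
    rw [hαbare]
    exact hψNe x x.2 (hQN x.2)
  -- replace `αbar` by a `p`-element `β = αbar ^ m`
  have hfinAutN : Finite (MulAut (normalizerIn S Q)) := inferInstance
  have hord : orderOf αbar ≠ 0 := (orderOf_pos αbar).ne'
  obtain ⟨a, m, hpm, hnm⟩ := Nat.exists_eq_pow_mul_and_not_dvd hord p (Fact.out : p.Prime).ne_one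
  have hβp : (αbar ^ m) ^ p ^ a = 1 := by
    rw [← pow_mul, mul_comm, ← hnm, pow_orderOf_eq_one]
  have hβA : αbar ^ m ∈ F.autGroup (normalizerIn S Q) := Subgroup.pow_mem _ hαbar m
  have hβQ : ∀ x : Q, (((αbar ^ m) ⟨x, hQN x.2⟩ : normalizerIn S Q) : Ω) = (((α ^ m) x : Q) : Ω) :=
    pow_apply_of_restrict hQN α αbar hαbarQ m
  have hcop : Nat.Coprime m (orderOf α) := by
    have h1 : orderOf α ∣ p ^ kα := orderOf_dvd_of_pow_eq_one hkα
    obtain ⟨j, -, hj⟩ := (Nat.dvd_prime_pow (Fact.out : p.Prime)).mp h1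
    rw [hj]
    exact Nat.Coprime.pow_right _ ((Nat.Coprime.symm ((Fact.out : p.Prime).coprime_iff_not_dvd.mpr hpm)))
  obtain ⟨k', hk'⟩ := exists_pow_eq_self_of_coprime hcop
  -- it suffices to show `α ^ m ∈ Aut_S(Q)`
  apply hαB
  rw [← hk']
  apply Subgroup.pow_mem
  -- a fully normalized conjugate `N'` of `N_S(Q)`; it is fully automized by induction
  obtain ⟨N', hNN', hN'fn⟩ := exists_fullyNormalized_conj F hNS
  have hcardN : Nat.card Q < Nat.card (normalizerIn S Q) := card_lt_card_normalizerIn hS hQS hQeq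
  have hcardNN' : Nat.card (normalizerIn S Q) = Nat.card N' := isConj_card_eq F hNN'
  have hN'S : N' ≤ S := hN'fn.1
  have hfinN' : Finite N' := finite_of_le hN'S
  have hN'a : F.IsFullyAutomized p N' := by
    have hle : Nat.card N' ≤ Nat.card S := Subgroup.card_le_of_le hN'S
    exact ih (Nat.card S - Nat.card N') (by omega) N' rfl hN'fn
  obtain ⟨e, he⟩ := (isConj_iff F).1 hNN'
  obtain ⟨-, R', hR'⟩ := hN'a
  have hb : MulAut.congr e (αbar ^ m) ∈ F.autGroup N' := congr_mem_autGroup F he hβA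
  have hbp : (⟨MulAut.congr e (αbar ^ m), hb⟩ : F.autGroup N') ^ p ^ a = 1 := by
    apply Subtype.ext
    show (MulAut.congr e (αbar ^ m)) ^ p ^ a = 1
    rw [← map_pow, hβp, map_one]
  obtain ⟨c, hc⟩ := exists_conj_mem_sylow R' (isPGroup_zpowers_of_pow_eq_one hbp)
  have hc2 : c * ⟨MulAut.congr e (αbar ^ m), hb⟩ * c⁻¹ ∈ (R' : Subgroup (F.autGroup N')) :=
    hc _ (Subgroup.mem_zpowers _)
  rw [hR', Subgroup.mem_subgroupOf] at hc2
  obtain ⟨t, htS, ht⟩ := Cfsg.Agent.Lib.Helper87.mem_autInducedBy_iff.1 hc2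
  -- the isomorphism `e₂ = c ∘ e : N_S(Q) ≃ N'` transports `β` to conjugation by `t`
  have he₂ : IsIso F (e.trans (c : MulAut N')) :=
    he.trans ((Cfsg.Agent.Lib.Helper87.mem_autGroup_iff F hN'S).1 c.2)
  have hkey : ∀ x : normalizerIn S Q,
      (((e.trans (c : MulAut N')) ((αbar ^ m) x) : N') : Ω) =
        t * (((e.trans (c : MulAut N')) x : N') : Ω) * t⁻¹ := by
    intro x
    rw [← ht]
    simp [MulAut.congr]
  -- forget the construction of `β` and `e₂`
  obtain ⟨β, hβQ', hkey'⟩ : ∃ β : MulAut (normalizerIn S Q),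
      (∀ x : Q, ((β ⟨x, hQN x.2⟩ : normalizerIn S Q) : Ω) = (((α ^ m) x : Q) : Ω)) ∧
      ∀ x : normalizerIn S Q, (((e.trans (c : MulAut N')) (β x) : N') : Ω) =
        t * (((e.trans (c : MulAut N')) x : N') : Ω) * t⁻¹ := ⟨αbar ^ m, hβQ, hkey⟩
  obtain ⟨e₂, he₂', hkey''⟩ : ∃ e₂ : normalizerIn S Q ≃* N', IsIso F e₂ ∧
      ∀ x : normalizerIn S Q, ((e₂ (β x) : N') : Ω) = t * ((e₂ x : N') : Ω) * t⁻¹ := ⟨_, he₂, hkey'⟩
  clear hkey' hkey he₂ hc2 ht hc hbp hb hβQ hβA hβp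
  -- the image `Q₂` of `Q`
  have hmemQ₂ : ∀ y : Ω, y ∈ (Q.subgroupOf (normalizerIn S Q)).map (N'.subtype.comp e₂.toMonoidHom) ↔
      ∃ x : normalizerIn S Q, (x : Ω) ∈ Q ∧ ((e₂ x : N') : Ω) = y := by
    intro y
    constructor
    · rintro ⟨x, hx, rfl⟩
      exact ⟨x, hx, rfl⟩
    · rintro ⟨x, hx, rfl⟩
      exact ⟨x, hx, rfl⟩
  have hconj : F.IsConj Q ((Q.subgroupOf (normalizerIn S Q)).map (N'.subtype.comp e₂.toMonoidHom)) :=
    ⟨_, restrict_mem F he₂' hQN, (map_subgroupOf_eq_range hQN _).symm⟩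
  generalize hQ₂ : (Q.subgroupOf (normalizerIn S Q)).map (N'.subtype.comp e₂.toMonoidHom) = Q₂
    at hmemQ₂ hconj
  have hQ₂S : Q₂ ≤ S := isConj_le_right F hconj
  have hfinQ₂ : Finite Q₂ := finite_of_le hQ₂S
  have hβmem : ∀ x : normalizerIn S Q, (x : Ω) ∈ Q → ((β x : normalizerIn S Q) : Ω) ∈ Q := by
    intro x hx
    have := hβQ' ⟨x, hx⟩
    rw [this]
    exact ((α ^ m) ⟨x, hx⟩).2
  have htnorm : t ∈ Subgroup.normalizer (Q₂ : Set Ω) := by
    apply mem_normalizer_of_conj_le_of_finite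
    intro y hy
    obtain ⟨x, hx, rfl⟩ := (hmemQ₂ y).mp hy
    rw [← hkey'']
    exact (hmemQ₂ _).mpr ⟨β x, hβmem x hx, rfl⟩
  have hN'le : N' ≤ normalizerIn S Q₂ := by
    intro n' hn'
    refine ⟨hN'S hn', ?_⟩
    apply mem_normalizer_of_conj_le_of_finite
    intro y hy
    obtain ⟨x, hx, rfl⟩ := (hmemQ₂ y).mp hy
    refine (hmemQ₂ _).mpr ⟨e₂.symm ⟨n', hn'⟩ * x * (e₂.symm ⟨n', hn'⟩)⁻¹, ?_, ?_⟩
    · exact (Subgroup.mem_normalizer_iff.mp (e₂.symm ⟨n', hn'⟩).2.2 x).mp hx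
    · rw [map_mul, map_mul, map_inv, MulEquiv.apply_symm_apply]
      rfl
  have hfinNQ₂ : Finite (normalizerIn S Q₂) := finite_of_le inf_le_left
  have hN'eq : N' = normalizerIn S Q₂ := by
    apply Subgroup.eq_of_le_of_card_ge hN'le
    rw [← hcardNN']
    exact hQ.2 Q₂ hconj
  have htN' : t ∈ N' := by
    rw [hN'eq]; exact ⟨htS, htnorm⟩
  have hs : ((e₂ (e₂.symm ⟨t, htN'⟩) : N') : Ω) = t := by
    rw [MulEquiv.apply_symm_apply]
  have hβs : ∀ x : normalizerIn S Q, β x = e₂.symm ⟨t, htN'⟩ * x * (e₂.symm ⟨t, htN'⟩)⁻¹ := by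
    intro x
    apply e₂.injective
    apply Subtype.ext
    rw [hkey'', map_mul, map_mul, map_inv, MulEquiv.apply_symm_apply]
    rfl
  refine Cfsg.Agent.Lib.Helper87.mem_autInducedBy_iff.2
    ⟨((e₂.symm ⟨t, htN'⟩ : normalizerIn S Q) : Ω), hNS (e₂.symm ⟨t, htN'⟩).2, fun x => ?_⟩
  rw [← hβQ' x, hβs]
  rfl

/-- **The Roberts–Shpectorov saturation criterion.** -/
theorem isSaturated_of_fullyAutomized_top_of_receptive [Finite S] {p : ℕ} [Fact p.Prime] (hS : IsPGroup p S)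
    (F : FusionSystem S) (hSa : F.IsFullyAutomized p S)
    (hrec : ∀ P : Subgroup Ω, F.IsFullyNormalized P → F.IsReceptive P) : F.IsSaturated p := by
  intro P hP
  obtain ⟨Q, hPQ, hQ⟩ := exists_fullyNormalized_conj F hP
  exact ⟨Q, hPQ, fullyAutomized_of_fullyNormalized_of_receptive hS F hSa hrec Q hQ, hrec Q hQ⟩

/-- `S` itself is fully normalized. -/
theorem isFullyNormalized_top [Finite S] (F : FusionSystem S) : F.IsFullyNormalized S := by
  refine ⟨le_rfl, fun Q _ => ?_⟩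
  have hle : normalizerIn S Q ≤ normalizerIn S S := fun x hx => ⟨hx.1, Subgroup.le_normalizer hx.1⟩
  have : Finite (normalizerIn S S) := finite_of_le inf_le_left
  exact Subgroup.card_le_of_le hle

end Cfsg.Agent.Lib.Helper85
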