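import Cfsg.Agent.Lib.Helper85.FusionGroupSat
import Cfsg.Agent.Lib.Helper85.FusionSub

set_option autoImplicit false

namespace Cfsg.Agent.Lib.Helper85

open Cfsg Cfsg.FusionSystem

variable {Ω : Type*} [Group Ω] {S : Subgroup Ω} {G : Type*} [Group G]

/-- The image in `G` of a subgroup `P` (in use `P ≤ S`) under `ι : S →* G`. -/
def imι (ι : S →* G) (P : Subgroup Ω) : Subgroup G := (P.subgroupOf S).map ι

theorem mem_imι_iff (ι : S →* G) (P : Subgroup Ω) (y : G) :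
    y ∈ imι ι P ↔ ∃ (x : Ω) (hx : x ∈ S), x ∈ P ∧ ι ⟨x, hx⟩ = y :=
  mem_map_subgroupOf_iff ι

theorem apply_mem_imι (ι : S →* G) {P : Subgroup Ω} {x : Ω} (hx : x ∈ S) (hxP : x ∈ P) :
    ι ⟨x, hx⟩ ∈ imι ι P := (mem_imι_iff ι P _).mpr ⟨x, hx, hxP, rfl⟩

theorem apply_mem_imι_iff {ι : S →* G} (hinj : Function.Injective ι) {P : Subgroup Ω} {x : Ω} (hx : x ∈ S) :
    ι ⟨x, hx⟩ ∈ imι ι P ↔ x ∈ P := by
  constructor
  · intro h
    obtain ⟨y, hy, hyP, hyx⟩ := (mem_imι_iff ι P _).mp h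
    have := hinj hyx
    have e : y = x := congrArg Subtype.val this
    rwa [← e]
  · exact apply_mem_imι ι hx

theorem imι_le_range (ι : S →* G) (P : Subgroup Ω) : imι ι P ≤ ι.range := by
  rintro _ ⟨x, -, rfl⟩
  exact ⟨x, rfl⟩

theorem imι_mono (ι : S →* G) {P Q : Subgroup Ω} (h : P ≤ Q) : imι ι P ≤ imι ι Q := by
  intro y hy
  obtain ⟨x, hx, hxP, rfl⟩ := (mem_imι_iff ι P y).mp hy
  exact apply_mem_imι ι hx (h hxP)

theorem imι_self (ι : S →* G) : imι ι S = ι.range := by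
  apply le_antisymm (imι_le_range ι S)
  rintro _ ⟨x, rfl⟩
  exact apply_mem_imι ι x.2 x.2

theorem card_imι {ι : S →* G} (hinj : Function.Injective ι) {P : Subgroup Ω} (hP : P ≤ S) :
    Nat.card (imι ι P) = Nat.card P := by
  rw [imι, Subgroup.card_map_of_injective hinj, card_subgroupOf_of_le hP]

/-- The inverse of `ι` on its range, with values in the ambient group. -/
noncomputable def liftBack {ι : S →* G} (hinj : Function.Injective ι) : ι.range →* Ω :=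
  S.subtype.comp (MonoidHom.ofInjective hinj).symm.toMonoidHom

theorem liftBack_mem {ι : S →* G} (hinj : Function.Injective ι) (y : ι.range) : liftBack hinj y ∈ S :=
  ((MonoidHom.ofInjective hinj).symm y).2

theorem ι_liftBack {ι : S →* G} (hinj : Function.Injective ι) (y : ι.range) :
    ι ⟨liftBack hinj y, liftBack_mem hinj y⟩ = y := by
  have h := (MonoidHom.ofInjective hinj).apply_symm_apply y
  have h2 := congrArg Subtype.val h
  exact h2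

theorem liftBack_ι {ι : S →* G} (hinj : Function.Injective ι) (s : S) :
    liftBack hinj ⟨ι s, ⟨s, rfl⟩⟩ = s := by
  have : (⟨ι s, ⟨s, rfl⟩⟩ : ι.range) = MonoidHom.ofInjective hinj s := rfl
  show (((MonoidHom.ofInjective hinj).symm ⟨ι s, ⟨s, rfl⟩⟩ : S) : Ω) = s
  rw [this, MulEquiv.symm_apply_apply]

/-- The homomorphism `x ↦ ι⁻¹(g ι(x) g⁻¹)` on `P`. -/
noncomputable def conjι {ι : S →* G} (hinj : Function.Injective ι) {P : Subgroup Ω} (hP : P ≤ S) (g : G)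
    (h : ∀ x : P, g * ι ⟨x, hP x.2⟩ * g⁻¹ ∈ ι.range) : P →* Ω :=
  (liftBack hinj).comp
    (((MulAut.conj g).toMonoidHom.comp (ι.comp (Subgroup.inclusion hP))).codRestrict ι.range h)

theorem conjι_mem {ι : S →* G} (hinj : Function.Injective ι) {P : Subgroup Ω} (hP : P ≤ S) (g : G)
    (h : ∀ x : P, g * ι ⟨x, hP x.2⟩ * g⁻¹ ∈ ι.range) (x : P) : conjι hinj hP g h x ∈ S :=
  liftBack_mem hinj _

theorem ι_conjι {ι : S →* G} (hinj : Function.Injective ι) {P : Subgroup Ω} (hP : P ≤ S) (g : G)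
    (h : ∀ x : P, g * ι ⟨x, hP x.2⟩ * g⁻¹ ∈ ι.range) (x : P) :
    ι ⟨conjι hinj hP g h x, conjι_mem hinj hP g h x⟩ = g * ι ⟨x, hP x.2⟩ * g⁻¹ :=
  ι_liftBack hinj _

theorem conjι_mem_Hom {F : FusionSystem S} {ι : S →* G} (hι : F.IsRealizedBy ι) {P : Subgroup Ω} (hP : P ≤ S)
    (g : G) (h : ∀ x : P, g * ι ⟨x, hP x.2⟩ * g⁻¹ ∈ ι.range) : conjι hι.1 hP g h ∈ F.Hom P :=
  (hι.2 P hP _ (conjι_mem hι.1 hP g h)).mpr ⟨g, ι_conjι hι.1 hP g h⟩

theorem imι_range_conjι {ι : S →* G} (hinj : Function.Injective ι) {P : Subgroup Ω} (hP : P ≤ S) (g : G)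
    (h : ∀ x : P, g * ι ⟨x, hP x.2⟩ * g⁻¹ ∈ ι.range) :
    imι ι (conjι hinj hP g h).range = (imι ι P).map (MulAut.conj g).toMonoidHom := by
  ext y
  rw [mem_imι_iff, mem_map_conj_iff, mem_imι_iff]
  constructor
  · rintro ⟨_, hx, ⟨x, rfl⟩, rfl⟩
    refine ⟨x, hP x.2, x.2, ?_⟩
    rw [ι_conjι hinj hP g h x]
    group
  · rintro ⟨x, hx, hxP, hxy⟩
    refine ⟨conjι hinj hP g h ⟨x, hxP⟩, conjι_mem hinj hP g h _, ⟨_, rfl⟩, ?_⟩
    rw [ι_conjι hinj hP g h ⟨x, hxP⟩]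
    show g * ι ⟨x, hx⟩ * g⁻¹ = y
    rw [hxy]
    group

/-- Every map of a realized system is of the form `conjι`, pointwise. -/
theorem exists_of_mem_Hom {F : FusionSystem S} {ι : S →* G} (hι : F.IsRealizedBy ι) {P : Subgroup Ω}
    {φ : P →* Ω} (hφ : φ ∈ F.Hom P) :
    ∃ g : G, ∀ x : P, ι ⟨φ x, (F.le_of_mem hφ).2 x⟩ = g * ι ⟨x, (F.le_of_mem hφ).1 x.2⟩ * g⁻¹ :=
  (hι.2 P (F.le_of_mem hφ).1 φ (F.le_of_mem hφ).2).mp hφ

theorem imι_range_of_conj {F : FusionSystem S} {ι : S →* G} (hι : F.IsRealizedBy ι) {P : Subgroup Ω}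
    {φ : P →* Ω} (hφ : φ ∈ F.Hom P) {g : G}
    (hg : ∀ x : P, ι ⟨φ x, (F.le_of_mem hφ).2 x⟩ = g * ι ⟨x, (F.le_of_mem hφ).1 x.2⟩ * g⁻¹) :
    imι ι φ.range = (imι ι P).map (MulAut.conj g).toMonoidHom := by
  ext y
  rw [mem_imι_iff, mem_map_conj_iff, mem_imι_iff]
  constructor
  · rintro ⟨_, hx, ⟨x, rfl⟩, rfl⟩
    refine ⟨x, (F.le_of_mem hφ).1 x.2, x.2, ?_⟩
    rw [hg x]
    group
  · rintro ⟨x, hx, hxP, hxy⟩
    refine ⟨φ ⟨x, hxP⟩, (F.le_of_mem hφ).2 _, ⟨_, rfl⟩, ?_⟩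
    rw [hg ⟨x, hxP⟩]
    show g * ι ⟨x, hx⟩ * g⁻¹ = y
    rw [hxy]
    group

/-- `ι` maps the normalizer in `S` of `P ≤ S` into the normalizer of the image. -/
theorem ι_mem_normalizer {ι : S →* G} {P : Subgroup Ω} {x : Ω} (hx : x ∈ S)
    (hxN : x ∈ Subgroup.normalizer (P : Set Ω)) : ι ⟨x, hx⟩ ∈ Subgroup.normalizer ((imι ι P : Subgroup G) : Set G) := by
  rw [Subgroup.mem_normalizer_iff]
  intro y
  constructor
  · intro hy
    obtain ⟨z, hz, hzP, rfl⟩ := (mem_imι_iff ι P y).mp hy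
    have h1 : x * z * x⁻¹ ∈ P := (Subgroup.mem_normalizer_iff.mp hxN z).mp hzP
    have e : ι ⟨x, hx⟩ * ι ⟨z, hz⟩ * (ι ⟨x, hx⟩)⁻¹ = ι ⟨x * z * x⁻¹, S.mul_mem (S.mul_mem hx hz) (S.inv_mem hx)⟩ := by
      rw [← map_inv, ← map_mul, ← map_mul]
      rfl
    rw [e]
    exact apply_mem_imι ι _ h1
  · intro hy
    obtain ⟨z, hz, hzP, hzy⟩ := (mem_imι_iff ι P _).mp hy
    have h1 : x⁻¹ * z * x ∈ P := (Subgroup.mem_normalizer_iff''.mp hxN z).mp hzP
    have e : y = ι ⟨x⁻¹ * z * x, S.mul_mem (S.mul_mem (S.inv_mem hx) hz) hx⟩ := by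
      have : ι ⟨x⁻¹ * z * x, S.mul_mem (S.mul_mem (S.inv_mem hx) hz) hx⟩ =
          (ι ⟨x, hx⟩)⁻¹ * ι ⟨z, hz⟩ * ι ⟨x, hx⟩ := by
        rw [← map_inv, ← map_mul, ← map_mul]
        rfl
      rw [this, hzy]
      group
    rw [e]
    exact apply_mem_imι ι _ h1

/-- The isomorphism `Q ≃ ι(Q)` induced by `ι`. -/
noncomputable def equivImι {ι : S →* G} (hinj : Function.Injective ι) {Q : Subgroup Ω} (hQ : Q ≤ S) :
    Q ≃* imι ι Q :=
  MulEquiv.ofBijective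
    ((ι.comp (Subgroup.inclusion hQ)).codRestrict (imι ι Q) fun x => apply_mem_imι ι (hQ x.2) x.2)
    ⟨fun a b hab => by
      have h1 : ι ⟨a, hQ a.2⟩ = ι ⟨b, hQ b.2⟩ := congrArg Subtype.val hab
      have h2 := hinj h1
      exact Subtype.ext (congrArg (fun t : S => (t : Ω)) h2),
    fun y => by
      obtain ⟨x, hx, hxQ, hxy⟩ := (mem_imι_iff ι Q y).mp y.2
      exact ⟨⟨x, hxQ⟩, Subtype.ext hxy⟩⟩

theorem equivImι_apply {ι : S →* G} (hinj : Function.Injective ι) {Q : Subgroup Ω} (hQ : Q ≤ S) (x : Q) :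
    ((equivImι hinj hQ x : imι ι Q) : G) = ι ⟨x, hQ x.2⟩ := rfl

theorem ι_equivImι_symm {ι : S →* G} (hinj : Function.Injective ι) {Q : Subgroup Ω} (hQ : Q ≤ S) (y : imι ι Q) :
    ι ⟨((equivImι hinj hQ).symm y : Q), hQ ((equivImι hinj hQ).symm y).2⟩ = y := by
  have := equivImι_apply hinj hQ ((equivImι hinj hQ).symm y)
  rw [MulEquiv.apply_symm_apply] at this
  exact this.symm

section automized

variable {F : FusionSystem S} {ι : S →* G} (hι : F.IsRealizedBy ι)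

include hι in
theorem congr_mem_autInducedBy_top {Q : Subgroup Ω} (hQ : Q ≤ S) {α : MulAut Q} (hα : α ∈ F.autGroup Q) :
    MulAut.congr (equivImι hι.1 hQ) α ∈ autInducedBy (⊤ : Subgroup G) (imι ι Q) := by
  rw [mem_autGroup_iff F hQ] at hα
  obtain ⟨g, hg⟩ := exists_of_mem_Hom hι hα
  rw [mem_autInducedBy_iff]
  refine ⟨g, Subgroup.mem_top _, fun y => ?_⟩
  show ((equivImι hι.1 hQ (α ((equivImι hι.1 hQ).symm y)) : imι ι Q) : G) = _
  rw [equivImι_apply]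
  have := hg ((equivImι hι.1 hQ).symm y)
  rw [ι_equivImι_symm] at this
  exact this

include hι in
theorem congr_mem_autInducedBy_iff {Q : Subgroup Ω} (hQ : Q ≤ S) (α : MulAut Q) :
    α ∈ autInducedBy S Q ↔ MulAut.congr (equivImι hι.1 hQ) α ∈ autInducedBy ι.range (imι ι Q) := by
  rw [mem_autInducedBy_iff, mem_autInducedBy_iff]
  constructor
  · rintro ⟨s, hs, hsα⟩
    refine ⟨ι ⟨s, hs⟩, ⟨_, rfl⟩, fun y => ?_⟩
    show ((equivImι hι.1 hQ (α ((equivImι hι.1 hQ).symm y)) : imι ι Q) : G) = _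
    rw [equivImι_apply]
    set x := (equivImι hι.1 hQ).symm y with hx
    have hxy : ι ⟨x, hQ x.2⟩ = y := ι_equivImι_symm hι.1 hQ y
    rw [← hxy, ← map_inv, ← map_mul, ← map_mul]
    congr 1
    apply Subtype.ext
    exact hsα x
  · rintro ⟨t, ⟨s, rfl⟩, htα⟩
    refine ⟨s, s.2, fun x => ?_⟩
    have h1 := htα (equivImι hι.1 hQ x)
    have h2 : ((MulAut.congr (equivImι hι.1 hQ) α) (equivImι hι.1 hQ x) : imι ι Q) =
        equivImι hι.1 hQ (α x) := by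
      show equivImι hι.1 hQ (α ((equivImι hι.1 hQ).symm (equivImι hι.1 hQ x))) = _
      rw [MulEquiv.symm_apply_apply]
    rw [h2, equivImι_apply, equivImι_apply] at h1
    have h3 : ι ⟨α x, hQ (α x).2⟩ = ι (s * ⟨x, hQ x.2⟩ * s⁻¹) := by
      rw [map_mul, map_mul, map_inv]
      exact h1
    have h4 := hι.1 h3
    exact congrArg (fun t : S => (t : Ω)) h4

include hι in
/-- If `N_T(ι Q)` is Sylow in `N_G(ι Q)` (`T = ι(S)`), then `Q` is fully automized. -/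
theorem isFullyAutomized_of_realized [Finite G] {p : ℕ} [Fact p.Prime] (T : Sylow p G)
    (hT : (T : Subgroup G) = ι.range) {Q : Subgroup Ω} (hQ : Q ≤ S)
    (hN : ∃ R : Sylow p ↥(Subgroup.normalizer ((imι ι Q : Subgroup G) : Set G)),
      (R : Subgroup ↥(Subgroup.normalizer ((imι ι Q : Subgroup G) : Set G))) =
        (normalizerIn (T : Subgroup G) (imι ι Q)).subgroupOf (Subgroup.normalizer ((imι ι Q : Subgroup G) : Set G))) :
    F.IsFullyAutomized p Q := by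
  have hfinS : Finite S := Finite.of_injective ι hι.1
  have hfinQ : Finite Q := Finite.of_injective (Subgroup.inclusion hQ) (Subgroup.inclusion_injective hQ)
  have hfinQ' : Finite (imι ι Q) := Subtype.finite
  refine ⟨hQ, ?_⟩
  set E := MulAut.congr (equivImι hι.1 hQ) with hE
  have hle : autInducedBy S Q ≤ F.autGroup Q := by
    intro α hα
    obtain ⟨g, hg, hgα⟩ := (mem_autInducedBy_iff S Q α).mp hα
    rw [mem_autGroup_iff F hQ]
    have : Q.subtype.comp α.toMonoidHom = conjHom Q g := by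
      ext x
      exact hgα x
    rw [this]
    exact F.conj_mem hQ hg
  have hle' : autInducedBy (T : Subgroup G) (imι ι Q) ≤ autInducedBy (⊤ : Subgroup G) (imι ι Q) := by
    intro β hβ
    obtain ⟨g, -, hgβ⟩ := (mem_autInducedBy_iff _ _ β).mp hβ
    exact (mem_autInducedBy_iff _ _ β).mpr ⟨g, Subgroup.mem_top _, hgβ⟩
  obtain ⟨hTp, hTmax⟩ := (sylow_subgroupOf_iff hle').mp
    (autInducedBy_sylow_of_normalizerIn_sylow (T : Subgroup G) hN)
  -- the image of `Aut_S(Q)` is `Aut_T(ι Q)`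
  have hmap : (autInducedBy S Q).map E.toMonoidHom = autInducedBy (T : Subgroup G) (imι ι Q) := by
    ext β
    constructor
    · rintro ⟨α, hα, rfl⟩
      rw [hT]
      exact (congr_mem_autInducedBy_iff hι hQ α).mp hα
    · intro hβ
      refine ⟨E.symm β, ?_, E.apply_symm_apply β⟩
      show E.symm β ∈ autInducedBy S Q
      rw [congr_mem_autInducedBy_iff hι hQ, ← hT]
      show E (E.symm β) ∈ _
      rw [E.apply_symm_apply]
      exact hβ
  rw [sylow_subgroupOf_iff hle]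
  constructor
  · have h1 : IsPGroup p ((autInducedBy S Q).map E.toMonoidHom) := hmap ▸ hTp
    intro α
    obtain ⟨k, hk⟩ := h1 ⟨E α, ⟨α, α.2, rfl⟩⟩
    refine ⟨k, ?_⟩
    apply Subtype.ext
    have h2 : (E α) ^ p ^ k = 1 := congrArg Subtype.val hk
    rw [← map_pow] at h2
    have h3 : (α : MulAut Q) ^ p ^ k = 1 := E.injective (h2.trans (map_one E).symm)
    exact h3
  · intro T' hT'le hT'p
    have h1 : T'.map E.toMonoidHom ≤ autInducedBy (⊤ : Subgroup G) (imι ι Q) := by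
      rintro _ ⟨α, hα, rfl⟩
      exact congr_mem_autInducedBy_top hι hQ (hT'le hα)
    have h2 := hTmax _ h1 (hT'p.map _)
    rw [Subgroup.card_map_of_injective E.injective] at h2
    rw [← hmap, Subgroup.card_map_of_injective E.injective] at h2
    exact h2

end automized

theorem ι_conj_eq (ι : S →* G) {x z : Ω} (hx : x ∈ S) (hz : z ∈ S) (h : x * z * x⁻¹ ∈ S) :
    ι ⟨x * z * x⁻¹, h⟩ = ι ⟨x, hx⟩ * ι ⟨z, hz⟩ * (ι ⟨x, hx⟩)⁻¹ := by
  rw [← map_inv, ← map_mul, ← map_mul]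
  rfl

section receptive

variable {F : FusionSystem S} {ι : S →* G} (hι : F.IsRealizedBy ι)

include hι in
/-- If `N_T(ι Q)` is Sylow in `N_G(ι Q)` (`T = ι(S)`), then `Q` is receptive. -/
theorem isReceptive_of_realized [Finite G] {p : ℕ} [Fact p.Prime] (T : Sylow p G)
    (hT : (T : Subgroup G) = ι.range) {Q : Subgroup Ω} (hQ : Q ≤ S)
    (hN : ∃ R : Sylow p ↥(Subgroup.normalizer ((imι ι Q : Subgroup G) : Set G)),
      (R : Subgroup ↥(Subgroup.normalizer ((imι ι Q : Subgroup G) : Set G))) =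
        (normalizerIn (T : Subgroup G) (imι ι Q)).subgroupOf (Subgroup.normalizer ((imι ι Q : Subgroup G) : Set G))) :
    F.IsReceptive Q := by
  refine ⟨hQ, fun P' φ' hφ' hr => ?_⟩
  have hP' : P' ≤ S := (F.le_of_mem hφ').1
  have hφ'S : ∀ z : P', φ' z ∈ S := (F.le_of_mem hφ').2
  obtain ⟨g', hg'⟩ := exists_of_mem_Hom hι hφ'
  have himQ : imι ι Q = (imι ι P').map (MulAut.conj g').toMonoidHom := by
    rw [← hr]
    exact imι_range_of_conj hι hφ' hg'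
  obtain ⟨h, hh, hle⟩ := exists_centralizer_conj_le T (imι ι P') (imι ι Q) g' hN
  have hNS : extender S P' φ' ≤ S := fun x hx => ((mem_extender_iff S P' φ' x).mp hx).1
  -- the key claim
  have hclaim : imι ι (extender S P' φ') ≤ normalizerIn (T : Subgroup G) (imι ι P') ⊓
      (normalizerIn (T : Subgroup G) (imι ι Q) ⊔ Subgroup.centralizer ((imι ι Q : Subgroup G) : Set G)).comap
        (MulAut.conj g').toMonoidHom := by
    intro y hy
    obtain ⟨x, hxS, hxN, rfl⟩ := (mem_imι_iff ι _ y).mp hy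
    obtain ⟨-, hxNP, s, hs, hsx⟩ := (mem_extender_iff S P' φ' x).mp hxN
    have hyT : ι ⟨x, hxS⟩ ∈ (T : Subgroup G) := by rw [hT]; exact ⟨_, rfl⟩
    have hyN : ι ⟨x, hxS⟩ ∈ Subgroup.normalizer ((imι ι P' : Subgroup G) : Set G) := ι_mem_normalizer hxS hxNP
    refine ⟨⟨hyT, hyN⟩, ?_⟩
    show g' * ι ⟨x, hxS⟩ * g'⁻¹ ∈ normalizerIn (T : Subgroup G) (imι ι Q) ⊔
      Subgroup.centralizer ((imι ι Q : Subgroup G) : Set G)
    set y := ι ⟨x, hxS⟩ with hy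
    set c := (ι ⟨s, hs⟩)⁻¹ * (g' * y * g'⁻¹) with hc
    -- `c` centralizes `ι Q`
    have hcC : c ∈ Subgroup.centralizer ((imι ι Q : Subgroup G) : Set G) := by
      rw [Subgroup.mem_centralizer_iff]
      intro w hw
      have hw' : w ∈ (imι ι P').map (MulAut.conj g').toMonoidHom := himQ ▸ hw
      rw [mem_map_conj_iff] at hw'
      obtain ⟨z, hzS, hzP, hzw⟩ := (mem_imι_iff ι P' _).mp hw'
      have hxz : x * z * x⁻¹ ∈ P' := (Subgroup.mem_normalizer_iff.mp hxNP z).mp hzP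
      have h1 := hsx ⟨z, hzP⟩ hxz
      have h2 : ι ⟨φ' ⟨x * z * x⁻¹, hxz⟩, hφ'S _⟩ = ι ⟨s * φ' ⟨z, hzP⟩ * s⁻¹,
          S.mul_mem (S.mul_mem hs (hφ'S _)) (S.inv_mem hs)⟩ := by
        congr 1
        exact Subtype.ext h1
      rw [hg' ⟨x * z * x⁻¹, hxz⟩, ι_conj_eq ι hs (hφ'S _), hg' ⟨z, hzP⟩] at h2
      have h3 : ι ⟨x * z * x⁻¹, hP' hxz⟩ = y * ι ⟨z, hzS⟩ * y⁻¹ := ι_conj_eq ι hxS hzS _
      rw [h3, hzw] at h2
      -- h2 : g' * (y * (g'⁻¹ * w * g') * y⁻¹) * g'⁻¹ = ι s * (g' * (g'⁻¹ * w * g') * g'⁻¹) * (ι s)⁻¹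
      have h4 : g' * y * g'⁻¹ * w * (g' * y * g'⁻¹)⁻¹ = ι ⟨s, hs⟩ * w * (ι ⟨s, hs⟩)⁻¹ := by
        have e1 : g' * y * g'⁻¹ * w * (g' * y * g'⁻¹)⁻¹ = g' * (y * (g'⁻¹ * w * g') * y⁻¹) * g'⁻¹ := by group
        have e2 : ι ⟨s, hs⟩ * w * (ι ⟨s, hs⟩)⁻¹ =
            ι ⟨s, hs⟩ * (g' * (g'⁻¹ * w * g') * g'⁻¹) * (ι ⟨s, hs⟩)⁻¹ := by group
        rw [e1, e2]
        exact h2
      rw [hc]
      have e3 : (ι ⟨s, hs⟩)⁻¹ * (g' * y * g'⁻¹) * w =
          (ι ⟨s, hs⟩)⁻¹ * (g' * y * g'⁻¹ * w * (g' * y * g'⁻¹)⁻¹) * (g' * y * g'⁻¹) := by group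
      rw [e3, h4]
      group
    have hyNQ : g' * y * g'⁻¹ ∈ Subgroup.normalizer ((imι ι Q : Subgroup G) : Set G) := by
      rw [himQ, normalizer_map_conj]
      exact ⟨y, hyN, rfl⟩
    have hsN : ι ⟨s, hs⟩ ∈ normalizerIn (T : Subgroup G) (imι ι Q) := by
      refine ⟨by rw [hT]; exact ⟨_, rfl⟩, ?_⟩
      have e : ι ⟨s, hs⟩ = (g' * y * g'⁻¹) * c⁻¹ := by rw [hc]; group
      rw [e]
      exact Subgroup.mul_mem _ hyNQ (Subgroup.inv_mem _ (Subgroup.centralizer_le_normalizer _ hcC))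
    have e : g' * y * g'⁻¹ = ι ⟨s, hs⟩ * c := by rw [hc]; group
    rw [e]
    exact Subgroup.mul_mem_sup hsN hcC
  have hval : ∀ x : ↥(extender S P' φ'), (h * g') * ι ⟨x, hNS x.2⟩ * (h * g')⁻¹ ∈ ι.range := by
    intro x
    rw [← hT]
    exact hle ⟨_, hclaim (apply_mem_imι ι (hNS x.2) x.2), rfl⟩
  refine ⟨conjι hι.1 hNS (h * g') hval, conjι_mem_Hom hι hNS _ hval, fun x hxP hxN => ?_⟩
  have h1 := ι_conjι hι.1 hNS (h * g') hval ⟨x, hxN⟩
  have h2 := hg' ⟨x, hxP⟩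
  have h3 : g' * ι ⟨x, hP' hxP⟩ * g'⁻¹ ∈ imι ι Q := by
    rw [himQ]
    exact ⟨_, apply_mem_imι ι (hP' hxP) hxP, rfl⟩
  have h4 : g' * ι ⟨x, hP' hxP⟩ * g'⁻¹ * h = h * (g' * ι ⟨x, hP' hxP⟩ * g'⁻¹) :=
    Subgroup.mem_centralizer_iff.mp hh _ h3
  have h5 : ι ⟨conjι hι.1 hNS (h * g') hval ⟨x, hxN⟩, conjι_mem hι.1 hNS _ hval _⟩ =
      ι ⟨φ' ⟨x, hxP⟩, hφ'S _⟩ := by
    rw [h1, h2]
    have e : h * g' * ι ⟨x, hP' hxP⟩ * (h * g')⁻¹ = h * (g' * ι ⟨x, hP' hxP⟩ * g'⁻¹) * h⁻¹ := by group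
    show h * g' * ι ⟨x, hP' hxP⟩ * (h * g')⁻¹ = _
    rw [e, ← h4]
    group
  exact congrArg (fun t : S => (t : Ω)) (hι.1 h5)

include hι in
/-- **A system realized on a Sylow `p`-subgroup of a finite group is saturated.** -/
theorem isSaturated_of_isRealizedBy [Finite G] {p : ℕ} [Fact p.Prime] (T : Sylow p G)
    (hT : (T : Subgroup G) = ι.range) : F.IsSaturated p := by
  intro P hP
  have hPT : imι ι P ≤ (T : Subgroup G) := hT ▸ imι_le_range ι P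
  obtain ⟨g, hgT, hN⟩ := exists_conj_normalizerIn_sylow T hPT
  have hval : ∀ x : P, g * ι ⟨x, hP x.2⟩ * g⁻¹ ∈ ι.range := by
    intro x
    rw [← hT]
    exact hgT ⟨_, apply_mem_imι ι (hP x.2) x.2, rfl⟩
  set Q := (conjι hι.1 hP g hval).range with hQdef
  have hφ : conjι hι.1 hP g hval ∈ F.Hom P := conjι_mem_Hom hι hP g hval
  have hQS : Q ≤ S := by
    rintro _ ⟨x, rfl⟩
    exact conjι_mem hι.1 hP g hval x
  have himQ : imι ι Q = (imι ι P).map (MulAut.conj g).toMonoidHom := imι_range_conjι hι.1 hP g hval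
  rw [← himQ] at hN
  exact ⟨Q, ⟨_, hφ, rfl⟩, isFullyAutomized_of_realized hι T hT hQS hN, isReceptive_of_realized hι T hT hQS hN⟩

end receptive

/-- **`F_S(G)` is saturated for `S` a Sylow `p`-subgroup of the finite group `G`.** -/
theorem groupFusionSystem_isSaturated {G : Type*} [Group G] [Finite G] {p : ℕ} [Fact p.Prime] (S : Sylow p G) :
    (groupFusionSystem (S : Subgroup G)).IsSaturated p := by
  have hι : (groupFusionSystem (S : Subgroup G)).IsRealizedBy (S : Subgroup G).subtype := by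
    refine ⟨Subtype.coe_injective, fun P hP φ hφ => ?_⟩
    constructor
    · rintro ⟨-, -, g, hg⟩
      exact ⟨g, hg⟩
    · rintro ⟨g, hg⟩
      exact ⟨hP, hφ, g, hg⟩
  exact isSaturated_of_isRealizedBy hι S (Subgroup.range_subtype _).symm

end Cfsg.Agent.Lib.Helper85
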