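import Cfsg.Agent.Lib.Helper85.FusionSub

set_option autoImplicit false

namespace Cfsg.Agent.Lib.Helper85

open Cfsg Cfsg.FusionSystem

variable {Ω : Type*} [Group Ω] {S : Subgroup Ω}

theorem mem_normalizerHom_iff (F : FusionSystem S) (Q P : Subgroup Ω) (φ : P →* Ω) :
    φ ∈ F.normalizerHom Q P ↔ φ ∈ F.Hom P ∧ P ≤ normalizerIn S Q ∧ (∀ x : P, φ x ∈ normalizerIn S Q) ∧
    ∃ ψ ∈ F.Hom (P ⊔ Q), (∀ x : P, ψ (Subgroup.inclusion le_sup_left x) = φ x) ∧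
      (Q.subgroupOf (P ⊔ Q)).map ψ = Q := Iff.rfl

theorem mem_centralizerHom_iff (F : FusionSystem S) (Q P : Subgroup Ω) (φ : P →* Ω) :
    φ ∈ F.centralizerHom Q P ↔ φ ∈ F.Hom P ∧ P ≤ centralizerIn S Q ∧ (∀ x : P, φ x ∈ centralizerIn S Q) ∧
    ∃ ψ ∈ F.Hom (P ⊔ Q), (∀ x : P, ψ (Subgroup.inclusion le_sup_left x) = φ x) ∧
      ∀ x : Q, ψ (Subgroup.inclusion le_sup_right x) = x := Iff.rfl

/-- The normalizer system `N_F(Q)` as a fusion system over `N_S(Q)`. -/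
def normalizerSystem (F : FusionSystem S) (Q : Subgroup Ω) (hQ : Q ≤ S) :
    FusionSystem (normalizerIn S Q) where
  Hom P := F.normalizerHom Q P
  le_of_mem := fun h => ⟨h.2.1, h.2.2.1⟩
  injective_of_mem := fun h => F.injective_of_mem h.1
  conj_mem := by
    intro P g hP hg
    have hPS : P ≤ S := hP.trans inf_le_left
    refine ⟨F.conj_mem hPS hg.1, hP, fun x => ?_, conjHom (P ⊔ Q) g, F.conj_mem (sup_le hPS hQ) hg.1,
      fun x => rfl, ?_⟩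
    · exact Subgroup.mul_mem _ (Subgroup.mul_mem _ hg (hP x.2)) (Subgroup.inv_mem _ hg)
    · have hgN : g ∈ Subgroup.normalizer (Q : Set Ω) := hg.2
      rw [map_subgroupOf_eq_iff]
      constructor
      · intro x hxR hxQ
        exact (Subgroup.mem_normalizer_iff.mp hgN x).mp hxQ
      · intro y hy
        have hy' : g⁻¹ * y * g ∈ Q := (Subgroup.mem_normalizer_iff''.mp hgN y).mp hy
        refine ⟨g⁻¹ * y * g, le_sup_right (a := P) hy', hy', ?_⟩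
        show g * (g⁻¹ * y * g) * g⁻¹ = y
        group
  comp_mem := by
    rintro P P' φ ψ ⟨hφ, hP, hφN, φ', hφ', hφ'P, hφ'Q⟩ ⟨hψ, hP', hψN, ψ', hψ', hψ'P, hψ'Q⟩ h
    refine ⟨F.comp_mem hφ hψ h, hP, fun x => hψN _, ?_⟩
    -- `φ'` maps `P ⊔ Q` into `P' ⊔ Q`
    obtain ⟨hφ'Q1, hφ'Q2⟩ := (map_subgroupOf_eq_iff _).mp hφ'Q
    obtain ⟨hψ'Q1, hψ'Q2⟩ := (map_subgroupOf_eq_iff _).mp hψ'Q
    have hφ'Q' : ∀ b (hb : b ∈ Q), φ' ⟨b, le_sup_right (a := P) hb⟩ ∈ Q := fun b hb => hφ'Q1 b _ hb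
    have hmaps : ∀ x, φ' x ∈ P' ⊔ Q := by
      apply forall_mem_of_sup
      · intro a ha
        have := hφ'P ⟨a, ha⟩
        have e : (Subgroup.inclusion (le_sup_left : P ≤ P ⊔ Q) ⟨a, ha⟩) = ⟨a, le_sup_left (b := Q) ha⟩ := rfl
        rw [e] at this
        rw [this]
        exact le_sup_left (b := Q) (h ⟨a, ha⟩)
      · intro b hb
        exact le_sup_right (a := P') (hφ'Q' b hb)
    refine ⟨ψ'.comp (φ'.codRestrict (P' ⊔ Q) hmaps), F.comp_mem hφ' hψ' hmaps, fun x => ?_, ?_⟩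
    · show ψ' ⟨φ' (Subgroup.inclusion le_sup_left x), _⟩ = ψ ⟨φ x, _⟩
      rw [← hψ'P]
      congr 1
      apply Subtype.ext
      exact hφ'P x
    · rw [map_subgroupOf_eq_iff]
      constructor
      · intro x hxR hxQ
        show ψ' ⟨φ' ⟨x, hxR⟩, _⟩ ∈ Q
        exact hψ'Q1 _ _ (hφ'Q1 x hxR hxQ)
      · intro y hy
        obtain ⟨x, hxR, hxQ, rfl⟩ := hψ'Q2 y hy
        obtain ⟨z, hzR, hzQ, hz⟩ := hφ'Q2 x hxQ
        refine ⟨z, hzR, hzQ, ?_⟩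
        show ψ' ⟨φ' ⟨z, hzR⟩, _⟩ = ψ' ⟨x, hxR⟩
        congr 1
        exact Subtype.ext hz
  inv_mem := by
    rintro P φ ⟨hφ, hP, hφN, φ', hφ', hφ'P, hφ'Q⟩
    obtain ⟨ψ', hψ', hψ'x⟩ := F.inv_mem hφ'
    obtain ⟨hφ'Q1, hφ'Q2⟩ := (map_subgroupOf_eq_iff _).mp hφ'Q
    have hle1 : φ.range ≤ φ'.range := by
      rintro _ ⟨x, rfl⟩
      exact ⟨Subgroup.inclusion le_sup_left x, hφ'P x⟩
    have hQle : Q ≤ φ'.range := by
      intro y hy
      obtain ⟨x, hxR, -, rfl⟩ := hφ'Q2 y hy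
      exact ⟨_, rfl⟩
    have hle2 : φ.range ⊔ Q ≤ φ'.range := sup_le hle1 hQle
    have hψx : ∀ x : P, ψ' ⟨φ x, hle1 ⟨x, rfl⟩⟩ = x := by
      intro x
      have := hψ'x (Subgroup.inclusion le_sup_left x)
      refine Eq.trans ?_ this
      congr 1
      apply Subtype.ext
      exact (hφ'P x).symm
    refine ⟨ψ'.comp (Subgroup.inclusion hle1), ⟨restrict_mem F hψ' hle1, ?_, ?_,
      ψ'.comp (Subgroup.inclusion hle2), restrict_mem F hψ' hle2, fun x => rfl, ?_⟩, fun x => hψx x⟩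
    · rintro _ ⟨x, rfl⟩
      exact hφN x
    · rintro ⟨_, x, rfl⟩
      show ψ' ⟨φ x, _⟩ ∈ _
      rw [hψx x]
      exact hP x.2
    · rw [map_subgroupOf_eq_iff]
      constructor
      · intro x hxR hxQ
        obtain ⟨z, hzR, hzQ, hz⟩ := hφ'Q2 x hxQ
        show ψ' ⟨x, _⟩ ∈ Q
        have := hψ'x ⟨z, hzR⟩
        have e : (⟨x, hle2 hxR⟩ : φ'.range) = ⟨φ' ⟨z, hzR⟩, ⟨_, rfl⟩⟩ := Subtype.ext hz.symm
        rw [e, this]
        exact hzQ
      · intro y hy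
        have hyR : y ∈ P ⊔ Q := le_sup_right (a := P) hy
        have h1 : φ' ⟨y, hyR⟩ ∈ Q := hφ'Q1 y hyR hy
        refine ⟨φ' ⟨y, hyR⟩, le_sup_right (a := φ.range) h1, h1, ?_⟩
        exact hψ'x ⟨y, hyR⟩

theorem isNormalizerSystem_normalizerSystem (F : FusionSystem S) (Q : Subgroup Ω) (hQ : Q ≤ S) :
    F.IsNormalizerSystem Q (normalizerSystem F Q hQ) := fun _ => rfl

/-- The centralizer system `C_F(Q)` as a fusion system over `C_S(Q)`. -/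
def centralizerSystem (F : FusionSystem S) (Q : Subgroup Ω) (hQ : Q ≤ S) :
    FusionSystem (centralizerIn S Q) where
  Hom P := F.centralizerHom Q P
  le_of_mem := fun h => ⟨h.2.1, h.2.2.1⟩
  injective_of_mem := fun h => F.injective_of_mem h.1
  conj_mem := by
    intro P g hP hg
    have hPS : P ≤ S := hP.trans inf_le_left
    refine ⟨F.conj_mem hPS hg.1, hP, fun x => ?_, conjHom (P ⊔ Q) g, F.conj_mem (sup_le hPS hQ) hg.1,
      fun x => rfl, ?_⟩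
    · exact Subgroup.mul_mem _ (Subgroup.mul_mem _ hg (hP x.2)) (Subgroup.inv_mem _ hg)
    · have hgC : g ∈ Subgroup.centralizer (Q : Set Ω) := hg.2
      intro x
      show g * (x : Ω) * g⁻¹ = x
      have := Subgroup.mem_centralizer_iff.mp hgC x x.2
      rw [← this]
      group
  comp_mem := by
    rintro P P' φ ψ ⟨hφ, hP, hφN, φ', hφ', hφ'P, hφ'Q⟩ ⟨hψ, hP', hψN, ψ', hψ', hψ'P, hψ'Q⟩ h
    refine ⟨F.comp_mem hφ hψ h, hP, fun x => hψN _, ?_⟩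
    have hφ'Q' : ∀ b (hb : b ∈ Q), φ' ⟨b, le_sup_right (a := P) hb⟩ = b := fun b hb => hφ'Q ⟨b, hb⟩
    have hmaps : ∀ x, φ' x ∈ P' ⊔ Q := by
      apply forall_mem_of_sup
      · intro a ha
        have := hφ'P ⟨a, ha⟩
        have e : (Subgroup.inclusion (le_sup_left : P ≤ P ⊔ Q) ⟨a, ha⟩) = ⟨a, le_sup_left (b := Q) ha⟩ := rfl
        rw [e] at this
        rw [this]
        exact le_sup_left (b := Q) (h ⟨a, ha⟩)
      · intro b hb
        rw [hφ'Q' b hb]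
        exact le_sup_right (a := P') hb
    refine ⟨ψ'.comp (φ'.codRestrict (P' ⊔ Q) hmaps), F.comp_mem hφ' hψ' hmaps, fun x => ?_, ?_⟩
    · show ψ' ⟨φ' (Subgroup.inclusion le_sup_left x), _⟩ = ψ ⟨φ x, _⟩
      rw [← hψ'P]
      congr 1
      apply Subtype.ext
      exact hφ'P x
    · rintro ⟨x, hx⟩
      show ψ' ⟨φ' ⟨x, _⟩, _⟩ = x
      have := hψ'Q ⟨x, hx⟩
      refine Eq.trans ?_ this
      congr 1
      apply Subtype.ext
      exact hφ'Q' x hx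
  inv_mem := by
    rintro P φ ⟨hφ, hP, hφN, φ', hφ', hφ'P, hφ'Q⟩
    obtain ⟨ψ', hψ', hψ'x⟩ := F.inv_mem hφ'
    have hle1 : φ.range ≤ φ'.range := by
      rintro _ ⟨x, rfl⟩
      exact ⟨Subgroup.inclusion le_sup_left x, hφ'P x⟩
    have hQle : Q ≤ φ'.range := by
      intro y hy
      exact ⟨Subgroup.inclusion le_sup_right ⟨y, hy⟩, hφ'Q ⟨y, hy⟩⟩
    have hle2 : φ.range ⊔ Q ≤ φ'.range := sup_le hle1 hQle
    have hψx : ∀ x : P, ψ' ⟨φ x, hle1 ⟨x, rfl⟩⟩ = x := by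
      intro x
      have := hψ'x (Subgroup.inclusion le_sup_left x)
      refine Eq.trans ?_ this
      congr 1
      apply Subtype.ext
      exact (hφ'P x).symm
    refine ⟨ψ'.comp (Subgroup.inclusion hle1), ⟨restrict_mem F hψ' hle1, ?_, ?_,
      ψ'.comp (Subgroup.inclusion hle2), restrict_mem F hψ' hle2, fun x => rfl, ?_⟩, fun x => hψx x⟩
    · rintro _ ⟨x, rfl⟩
      exact hφN x
    · rintro ⟨_, x, rfl⟩
      show ψ' ⟨φ x, _⟩ ∈ _
      rw [hψx x]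
      exact hP x.2
    · rintro ⟨x, hx⟩
      show ψ' ⟨x, _⟩ = x
      have := hψ'x (Subgroup.inclusion le_sup_right ⟨x, hx⟩)
      refine Eq.trans ?_ this
      congr 1
      exact Subtype.ext (hφ'Q ⟨x, hx⟩).symm

theorem isCentralizerSystem_centralizerSystem (F : FusionSystem S) (Q : Subgroup Ω) (hQ : Q ≤ S) :
    F.IsCentralizerSystem Q (centralizerSystem F Q hQ) := fun _ => rfl

end Cfsg.Agent.Lib.Helper85
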