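import Cfsg.Agent.Lib.Helper85.FusionBasic
import Cfsg.Prelude.Def_FusionComponents

set_option autoImplicit false

namespace Cfsg.Agent.Lib.Helper85

open Cfsg Cfsg.FusionSystem

variable {Ω : Type*} [Group Ω] {S : Subgroup Ω}

theorem mem_preimageAlong_iff {Ω' : Type*} [Group Ω'] (θ : S →* Ω') (P' : Subgroup Ω') (x : Ω) :
    x ∈ preimageAlong θ P' ↔ ∃ hx : x ∈ S, θ ⟨x, hx⟩ ∈ P' := by
  constructor
  · rintro ⟨⟨y, hy⟩, hyP, rfl⟩
    exact ⟨hy, hyP⟩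
  · rintro ⟨hx, hxP⟩
    exact ⟨⟨x, hx⟩, hxP, rfl⟩

theorem preimageAlong_le {Ω' : Type*} [Group Ω'] (θ : S →* Ω') (P' : Subgroup Ω') :
    preimageAlong θ P' ≤ S := Subgroup.map_subtype_le _

theorem preimageAlong_mono {Ω' : Type*} [Group Ω'] (θ : S →* Ω') {P' Q' : Subgroup Ω'} (h : P' ≤ Q') :
    preimageAlong θ P' ≤ preimageAlong θ Q' := by
  intro x hx
  rw [mem_preimageAlong_iff] at hx ⊢
  obtain ⟨hxS, hxP⟩ := hx
  exact ⟨hxS, h hxP⟩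

/-- A strongly closed subgroup is preserved and reflected by every map of the system. -/
theorem stronglyClosed_apply_mem_iff (F : FusionSystem S) {S₀ : Subgroup Ω} (hS₀ : F.StronglyClosed S₀)
    {P : Subgroup Ω} {φ : P →* Ω} (hφ : φ ∈ F.Hom P) (x : P) : φ x ∈ S₀ ↔ (x : Ω) ∈ S₀ := by
  constructor
  · intro h
    obtain ⟨ψ, hψ, hψx⟩ := F.inv_mem hφ
    have hle : φ.range ⊓ S₀ ≤ φ.range := inf_le_left
    have := hS₀.2 (φ.range ⊓ S₀) inf_le_right _ (restrict_mem F hψ hle) ⟨φ x, ⟨⟨x, rfl⟩, h⟩⟩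
    have e : (ψ.comp (Subgroup.inclusion hle)) ⟨φ x, ⟨⟨x, rfl⟩, h⟩⟩ = x := hψx x
    rwa [e] at this
  · intro h
    have hle : P ⊓ S₀ ≤ P := inf_le_left
    exact hS₀.2 (P ⊓ S₀) inf_le_right _ (restrict_mem F hφ hle) ⟨x, ⟨x.2, h⟩⟩

/-- For finite `S`, a map of the system whose source contains the strongly closed `S₀` maps `S₀` onto `S₀`. -/
theorem stronglyClosed_surj [Finite S] (F : FusionSystem S) {S₀ : Subgroup Ω} (hS₀ : F.StronglyClosed S₀)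
    {P : Subgroup Ω} {φ : P →* Ω} (hφ : φ ∈ F.Hom P) (hle : S₀ ≤ P) (z : Ω) (hz : z ∈ S₀) :
    ∃ x : P, (x : Ω) ∈ S₀ ∧ φ x = z := by
  have : Finite S₀ := Finite.of_injective (Subgroup.inclusion hS₀.1) (Subgroup.inclusion_injective _)
  let f : S₀ → S₀ := fun y => ⟨φ ⟨y, hle y.2⟩, (stronglyClosed_apply_mem_iff F hS₀ hφ _).mpr y.2⟩
  have hinj : Function.Injective f := by
    intro a b hab
    have h1 : φ ⟨a, hle a.2⟩ = φ ⟨b, hle b.2⟩ := congrArg Subtype.val hab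
    have h2 := F.injective_of_mem hφ h1
    exact Subtype.ext (congrArg (fun t : P => (t : Ω)) h2)
  obtain ⟨y, hy⟩ := (Finite.injective_iff_surjective.mp hinj) ⟨z, hz⟩
  exact ⟨⟨y, hle y.2⟩, y.2, congrArg Subtype.val hy⟩

section factor

variable {Ω' : Type*} [Group Ω'] {S' : Subgroup Ω'}

/-- The maps of the factor system with source `P'`. -/
def factorHom (F : FusionSystem S) (S' : Subgroup Ω') (θ : S →* Ω') (P' : Subgroup Ω') : Set (P' →* Ω') :=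
  {φ' | P' ≤ S' ∧ ∃ φ ∈ F.Hom (preimageAlong θ P'), InducedAlong θ φ φ'}

variable (F : FusionSystem S) (S₀ : Subgroup Ω) (hS₀ : F.StronglyClosed S₀) (θ : S →* Ω')
  (hker : ∀ s : S, θ s = 1 ↔ (s : Ω) ∈ S₀) (hrange : θ.range = S')

include hrange in
theorem exists_preimage_of_mem {P' : Subgroup Ω'} (hP' : P' ≤ S') (y : P') :
    ∃ (x : Ω) (hx : x ∈ preimageAlong θ P') (hxS : x ∈ S), θ ⟨x, hxS⟩ = y := by
  have : (y : Ω') ∈ θ.range := hrange ▸ hP' y.2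
  obtain ⟨s, hs⟩ := this
  refine ⟨s, (mem_preimageAlong_iff θ P' s).mpr ⟨s.2, ?_⟩, s.2, hs⟩
  rw [hs]
  exact y.2

include hrange in
theorem factorHom_apply_mem {P' : Subgroup Ω'} {φ' : P' →* Ω'} (h : φ' ∈ factorHom F S' θ P') (y : P') :
    φ' y ∈ S' := by
  obtain ⟨hP', φ, hφ, hP, hφS, hθP, hind⟩ := h
  obtain ⟨x, hx, hxS, hxy⟩ := exists_preimage_of_mem θ hrange hP' y
  have := hind ⟨x, hx⟩
  have e : (⟨θ ⟨x, hP hx⟩, hθP ⟨x, hx⟩⟩ : P') = y := Subtype.ext hxy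
  rw [e] at this
  rw [this, ← hrange]
  exact ⟨_, rfl⟩

include hS₀ hker hrange in
theorem factorHom_injective {P' : Subgroup Ω'} {φ' : P' →* Ω'} (h : φ' ∈ factorHom F S' θ P') :
    Function.Injective φ' := by
  obtain ⟨hP', φ, hφ, hP, hφS, hθP, hind⟩ := h
  rw [injective_iff_map_eq_one]
  intro y hy
  obtain ⟨x, hx, hxS, hxy⟩ := exists_preimage_of_mem θ hrange hP' y
  have := hind ⟨x, hx⟩
  have e : (⟨θ ⟨x, hP hx⟩, hθP ⟨x, hx⟩⟩ : P') = y := Subtype.ext hxy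
  rw [e, hy] at this
  have h1 : φ ⟨x, hx⟩ ∈ S₀ := (hker ⟨_, hφS ⟨x, hx⟩⟩).mp this.symm
  have h2 : x ∈ S₀ := (stronglyClosed_apply_mem_iff F hS₀ hφ ⟨x, hx⟩).mp h1
  have h3 : θ ⟨x, hxS⟩ = 1 := (hker ⟨x, hxS⟩).mpr h2
  apply Subtype.ext
  rw [← hxy, h3]
  rfl

/-- The factor system `F/S₀`, read through `θ`. -/
def factorSystem [Finite S] : FusionSystem S' where
  Hom P' := factorHom F S' θ P'
  le_of_mem := fun h => ⟨h.1, fun y => factorHom_apply_mem F θ hrange h y⟩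
  injective_of_mem := fun h => factorHom_injective F S₀ hS₀ θ hker hrange h
  conj_mem := by
    intro P' g hP' hg
    have hg' : g ∈ θ.range := hrange ▸ hg
    obtain ⟨s, rfl⟩ := hg'
    have hpre : preimageAlong θ P' ≤ S := preimageAlong_le θ P'
    refine ⟨hP', conjHom _ (s : Ω), F.conj_mem hpre s.2, hpre, fun x => ?_, fun x => ?_, fun x => ?_⟩
    · exact S.mul_mem (S.mul_mem s.2 (hpre x.2)) (S.inv_mem s.2)
    · exact ((mem_preimageAlong_iff θ P' x).mp x.2).2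
    · show θ s * θ ⟨x, _⟩ * (θ s)⁻¹ = θ ⟨s * x * (s : Ω)⁻¹, _⟩
      rw [← map_inv, ← map_mul, ← map_mul]
      rfl
  comp_mem := by
    rintro P' Q' φ' ψ' ⟨hP', φ, hφ, hP, hφS, hθP, hind⟩ ⟨hQ', ψ, hψ, hQ, hψS, hθQ, hindψ⟩ h
    have hmaps : ∀ x : ↥(preimageAlong θ P'), φ x ∈ preimageAlong θ Q' := by
      intro x
      rw [mem_preimageAlong_iff]
      refine ⟨hφS x, ?_⟩
      rw [← hind x]
      exact h _
    refine ⟨hP', _, F.comp_mem hφ hψ hmaps, hP, fun x => hψS _, hθP, fun x => ?_⟩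
    show ψ' ⟨φ' ⟨θ ⟨x, _⟩, _⟩, _⟩ = θ ⟨ψ ⟨φ x, _⟩, _⟩
    rw [← hindψ ⟨φ x, hmaps x⟩]
    congr 1
    apply Subtype.ext
    exact hind x
  inv_mem := by
    rintro P' φ' ⟨hP', φ, hφ, hP, hφS, hθP, hind⟩
    have hinj : Function.Injective φ' :=
      factorHom_injective F S₀ hS₀ θ hker hrange ⟨hP', φ, hφ, hP, hφS, hθP, hind⟩
    have hS₀le : S₀ ≤ preimageAlong θ P' := by
      intro z hz
      rw [mem_preimageAlong_iff]
      refine ⟨hS₀.1 hz, ?_⟩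
      rw [(hker ⟨z, hS₀.1 hz⟩).mpr hz]
      exact P'.one_mem
    -- the preimage of the range of `φ'` lies in the range of `φ`
    have hpre : preimageAlong θ φ'.range ≤ φ.range := by
      intro z hz
      obtain ⟨hzS, y, hy⟩ := (mem_preimageAlong_iff θ _ z).mp hz
      obtain ⟨x, hx, hxS, hxy⟩ := exists_preimage_of_mem θ hrange hP' y
      have h1 := hind ⟨x, hx⟩
      have e : (⟨θ ⟨x, hP hx⟩, hθP ⟨x, hx⟩⟩ : P') = y := Subtype.ext hxy
      rw [e, hy] at h1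
      -- `z * (φ x)⁻¹ ∈ S₀`
      have h2 : θ (⟨z, hzS⟩ * ⟨φ ⟨x, hx⟩, hφS ⟨x, hx⟩⟩⁻¹) = 1 := by
        rw [map_mul, map_inv, h1, mul_inv_cancel]
      have h3 : z * (φ ⟨x, hx⟩)⁻¹ ∈ S₀ := (hker _).mp h2
      obtain ⟨w, -, hw⟩ := stronglyClosed_surj F hS₀ hφ hS₀le _ h3
      refine ⟨w * ⟨x, hx⟩, ?_⟩
      rw [map_mul, hw]
      group
    obtain ⟨ψ₀, hψ₀, hψ₀x⟩ := F.inv_mem hφ
    have hrangeS' : φ'.range ≤ S' := by
      rintro _ ⟨y, rfl⟩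
      exact factorHom_apply_mem F θ hrange ⟨hP', φ, hφ, hP, hφS, hθP, hind⟩ y
    refine ⟨P'.subtype.comp (MonoidHom.ofInjective hinj).symm.toMonoidHom,
      ⟨hrangeS', ψ₀.comp (Subgroup.inclusion hpre), restrict_mem F hψ₀ hpre,
        preimageAlong_le θ _, fun z => (F.le_of_mem hψ₀).2 _,
        fun z => ((mem_preimageAlong_iff θ _ z).mp z.2).2, fun z => ?_⟩, fun y => ?_⟩
    · obtain ⟨x, hx⟩ := hpre z.2
      have hz : (Subgroup.inclusion hpre z) = ⟨φ x, ⟨x, rfl⟩⟩ := Subtype.ext hx.symm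
      show ((MonoidHom.ofInjective hinj).symm ⟨θ ⟨z, _⟩, _⟩ : Ω') = θ ⟨ψ₀ (Subgroup.inclusion hpre z), _⟩
      have h1 : θ ⟨ψ₀ (Subgroup.inclusion hpre z), (F.le_of_mem hψ₀).2 _⟩ = θ ⟨x, hP x.2⟩ := by
        congr 1
        apply Subtype.ext
        rw [hz]
        exact hψ₀x x
      rw [h1]
      have h2 : (⟨θ ⟨z, preimageAlong_le θ _ z.2⟩, ((mem_preimageAlong_iff θ _ z).mp z.2).2⟩ : φ'.range) =
          MonoidHom.ofInjective hinj ⟨θ ⟨x, hP x.2⟩, hθP x⟩ := by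
        apply Subtype.ext
        show θ ⟨z, _⟩ = φ' ⟨θ ⟨x, hP x.2⟩, hθP x⟩
        rw [hind x]
        congr 1
        apply Subtype.ext
        exact hx.symm
      rw [h2, MulEquiv.symm_apply_apply]
    · show ((MonoidHom.ofInjective hinj).symm ⟨φ' y, _⟩ : Ω') = y
      have : (⟨φ' y, ⟨y, rfl⟩⟩ : φ'.range) = MonoidHom.ofInjective hinj y := rfl
      rw [this, MulEquiv.symm_apply_apply]

theorem isFactorSystem_factorSystem [Finite S] :
    F.IsFactorSystem S₀ θ (factorSystem F S₀ hS₀ θ hker hrange) :=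
  ⟨hS₀.1, hker, hrange, fun _ _ => Iff.rfl⟩

end factor

end Cfsg.Agent.Lib.Helper85
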