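import Cfsg.Agent.Lib.Helper85.FusionGroup

set_option autoImplicit false

namespace Cfsg.Agent.Lib.Helper85

open Cfsg Cfsg.FusionSystem

variable {G : Type*} [Group G]

/-- Elements of `H ⊔ C` are products when `H` normalizes `C`. -/
theorem mem_sup_of_le_normalizer {H C : Subgroup G} (h : H ≤ Subgroup.normalizer (C : Set G)) {x : G}
    (hx : x ∈ H ⊔ C) : ∃ s ∈ H, ∃ c ∈ C, x = s * c := by
  rw [Subgroup.sup_eq_closure] at hx
  induction hx using Subgroup.closure_induction with
  | mem y hy =>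
    rcases hy with hy | hy
    · exact ⟨y, hy, 1, C.one_mem, by simp⟩
    · exact ⟨1, H.one_mem, y, hy, by simp⟩
  | one => exact ⟨1, H.one_mem, 1, C.one_mem, by simp⟩
  | mul a b _ _ ha hb =>
    obtain ⟨s, hs, c, hc, rfl⟩ := ha
    obtain ⟨s', hs', c', hc', rfl⟩ := hb
    refine ⟨s * s', H.mul_mem hs hs', s'⁻¹ * c * s' * c', C.mul_mem ?_ hc', by group⟩
    have := (Subgroup.mem_normalizer_iff''.mp (h hs') c).mp hc
    exact this
  | inv a _ ha =>
    obtain ⟨s, hs, c, hc, rfl⟩ := ha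
    refine ⟨s⁻¹, H.inv_mem hs, s * c⁻¹ * s⁻¹, ?_, by group⟩
    exact (Subgroup.mem_normalizer_iff.mp (h hs) c⁻¹).mp (C.inv_mem hc)

section
variable [Finite G] {p : ℕ} [Fact p.Prime]

/-- Sylow's theorem relative to a subgroup `K`: if `H ≤ K` is a Sylow `p`-subgroup of `K`, every `p`-subgroup of `K`
is `K`-conjugate into `H`. -/
theorem exists_conj_le_of_sylow_subgroupOf {H K T : Subgroup G}
    (hR : ∃ R : Sylow p K, (R : Subgroup K) = H.subgroupOf K) (hTK : T ≤ K) (hT : IsPGroup p T) :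
    ∃ k ∈ K, T.map (MulAut.conj k).toMonoidHom ≤ H := by
  obtain ⟨R, hR⟩ := hR
  have hT' : IsPGroup p (T.subgroupOf K) := hT.comap_subtype
  obtain ⟨k, hk⟩ := exists_conj_le_sylow R hT'
  refine ⟨k, k.2, ?_⟩
  rintro _ ⟨x, hx, rfl⟩
  have h1 : (⟨x, hTK hx⟩ : K) ∈ T.subgroupOf K := hx
  have h2 : k * ⟨x, hTK hx⟩ * k⁻¹ ∈ (R : Subgroup K) := hk ⟨_, h1, rfl⟩
  rw [hR] at h2
  exact h2

/-- Every `P ≤ S` is `G`-conjugate to some `Q ≤ S` with `N_S(Q)` Sylow in `N_G(Q)`. -/
theorem exists_conj_normalizerIn_sylow (S : Sylow p G) {P : Subgroup G} (hP : P ≤ S) :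
    ∃ g : G, P.map (MulAut.conj g).toMonoidHom ≤ S ∧
      ∃ R : Sylow p ↥(Subgroup.normalizer ((P.map (MulAut.conj g).toMonoidHom : Subgroup G) : Set G)),
        (R : Subgroup ↥(Subgroup.normalizer ((P.map (MulAut.conj g).toMonoidHom : Subgroup G) : Set G))) =
          (normalizerIn (S : Subgroup G) (P.map (MulAut.conj g).toMonoidHom)).subgroupOf
            (Subgroup.normalizer ((P.map (MulAut.conj g).toMonoidHom : Subgroup G) : Set G)) := by
  obtain ⟨R⟩ : Nonempty (Sylow p ↥(Subgroup.normalizer (P : Set G))) := Sylow.nonempty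
  set T : Subgroup G := (R : Subgroup _).map (Subgroup.normalizer (P : Set G)).subtype with hTdef
  have hTN : T ≤ Subgroup.normalizer (P : Set G) := Subgroup.map_subtype_le _
  have hT : IsPGroup p T := R.isPGroup'.map _
  have hTcard : Nat.card T = Nat.card R := Subgroup.card_map_of_injective (Subgroup.subtype_injective _)
  have hTP : IsPGroup p (T ⊔ P : Subgroup G) := hT.to_sup_of_normal_right' (S.isPGroup'.to_le hP) hTN
  obtain ⟨g, hg⟩ := exists_conj_le_sylow S hTP
  have hTg : T.map (MulAut.conj g).toMonoidHom ≤ S := (map_conj_mono le_sup_left g).trans hg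
  have hPg : P.map (MulAut.conj g).toMonoidHom ≤ S := (map_conj_mono le_sup_right g).trans hg
  refine ⟨g, hPg, ?_⟩
  set Q := P.map (MulAut.conj g).toMonoidHom with hQdef
  have hle : normalizerIn (S : Subgroup G) Q ≤ Subgroup.normalizer (Q : Set G) := inf_le_right
  rw [sylow_subgroupOf_iff hle]
  refine ⟨S.isPGroup'.to_le inf_le_left, fun T' hT'N hT' => ?_⟩
  have h1 : T'.map (MulAut.conj g⁻¹).toMonoidHom ≤ Subgroup.normalizer (P : Set G) := by
    have : Subgroup.normalizer (P : Set G) =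
        (Subgroup.normalizer (Q : Set G)).map (MulAut.conj g⁻¹).toMonoidHom := by
      rw [← normalizer_map_conj, hQdef, map_conj_inv_map_conj]
    rw [this]
    exact map_conj_mono hT'N _
  have h2 := card_le_card_sylow R h1 (hT'.map _)
  rw [card_map_conj] at h2
  have h3 : T.map (MulAut.conj g).toMonoidHom ≤ normalizerIn (S : Subgroup G) Q :=
    normalizerIn_map_conj_le hTg hTN
  calc Nat.card T' ≤ Nat.card R := h2
    _ = Nat.card T := hTcard.symm
    _ = Nat.card (T.map (MulAut.conj g).toMonoidHom) := (card_map_conj T g).symm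
    _ ≤ _ := Subgroup.card_le_of_le h3

/-- If `N_S(Q)` is Sylow in `N_G(Q)` then `C_S(Q)` is Sylow in `C_G(Q)`. -/
theorem centralizerIn_sylow_of_normalizerIn_sylow (S : Sylow p G) {Q : Subgroup G}
    (hN : ∃ R : Sylow p ↥(Subgroup.normalizer (Q : Set G)),
      (R : Subgroup ↥(Subgroup.normalizer (Q : Set G))) =
        (normalizerIn (S : Subgroup G) Q).subgroupOf (Subgroup.normalizer (Q : Set G))) :
    ∃ R : Sylow p ↥(Subgroup.centralizer (Q : Set G)),
      (R : Subgroup ↥(Subgroup.centralizer (Q : Set G))) =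
        (centralizerIn (S : Subgroup G) Q).subgroupOf (Subgroup.centralizer (Q : Set G)) := by
  have hle : centralizerIn (S : Subgroup G) Q ≤ Subgroup.centralizer (Q : Set G) := inf_le_right
  rw [sylow_subgroupOf_iff hle]
  refine ⟨S.isPGroup'.to_le inf_le_left, fun T hTC hT => ?_⟩
  have hTN : T ≤ Subgroup.normalizer (Q : Set G) := hTC.trans (Subgroup.centralizer_le_normalizer _)
  obtain ⟨k, hk, hkT⟩ := exists_conj_le_of_sylow_subgroupOf hN hTN hT
  have h1 : T.map (MulAut.conj k).toMonoidHom ≤ centralizerIn (S : Subgroup G) Q := by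
    refine le_inf (hkT.trans inf_le_left) ?_
    have : Subgroup.centralizer (Q : Set G) =
        Subgroup.centralizer ((Q.map (MulAut.conj k).toMonoidHom : Subgroup G) : Set G) := by
      congr 2
      ext x
      rw [mem_map_conj_iff]
      exact Subgroup.mem_normalizer_iff''.mp hk x
    rw [this, centralizer_map_conj]
    exact map_conj_mono hTC k
  calc Nat.card T = Nat.card (T.map (MulAut.conj k).toMonoidHom) := (card_map_conj T k).symm
    _ ≤ _ := Subgroup.card_le_of_le h1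

end

/-- An element inducing an automorphism of `Q` by conjugation normalizes `Q`. -/
theorem mem_normalizer_of_induces {Q : Subgroup G} {α : MulAut Q} {g : G}
    (h : ∀ x : Q, ((α x : Q) : G) = g * (x : G) * g⁻¹) : g ∈ Subgroup.normalizer (Q : Set G) := by
  rw [Subgroup.mem_normalizer_iff]
  intro x
  constructor
  · intro hx
    rw [← h ⟨x, hx⟩]
    exact (α ⟨x, hx⟩).2
  · intro hx
    have := h (α⁻¹ ⟨_, hx⟩)
    rw [MulAut.apply_inv_self] at this
    have e : x = ((α⁻¹ ⟨_, hx⟩ : Q) : G) := by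
      have h2 : g * x * g⁻¹ = g * ((α⁻¹ ⟨_, hx⟩ : Q) : G) * g⁻¹ := this
      exact mul_left_cancel (mul_right_cancel h2)
    rw [e]
    exact (α⁻¹ ⟨_, hx⟩).2

/-- The natural surjection `N_G(Q) → Aut_G(Q)`. -/
noncomputable def normalizerToAut (Q : Subgroup G) :
    ↥(Subgroup.normalizer (Q : Set G)) →* ↥(autInducedBy (⊤ : Subgroup G) Q) :=
  (Q.normalizerMonoidHom).codRestrict (autInducedBy (⊤ : Subgroup G) Q) fun n =>
    (mem_autInducedBy_iff ⊤ Q _).mpr ⟨n, Subgroup.mem_top _, fun _ => rfl⟩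

theorem normalizerToAut_apply (Q : Subgroup G) (n : ↥(Subgroup.normalizer (Q : Set G))) (x : Q) :
    (((normalizerToAut Q n : MulAut Q) x : Q) : G) = n * x * (n : G)⁻¹ := rfl

theorem normalizerToAut_surjective (Q : Subgroup G) : Function.Surjective (normalizerToAut Q) := by
  rintro ⟨α, hα⟩
  obtain ⟨g, -, hg⟩ := (mem_autInducedBy_iff ⊤ Q α).mp hα
  refine ⟨⟨g, mem_normalizer_of_induces hg⟩, ?_⟩
  apply Subtype.ext
  apply MulEquiv.ext
  intro x
  apply Subtype.ext
  rw [hg]
  rfl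

variable [Finite G] {p : ℕ} [Fact p.Prime]

/-- If `N_S(Q)` is Sylow in `N_G(Q)` then `Aut_S(Q)` is Sylow in `Aut_G(Q)`. -/
theorem autInducedBy_sylow_of_normalizerIn_sylow (S : Subgroup G) {Q : Subgroup G}
    (hN : ∃ R : Sylow p ↥(Subgroup.normalizer (Q : Set G)),
      (R : Subgroup ↥(Subgroup.normalizer (Q : Set G))) =
        (normalizerIn S Q).subgroupOf (Subgroup.normalizer (Q : Set G))) :
    ∃ R : Sylow p ↥(autInducedBy (⊤ : Subgroup G) Q),
      (R : Subgroup ↥(autInducedBy (⊤ : Subgroup G) Q)) =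
        (autInducedBy S Q).subgroupOf (autInducedBy (⊤ : Subgroup G) Q) := by
  obtain ⟨R, hR⟩ := hN
  refine ⟨R.mapSurjective (normalizerToAut_surjective Q), ?_⟩
  rw [Sylow.coe_mapSurjective, hR]
  ext ⟨α, hα⟩
  rw [Subgroup.mem_subgroupOf]
  constructor
  · rintro ⟨n, hn, hnα⟩
    rw [(mem_autInducedBy_iff S Q _)]
    have hnS : (n : G) ∈ S := (Subgroup.mem_subgroupOf.mp hn).1
    refine ⟨n, hnS, fun x => ?_⟩
    rw [← hnα]
    rfl
  · intro h
    obtain ⟨g, hgS, hg⟩ := (mem_autInducedBy_iff S Q α).mp h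
    have hgN : g ∈ Subgroup.normalizer (Q : Set G) := mem_normalizer_of_induces hg
    refine ⟨⟨g, hgN⟩, Subgroup.mem_subgroupOf.mpr ⟨hgS, hgN⟩, ?_⟩
    apply Subtype.ext
    apply MulEquiv.ext
    intro x
    apply Subtype.ext
    rw [hg]
    rfl

/-- The key step of receptivity in `F_S(G)`. -/
theorem exists_centralizer_conj_le (S : Sylow p G) (P Q : Subgroup G) (g : G)
    (hN : ∃ R : Sylow p ↥(Subgroup.normalizer (Q : Set G)),
      (R : Subgroup ↥(Subgroup.normalizer (Q : Set G))) =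
        (normalizerIn (S : Subgroup G) Q).subgroupOf (Subgroup.normalizer (Q : Set G))) :
    ∃ h ∈ Subgroup.centralizer (Q : Set G),
      ((normalizerIn (S : Subgroup G) P) ⊓
        (normalizerIn (S : Subgroup G) Q ⊔ Subgroup.centralizer (Q : Set G)).comap
          (MulAut.conj g).toMonoidHom).map (MulAut.conj (h * g)).toMonoidHom ≤ S := by
  set N : Subgroup G := (normalizerIn (S : Subgroup G) P) ⊓
        (normalizerIn (S : Subgroup G) Q ⊔ Subgroup.centralizer (Q : Set G)).comap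
          (MulAut.conj g).toMonoidHom with hNdef
  set M : Subgroup G := normalizerIn (S : Subgroup G) Q ⊔ Subgroup.centralizer (Q : Set G) with hMdef
  have hMN : M ≤ Subgroup.normalizer (Q : Set G) :=
    sup_le inf_le_right (Subgroup.centralizer_le_normalizer _)
  have hleN : normalizerIn (S : Subgroup G) Q ≤ Subgroup.normalizer (Q : Set G) := inf_le_right
  have hleM : normalizerIn (S : Subgroup G) Q ≤ M := le_sup_left
  -- `N_S(Q)` is Sylow in `M`
  have hSylM : ∃ R : Sylow p M, (R : Subgroup M) = (normalizerIn (S : Subgroup G) Q).subgroupOf M := by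
    rw [sylow_subgroupOf_iff hleM]
    obtain ⟨h1, h2⟩ := (sylow_subgroupOf_iff hleN).mp hN
    exact ⟨h1, fun T hTM hT => h2 T (hTM.trans hMN) hT⟩
  have hNp : IsPGroup p N := S.isPGroup'.to_le (inf_le_left.trans inf_le_left)
  have hNgM : N.map (MulAut.conj g).toMonoidHom ≤ M := by
    rintro _ ⟨x, hx, rfl⟩
    exact hx.2
  obtain ⟨m, hmM, hm⟩ := exists_conj_le_of_sylow_subgroupOf hSylM hNgM (hNp.map _)
  -- decompose `m = s * c`
  have hnorm : normalizerIn (S : Subgroup G) Q ≤
      Subgroup.normalizer ((Subgroup.centralizer (Q : Set G) : Subgroup G) : Set G) := by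
    intro s hs
    have hsN : s ∈ Subgroup.normalizer (Q : Set G) := hs.2
    rw [Subgroup.mem_normalizer_iff]
    intro c
    have key : ∀ (t c : G), t ∈ Subgroup.normalizer (Q : Set G) → c ∈ Subgroup.centralizer (Q : Set G) →
        t * c * t⁻¹ ∈ Subgroup.centralizer (Q : Set G) := by
      intro t c ht hc
      rw [Subgroup.mem_centralizer_iff] at hc ⊢
      intro y hy
      have hy' : t⁻¹ * y * t ∈ Q := (Subgroup.mem_normalizer_iff''.mp ht y).mp hy
      have := hc _ hy'
      have e : y * (t * c * t⁻¹) = t * (t⁻¹ * y * t * c) * t⁻¹ := by group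
      rw [e, this]
      group
    constructor
    · exact key s c hsN
    · intro h
      have := key s⁻¹ _ (Subgroup.inv_mem _ hsN) h
      have e : s⁻¹ * (s * c * s⁻¹) * s⁻¹⁻¹ = c := by group
      rwa [e] at this
  obtain ⟨s, hs, c, hc, rfl⟩ := mem_sup_of_le_normalizer hnorm hmM
  refine ⟨c, hc, ?_⟩
  rintro _ ⟨x, hx, rfl⟩
  have h1 : s * c * (g * x * g⁻¹) * (s * c)⁻¹ ∈ normalizerIn (S : Subgroup G) Q :=
    hm ⟨_, ⟨x, hx, rfl⟩, rfl⟩
  have h2 : s⁻¹ * (s * c * (g * x * g⁻¹) * (s * c)⁻¹) * s ∈ normalizerIn (S : Subgroup G) Q :=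
    Subgroup.mul_mem _ (Subgroup.mul_mem _ (Subgroup.inv_mem _ hs) h1) hs
  have e : s⁻¹ * (s * c * (g * x * g⁻¹) * (s * c)⁻¹) * s = c * g * x * (c * g)⁻¹ := by group
  rw [e] at h2
  exact h2.1

end Cfsg.Agent.Lib.Helper85
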