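import Cfsg.Agent.Lib.Helper85.FusionQuotAut
import Cfsg.Agent.Lib.Helper85.FusionRS
import Cfsg.Agent.Lib.Helper85.FusionGroupSat
import Cfsg.Agent.Lib.Helper87.FusionLift

/-!
# The factor system of a saturated fusion system by a strongly closed subgroup is saturated
-/

set_option autoImplicit false

namespace Cfsg.Agent.Lib.Helper85

open Cfsg Cfsg.FusionSystem

variable {Ω : Type*} [Group Ω] {S : Subgroup Ω} {Ω' : Type*} [Group Ω'] {S' : Subgroup Ω'}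

/-- **Sylow adjustment.** `B` a Sylow `p`-subgroup of `A`, `N ≤ A` normalized by `A`, `D` a `p`-subgroup all of whose
elements lie in `N B`. Then some element of `N` conjugates `D` into `B`. -/
theorem exists_conj_le_of_mem_mul {G : Type*} [Group G] [Finite G] {p : ℕ} [Fact p.Prime] {A B N D : Subgroup G}
    (hBA : B ≤ A) (hNA : N ≤ A) (hSyl : ∃ R : Sylow p A, (R : Subgroup A) = B.subgroupOf A)
    (hN : ∀ a ∈ A, ∀ n ∈ N, a * n * a⁻¹ ∈ N) (hD : IsPGroup p D)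
    (hDB : ∀ d ∈ D, ∃ b ∈ B, d * b⁻¹ ∈ N) :
    ∃ κ ∈ N, ∀ d ∈ D, κ * d * κ⁻¹ ∈ B := by
  have hBN : B ≤ Subgroup.normalizer (N : Set G) := by
    intro b hb
    apply mem_normalizer_of_conj_le_of_finite
    intro n hn
    exact hN b (hBA hb) n hn
  have hSyl' : ∃ R : Sylow p ↥(B ⊔ N), (R : Subgroup ↥(B ⊔ N)) = B.subgroupOf (B ⊔ N) := by
    rw [sylow_subgroupOf_iff hBA] at hSyl
    rw [sylow_subgroupOf_iff le_sup_left]
    exact ⟨hSyl.1, fun T hT hTp => hSyl.2 T (hT.trans (sup_le hBA hNA)) hTp⟩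
  have hDle : D ≤ B ⊔ N := by
    intro d hd
    obtain ⟨b, hb, hdb⟩ := hDB d hd
    have e : d = (d * b⁻¹) * b := by group
    rw [e]
    exact Subgroup.mul_mem _ (le_sup_right (a := B) (b := N) hdb) (le_sup_left (a := B) (b := N) hb)
  obtain ⟨κ, hκ, hκD⟩ := exists_conj_le_of_sylow_subgroupOf hSyl' hDle hD
  obtain ⟨b, hb, κ₀, hκ₀, rfl⟩ := mem_sup_of_le_normalizer hBN hκ
  refine ⟨κ₀, hκ₀, fun d hd => ?_⟩
  have h1 : (b * κ₀) * d * (b * κ₀)⁻¹ ∈ B := hκD (conj_mem_map_conj _ hd)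
  have e : κ₀ * d * κ₀⁻¹ = b⁻¹ * ((b * κ₀) * d * (b * κ₀)⁻¹) * b := by group
  rw [e]
  exact B.mul_mem (B.mul_mem (B.inv_mem hb) h1) hb

section quot

variable (F : FusionSystem S) {K : Subgroup Ω} (hK : F.StronglyClosed K) (θ : S →* Ω')
  (hker : ∀ s : S, θ s = 1 ↔ (s : Ω) ∈ K)

include hker in
theorem θp_eq_one_iff (Q' : Subgroup Ω') (x : ↥(preimageAlong θ Q')) : θp θ Q' x = 1 ↔ (x : Ω) ∈ K :=
  hker _

include hK hker in
theorem autGroup_le_kerStab (Q' : Subgroup Ω') : F.autGroup (preimageAlong θ Q') ≤ kerStab θ Q' := by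
  intro γ hγ x
  have hφ := (mem_autGroup_iff F (preimageAlong_le θ Q') γ).mp hγ
  rw [θp_eq_one_iff θ hker, θp_eq_one_iff θ hker]
  exact (stronglyClosed_apply_mem_iff F hK hφ x).symm

/-- The homomorphism `Aut_F(Q) → Aut(Q')` for `Q` the full preimage of `Q'`. -/
noncomputable def autQuotHom {Q' : Subgroup Ω'} (hQ' : Q' ≤ θ.range) :
    F.autGroup (preimageAlong θ Q') →* MulAut Q' :=
  (inducedAutHom θ hQ').comp (Subgroup.inclusion (autGroup_le_kerStab F hK θ hker Q'))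

theorem autQuotHom_apply {Q' : Subgroup Ω'} (hQ' : Q' ≤ θ.range) (γ : F.autGroup (preimageAlong θ Q'))
    (x : ↥(preimageAlong θ Q')) (hx : θp θ Q' x ∈ Q') :
    ((autQuotHom F hK θ hker hQ' γ ⟨θp θ Q' x, hx⟩ : Q') : Ω') =
      θp θ Q' ((γ : MulAut ↥(preimageAlong θ Q')) x) :=
  inducedAutHom_apply θ hQ' _ x hx

theorem eq_autQuotHom {Q' : Subgroup Ω'} (hQ' : Q' ≤ θ.range) (γ : F.autGroup (preimageAlong θ Q'))
    (γ' : MulAut Q')
    (h : ∀ (x : ↥(preimageAlong θ Q')) (hx : θp θ Q' x ∈ Q'),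
      ((γ' ⟨θp θ Q' x, hx⟩ : Q') : Ω') = θp θ Q' ((γ : MulAut ↥(preimageAlong θ Q')) x)) :
    autQuotHom F hK θ hker hQ' γ = γ' :=
  eq_inducedAutHom θ hQ' _ γ' h

variable (E : FusionSystem S') (hrange : θ.range = S')
  (hHom : ∀ (P' : Subgroup Ω') (φ' : P' →* Ω'),
      φ' ∈ E.Hom P' ↔ P' ≤ S' ∧ ∃ φ ∈ F.Hom (preimageAlong θ P'), InducedAlong θ φ φ')

include hHom in
theorem autQuotHom_mem {Q' : Subgroup Ω'} (hQ'S : Q' ≤ S') (hQ' : Q' ≤ θ.range)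
    (γ : F.autGroup (preimageAlong θ Q')) : autQuotHom F hK θ hker hQ' γ ∈ E.autGroup Q' := by
  rw [mem_autGroup_iff E hQ'S, hHom]
  refine ⟨hQ'S, _, (mem_autGroup_iff F (preimageAlong_le θ Q') _).mp γ.2, preimageAlong_le θ Q',
    fun x => preimageAlong_le θ Q' ((γ : MulAut ↥(preimageAlong θ Q')) x).2, fun x => θp_mem θ Q' x,
    fun x => ?_⟩
  exact autQuotHom_apply F hK θ hker hQ' γ x _

include hHom in
theorem exists_autQuotHom_eq [Finite S] {Q' : Subgroup Ω'} (hQ'S : Q' ≤ S') (hQ' : Q' ≤ θ.range)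
    {γ' : MulAut Q'} (hγ' : γ' ∈ E.autGroup Q') :
    ∃ γ : F.autGroup (preimageAlong θ Q'), autQuotHom F hK θ hker hQ' γ = γ' := by
  rw [mem_autGroup_iff E hQ'S, hHom] at hγ'
  obtain ⟨-, φ, hφ, hP, hφS, hP', hind⟩ := hγ'
  have hfin : Finite ↥(preimageAlong θ Q') :=
    Finite.of_injective (Subgroup.inclusion hP) (Subgroup.inclusion_injective _)
  have hval : ∀ x, φ x ∈ preimageAlong θ Q' := by
    intro x
    rw [mem_preimageAlong_iff]
    refine ⟨hφS x, ?_⟩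
    rw [← hind x]
    exact (γ' _).2
  have hr : φ.range = preimageAlong θ Q' := by
    apply Subgroup.eq_of_le_of_card_ge
    · rintro _ ⟨x, rfl⟩
      exact hval x
    · exact (Nat.card_congr (Equiv.ofInjective _ (F.injective_of_mem hφ))).le
  obtain ⟨γ, hγ, hγx⟩ := Cfsg.Agent.Lib.Helper88.exists_aut_of_range_eq F hφ hr
  refine ⟨⟨γ, hγ⟩, eq_autQuotHom F hK θ hker hQ' _ γ' fun x hx => ?_⟩
  have h1 := hind x
  have h2 : θp θ Q' (γ x) = θ ⟨φ x, hφS x⟩ := by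
    unfold θp
    congr 1
    exact Subtype.ext (hγx x)
  rw [h2, ← h1]
  rfl

include hrange in
theorem mem_autInducedBy_quot_iff [Finite S] {Q' : Subgroup Ω'} (hQ' : Q' ≤ θ.range) (β' : MulAut Q') :
    β' ∈ autInducedBy S' Q' ↔ ∃ γ : F.autGroup (preimageAlong θ Q'),
      (γ : MulAut ↥(preimageAlong θ Q')) ∈ autInducedBy S (preimageAlong θ Q') ∧
        autQuotHom F hK θ hker hQ' γ = β' := by
  have hQS : preimageAlong θ Q' ≤ S := preimageAlong_le θ Q'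
  have hfin : Finite ↥(preimageAlong θ Q') :=
    Finite.of_injective (Subgroup.inclusion hQS) (Subgroup.inclusion_injective _)
  constructor
  · intro hβ'
    obtain ⟨g', hg', hβ'x⟩ := (mem_autInducedBy_iff S' Q' β').mp hβ'
    obtain ⟨g, rfl⟩ : g' ∈ θ.range := hrange ▸ hg'
    have hconj : ∀ x : ↥(preimageAlong θ Q'), θ (g * ⟨x, hQS x.2⟩ * g⁻¹) =
        ((β' ⟨θp θ Q' x, θp_mem θ Q' x⟩ : Q') : Ω') := by
      intro x
      rw [hβ'x, map_mul, map_mul, map_inv]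
      rfl
    have hgN : (g : Ω) ∈ Subgroup.normalizer ((preimageAlong θ Q' : Subgroup Ω) : Set Ω) := by
      apply mem_normalizer_of_conj_le_of_finite
      intro x hx
      rw [mem_preimageAlong_iff]
      refine ⟨S.mul_mem (S.mul_mem g.2 (hQS hx)) (S.inv_mem g.2), ?_⟩
      have := hconj ⟨x, hx⟩
      have e : (⟨(g : Ω) * x * (g : Ω)⁻¹, S.mul_mem (S.mul_mem g.2 (hQS hx)) (S.inv_mem g.2)⟩ : S) =
          g * ⟨x, hQS hx⟩ * g⁻¹ := rfl
      rw [e, this]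
      exact (β' _).2
    have hγS : Cfsg.Agent.Lib.Helper87.conjAut (preimageAlong θ Q') (g : Ω) hgN ∈
        autInducedBy S (preimageAlong θ Q') :=
      (mem_autInducedBy_iff S _ _).mpr ⟨g, g.2, fun _ => rfl⟩
    refine ⟨⟨_, Cfsg.Agent.Lib.Helper87.autInducedBy_le_autGroup F hQS hγS⟩, hγS,
      eq_autQuotHom F hK θ hker hQ' _ β' fun x hx => ?_⟩
    rw [← hconj x]
    rfl
  · rintro ⟨γ, hγS, rfl⟩
    obtain ⟨g, hg, hγx⟩ := (mem_autInducedBy_iff S _ _).mp hγS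
    rw [mem_autInducedBy_iff]
    refine ⟨θ ⟨g, hg⟩, hrange ▸ ⟨⟨g, hg⟩, rfl⟩, fun y => ?_⟩
    obtain ⟨x, hx⟩ := exists_θp_eq θ hQ' y
    have hy : y = ⟨θp θ Q' x, hx ▸ y.2⟩ := Subtype.ext hx.symm
    rw [hy, autQuotHom_apply]
    show θ ⟨((γ : MulAut ↥(preimageAlong θ Q')) x : Ω), _⟩ = θ ⟨g, hg⟩ * θ ⟨x, _⟩ * (θ ⟨g, hg⟩)⁻¹
    rw [← map_inv, ← map_mul, ← map_mul]
    congr 1
    exact Subtype.ext (hγx x)

include hK hker hrange hHom in
/-- If the full preimage of `Q'` is fully automized in `F`, then `Q'` is fully automized in the factor system. -/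
theorem isFullyAutomized_quot [Finite S] {p : ℕ} [Fact p.Prime] {Q' : Subgroup Ω'} (hQ'S : Q' ≤ S')
    (hQa : F.IsFullyAutomized p (preimageAlong θ Q')) : E.IsFullyAutomized p Q' := by
  have hQ' : Q' ≤ θ.range := hrange ▸ hQ'S
  have hQS : preimageAlong θ Q' ≤ S := preimageAlong_le θ Q'
  have hfin : Finite ↥(preimageAlong θ Q') :=
    Finite.of_injective (Subgroup.inclusion hQS) (Subgroup.inclusion_injective _)
  obtain ⟨-, R, hR⟩ := hQa
  refine ⟨hQ'S, ?_⟩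
  let Φ : F.autGroup (preimageAlong θ Q') →* E.autGroup Q' :=
    (autQuotHom F hK θ hker hQ').codRestrict (E.autGroup Q')
      (fun γ => autQuotHom_mem F hK θ hker E hHom hQ'S hQ' γ)
  have hΦ : Function.Surjective Φ := by
    rintro ⟨γ', hγ'⟩
    obtain ⟨γ, hγ⟩ := exists_autQuotHom_eq F hK θ hker E hHom hQ'S hQ' hγ'
    exact ⟨γ, Subtype.ext hγ⟩
  refine ⟨R.mapSurjective hΦ, ?_⟩
  rw [Sylow.coe_mapSurjective, hR]
  ext β'
  rw [Subgroup.mem_subgroupOf, mem_autInducedBy_quot_iff F hK θ hker hrange hQ']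
  constructor
  · rintro ⟨γ, hγ, rfl⟩
    exact ⟨γ, Subgroup.mem_subgroupOf.mp hγ, rfl⟩
  · rintro ⟨γ, hγ, h⟩
    exact ⟨γ, Subgroup.mem_subgroupOf.mpr hγ, Subtype.ext h⟩

include hK hker hrange hHom in
/-- If the full preimage of `Q'` is fully automized and receptive in `F`, then `Q'` is receptive in the factor system. -/
theorem isReceptive_quot [Finite S] {p : ℕ} [Fact p.Prime] (hS : IsPGroup p S) {Q' : Subgroup Ω'} (hQ'S : Q' ≤ S')
    (hQa : F.IsFullyAutomized p (preimageAlong θ Q')) (hQr : F.IsReceptive (preimageAlong θ Q')) :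
    E.IsReceptive Q' := by
  have hQ' : Q' ≤ θ.range := hrange ▸ hQ'S
  have hQS : preimageAlong θ Q' ≤ S := preimageAlong_le θ Q'
  have hfinQ : Finite ↥(preimageAlong θ Q') :=
    Finite.of_injective (Subgroup.inclusion hQS) (Subgroup.inclusion_injective _)
  refine ⟨hQ'S, fun R' φ' hφ' hφ'r => ?_⟩
  obtain ⟨hR'S, φ, hφ, hRS, hφS, hθR, hind⟩ := (hHom R' φ').mp hφ'
  have hR' : R' ≤ θ.range := hrange ▸ hR'S
  have hKR : K ≤ preimageAlong θ R' := by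
    intro k hk
    rw [mem_preimageAlong_iff]
    refine ⟨hK.1 hk, ?_⟩
    rw [(hker ⟨k, hK.1 hk⟩).mpr hk]
    exact R'.one_mem
  -- `φ` maps the preimage of `R'` onto the preimage of `Q'`
  have hφval : ∀ x, φ x ∈ preimageAlong θ Q' := by
    intro x
    rw [mem_preimageAlong_iff]
    refine ⟨hφS x, ?_⟩
    rw [← hind x, ← hφ'r]
    exact ⟨_, rfl⟩
  have hφr : φ.range = preimageAlong θ Q' := by
    apply le_antisymm
    · rintro _ ⟨x, rfl⟩
      exact hφval x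
    · intro q hq
      obtain ⟨hqS, hqQ'⟩ := (mem_preimageAlong_iff θ Q' q).mp hq
      rw [← hφ'r] at hqQ'
      obtain ⟨y, hy⟩ := hqQ'
      obtain ⟨x, hx⟩ := exists_θp_eq θ hR' y
      have h1 := hind x
      have h2 : (⟨θ ⟨x, hRS x.2⟩, hθR x⟩ : R') = y := Subtype.ext hx
      rw [h2, hy] at h1
      have h3 : θ (⟨φ x, hφS x⟩⁻¹ * ⟨q, hqS⟩) = 1 := by
        rw [map_mul, map_inv, ← h1, inv_mul_cancel]
      have h4 : (φ x)⁻¹ * q ∈ K := (hker _).mp h3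
      obtain ⟨k, -, hk⟩ := stronglyClosed_surj F hK hφ hKR _ h4
      refine ⟨x * k, ?_⟩
      rw [map_mul, hk]
      group
  obtain ⟨e, he, he_apply⟩ : ∃ e : ↥(preimageAlong θ R') ≃* ↥(preimageAlong θ Q'),
      Cfsg.Agent.Lib.Helper87.IsIso F e ∧ ∀ x, ((e x : ↥(preimageAlong θ Q')) : Ω) = φ x := by
    refine ⟨(MonoidHom.ofInjective (F.injective_of_mem hφ)).trans (MulEquiv.subgroupCongr hφr), ?_,
      fun _ => rfl⟩
    refine Cfsg.Agent.Lib.Helper87.hom_of_eq_on F rfl hφ ?_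
    intro x hx _
    rfl
  have hfinR : Finite ↥(preimageAlong θ R') :=
    Finite.of_injective (Subgroup.inclusion hRS) (Subgroup.inclusion_injective _)
  -- elements of the preimage of `N_{φ'}`
  have hM : ∀ g ∈ preimageAlong θ (extender S' R' φ'), g ∈ S ∧
      g ∈ Subgroup.normalizer ((preimageAlong θ R' : Subgroup Ω) : Set Ω) ∧
      ∃ h ∈ S, h ∈ Subgroup.normalizer ((preimageAlong θ Q' : Subgroup Ω) : Set Ω) ∧
        ∀ (x : ↥(preimageAlong θ R')) (hx : g * (x : Ω) * g⁻¹ ∈ preimageAlong θ R')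
          (hxS : h * φ x * h⁻¹ ∈ S),
          θ ⟨φ ⟨g * x * g⁻¹, hx⟩, hφS _⟩ = θ ⟨h * φ x * h⁻¹, hxS⟩ := by
    intro g hg
    obtain ⟨hgS, hg'⟩ := (mem_preimageAlong_iff θ _ g).mp hg
    obtain ⟨-, hg'N, h', hh'S, hh'⟩ := (mem_extender_iff S' R' φ' _).mp hg'
    obtain ⟨h, rfl⟩ : h' ∈ θ.range := hrange ▸ hh'S
    have hconjR : ∀ x ∈ preimageAlong θ R', g * x * g⁻¹ ∈ preimageAlong θ R' := by
      intro x hx
      obtain ⟨hxS, hxR'⟩ := (mem_preimageAlong_iff θ R' x).mp hx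
      rw [mem_preimageAlong_iff]
      refine ⟨S.mul_mem (S.mul_mem hgS hxS) (S.inv_mem hgS), ?_⟩
      have e1 : (⟨g * x * g⁻¹, S.mul_mem (S.mul_mem hgS hxS) (S.inv_mem hgS)⟩ : S) =
          ⟨g, hgS⟩ * ⟨x, hxS⟩ * ⟨g, hgS⟩⁻¹ := rfl
      rw [e1, map_mul, map_mul, map_inv]
      exact (Subgroup.mem_normalizer_iff.mp hg'N _).mp hxR'
    have hgN : g ∈ Subgroup.normalizer ((preimageAlong θ R' : Subgroup Ω) : Set Ω) :=
      mem_normalizer_of_conj_le_of_finite hconjR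
    have hkey : ∀ (x : ↥(preimageAlong θ R')) (hx : g * (x : Ω) * g⁻¹ ∈ preimageAlong θ R')
        (hxS : (h : Ω) * φ x * (h : Ω)⁻¹ ∈ S),
        θ ⟨φ ⟨g * x * g⁻¹, hx⟩, hφS _⟩ = θ ⟨(h : Ω) * φ x * (h : Ω)⁻¹, hxS⟩ := by
      intro x hx hxS
      have h1 := hind ⟨g * x * g⁻¹, hx⟩
      have h2 := hind x
      have hmem : θ ⟨g, hgS⟩ * ((⟨θ ⟨x, hRS x.2⟩, hθR x⟩ : R') : Ω') * (θ ⟨g, hgS⟩)⁻¹ ∈ R' :=
        (Subgroup.mem_normalizer_iff.mp hg'N _).mp (hθR x)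
      have h3 := hh' ⟨θ ⟨x, hRS x.2⟩, hθR x⟩ hmem
      have e1 : (⟨θ ⟨g * x * g⁻¹, hRS hx⟩, hθR ⟨g * x * g⁻¹, hx⟩⟩ : R') =
          ⟨θ ⟨g, hgS⟩ * ((⟨θ ⟨x, hRS x.2⟩, hθR x⟩ : R') : Ω') * (θ ⟨g, hgS⟩)⁻¹, hmem⟩ := by
        apply Subtype.ext
        show θ ⟨g * x * g⁻¹, _⟩ = θ ⟨g, hgS⟩ * θ ⟨x, _⟩ * (θ ⟨g, hgS⟩)⁻¹
        rw [← map_inv, ← map_mul, ← map_mul]
        rfl
      rw [← h1, e1, h3, h2, ← map_inv, ← map_mul, ← map_mul]
      rfl
    refine ⟨hgS, hgN, h, h.2, ?_, hkey⟩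
    apply mem_normalizer_of_conj_le_of_finite
    intro q hq
    rw [← hφr] at hq
    obtain ⟨x, rfl⟩ := hq
    have hxS : (h : Ω) * φ x * (h : Ω)⁻¹ ∈ S := S.mul_mem (S.mul_mem h.2 (hφS x)) (S.inv_mem h.2)
    rw [mem_preimageAlong_iff]
    refine ⟨hxS, ?_⟩
    rw [← hkey x (hconjR x x.2) hxS]
    exact ((mem_preimageAlong_iff θ Q' _).mp (hφval _)).2
  have hMS : preimageAlong θ (extender S' R' φ') ≤ S := preimageAlong_le θ _
  -- the group theory in `Aut(Q)`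
  have hBA : autInducedBy S (preimageAlong θ Q') ≤ F.autGroup (preimageAlong θ Q') :=
    Cfsg.Agent.Lib.Helper87.autInducedBy_le_autGroup F hQS
  have hDB : ∀ d ∈ (autInducedBy (preimageAlong θ (extender S' R' φ')) (preimageAlong θ R')).map
        (MulAut.congr e).toMonoidHom,
      ∃ b ∈ autInducedBy S (preimageAlong θ Q'),
        d * b⁻¹ ∈ (autQuotHom F hK θ hker hQ').ker.map (F.autGroup (preimageAlong θ Q')).subtype := by
    rintro _ ⟨α, hα, rfl⟩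
    obtain ⟨g, hgM, hαx⟩ := (mem_autInducedBy_iff _ _ α).mp hα
    obtain ⟨hgS, hgN, h, hhS, hhN, hkey⟩ := hM g hgM
    have hαF : α ∈ F.autGroup (preimageAlong θ R') :=
      Cfsg.Agent.Lib.Helper87.autInducedBy_le_autGroup F hRS
        ((mem_autInducedBy_iff S _ α).mpr ⟨g, hgS, hαx⟩)
    have hdA : (MulAut.congr e).toMonoidHom α ∈ F.autGroup (preimageAlong θ Q') :=
      Cfsg.Agent.Lib.Helper87.congr_mem_autGroup F he hαF
    have hbB : Cfsg.Agent.Lib.Helper87.conjAut (preimageAlong θ Q') h hhN ∈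
        autInducedBy S (preimageAlong θ Q') :=
      (mem_autInducedBy_iff S _ _).mpr ⟨h, hhS, fun _ => rfl⟩
    refine ⟨_, hbB, ⟨⟨_, hdA⟩ * ⟨_, hBA hbB⟩⁻¹, ?_, rfl⟩⟩
    rw [SetLike.mem_coe, MonoidHom.mem_ker, map_mul, map_inv, mul_inv_eq_one]
    refine eq_autQuotHom F hK θ hker hQ' _ _ fun x hx => ?_
    rw [autQuotHom_apply]
    have hy : (e (e.symm x) : ↥(preimageAlong θ Q')) = x := e.apply_symm_apply x
    have hmem : g * (e.symm x : Ω) * g⁻¹ ∈ preimageAlong θ R' := by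
      rw [← hαx]; exact (α _).2
    have hαy : α (e.symm x) = ⟨g * (e.symm x : Ω) * g⁻¹, hmem⟩ :=
      Subtype.ext (hαx (e.symm x))
    have hxS : h * φ (e.symm x) * h⁻¹ ∈ S := S.mul_mem (S.mul_mem hhS (hφS _)) (S.inv_mem hhS)
    have h1 := hkey (e.symm x) hmem hxS
    show θ ⟨h * (x : Ω) * h⁻¹, _⟩ = θ ⟨((e (α (e.symm x)) : ↥(preimageAlong θ Q')) : Ω), _⟩
    have h2 : ((e (α (e.symm x)) : ↥(preimageAlong θ Q')) : Ω) =
        φ ⟨g * (e.symm x : Ω) * g⁻¹, hmem⟩ := by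
      rw [he_apply, hαy]
    have h3 : (x : Ω) = φ (e.symm x) := by
      rw [← he_apply, hy]
    symm
    convert h1 using 2
    · exact Subtype.ext h2
    · apply Subtype.ext
      show h * (x : Ω) * h⁻¹ = h * φ (e.symm x) * h⁻¹
      rw [← h3]
  have hfinAut : Finite (MulAut ↥(preimageAlong θ Q')) := inferInstance
  obtain ⟨κ, hκ, hκD⟩ := exists_conj_le_of_mem_mul (p := p) hBA (Subgroup.map_subtype_le _) hQa.2
    (by
      rintro a ha _ ⟨k, hk, rfl⟩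
      refine ⟨⟨a, ha⟩ * k * ⟨a, ha⟩⁻¹, ?_, rfl⟩
      exact (MonoidHom.normal_ker _).conj_mem k hk ⟨a, ha⟩)
    ((Cfsg.Agent.Lib.Helper87.autInducedBy_isPGroup (hS.to_le hMS) _).map _) hDB
  obtain ⟨k, hk, rfl⟩ := hκ
  have hκθ : ∀ x : ↥(preimageAlong θ Q'), θp θ Q' ((k : MulAut ↥(preimageAlong θ Q')) x) = θp θ Q' x := by
    intro x
    have h1 := autQuotHom_apply F hK θ hker hQ' k x (θp_mem θ Q' x)
    rw [MonoidHom.mem_ker.mp hk] at h1
    exact h1.symm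
  -- the adjusted isomorphism
  have he₁ : Cfsg.Agent.Lib.Helper87.IsIso F (e.trans (k : MulAut ↥(preimageAlong θ Q'))) :=
    he.trans ((Cfsg.Agent.Lib.Helper87.mem_autGroup_iff F hQS).1 k.2)
  have hMle : preimageAlong θ (extender S' R' φ') ≤ extender S (preimageAlong θ R')
      ((preimageAlong θ Q').subtype.comp (e.trans (k : MulAut ↥(preimageAlong θ Q'))).toMonoidHom) := by
    intro g hgM
    obtain ⟨hgS, hgN, -⟩ := hM g hgM
    rw [mem_extender_iff]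
    refine ⟨hgS, hgN, ?_⟩
    have hαM : Cfsg.Agent.Lib.Helper87.conjAut (preimageAlong θ R') g hgN ∈
        autInducedBy (preimageAlong θ (extender S' R' φ')) (preimageAlong θ R') :=
      (mem_autInducedBy_iff _ _ _).mpr ⟨g, hgM, fun _ => rfl⟩
    have h1 := hκD _ ⟨_, hαM, rfl⟩
    obtain ⟨h₁, hh₁S, hh₁⟩ := (mem_autInducedBy_iff S _ _).mp h1
    refine ⟨h₁, hh₁S, fun x hx => ?_⟩
    have h2 := hh₁ ((k : MulAut ↥(preimageAlong θ Q')) (e x))
    refine Eq.trans ?_ h2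
    have h3 : ((F.autGroup (preimageAlong θ Q')).subtype k *
        (MulAut.congr e).toMonoidHom (Cfsg.Agent.Lib.Helper87.conjAut (preimageAlong θ R') g hgN) *
        ((F.autGroup (preimageAlong θ Q')).subtype k)⁻¹) ((k : MulAut ↥(preimageAlong θ Q')) (e x)) =
        (k : MulAut ↥(preimageAlong θ Q')) (e (Cfsg.Agent.Lib.Helper87.conjAut (preimageAlong θ R') g hgN x)) := by
      simp [MulAut.congr]
    rw [h3]
    rfl
  obtain ⟨ψ, hψ, hψe⟩ := hQr.2 _ _ he₁ (Cfsg.Agent.Lib.Helper87.range_subtype_comp _)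
  have hψM := restrict_mem F hψ hMle
  have hψMS : ∀ x, (ψ.comp (Subgroup.inclusion hMle)) x ∈ S := fun x => (F.le_of_mem hψM).2 x
  have hN'S : extender S' R' φ' ≤ S' :=
    (Cfsg.Agent.Lib.Helper87.extender_le S' R' φ').trans inf_le_left
  have hN'r : extender S' R' φ' ≤ θ.range := hrange ▸ hN'S
  have hkerM : ∀ x : ↥(preimageAlong θ (extender S' R' φ')),
      θ ⟨x, preimageAlong_le θ _ x.2⟩ = 1 → θ ⟨(ψ.comp (Subgroup.inclusion hMle)) x, hψMS x⟩ = 1 := by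
    intro x hx
    have h1 : (x : Ω) ∈ K := (hker _).mp hx
    exact (hker _).mpr ((stronglyClosed_apply_mem_iff F hK hψM x).mpr h1)
  refine ⟨inducedHom θ hN'r _ hψMS hkerM, ?_, ?_⟩
  · rw [hHom]
    exact ⟨hN'S, _, hψM, inducedAlong_inducedHom θ hN'r _ hψMS hkerM⟩
  · intro y hyR' hyN'
    obtain ⟨s, rfl⟩ := hR' hyR'
    have hsR : (s : Ω) ∈ preimageAlong θ R' := (mem_preimageAlong_iff θ R' s).mpr ⟨s.2, hyR'⟩
    have hsM : (s : Ω) ∈ preimageAlong θ (extender S' R' φ') :=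
      (mem_preimageAlong_iff θ _ s).mpr ⟨s.2, hyN'⟩
    have h1 := inducedHom_apply θ hN'r _ hψMS hkerM ⟨s, hsM⟩ hyN'
    refine h1.trans ?_
    have h2 := hind ⟨s, hsR⟩
    refine Eq.trans ?_ h2.symm
    have h3 := hψe s hsR (hMle hsM)
    have h4 := hκθ (e ⟨s, hsR⟩)
    have h5 : θp θ Q' (e ⟨s, hsR⟩) = θ ⟨φ ⟨s, hsR⟩, hφS _⟩ := by
      unfold θp
      congr 1
      exact Subtype.ext (he_apply _)
    rw [← h5, ← h4]
    unfold θp
    congr 1
    exact Subtype.ext h3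

include hK hker hrange hHom in
/-- **The factor system of a saturated fusion system by a strongly closed subgroup is saturated.** -/
theorem isSaturated_quot [Finite S] {p : ℕ} [Fact p.Prime] (hS : IsPGroup p S) (hF : F.IsSaturated p) :
    E.IsSaturated p := by
  intro P' hP'S
  have hP' : P' ≤ θ.range := hrange ▸ hP'S
  obtain ⟨Q₀, ⟨φ, hφ, hφr⟩, hQa, hQr⟩ := hF (preimageAlong θ P') (preimageAlong_le θ P')
  have hKP : K ≤ preimageAlong θ P' := by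
    intro k hk
    rw [mem_preimageAlong_iff]
    refine ⟨hK.1 hk, ?_⟩
    rw [(hker ⟨k, hK.1 hk⟩).mpr hk]
    exact P'.one_mem
  have hKQ : K ≤ Q₀ := by
    intro k hk
    obtain ⟨x, -, hx⟩ := stronglyClosed_surj F hK hφ hKP k hk
    rw [← hφr]
    exact ⟨x, hx⟩
  have hQ₀S : Q₀ ≤ S := hQa.1
  obtain ⟨Q', hQ'S, rfl⟩ : ∃ Q', Q' ≤ S' ∧ Q₀ = preimageAlong θ Q' := by
    refine ⟨imageAlong θ Q₀, ?_, ?_⟩
    · rintro _ ⟨x, -, rfl⟩
      exact hrange ▸ ⟨x, rfl⟩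
    · rw [Cfsg.Agent.Lib.Helper87.preimageAlong_imageAlong θ hker hK.1 hQ₀S]
      exact (sup_of_le_left hKQ).symm
  have hQ' : Q' ≤ θ.range := hrange ▸ hQ'S
  refine ⟨Q', ?_, isFullyAutomized_quot F hK θ hker E hrange hHom hQ'S hQa,
    isReceptive_quot F hK θ hker E hrange hHom hS hQ'S hQa hQr⟩
  have hφS : ∀ x, φ x ∈ S := (F.le_of_mem hφ).2
  have hkerφ : ∀ x : ↥(preimageAlong θ P'), θ ⟨x, preimageAlong_le θ _ x.2⟩ = 1 → θ ⟨φ x, hφS x⟩ = 1 := by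
    intro x hx
    have h1 : (x : Ω) ∈ K := (hker _).mp hx
    exact (hker _).mpr ((stronglyClosed_apply_mem_iff F hK hφ x).mpr h1)
  refine ⟨inducedHom θ hP' φ hφS hkerφ, ?_, ?_⟩
  · rw [hHom]
    exact ⟨hP'S, φ, hφ, inducedAlong_inducedHom θ hP' φ hφS hkerφ⟩
  · ext y
    constructor
    · rintro ⟨z, rfl⟩
      obtain ⟨x, hx⟩ := exists_θp_eq θ hP' z
      have hz : z = ⟨θp θ P' x, θp_mem θ P' x⟩ := Subtype.ext hx.symm
      rw [hz]
      have h1 := inducedHom_apply θ hP' φ hφS hkerφ x (θp_mem θ P' x)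
      refine (congrArg (· ∈ Q') h1).mpr ?_
      have h2 : φ x ∈ preimageAlong θ Q' := hφr ▸ ⟨x, rfl⟩
      exact ((mem_preimageAlong_iff θ Q' _).mp h2).2
    · intro hy
      obtain ⟨s, rfl⟩ := hQ' hy
      have hs : (s : Ω) ∈ φ.range := by
        rw [hφr]
        exact (mem_preimageAlong_iff θ Q' s).mpr ⟨s.2, hy⟩
      obtain ⟨x, hx⟩ := hs
      refine ⟨⟨θp θ P' x, θp_mem θ P' x⟩, ?_⟩
      have h1 := inducedHom_apply θ hP' φ hφS hkerφ x (θp_mem θ P' x)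
      refine h1.trans ?_
      congr 1
      exact Subtype.ext hx

end quot

/-- The factor system of a saturated fusion system by a strongly closed subgroup is saturated. -/
theorem isSaturated_of_isFactorSystem [Finite S] {p : ℕ} [Fact p.Prime] (hS : IsPGroup p S)
    (F : FusionSystem S) (hF : F.IsSaturated p) {K : Subgroup Ω} (hK : F.StronglyClosed K) (θ : S →* Ω')
    (E : FusionSystem S') (hE : F.IsFactorSystem K θ E) : E.IsSaturated p :=
  isSaturated_quot F hK θ hE.2.1 E hE.2.2.1 hE.2.2.2 hS hF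

end Cfsg.Agent.Lib.Helper85
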