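/-
helper85: control of weak closure of elements in fusion systems with an additional predicate `Pr` on the systems that is inherited
by normalizer systems of fully normalized subgroups (for instance "`p` is odd or the system is `S₄`-free").  This is helper86's
`Cfsg.Agent.Lib.Helper86.WC` reduction (after Diaz-Glesser-Mazza-Park) with the predicate threaded through; the model case
`WCHypP.hmod` is only needed for systems satisfying `Pr`.
-/
import Cfsg.Agent.Lib.Helper86.WCGlobal

set_option autoImplicit false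
set_option linter.unusedSectionVars false
set_option linter.style.haveILetI false

universe u

namespace Cfsg.Agent.Lib.Helper85

open Cfsg Cfsg.FusionSystem Cfsg.Agent.Lib.Helper87 Cfsg.Agent.Lib.Helper88 Cfsg.Agent.Lib.Helper88.NilpRed
open Cfsg.Agent.Lib.Helper86.WC

/-- The hypotheses of the reduction, with a predicate `Pr` on the systems. -/
structure WCHypP (p : ℕ) (W : ∀ (Q : Type u) [Group Q], Subgroup Q) {Ω : Type u} [Group Ω]
    (A : Subgroup Ω → Ω → Prop) (Pr : ∀ S : Subgroup Ω, FusionSystem S → Prop) : Prop where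
  hW : IsCharPFunctor p W
  hWZ : ∀ (Q : Type u) [Group Q] [Finite Q], IsPGroup p Q → Subgroup.center Q ≤ W Q
  a1 : ∀ (S : Subgroup Ω) (z : Ω), A S z → z ∈ S ⊓ Subgroup.centralizer (S : Set Ω)
  a2 : ∀ (S T : Subgroup Ω) (z : Ω), A S z → T ≤ S → S ⊓ Subgroup.centralizer (S : Set Ω) ≤ T → A T z
  pr : ∀ (S : Subgroup Ω) [Finite S], IsPGroup p S → ∀ F : FusionSystem S, F.IsSaturated p → Pr S F →
    ∀ Q : Subgroup Ω, F.IsFullyNormalized Q → ∀ N : FusionSystem (normalizerIn S Q), F.IsNormalizerSystem Q N →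
      Pr (normalizerIn S Q) N
  hmod : ∀ (S : Subgroup Ω) [Finite S], IsPGroup p S → ∀ (F : FusionSystem S) (L : Type u) [Group L]
    (ι : S →* L), F.IsModel p L ι → Pr S F → ∀ z : Ω, A S z → FixN F (inducedFunctor W S) z → Fix F z

variable {p : ℕ} [Fact p.Prime] {W : ∀ (Q : Type u) [Group Q], Subgroup Q} {Ω : Type u} [Group Ω]
  {A : Subgroup Ω → Ω → Prop} {Pr : ∀ S : Subgroup Ω, FusionSystem S → Prop}

/-- **Local step.** -/
theorem fix_of_normal_pr (H : WCHypP p W A Pr) : ∀ (n : ℕ) (S : Subgroup Ω) [Finite S], IsPGroup p S →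
    ∀ F : FusionSystem S, F.IsSaturated p → Pr S F → ∀ Q : Subgroup Ω, F.IsNormal Q →
      Nat.card S - Nat.card Q = n → ∀ z ∈ Q, A S z → FixN F (inducedFunctor W S) z → Fix F z := by
  intro n
  induction n using Nat.strong_induction_on with
  | _ n IH =>
  intro S _ hS F hF hPr Q hQ hn z hzQ hA hfix
  have hQS : Q ≤ S := hQ.1
  by_cases hQc : F.IsCentric Q
  · obtain ⟨L, _, ι, hM⟩ := Cfsg.Agent.S5090.result p hS F ⟨hF, Q, hQ, hQc⟩
    exact H.hmod S hS F L ι hM hPr z hA hfix
  -- the non-centric case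
  have hwc : F.WeaklyClosed Q := weaklyClosed_of_isNormal F hQ
  obtain ⟨c, hcC, hcQ⟩ : ∃ c ∈ centralizerIn S Q, c ∉ Q := by
    unfold FusionSystem.IsCentric at hQc
    push Not at hQc
    obtain ⟨Q', hQQ', hnot⟩ := hQc hQS
    obtain ⟨χ, hχ, hχr⟩ := hQQ'
    have : Q' = Q := by rw [← hχr]; exact hwc.2 χ hχ
    subst this
    exact SetLike.not_le_iff_exists.mp hnot
  have hSNQ : S ≤ Subgroup.normalizer (Q : Set Ω) := Cfsg.Agent.Lib.Helper84.Model.le_normalizer_of_isNormal F hQ
  have hCS : centralizerIn S Q ≤ S := inf_le_left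
  have hRS : Q ⊔ centralizerIn S Q ≤ S := sup_le hQS hCS
  haveI : Finite ↥(Q ⊔ centralizerIn S Q) := finite_of_le hRS
  haveI : Finite ↥Q := finite_of_le hQS
  -- `|Q| < |R|`
  have hlt : Nat.card Q < Nat.card ↥(Q ⊔ centralizerIn S Q) := by
    by_contra hge
    push Not at hge
    have h := Subgroup.eq_of_le_of_card_ge (le_sup_left : Q ≤ Q ⊔ centralizerIn S Q) hge
    apply hcQ
    rw [h]
    exact le_sup_right (a := Q) hcC
  -- `R` is normal in `S`
  have hconjC : ∀ g ∈ S, ∀ x ∈ centralizerIn S Q, g * x * g⁻¹ ∈ centralizerIn S Q := by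
    intro g hg x hx
    refine Subgroup.mem_inf.2 ⟨S.mul_mem (S.mul_mem hg hx.1) (S.inv_mem hg), ?_⟩
    rw [Subgroup.mem_centralizer_iff]
    intro q hq
    have hq' : g⁻¹ * q * g ∈ Q := by
      have := (Subgroup.mem_normalizer_iff.1 (Subgroup.inv_mem _ (hSNQ hg)) q).1 hq
      simpa using this
    have h1 := (Subgroup.mem_centralizer_iff.1 hx.2) _ hq'
    have e1 : q * (g * x * g⁻¹) = g * ((g⁻¹ * q * g) * x) * g⁻¹ := by group
    have e2 : g * x * g⁻¹ * q = g * (x * (g⁻¹ * q * g)) * g⁻¹ := by group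
    rw [e1, e2, h1]
  have hNR : normalizerIn S (Q ⊔ centralizerIn S Q) = S := by
    apply le_antisymm inf_le_left
    intro g hg
    refine ⟨hg, ?_⟩
    apply Cfsg.Agent.Lib.Helper88.mem_normalizer_of_conj_mem_of_finite
    intro x hx
    have hx' : x ∈ Q ⊔ centralizerIn S Q := hx
    have : Q ⊔ centralizerIn S Q ≤ (Q ⊔ centralizerIn S Q).comap (MulAut.conj g).toMonoidHom := by
      refine sup_le ?_ ?_
      · intro q hq
        rw [Subgroup.mem_comap]
        exact le_sup_left (b := centralizerIn S Q) ((Subgroup.mem_normalizer_iff.1 (hSNQ hg) q).1 hq)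
      · intro q hq
        rw [Subgroup.mem_comap]
        exact le_sup_right (a := Q) (hconjC g hg q hq)
    exact this hx'
  have hRfn : F.IsFullyNormalized (Q ⊔ centralizerIn S Q) :=
    Cfsg.Agent.Lib.Helper86.WC.isFullyNormalized_of_normalizerIn_eq F hRS hNR
  -- the normalizer system of `R`
  have hN := isNormalizerSystem_normalizerSystem F (Q ⊔ centralizerIn S Q) hRS
  have hNsat := isSaturated_of_isNormalizerSystem F hS hF hRfn hN
  have hNn := isNormal_of_isNormalizerSystem F hRS hN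
  have hTS : normalizerIn S (Q ⊔ centralizerIn S Q) ≤ S := inf_le_left
  haveI : Finite ↥(normalizerIn S (Q ⊔ centralizerIn S Q)) := finite_of_le hTS
  have hT : IsPGroup p ↥(normalizerIn S (Q ⊔ centralizerIn S Q)) := hS.to_le hTS
  have hcardT : Nat.card ↥(normalizerIn S (Q ⊔ centralizerIn S Q)) = Nat.card S := by rw [hNR]
  have hcardRS : Nat.card ↥(Q ⊔ centralizerIn S Q) ≤ Nat.card S := Subgroup.card_le_of_le hRS
  have hZT : S ⊓ Subgroup.centralizer (S : Set Ω) ≤ normalizerIn S (Q ⊔ centralizerIn S Q) := by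
    rw [hNR]
    exact inf_le_left
  have hfixN : FixN (normalizerSystem F (Q ⊔ centralizerIn S Q) hRS)
      (inducedFunctor W (normalizerIn S (Q ⊔ centralizerIn S Q))) z := by
    have e : inducedFunctor W (normalizerIn S (Q ⊔ centralizerIn S Q)) = inducedFunctor W S :=
      congrArg (inducedFunctor W) hNR
    rw [e]
    refine fixN_mono F _ hTS (fun P φ hφ => ?_) hfix
    rw [hN P] at hφ
    exact hφ.1
  have hFixN : Fix (normalizerSystem F (Q ⊔ centralizerIn S Q) hRS) z :=
    IH (Nat.card ↥(normalizerIn S (Q ⊔ centralizerIn S Q)) - Nat.card ↥(Q ⊔ centralizerIn S Q)) (by omega)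
      (normalizerIn S (Q ⊔ centralizerIn S Q)) hT _ hNsat (H.pr S hS F hF hPr _ hRfn _ hN) _ hNn rfl z (le_sup_left (b := centralizerIn S Q) hzQ)
      (H.a2 S _ z hA hTS hZT) hfixN
  -- every map of `F` fixes `z`
  intro P φ hφ hzP
  obtain ⟨ψ, hψ, hψ1, α, hα, hαψ⟩ := exists_extension_aut_of_isNormal F hQ hφ
  have e1 : φ ⟨z, hzP⟩ = ((α ⟨z, hzQ⟩ : Q) : Ω) := by
    rw [← hψ1 ⟨z, hzP⟩, hαψ ⟨z, hzQ⟩]
    congr 1
  rw [e1]
  have hQr : F.IsReceptive Q := (fullyAutomized_receptive_of_weaklyClosed F p hF hwc).2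
  have hφ₀F : Q.subtype.comp (α : Q ≃* Q).toMonoidHom ∈ F.Hom Q := (Cfsg.Agent.Lib.Helper87.mem_autGroup_iff F hQS).1 hα
  have hφ₀r : (Q.subtype.comp (α : Q ≃* Q).toMonoidHom).range = Q := range_subtype_comp (α : Q ≃* Q)
  obtain ⟨χ, hχ, hχφ⟩ := hQr.2 Q _ hφ₀F hφ₀r
  have hQext : Q ≤ extender S Q (Q.subtype.comp (α : Q ≃* Q).toMonoidHom) := by
    intro x hx
    rw [Cfsg.Agent.Lib.Helper85.mem_extender_iff]
    refine ⟨hQS hx, Subgroup.le_normalizer hx, ((α ⟨x, hx⟩ : Q) : Ω), hQS (α ⟨x, hx⟩).2, fun y hy => ?_⟩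
    have : (⟨x * (y : Ω) * x⁻¹, hy⟩ : Q) = ⟨x, hx⟩ * y * ⟨x, hx⟩⁻¹ := Subtype.ext rfl
    rw [this, map_mul, map_mul, map_inv]
    rfl
  have hCext : centralizerIn S Q ≤ extender S Q (Q.subtype.comp (α : Q ≃* Q).toMonoidHom) := by
    intro x hx
    rw [Cfsg.Agent.Lib.Helper85.mem_extender_iff]
    refine ⟨hx.1, Subgroup.centralizer_le_normalizer _ hx.2, 1, S.one_mem, fun y hy => ?_⟩
    have hc : (y : Ω) * x = x * (y : Ω) := (Subgroup.mem_centralizer_iff.mp hx.2) (y : Ω) y.2
    have : (⟨x * (y : Ω) * x⁻¹, hy⟩ : Q) = y := by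
      apply Subtype.ext
      show x * (y : Ω) * x⁻¹ = (y : Ω)
      rw [← hc]; group
    rw [this]; simp
  have hRext : Q ⊔ centralizerIn S Q ≤ extender S Q (Q.subtype.comp (α : Q ≃* Q).toMonoidHom) :=
    sup_le hQext hCext
  have hγ : χ.comp (Subgroup.inclusion hRext) ∈ F.Hom (Q ⊔ centralizerIn S Q) := restrict_mem F hχ hRext
  -- `γ` agrees with `α` on `Q`
  have hγQ : ∀ x : Q, (χ.comp (Subgroup.inclusion hRext)) (Subgroup.inclusion le_sup_left x) = ((α x : Q) : Ω) := by
    intro x
    exact hχφ (x : Ω) x.2 (hRext (le_sup_left (b := centralizerIn S Q) x.2))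
  -- `γ` maps `R` into `R`
  have hγR : ∀ x : ↥(Q ⊔ centralizerIn S Q), (χ.comp (Subgroup.inclusion hRext)) x ∈ Q ⊔ centralizerIn S Q := by
    refine map_sup_mem _ (fun x => ?_) (fun x => ?_)
    · rw [hγQ x]
      exact le_sup_left (b := centralizerIn S Q) (α x).2
    · refine le_sup_right (a := Q) (Subgroup.mem_inf.2 ⟨hom_map_mem F hγ _, ?_⟩)
      rw [Subgroup.mem_centralizer_iff]
      intro q hq
      obtain ⟨q', rfl⟩ : ∃ q' : Q, ((α q' : Q) : Ω) = q := ⟨α.symm ⟨q, hq⟩, by simp⟩
      rw [← hγQ q', ← map_mul, ← map_mul]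
      congr 1
      apply Subtype.ext
      exact (Subgroup.mem_centralizer_iff.1 x.2.2) q' q'.2
  have hγN : χ.comp (Subgroup.inclusion hRext) ∈
      (normalizerSystem F (Q ⊔ centralizerIn S Q) hRS).Hom (Q ⊔ centralizerIn S Q) := by
    rw [hN _]
    exact mem_normalizerHom_self F hγ hγR
  have h2 := hFixN _ _ hγN (le_sup_left (b := centralizerIn S Q) hzQ)
  rw [← hγQ ⟨z, hzQ⟩]
  exact h2


variable {S : Subgroup Ω}

/-- Admissible elements lying in `U` lie in all the tower terms. -/
theorem mem_tow_pr (H : WCHypP p W A Pr) [Finite S] (hS : IsPGroup p S) {z : Ω} (hA : A S z) {U : Subgroup Ω}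
    (hUS : U ≤ S) (hzU : z ∈ U) (i : ℕ) : z ∈ tow W S U i := by
  cases i with
  | zero => exact hzU
  | succ i =>
    have hz := H.a1 S z hA
    have hTS : tow W S U i ≤ S := tow_le hUS i
    have hNS : normalizerIn S (tow W S U i) ≤ S := inf_le_left
    haveI : Finite ↥(normalizerIn S (tow W S U i)) := finite_of_le hNS
    refine center_le_inducedFunctor H.hWZ (hS.to_le hNS) ?_
    exact ⟨center_le_normalizerIn hTS hz, Subgroup.centralizer_le hNS hz.2⟩

/-- One step down a tower. -/
theorem fixN_step_pr (H : WCHypP p W A Pr) [Finite S] (hS : IsPGroup p S) (F : FusionSystem S) (hF : F.IsSaturated p)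
    (hPr : Pr S F)
    {z : Ω} (hA : A S z) {X : Subgroup Ω} (hX : F.IsFullyNormalized X) (hzX : z ∈ X)
    (h : FixN F (inducedFunctor W (normalizerIn S X)) z) : FixN F X z := by
  have hXS : X ≤ S := hX.1
  have hN := isNormalizerSystem_normalizerSystem F X hXS
  have hNsat := isSaturated_of_isNormalizerSystem F hS hF hX hN
  have hNn := isNormal_of_isNormalizerSystem F hXS hN
  have hTS : normalizerIn S X ≤ S := inf_le_left
  haveI : Finite ↥(normalizerIn S X) := finite_of_le hTS
  have hT : IsPGroup p ↥(normalizerIn S X) := hS.to_le hTS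
  have hAT : A (normalizerIn S X) z := H.a2 S _ z hA hTS (center_le_normalizerIn hXS)
  have hfixN : FixN (normalizerSystem F X hXS) (inducedFunctor W (normalizerIn S X)) z := by
    refine fixN_mono F _ hTS (fun P φ hφ => ?_) h
    rw [hN P] at hφ
    exact hφ.1
  exact fixN_of_fix hN (fix_of_normal_pr H _ (normalizerIn S X) hT _ hNsat (H.pr S hS F hF hPr X hX _ hN) X hNn rfl z hzX hAT hfixN)

/-- Descent along a tower whose terms are fully normalized. -/
theorem fixN_tow_pr (H : WCHypP p W A Pr) [Finite S] (hS : IsPGroup p S) (F : FusionSystem S) (hF : F.IsSaturated p)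
    (hPr : Pr S F)
    {z : Ω} (hA : A S z) (hfix : FixN F (inducedFunctor W S) z) {U : Subgroup Ω} (hUS : U ≤ S) (hzU : z ∈ U)
    (m : ℕ) (hfn : ∀ i ≤ m, F.IsFullyNormalized (tow W S U i)) :
    ∀ d i : ℕ, Nat.card S - Nat.card ↥(normalizerIn S (tow W S U i)) = d → i + d ≤ m →
      FixN F (tow W S U i) z := by
  intro d
  induction d using Nat.strong_induction_on with
  | _ d IH =>
  intro i hd him
  have hnext : FixN F (tow W S U (i + 1)) z := by
    by_cases hNS : normalizerIn S (tow W S U i) = S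
    · rw [tow_succ, hNS]
      exact hfix
    · have hlt := card_normalizerIn_tow_lt H.hW hS U i hNS
      have hle : Nat.card ↥(normalizerIn S (tow W S U (i + 1))) ≤ Nat.card S :=
        Subgroup.card_le_of_le inf_le_left
      exact IH (Nat.card S - Nat.card ↥(normalizerIn S (tow W S U (i + 1)))) (by omega) (i + 1) rfl (by omega)
  exact fixN_step_pr H hS F hF hPr hA (hfn i (by omega)) (mem_tow_pr H hS hA hUS hzU i) hnext

/-- **Control of weak closure of elements.** -/
theorem mem_center_of_fixN_pr (H : WCHypP p W A Pr) [Finite S] (hS : IsPGroup p S) (F : FusionSystem S)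
    (hF : F.IsSaturated p) (hPr : Pr S F) {z : Ω} (hA : A S z) (hfix : FixN F (inducedFunctor W S) z) : z ∈ F.center := by
  have hzZ := H.a1 S z hA
  have hzS : z ∈ S := hzZ.1
  have hZS : Subgroup.zpowers z ≤ S := Subgroup.zpowers_le.2 hzS
  have hZC : Subgroup.zpowers z ≤ Subgroup.centralizer (S : Set Ω) := Subgroup.zpowers_le.2 hzZ.2
  have key : ∀ P : Subgroup Ω, F.Hom P ⊆ (Cfsg.Agent.Lib.Helper85.centralizerSystem F (Subgroup.zpowers z) hZS).Hom P := by
    refine alperin_weak' F _ hS hF ?_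
    intro R hRa hRr IH α hα
    have hRS : R ≤ S := hRa.1
    haveI : Finite ↥R := finite_of_le hRS
    by_cases hRc : F.IsCentric R
    · have hzR : z ∈ R := hRc.2 R (isConj_refl F hRS) ⟨hzS, Subgroup.centralizer_le hRS hzZ.2⟩
      have hαF : R.subtype.comp (α : R ≃* R).toMonoidHom ∈ F.Hom R :=
        (Cfsg.Agent.Lib.Helper87.mem_autGroup_iff F hRS).1 hα
      -- the main point: `α` fixes `z`
      have hαz : ((α ⟨z, hzR⟩ : R) : Ω) = z := by
        by_cases hRtop : R = S
        · subst hRtop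
          exact hfix _ _ (top_aut_mem_normalizerHom H.hW hS F hα) hzR
        · have hlt : Nat.card R < Nat.card ↥(normalizerIn S R) := card_lt_card_normalizerIn hS hRS hRtop
          have hRN : R ≤ normalizerIn S R := le_normalizerIn hRS
          obtain ⟨θ, hθ, hfn⟩ := exists_hom_tow_fullyNormalized H.hW hS F hF (Nat.card S) R hRS
          have hinj : Function.Injective θ := F.injective_of_mem hθ
          have hθE := IH _ hlt hθ
          have hzN : z ∈ normalizerIn S R := hRN hzR
          have hθz : θ ⟨z, hzN⟩ = z := by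
            obtain ⟨-, -, -, ψ, -, h1, h2⟩ := hθE
            rw [← h1 ⟨z, hzN⟩]
            exact h2 ⟨z, Subgroup.mem_zpowers z⟩
          have hzR' : z ∈ im θ R := (mem_im_iff θ hRN z).2 ⟨z, hzR, hθz⟩
          have hR'S : im θ R ≤ S := im_le F hθ R
          haveI : Finite ↥(im θ R) := finite_of_le hR'S
          have hfixR' : FixN F (im θ R) z :=
            fixN_tow_pr H hS F hF hPr hA hfix hR'S hzR' (Nat.card S) hfn _ 0 rfl (by omega)
          have he : IsIso F (imEquiv θ hinj hRN) :=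
            isIso_of_restrict F hθ hRN (imEquiv θ hinj hRN) (fun x hx hx' => rfl)
          have hα' : IsIso F ((imEquiv θ hinj hRN).symm.trans (((α : R ≃* R)).trans (imEquiv θ hinj hRN))) :=
            he.symm.trans (((Cfsg.Agent.Lib.Helper87.mem_autGroup_iff F hRS).1 hα).trans he)
          have h1 := hfixR' _ _ (mem_normalizerHom_self F hα' (fun x => Subtype.property _)) hzR'
          have h2 : (imEquiv θ hinj hRN).symm ⟨z, hzR'⟩ = ⟨z, hzR⟩ := by
            rw [MulEquiv.symm_apply_eq]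
            exact Subtype.ext hθz.symm
          have h3 : θ ⟨((α ⟨z, hzR⟩ : R) : Ω), hRN (α ⟨z, hzR⟩).2⟩ = z := by
            have : ((imEquiv θ hinj hRN ((α : R ≃* R) ((imEquiv θ hinj hRN).symm ⟨z, hzR'⟩)) : ↥(im θ R)) : Ω) = z := h1
            rw [h2] at this
            exact this
          have h4 := hinj (h3.trans hθz.symm)
          exact congrArg (fun s : ↥(normalizerIn S R) => (s : Ω)) h4
      -- conclusion of the centric case
      have hRcent : R ≤ centralizerIn S (Subgroup.zpowers z) := by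
        intro x hx
        refine Subgroup.mem_inf.2 ⟨hRS hx, ?_⟩
        rw [Subgroup.mem_centralizer_iff]
        intro h hh
        exact ((Subgroup.mem_centralizer_iff.1 (hZC hh)) x (hRS hx)).symm
      have hle : R ⊔ Subgroup.zpowers z ≤ R := sup_le le_rfl (Subgroup.zpowers_le.2 hzR)
      show R.subtype.comp (α : R ≃* R).toMonoidHom ∈ F.centralizerHom (Subgroup.zpowers z) R
      refine ⟨hαF, hRcent, fun x => hRcent (α x).2, _, restrict_mem F hαF hle, fun x => ?_, fun x => ?_⟩
      · show ((α (Subgroup.inclusion hle (Subgroup.inclusion le_sup_left x)) : R) : Ω) = ((α x : R) : Ω)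
        congr 2
      · obtain ⟨k, hk⟩ := Subgroup.mem_zpowers_iff.1 x.2
        show ((α (Subgroup.inclusion hle (Subgroup.inclusion le_sup_right x)) : R) : Ω) = (x : Ω)
        have e : Subgroup.inclusion hle (Subgroup.inclusion le_sup_right x) = (⟨z, hzR⟩ : R) ^ k := by
          apply Subtype.ext
          rw [Subgroup.coe_zpow]
          exact hk.symm
        have hfixz : α ⟨z, hzR⟩ = ⟨z, hzR⟩ := Subtype.ext hαz
        rw [e, map_zpow, hfixz, Subgroup.coe_zpow]
        exact hk
    · obtain ⟨N, hRN, φ, hφ, hφα⟩ := Cfsg.Agent.Lib.Helper84.exists_extension_of_not_centric F hRr hRc hα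
      have hNS : N ≤ S := hom_le F hφ
      haveI : Finite ↥N := finite_of_le hNS
      have hcard : Nat.card R < Nat.card N := by
        by_contra hge
        push Not at hge
        exact hRN.ne (Subgroup.eq_of_le_of_card_ge hRN.le hge)
      have hφE := IH N hcard hφ
      exact Cfsg.Agent.Lib.Helper87.restrict_mem' _ hφE hRN.le (fun x => (hφα x).symm)
  have hcentral : F.IsCentral (Subgroup.zpowers z) := by
    refine ⟨hZS, fun P φ hφ => ?_⟩
    obtain ⟨-, -, -, ψ, hψ, h1, h2⟩ := key P hφ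
    exact ⟨ψ, hψ, h1, h2⟩
  exact Cfsg.Agent.Lib.Helper85.le_center_of_isCentral F hcentral (Subgroup.mem_zpowers z)

end Cfsg.Agent.Lib.Helper85
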