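/-
helper85: the model case of control of weak closure of elements in fusion systems, reduced to a statement on the model
(`fix_of_model_of_group`); the constrained group case of Glauberman's theorem on `Z(N_G(J(S)))` (`glauberman_center`); and the
resulting theorem for fusion systems (`center_normalizer_thompsonA_le`).
-/
import Cfsg.Agent.Lib.Helper85.GlaubFusWC
import Cfsg.Agent.Lib.Helper85.GlaubFinal
import Cfsg.Agent.Lib.Helper86.WCModel
import Cfsg.Agent.Lib.Helper86.ThompsonFusD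
import Cfsg.Agent.S2799

set_option autoImplicit false
set_option linter.unusedSectionVars false
set_option linter.style.haveILetI false

universe u

namespace Cfsg.Agent.Lib.Helper85

open Cfsg Cfsg.FusionSystem Cfsg.Agent.Lib.Helper87 Cfsg.Agent.Lib.Helper88 Cfsg.Agent.Lib.Helper88.NilpRed
open Cfsg.Agent.Lib.Helper86 Cfsg.Agent.Lib.Helper86.WC

variable {p : ℕ} [Fact p.Prime]

/-- **Model case**: in a system with a model `L`, a central element of `S` fixed by `N_F(W(S))` is fixed by the whole system,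
provided the corresponding statement holds in the group `L`. -/
theorem fix_of_model_of_group {W : ∀ (Q : Type u) [Group Q], Subgroup Q} (hW : IsCharPFunctor p W)
    (hWZ : ∀ (Q : Type u) [Group Q] [Finite Q], IsPGroup p Q → Subgroup.center Q ≤ W Q)
    {Ω : Type u} [Group Ω] {S : Subgroup Ω} [Finite S] (hS : IsPGroup p S) (F : FusionSystem S)
    (L : Type u) [Group L] (ι : S →* L) (hM : F.IsModel p L ι)
    (hgrp : Finite L → ∀ (T : Sylow p L),
      Subgroup.centralizer ((pCore p L : Subgroup L) : Set L) ≤ pCore p L →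
      ∀ x ∈ (T : Subgroup L) ⊓ Subgroup.centralizer ((T : Subgroup L) : Set L),
        (∀ h ∈ Subgroup.normalizer (((W ↥(T : Subgroup L)).map (T : Subgroup L).subtype : Subgroup L) : Set L),
          h * x = x * h) → ∀ h : L, h * x = x * h)
    {y : Ω} (hy : y ∈ S ⊓ Subgroup.centralizer (S : Set Ω)) (hfix : FixN F (inducedFunctor W S) y) :
    Fix F y := by
  obtain ⟨hfin, hR, ⟨T, hTr⟩, hcen⟩ := hM
  haveI := hfin
  have hι : Function.Injective ι := hR.1
  have hmapW := ThompsonFus.map_inducedFunctor hW hS hι (T : Subgroup L) hTr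
  have hXS : inducedFunctor W S ≤ S := inducedFunctor_le W S
  haveI : Finite ↥(inducedFunctor W S) := finite_of_le hXS
  have hzX : y ∈ inducedFunctor W S := center_le_inducedFunctor hWZ hS hy
  have hzS : y ∈ S := hy.1
  -- `ι y ∈ Z(T)`
  have hyT : ι ⟨y, hzS⟩ ∈ (T : Subgroup L) ⊓ Subgroup.centralizer ((T : Subgroup L) : Set L) := by
    refine Subgroup.mem_inf.2 ⟨hTr ▸ ⟨_, rfl⟩, ?_⟩
    rw [Subgroup.mem_centralizer_iff]
    intro t ht
    rw [SetLike.mem_coe, hTr] at ht
    obtain ⟨s, rfl⟩ := ht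
    rw [← map_mul, ← map_mul]
    congr 1
    apply Subtype.ext
    exact (Subgroup.mem_centralizer_iff.1 hy.2) s s.2
  -- `N_L(W(T))` centralizes `ι y`
  have hN : ∀ h ∈ Subgroup.normalizer (((W ↥(T : Subgroup L)).map (T : Subgroup L).subtype : Subgroup L) : Set L),
      h * ι ⟨y, hzS⟩ = ι ⟨y, hzS⟩ * h := by
    intro h hh
    have hh' : h ∈ Subgroup.normalizer (((((inducedFunctor W S).subgroupOf S).map ι : Subgroup L)) : Set L) := by
      rw [hmapW]
      exact hh
    have hmem : ∀ x : ↥(inducedFunctor W S), ι ⟨x, hXS x.2⟩ ∈ ((inducedFunctor W S).subgroupOf S).map ι :=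
      fun x => (ThompsonFus.mem_map_subgroupOf_iff hι _ ⟨x, hXS x.2⟩).2 x.2
    have hconj' : ∀ x : ↥(inducedFunctor W S),
        h * ι ⟨x, hXS x.2⟩ * h⁻¹ ∈ ((inducedFunctor W S).subgroupOf S).map ι :=
      fun x => (Subgroup.mem_normalizer_iff.1 hh' _).1 (hmem x)
    have hconj : ∀ x : ↥(inducedFunctor W S), h * ι ⟨x, hXS x.2⟩ * h⁻¹ ∈ ι.range := by
      intro x
      obtain ⟨s, -, hs⟩ := hconj' x
      exact ⟨s, hs⟩
    have hφ := Model.conjThrough_mem_hom F hR hXS h hconj
    have hφX : ∀ x, Model.conjThrough ι hι hXS h hconj x ∈ inducedFunctor W S := by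
      intro x
      have h1 := hconj' x
      rw [← Model.ι_conjThrough ι hι hXS h hconj x] at h1
      exact (ThompsonFus.mem_map_subgroupOf_iff hι _ _).1 h1
    have h2 := hfix _ _ (mem_normalizerHom_self F hφ hφX) hzX
    have h3 := Model.ι_conjThrough ι hι hXS h hconj ⟨y, hzX⟩
    have h4 : (⟨Model.conjThrough ι hι hXS h hconj ⟨y, hzX⟩,
        Model.conjThrough_mem ι hι hXS h hconj ⟨y, hzX⟩⟩ : S) = ⟨y, hzS⟩ := Subtype.ext h2
    rw [h4] at h3
    have h5 : ι ⟨y, hzS⟩ = h * ι ⟨y, hzS⟩ * h⁻¹ := h3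
    have h6 : h * ι ⟨y, hzS⟩ = (h * ι ⟨y, hzS⟩ * h⁻¹) * h := by group
    rw [h6, ← h5]
  have hcentral := hgrp hfin T hcen _ hyT hN
  -- conclusion
  intro P φ hφ hz
  have hP : P ≤ S := hom_le F hφ
  obtain ⟨g, hg⟩ := (hR.2 P hP φ (fun x => hom_map_mem F hφ x)).1 hφ
  have h1 := hg ⟨y, hz⟩
  have h2 : ι ⟨((⟨y, hz⟩ : P) : Ω), hP hz⟩ = ι ⟨y, hzS⟩ := rfl
  rw [h2, hcentral g, mul_inv_cancel_right] at h1
  exact congrArg (fun s : S => (s : Ω)) (hι h1)

/-- **Glauberman's theorem, constrained case**: if `C_L(O_p(L)) ≤ O_p(L)`, `p` is odd or `L` is `S₄`-free, then every element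
of `Z(T)` (`T` a Sylow `p`-subgroup) central in `N_L(J(T))` is central in `L`. -/
theorem glauberman_center {L : Type u} [Group L] [Finite L] (T : Sylow p L)
    (hc : Subgroup.centralizer ((pCore p L : Subgroup L) : Set L) ≤ pCore p L)
    (h : p ≠ 2 ∨ ¬ Involves (Equiv.Perm (Fin 4)) L) (x : L)
    (hx : x ∈ (T : Subgroup L) ⊓ Subgroup.centralizer ((T : Subgroup L) : Set L))
    (hN : ∀ n ∈ Subgroup.normalizer ((thompsonSubgroupAOf (T : Subgroup L) : Subgroup L) : Set L), n * x = x * n) :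
    ∀ g : L, g * x = x * g := by
  have hQT : pCore p L ≤ (T : Subgroup L) := Cfsg.Agent.Lib.Helper76.pCore_le_sylow p T
  have hQn : (pCore p L).Normal := Cfsg.pCore_normal p L
  have hxQ : x ∈ pCore p L := hc (Subgroup.centralizer_le hQT hx.2)
  have hwc : ∀ g : L, g * x * g⁻¹ ∈ (T : Subgroup L) → g * x * g⁻¹ = x := by
    have hodd : p ≠ 2 → ∀ g : L, g * x * g⁻¹ ∈ (T : Subgroup L) → g * x * g⁻¹ = x := by
      intro hp g hg
      refine Cfsg.Agent.S2799.wc_odd hp T x (Subgroup.mem_inf.mpr ⟨hx.1, ?_⟩) g (Subgroup.mem_top g) hg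
      rw [Subgroup.mem_centralizer_iff]
      intro n hn
      exact hN n (Subgroup.mem_inf.mp hn).2
    by_cases hp : p = 2
    · subst hp
      rcases h with h | h
      · exact absurd rfl h
      · exact weakly_closed_of_s4free h T x hx.1 hN
    · exact hodd hp
  intro g
  have h1 := hwc g (hQT (hQn.conj_mem x hxQ g))
  calc g * x = g * x * g⁻¹ * g := by group
    _ = x * g := by rw [h1]

end Cfsg.Agent.Lib.Helper85
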