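import Cfsg.Agent.Lib.Helper85.FusionRealized
import Cfsg.Agent.Lib.Helper88.FusionModelBasic
import Cfsg.Agent.Lib.Helper84.PResidualAux
import Cfsg.Agent.Lib.Helper22.PPrimeCore
import Cfsg.Agent.Lib.Helper76.PCore

/-!
# From a realizing group with a normal centric `p`-subgroup to a model

If the fusion system `N` over the finite `p`-group `T` is realized by `ι : T →* G` on a Sylow `p`-subgroup of the finite
group `G`, and `P ≤ T` is such that `ι(P)` is normal in `G` and `C_T(P) ≤ P`, then `G / O_{p'}(G)` is a model of `N`.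
-/

set_option autoImplicit false

namespace Cfsg.Agent.Lib.Helper85

open Cfsg Cfsg.FusionSystem

/-- In a finite group with a central Sylow `p`-subgroup `Z`, every element is a product of an element of `O_{p'}` and an
element of `Z` (Burnside's transfer theorem). -/
theorem exists_mul_of_central_sylow {C : Type*} [Group C] [Finite C] {p : ℕ} [Fact p.Prime] (Z : Sylow p C)
    (hZ : (Z : Subgroup C) ≤ Subgroup.center C) (x : C) :
    ∃ k ∈ pPrimeCore p C, ∃ z ∈ (Z : Subgroup C), x = k * z := by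
  have hNC : Subgroup.normalizer ((Z : Subgroup C) : Set C) ≤ Subgroup.centralizer ((Z : Subgroup C) : Set C) := by
    intro g _
    rw [Subgroup.mem_centralizer_iff]
    intro z hz
    exact ((Subgroup.mem_center_iff.mp (hZ hz)) g).symm
  have hcompl := MonoidHom.ker_transferSylow_isComplement' Z hNC
  have hnd := MonoidHom.not_dvd_card_ker_transferSylow Z hNC
  obtain ⟨K, hK⟩ : ∃ K : Subgroup C, K = (MonoidHom.transferSylow Z hNC).ker := ⟨_, rfl⟩
  rw [← hK] at hcompl hnd
  have hKn : K.Normal := hK ▸ MonoidHom.normal_ker _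
  have hcop : (Nat.card K).Coprime p :=
    ((Nat.Prime.coprime_iff_not_dvd (Fact.out : p.Prime)).mpr hnd).symm
  have hKle : K ≤ pPrimeCore p C := Cfsg.Agent.Lib.Helper76.le_pPrimeCore p K hKn hcop
  obtain ⟨⟨k, z⟩, h, -⟩ := Subgroup.isComplement_iff_existsUnique.mp hcompl x
  exact ⟨k, hKle k.2, z, z.2, h.symm⟩

variable {Ω : Type*} [Group Ω] {T : Subgroup Ω}

/-- **From a realizing group to a model.** -/
theorem isModel_quot_pPrimeCore [Finite T] {p : ℕ} [Fact p.Prime]
    (hT : IsPGroup p T) (N : FusionSystem T) {G : Type*} [Group G] [Finite G] {ι : T →* G}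
    (hR : N.IsRealizedBy ι) (Sy : Sylow p G) (hSy : (Sy : Subgroup G) = ι.range)
    {P : Subgroup Ω} (hPT : P ≤ T) (hPn : (imι ι P).Normal) (hcen : centralizerIn T P ≤ P) :
    N.IsModel p (G ⧸ pPrimeCore p G) ((QuotientGroup.mk' (pPrimeCore p G)).comp ι) := by
  refine ⟨inferInstance, Cfsg.Agent.Lib.Helper88.Model.realizedBy_mk N hT hR Sy hSy,
    Cfsg.Agent.Lib.Helper88.Model.exists_sylow_mk Sy hSy, ?_⟩
  set K := pPrimeCore p G with hKdef
  set π := QuotientGroup.mk' K with hπ
  have hπs : Function.Surjective π := QuotientGroup.mk'_surjective K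
  -- the image of `ι(P)` lies in the `p`-core of the quotient
  have hPp : IsPGroup p (imι ι P) := (hT.to_subgroup _).map ι
  have hle : (imι ι P).map π ≤ pCore p (G ⧸ K) :=
    Cfsg.Agent.Lib.Helper76.le_pCore p _ (hPn.map π hπs) (hPp.map π)
  have hcap := Cfsg.Agent.Lib.Helper88.Model.eq_one_of_mem_range_of_mem_pPrimeCore (G := G) (ι := ι) hT
  intro xbar hxbar
  obtain ⟨x, rfl⟩ := hπs xbar
  -- `x` centralizes `ι(P)`
  have hxC : x ∈ Subgroup.centralizer ((imι ι P : Subgroup G) : Set G) := by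
    rw [Subgroup.mem_centralizer_iff]
    intro y hy
    have h1 : π y * π x = π x * π y := by
      rw [Subgroup.mem_centralizer_iff] at hxbar
      exact hxbar (π y) (hle ⟨y, hy, rfl⟩)
    have h2 : π (y * x * y⁻¹ * x⁻¹) = 1 := by
      rw [map_mul, map_mul, map_mul, h1, map_inv, map_inv]
      group
    have h3 : y * x * y⁻¹ * x⁻¹ ∈ K := (QuotientGroup.eq_one_iff _).1 h2
    have h4 : y * x * y⁻¹ * x⁻¹ ∈ imι ι P := by
      have : y * x * y⁻¹ * x⁻¹ = y * (x * y⁻¹ * x⁻¹) := by group
      rw [this]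
      exact (imι ι P).mul_mem hy (hPn.conj_mem _ ((imι ι P).inv_mem hy) x)
    have h5 := hcap _ (imι_le_range ι P h4) h3
    have : y * x = (y * x * y⁻¹ * x⁻¹) * (x * y) := by group
    rw [this, h5, one_mul]
  -- the centralizer of `ι(P)` has a central Sylow `p`-subgroup
  obtain ⟨C, hC⟩ : ∃ C : Subgroup G, C = Subgroup.centralizer ((imι ι P : Subgroup G) : Set G) := ⟨_, rfl⟩
  have hCn : C.Normal := hC ▸ Subgroup.normal_centralizer
  obtain ⟨Z, hZ⟩ := Cfsg.Agent.Lib.Helper84.exists_sylow_subgroupOf_normal C Sy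
  have hZP : ∀ z : C, z ∈ (Z : Subgroup C) → (z : G) ∈ imι ι P := by
    intro z hz
    rw [hZ, Subgroup.mem_subgroupOf, hSy] at hz
    obtain ⟨t, ht⟩ := hz
    have htc : (t : Ω) ∈ centralizerIn T P := by
      refine ⟨t.2, ?_⟩
      show (t : Ω) ∈ Subgroup.centralizer (P : Set Ω)
      rw [Subgroup.mem_centralizer_iff]
      intro y hy
      have h1 : ι ⟨y, hPT hy⟩ * ι t = ι t * ι ⟨y, hPT hy⟩ := by
        have hzC : (z : G) ∈ Subgroup.centralizer ((imι ι P : Subgroup G) : Set G) := hC ▸ z.2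
        rw [Subgroup.mem_centralizer_iff] at hzC
        rw [ht]
        exact hzC _ (apply_mem_imι ι (hPT hy) hy)
      have h2 : (⟨y, hPT hy⟩ : T) * t = t * ⟨y, hPT hy⟩ := hR.1 (by rw [map_mul, map_mul, h1])
      exact congrArg Subtype.val h2
    rw [← ht]
    exact apply_mem_imι ι t.2 (hcen htc)
  have hZc : (Z : Subgroup C) ≤ Subgroup.center C := by
    intro z hz
    rw [Subgroup.mem_center_iff]
    intro g
    have hgC : (g : G) ∈ Subgroup.centralizer ((imι ι P : Subgroup G) : Set G) := hC ▸ g.2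
    rw [Subgroup.mem_centralizer_iff] at hgC
    exact Subtype.ext (hgC _ (hZP z hz)).symm
  obtain ⟨k, hk, z, hz, hxkz⟩ := exists_mul_of_central_sylow Z hZc ⟨x, hC ▸ hxC⟩
  have hkK : (k : G) ∈ K :=
    Cfsg.Agent.Lib.Helper22.pPrimeCore_map_subtype_le_of_normal p C ⟨k, hk, rfl⟩
  have hx : x = (k : G) * (z : G) := congrArg Subtype.val hxkz
  have hπk : π (k : G) = 1 := (QuotientGroup.eq_one_iff _).2 hkK
  have hπx : π x = π (z : G) := by
    rw [hx, map_mul, hπk, one_mul]
  rw [hπx]
  exact hle ⟨z, hZP z hz, rfl⟩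

end Cfsg.Agent.Lib.Helper85
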