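import Cfsg.Agent.Lib.Helper85.QuotModelReal
import Cfsg.Agent.Lib.Helper85.QuotModelCore
import Cfsg.Agent.Lib.Helper84.ModelUniqueFusion
import Cfsg.Agent.Lib.Helper88.Involves
import Cfsg.Agent.Lib.Helper88.FusionNormalCrit
import Cfsg.Agent.Lib.Helper87.FusionKNormSat
import Cfsg.Prelude.Def_FusionReduction

/-!
# Factor systems of `H`-free fusion systems are `H`-free

If `F` is saturated, `Q` is normal in `F` and `F` is `H`-free (no local model at a fully normalized centric subgroup involves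
`H`), then every factor system `F/Q` is `H`-free.
-/

set_option autoImplicit false

namespace Cfsg.Agent.Lib.Helper85

open Cfsg Cfsg.FusionSystem

universe u u' w

/-- A group involved in a homomorphic image is involved in the group. -/
theorem involves_of_surj {H : Type*} [Group H] {Y Z : Type*} [Group Y] [Group Z]
    (φ : Y →* Z) (hφ : Function.Surjective φ) (h : Involves H Z) : Involves H Y := by
  rw [Cfsg.Agent.Lib.Helper88.involves_iff_exists_surj] at h ⊢
  obtain ⟨K, f, hf⟩ := h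
  exact ⟨K.comap φ, f.comp (φ.subgroupComap K),
    hf.comp (φ.subgroupComap_surjective_of_surjective K hφ)⟩

/-- The normalizer system of a fully normalized centric subgroup, with that subgroup, is a context for the model theorem. -/
theorem ctx_of_isNormalizerSystem {Ω : Type*} [Group Ω] {S : Subgroup Ω} [Finite S] {p : ℕ} [Fact p.Prime]
    (hS : IsPGroup p S) (F : FusionSystem S) (hF : F.IsSaturated p) {R : Subgroup Ω}
    (hRn : F.IsFullyNormalized R) (hRc : F.IsCentric R)
    {N : FusionSystem (normalizerIn S R)} (hN : F.IsNormalizerSystem R N) :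
    Cfsg.Agent.Lib.Helper84.Model.Ctx N R p := by
  have hRS := hRn.1
  have : Finite R := Cfsg.Agent.Lib.Helper87.finite_of_le hRS
  have hTS : normalizerIn S R ≤ S := inf_le_left
  refine ⟨hS.of_injective (Subgroup.inclusion hTS) (Subgroup.inclusion_injective _),
    Cfsg.Agent.Lib.Helper87.isSaturated_of_isNormalizerSystem F hS hF hRn hN,
    Cfsg.Agent.S5126.isNormal_of_isNormalizerSystem F hRS hN, le_inf hRS Subgroup.le_normalizer, ?_⟩
  rintro Q ⟨φ, hφ, rfl⟩
  rw [hN R] at hφ
  rw [Cfsg.Agent.S5126.range_eq_of_mem_normalizerHom F hφ]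
  intro x hx
  exact hRc.2 R (isConj_refl F hRS) ⟨hTS hx.1, hx.2⟩

/-- **Factor systems of `H`-free saturated fusion systems by normal subgroups are `H`-free.** -/
theorem isSectionFree_of_isFactorSystem {Ω : Type u} [Group Ω] {S : Subgroup Ω} [Finite S] (p : ℕ) [Fact p.Prime]
    (hS : IsPGroup p S) (F : FusionSystem S) (hF : F.IsSaturated p) (Q : Subgroup Ω) (hQ : F.IsNormal Q)
    (H : Type w) [Group H] (hfree : F.IsSectionFree p H)
    {Ω' : Type u'} [Group Ω'] {S' : Subgroup Ω'} (θ : S →* Ω') (E : FusionSystem S')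
    (hE : F.IsFactorSystem Q θ E) : E.IsSectionFree p H := by
  have hK : F.StronglyClosed Q := Cfsg.Agent.Lib.Helper88.isNormal_stronglyClosed F hQ
  have hEsat : E.IsSaturated p := isSaturated_of_isFactorSystem hS F hF hK θ E hE
  intro R' hR'fn hR'c N' hN' L' _ ι' hM' hinv
  have hRfn := isFullyNormalized_preimageAlong F hK θ E hE hR'fn
  have hRc := isCentric_preimageAlong F hK θ E hE hR'c
  obtain ⟨hKS, hker, rfl, hHom⟩ := hE
  have hRS : preimageAlong θ R' ≤ S := hRfn.1
  have hN : F.IsNormalizerSystem (preimageAlong θ R') (normalizerSystem F (preimageAlong θ R') hRS) :=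
    isNormalizerSystem_normalizerSystem F _ hRS
  obtain ⟨N, hNdef⟩ : ∃ N, N = normalizerSystem F (preimageAlong θ R') hRS := ⟨_, rfl⟩
  rw [← hNdef] at hN
  have hCtx := ctx_of_isNormalizerSystem hS F hF hRfn hRc hN
  have hTfin : Finite ↥(normalizerIn S (preimageAlong θ R')) :=
    Cfsg.Agent.Lib.Helper87.finite_of_le (inf_le_left : normalizerIn S (preimageAlong θ R') ≤ S)
  obtain ⟨L, _, ι, hM⟩ := hCtx.exists_isModel
  have hnot := hfree _ hRfn hRc N hN L ι hM
  have MC : Cfsg.Agent.Lib.Helper84.Model.MCtx N (preimageAlong θ R') p L ι := ⟨hCtx, hM⟩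
  have hr := hM.2.1
  have hTS : normalizerIn S (preimageAlong θ R') ≤ S := inf_le_left
  have hRT : preimageAlong θ R' ≤ normalizerIn S (preimageAlong θ R') := le_inf hRS Subgroup.le_normalizer
  -- `ι(R)` is normal in `L`
  have hRn : (imι ι (preimageAlong θ R')).Normal := by
    refine ⟨fun n hn g => ?_⟩
    obtain ⟨y, hy, rfl⟩ := hn
    obtain ⟨y', hy'⟩ := MC.conj_Q g ⟨y, hy⟩
    rw [hy']
    exact ⟨y', y'.2, rfl⟩
  -- `ι(Q)` is normal in `L`
  have hQn : (imι ι Q).Normal := by
    refine ⟨fun n hn g => ?_⟩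
    obtain ⟨y, hy, rfl⟩ := hn
    have hyQ : (y : Ω) ∈ Q := Subgroup.mem_subgroupOf.1 hy
    have hconj : ∀ x : ↥(preimageAlong θ R'), g * ι ⟨x, hRT x.2⟩ * g⁻¹ ∈ ι.range := by
      intro x
      exact imι_le_range ι _ (hRn.conj_mem _ ⟨⟨x, hRT x.2⟩, Subgroup.mem_subgroupOf.2 x.2, rfl⟩ g)
    have hφN := conjι_mem_Hom hr hRT g hconj
    have hφT := conjι_mem hr.1 hRT g hconj
    have hφι := ι_conjι hr.1 hRT g hconj
    rw [hN _] at hφN
    have hφF := hφN.1
    have hyR : (y : Ω) ∈ preimageAlong θ R' := ker_le_preimageAlong θ hKS hker R' hyQ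
    have h1 := (stronglyClosed_apply_mem_iff F hK hφF ⟨y, hyR⟩).mpr hyQ
    have h2 := hφι ⟨y, hyR⟩
    have e : (⟨((⟨y, hyR⟩ : ↥(preimageAlong θ R')) : Ω), hRT hyR⟩ : ↥(normalizerIn S (preimageAlong θ R'))) = y :=
      Subtype.ext rfl
    rw [e] at h2
    rw [← h2]
    exact ⟨_, Subgroup.mem_subgroupOf.2 h1, rfl⟩
  have hLfin : Finite L := hM.1
  obtain ⟨Sy, hSy⟩ := hM.2.2.1
  have hR'r : R' ≤ θ.range := hR'fn.1
  have hr' := isRealizedBy_iotaBar F hK θ hker E hHom hR'r N hN N' hN' hr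
  have hSyb : ((Sy.mapSurjective (QuotientGroup.mk'_surjective (imι ι Q)) : Sylow p (L ⧸ imι ι Q)) :
      Subgroup (L ⧸ imι ι Q)) = (iotaBar θ hker hR'r ι).range := by
    rw [Sylow.coe_mapSurjective, hSy, range_iotaBar]
  have hRbn : (imι (iotaBar θ hker hR'r ι) R').Normal := by
    rw [imι_iotaBar]
    exact hRn.map _ (QuotientGroup.mk'_surjective _)
  have hR'T' : R' ≤ normalizerIn θ.range R' := le_inf hR'r Subgroup.le_normalizer
  have hT'S' : normalizerIn θ.range R' ≤ θ.range := inf_le_left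
  have hcen : centralizerIn (normalizerIn θ.range R') R' ≤ R' :=
    fun x hx => hR'c.2 R' (isConj_refl E hR'r) ⟨hT'S' hx.1, hx.2⟩
  have hS'fin : Finite ↥θ.range := Finite.of_surjective θ.rangeRestrict θ.rangeRestrict_surjective
  have hS'p : IsPGroup p ↥θ.range := hS.of_surjective θ.rangeRestrict θ.rangeRestrict_surjective
  have hT'fin : Finite ↥(normalizerIn θ.range R') := Cfsg.Agent.Lib.Helper87.finite_of_le hT'S'
  have hCtx' := ctx_of_isNormalizerSystem hS'p E hEsat hR'fn hR'c hN'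
  have hMb := isModel_quot_pPrimeCore hCtx'.hS N' hr' _ hSyb hR'T' hRbn hcen
  obtain ⟨e, -⟩ := Cfsg.Agent.Lib.Helper84.Model.exists_mulEquiv_of_models
    (⟨hCtx', hM'⟩ : Cfsg.Agent.Lib.Helper84.Model.MCtx N' R' p L' ι')
    (⟨hCtx', hMb⟩ : Cfsg.Agent.Lib.Helper84.Model.MCtx N' R' p _ _)
  have h1 := Cfsg.Agent.Lib.Helper88.Involves.of_injective e.toMonoidHom e.injective hinv
  have h2 := involves_of_surj (QuotientGroup.mk' (pPrimeCore p (L ⧸ imι ι Q))) (QuotientGroup.mk'_surjective _) h1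
  have h3 := involves_of_surj (QuotientGroup.mk' (imι ι Q)) (QuotientGroup.mk'_surjective _) h2
  exact hnot h3

end Cfsg.Agent.Lib.Helper85
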