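import Cfsg.Agent.Lib.Helper85.FusionBasic
import Cfsg.Agent.Lib.Helper85.SylowAux

set_option autoImplicit false

namespace Cfsg.Agent.Lib.Helper85

open Cfsg Cfsg.FusionSystem

variable {G : Type*} [Group G]

theorem mem_groupFusionSystem_Hom {S P : Subgroup G} {φ : P →* G} :
    φ ∈ (groupFusionSystem S).Hom P ↔
      P ≤ S ∧ (∀ x : P, φ x ∈ S) ∧ ∃ g : G, ∀ x : P, φ x = g * (x : G) * g⁻¹ := Iff.rfl

theorem range_eq_map_conj {P : Subgroup G} {φ : P →* G} {g : G} (h : ∀ x : P, φ x = g * (x : G) * g⁻¹) :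
    φ.range = P.map (MulAut.conj g).toMonoidHom := by
  ext y
  constructor
  · rintro ⟨x, rfl⟩
    exact ⟨x, x.2, (h x).symm⟩
  · rintro ⟨x, hx, rfl⟩
    exact ⟨⟨x, hx⟩, h ⟨x, hx⟩⟩

theorem conjHom_range (P : Subgroup G) (g : G) : (conjHom P g).range = P.map (MulAut.conj g).toMonoidHom :=
  range_eq_map_conj fun _ => rfl

/-- Conjugacy in `F_S(G)`. -/
theorem groupFusionSystem_isConj_iff {S P Q : Subgroup G} :
    (groupFusionSystem S).IsConj P Q ↔ P ≤ S ∧ Q ≤ S ∧ ∃ g : G, P.map (MulAut.conj g).toMonoidHom = Q := by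
  constructor
  · rintro ⟨φ, ⟨hP, hφS, g, hg⟩, hr⟩
    refine ⟨hP, ?_, g, ?_⟩
    · rw [← hr]
      rintro _ ⟨x, rfl⟩
      exact hφS x
    · rw [← hr, range_eq_map_conj hg]
  · rintro ⟨hP, hQ, g, hg⟩
    refine ⟨conjHom P g, ⟨hP, fun x => ?_, g, fun _ => rfl⟩, ?_⟩
    · apply hQ
      rw [← hg]
      exact ⟨x, x.2, rfl⟩
    · rw [conjHom_range, hg]

theorem normalizerIn_map_conj_le {S P : Subgroup G} {g : G} {T : Subgroup G}
    (hTS : T.map (MulAut.conj g).toMonoidHom ≤ S) (hTN : T ≤ Subgroup.normalizer (P : Set G)) :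
    T.map (MulAut.conj g).toMonoidHom ≤ normalizerIn S (P.map (MulAut.conj g).toMonoidHom) := by
  refine le_inf hTS ?_
  rw [normalizer_map_conj]
  exact map_conj_mono hTN g

theorem centralizerIn_map_conj_le {S P : Subgroup G} {g : G} {T : Subgroup G}
    (hTS : T.map (MulAut.conj g).toMonoidHom ≤ S) (hTN : T ≤ Subgroup.centralizer (P : Set G)) :
    T.map (MulAut.conj g).toMonoidHom ≤ centralizerIn S (P.map (MulAut.conj g).toMonoidHom) := by
  refine le_inf hTS ?_
  rw [centralizer_map_conj]
  exact map_conj_mono hTN g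

theorem le_normalizerIn {S P : Subgroup G} (hP : P ≤ S) : P ≤ normalizerIn S P :=
  le_inf hP Subgroup.le_normalizer

variable [Finite G] {p : ℕ} [Fact p.Prime]

/-- In `F_S(G)`: `P` is fully normalized iff `N_S(P)` is a Sylow `p`-subgroup of `N_G(P)`. -/
theorem groupFusionSystem_isFullyNormalized_iff (S : Sylow p G) {P : Subgroup G} (hP : P ≤ S) :
    (groupFusionSystem (S : Subgroup G)).IsFullyNormalized P ↔
      ∃ R : Sylow p ↥(Subgroup.normalizer (P : Set G)),
        (R : Subgroup ↥(Subgroup.normalizer (P : Set G))) =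
          (normalizerIn (S : Subgroup G) P).subgroupOf (Subgroup.normalizer (P : Set G)) := by
  have hNS : IsPGroup p (normalizerIn (S : Subgroup G) P) := S.isPGroup'.to_le inf_le_left
  have hle : normalizerIn (S : Subgroup G) P ≤ Subgroup.normalizer (P : Set G) := inf_le_right
  rw [sylow_subgroupOf_iff hle]
  constructor
  · rintro ⟨-, hfn⟩
    refine ⟨hNS, fun T hTN hT => ?_⟩
    -- `T ⊔ P` is a `p`-group
    have hTP : IsPGroup p (T ⊔ P : Subgroup G) :=
      hT.to_sup_of_normal_right' (S.isPGroup'.to_le hP) hTN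
    obtain ⟨g, hg⟩ := exists_conj_le_sylow S hTP
    have hTg : T.map (MulAut.conj g).toMonoidHom ≤ S := (map_conj_mono le_sup_left g).trans hg
    have hPg : P.map (MulAut.conj g).toMonoidHom ≤ S := (map_conj_mono le_sup_right g).trans hg
    have hconj : (groupFusionSystem (S : Subgroup G)).IsConj P (P.map (MulAut.conj g).toMonoidHom) :=
      groupFusionSystem_isConj_iff.mpr ⟨hP, hPg, g, rfl⟩
    have h1 := hfn _ hconj
    have h2 : T.map (MulAut.conj g).toMonoidHom ≤
        normalizerIn (S : Subgroup G) (P.map (MulAut.conj g).toMonoidHom) :=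
      normalizerIn_map_conj_le hTg hTN
    calc Nat.card T = Nat.card (T.map (MulAut.conj g).toMonoidHom) := (card_map_conj T g).symm
      _ ≤ Nat.card (normalizerIn (S : Subgroup G) (P.map (MulAut.conj g).toMonoidHom)) :=
          Subgroup.card_le_of_le h2
      _ ≤ _ := h1
  · rintro ⟨-, hmax⟩
    refine ⟨hP, fun Q hQ => ?_⟩
    obtain ⟨-, hQS, g, rfl⟩ := groupFusionSystem_isConj_iff.mp hQ
    set Q := P.map (MulAut.conj g).toMonoidHom with hQdef
    have hT : IsPGroup p ((normalizerIn (S : Subgroup G) Q).map (MulAut.conj g⁻¹).toMonoidHom) :=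
      (S.isPGroup'.to_le inf_le_left).map _
    have hTN : (normalizerIn (S : Subgroup G) Q).map (MulAut.conj g⁻¹).toMonoidHom ≤
        Subgroup.normalizer (P : Set G) := by
      have : Subgroup.normalizer (P : Set G) =
          (Subgroup.normalizer (Q : Set G)).map (MulAut.conj g⁻¹).toMonoidHom := by
        rw [← normalizer_map_conj, hQdef, map_conj_inv_map_conj]
      rw [this]
      exact map_conj_mono inf_le_right _
    have := hmax _ hTN hT
    rwa [card_map_conj] at this

/-- In `F_S(G)`: `P` is fully centralized iff `C_S(P)` is a Sylow `p`-subgroup of `C_G(P)`. -/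
theorem groupFusionSystem_isFullyCentralized_iff (S : Sylow p G) {P : Subgroup G} (hP : P ≤ S) :
    (groupFusionSystem (S : Subgroup G)).IsFullyCentralized P ↔
      ∃ R : Sylow p ↥(Subgroup.centralizer (P : Set G)),
        (R : Subgroup ↥(Subgroup.centralizer (P : Set G))) =
          (centralizerIn (S : Subgroup G) P).subgroupOf (Subgroup.centralizer (P : Set G)) := by
  have hNS : IsPGroup p (centralizerIn (S : Subgroup G) P) := S.isPGroup'.to_le inf_le_left
  have hle : centralizerIn (S : Subgroup G) P ≤ Subgroup.centralizer (P : Set G) := inf_le_right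
  rw [sylow_subgroupOf_iff hle]
  constructor
  · rintro ⟨-, hfn⟩
    refine ⟨hNS, fun T hTN hT => ?_⟩
    -- `T ⊔ P` is a `p`-group
    have hTP : IsPGroup p (T ⊔ P : Subgroup G) :=
      hT.to_sup_of_normal_right' (S.isPGroup'.to_le hP)
        (hTN.trans (Subgroup.centralizer_le_normalizer _))
    obtain ⟨g, hg⟩ := exists_conj_le_sylow S hTP
    have hTg : T.map (MulAut.conj g).toMonoidHom ≤ S := (map_conj_mono le_sup_left g).trans hg
    have hPg : P.map (MulAut.conj g).toMonoidHom ≤ S := (map_conj_mono le_sup_right g).trans hg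
    have hconj : (groupFusionSystem (S : Subgroup G)).IsConj P (P.map (MulAut.conj g).toMonoidHom) :=
      groupFusionSystem_isConj_iff.mpr ⟨hP, hPg, g, rfl⟩
    have h1 := hfn _ hconj
    have h2 : T.map (MulAut.conj g).toMonoidHom ≤
        centralizerIn (S : Subgroup G) (P.map (MulAut.conj g).toMonoidHom) :=
      centralizerIn_map_conj_le hTg hTN
    calc Nat.card T = Nat.card (T.map (MulAut.conj g).toMonoidHom) := (card_map_conj T g).symm
      _ ≤ Nat.card (centralizerIn (S : Subgroup G) (P.map (MulAut.conj g).toMonoidHom)) :=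
          Subgroup.card_le_of_le h2
      _ ≤ _ := h1
  · rintro ⟨-, hmax⟩
    refine ⟨hP, fun Q hQ => ?_⟩
    obtain ⟨-, hQS, g, rfl⟩ := groupFusionSystem_isConj_iff.mp hQ
    set Q := P.map (MulAut.conj g).toMonoidHom with hQdef
    have hT : IsPGroup p ((centralizerIn (S : Subgroup G) Q).map (MulAut.conj g⁻¹).toMonoidHom) :=
      (S.isPGroup'.to_le inf_le_left).map _
    have hTN : (centralizerIn (S : Subgroup G) Q).map (MulAut.conj g⁻¹).toMonoidHom ≤
        Subgroup.centralizer (P : Set G) := by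
      have : Subgroup.centralizer (P : Set G) =
          (Subgroup.centralizer (Q : Set G)).map (MulAut.conj g⁻¹).toMonoidHom := by
        rw [← centralizer_map_conj, hQdef, map_conj_inv_map_conj]
      rw [this]
      exact map_conj_mono inf_le_right _
    have := hmax _ hTN hT
    rwa [card_map_conj] at this

end Cfsg.Agent.Lib.Helper85
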