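import Cfsg.Agent.Lib.Helper85.FusionFactor

/-!
# Homomorphisms induced along `θ : S →* Ω'` on a subgroup of the image
-/

set_option autoImplicit false

namespace Cfsg.Agent.Lib.Helper85

open Cfsg Cfsg.FusionSystem

variable {Ω : Type*} [Group Ω] {S : Subgroup Ω} {Ω' : Type*} [Group Ω'] (θ : S →* Ω')

/-- The restriction of `θ` to the full preimage of `P'`, as a homomorphism onto `P'`. -/
def preimageRestrict (P' : Subgroup Ω') : ↥(preimageAlong θ P') →* P' :=
  (θ.comp (Subgroup.inclusion (preimageAlong_le θ P'))).codRestrict P'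
    (fun x => ((mem_preimageAlong_iff θ P' x).mp x.2).2)

theorem preimageRestrict_apply (P' : Subgroup Ω') (x : ↥(preimageAlong θ P')) :
    ((preimageRestrict θ P' x : P') : Ω') = θ ⟨x, preimageAlong_le θ P' x.2⟩ := rfl

theorem preimageRestrict_surjective {P' : Subgroup Ω'} (hP' : P' ≤ θ.range) :
    Function.Surjective (preimageRestrict θ P') := by
  rintro ⟨y, hy⟩
  obtain ⟨s, rfl⟩ := hP' hy
  exact ⟨⟨s, (mem_preimageAlong_iff θ P' s).mpr ⟨s.2, hy⟩⟩, Subtype.ext rfl⟩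

/-- The homomorphism induced on `P' ≤ θ(S)` by a homomorphism `ψ` on the full preimage of `P'` with values in `S`
which preserves the kernel of `θ`. -/
noncomputable def inducedHom {P' : Subgroup Ω'} (hP' : P' ≤ θ.range) (ψ : ↥(preimageAlong θ P') →* Ω)
    (hψS : ∀ x, ψ x ∈ S)
    (hker : ∀ x : ↥(preimageAlong θ P'), θ ⟨x, preimageAlong_le θ P' x.2⟩ = 1 → θ ⟨ψ x, hψS x⟩ = 1) :
    P' →* Ω' :=
  (preimageRestrict θ P').liftOfSurjective (preimageRestrict_surjective θ hP')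
    ⟨θ.comp (ψ.codRestrict S hψS), fun x hx => by
      rw [MonoidHom.mem_ker] at hx ⊢
      exact hker x (congrArg Subtype.val hx)⟩

theorem inducedHom_apply {P' : Subgroup Ω'} (hP' : P' ≤ θ.range) (ψ : ↥(preimageAlong θ P') →* Ω)
    (hψS : ∀ x, ψ x ∈ S)
    (hker : ∀ x : ↥(preimageAlong θ P'), θ ⟨x, preimageAlong_le θ P' x.2⟩ = 1 → θ ⟨ψ x, hψS x⟩ = 1)
    (x : ↥(preimageAlong θ P')) (hx : θ ⟨x, preimageAlong_le θ P' x.2⟩ ∈ P') :
    inducedHom θ hP' ψ hψS hker ⟨θ ⟨x, preimageAlong_le θ P' x.2⟩, hx⟩ = θ ⟨ψ x, hψS x⟩ := by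
  have := MonoidHom.liftOfRightInverse_comp_apply (preimageRestrict θ P')
    (Function.surjInv (preimageRestrict_surjective θ hP'))
    (Function.rightInverse_surjInv (preimageRestrict_surjective θ hP'))
    ⟨θ.comp (ψ.codRestrict S hψS), fun x hx => by
      rw [MonoidHom.mem_ker] at hx ⊢
      exact hker x (congrArg Subtype.val hx)⟩ x
  exact this

theorem inducedAlong_inducedHom {P' : Subgroup Ω'} (hP' : P' ≤ θ.range) (ψ : ↥(preimageAlong θ P') →* Ω)
    (hψS : ∀ x, ψ x ∈ S)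
    (hker : ∀ x : ↥(preimageAlong θ P'), θ ⟨x, preimageAlong_le θ P' x.2⟩ = 1 → θ ⟨ψ x, hψS x⟩ = 1) :
    InducedAlong θ ψ (inducedHom θ hP' ψ hψS hker) :=
  ⟨preimageAlong_le θ P', hψS, fun x => ((mem_preimageAlong_iff θ P' x).mp x.2).2,
    fun x => inducedHom_apply θ hP' ψ hψS hker x _⟩

end Cfsg.Agent.Lib.Helper85
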