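import Mathlib
import Cfsg.Agent.Lib.Helper19.SuzHigN
import Cfsg.Agent.Lib.Helper19.SuzHigField

/-!
# Suzuki 2-groups with a SOLVABLE transitive automorphism group: definitions (helper85)

Project SUZ2 (S3776 + S3797).  `SHyp P Y`: `P` a finite 2-group with at least two involutions and
`Y ≤ Aut P` a solvable group of automorphisms transitive on the involutions.
We reuse from helper19: `Z0 P` (central elements of square one), `Nsub P` (preimage of
`Ω₁(Z(P/Z0))`), `resK`, `restrictAut`, `quotAut`, `Kbar`.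
-/

set_option autoImplicit false
set_option linter.style.haveILetI false

namespace Cfsg.Agent.Lib.Helper85.Suz2

open Cfsg.Agent.Lib.Helper19.Suz

/-- hypothesis package -/
structure SHyp (P : Type*) [Group P] (Y : Subgroup (MulAut P)) : Prop where
  fin : Finite P
  pgrp : IsPGroup 2 P
  sol : Group.IsSolvable Y
  trans : ∀ x y : P, x ≠ 1 → x * x = 1 → y ≠ 1 → y * y = 1 → ∃ k ∈ Y, k x = y
  two : ∃ x y : P, x ≠ y ∧ x ≠ 1 ∧ x * x = 1 ∧ y ≠ 1 ∧ y * y = 1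

variable {P : Type*} [Group P] {Y : Subgroup (MulAut P)}

theorem SHyp.nontrivial (h : SHyp P Y) : Nontrivial P := by
  obtain ⟨x, y, hxy, -⟩ := h.two
  exact ⟨⟨x, y, hxy⟩⟩

/-- involutions are central -/
theorem SHyp.inv_central (h : SHyp P Y) {x : P} (hx1 : x ≠ 1) (hx2 : x * x = 1) :
    x ∈ Subgroup.center P := by
  haveI := h.fin
  haveI := h.nontrivial
  obtain ⟨u, huc, hu1, hu2⟩ := exists_central_involution h.pgrp
  obtain ⟨k, -, hk⟩ := h.trans u x hu1 hu2 hx1 hx2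
  rw [← hk]
  exact aut_mem_center k huc

theorem SHyp.sq_one_central (h : SHyp P Y) {x : P} (hx2 : x * x = 1) :
    x ∈ Subgroup.center P := by
  by_cases hx1 : x = 1
  · rw [hx1]; exact Subgroup.one_mem _
  · exact h.inv_central hx1 hx2

theorem SHyp.mem_Z0_iff (h : SHyp P Y) {x : P} : x ∈ Z0 P ↔ x * x = 1 :=
  ⟨fun hx => hx.2, fun hx => ⟨h.sq_one_central hx, hx⟩⟩

/-- a `Y`-invariant subgroup of `Z0 P` is trivial or everything -/
theorem SHyp.Z0_irred (h : SHyp P Y) (H : Subgroup P) (hH : H ≤ Z0 P)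
    (hinv : ∀ k ∈ Y, ∀ x ∈ H, k x ∈ H) (hne : H ≠ ⊥) : H = Z0 P := by
  apply le_antisymm hH
  obtain ⟨x, hx1⟩ := (Subgroup.ne_bot_iff_exists_ne_one).mp hne
  have hx1' : (x : P) ≠ 1 := fun e => hx1 (Subtype.ext e)
  intro z hz
  by_cases hz1 : z = 1
  · rw [hz1]; exact H.one_mem
  · obtain ⟨k, hk, hkz⟩ := h.trans x z hx1' (hH x.2).2 hz1 hz.2
    rw [← hkz]
    exact hinv k hk x x.2

/-- coordinates on `Z0 P`: a finite field `F` of characteristic two, an additive bijection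
`aZ : Z0 P → F` (junk outside `Z0 P`), and for `k ∈ Y` a scalar `κ k` and a field automorphism `σ k`
with `aZ (k z) = κ k * σ k (aZ z)`; every nonzero scalar occurs as a `κ k` (transitivity). -/
structure ZCoord (P : Type*) [Group P] (Y : Subgroup (MulAut P)) (F : Type) [Field F] [Fintype F]
    (aZ : P → F) (κ : MulAut P → F) (σ : MulAut P → (F ≃+* F)) : Prop where
  char2 : CharP F 2
  aZ_mul : ∀ z ∈ Z0 P, ∀ w ∈ Z0 P, aZ (z * w) = aZ z + aZ w
  aZ_inj : ∀ z ∈ Z0 P, aZ z = 0 → z = 1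
  aZ_surj : ∀ u : F, ∃ z ∈ Z0 P, aZ z = u
  act : ∀ k ∈ Y, ∀ z ∈ Z0 P, aZ (k z) = κ k * σ k (aZ z)
  κ_ne : ∀ k ∈ Y, κ k ≠ 0
  κ_surj : ∀ u : F, u ≠ 0 → ∃ k ∈ Y, κ k = u

/-- the scalar generator: `ξ ∈ Y` acts on `Z0 P` as multiplication by `lam = κ ξ`, where
`orderOf lam * e = 2 ^ n - 1`, `|F| = 2 ^ n`, `e ∣ n`, `2 ≤ n`. -/
structure LamHyp (P : Type*) [Group P] (Y : Subgroup (MulAut P)) (F : Type) [Field F] [Fintype F]
    (κ : MulAut P → F) (σ : MulAut P → (F ≃+* F)) (ξ : MulAut P) (n e : ℕ) : Prop where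
  ξ_mem : ξ ∈ Y
  σξ : σ ξ = 1
  card : Fintype.card F = 2 ^ n
  two_le : 2 ≤ n
  e_dvd : e ∣ n
  order : orderOf (κ ξ) * e = 2 ^ n - 1

/-- the arithmetic hypothesis on a scalar `lam` of a field with `2 ^ n` elements -/
structure LamArith (F : Type*) [Field F] [Fintype F] (lam : F) (n e : ℕ) : Prop where
  char2 : CharP F 2
  card : Fintype.card F = 2 ^ n
  two_le : 2 ≤ n
  e_dvd : e ∣ n
  order : orderOf lam * e = 2 ^ n - 1

/-- `g` is pure at `τ`: all other coordinates vanish -/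
def IsPure {P : Type*} {F : Type*} [Field F] (c : (F ≃+* F) → P → F) (τ : F ≃+* F) (g : P) : Prop :=
  ∀ τ' : F ≃+* F, τ' ≠ τ → c τ' g = 0

/-- coordinate package for the case `Nsub P` abelian -/
structure CHyp (P : Type*) [Group P] (Y : Subgroup (MulAut P)) (F : Type) [Field F] [Fintype F]
    (aZ : P → F) (κ : MulAut P → F) (σ : MulAut P → (F ≃+* F)) (c : (F ≃+* F) → P → F) : Prop where
  suz : SHyp P Y
  zc : ZCoord P Y F aZ κ σ
  Eab : ∀ a ∈ Nsub P, ∀ b ∈ Nsub P, a * b = b * a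
  α_surj : ∀ u : F, ∃ a ∈ Nsub P, aZ (a * a) = u
  c_mul : ∀ τ x y, c τ (x * y) = c τ x + c τ y
  c_act : ∀ τ, ∀ k ∈ Y, ∀ x, c τ (k x) = κ k * (τ (κ k))⁻¹ * σ k (c τ x)
  expand : ∀ x, ∀ a ∈ Nsub P, aZ (a⁻¹ * x⁻¹ * a * x) = ∑ τ : F ≃+* F, c τ x * τ (aZ (a * a))

/-- the form `β(x, y) = aZ([x, y]²)` -/
def bet {P : Type*} [Group P] {F : Type*} (aZ : P → F) (x y : P) : F :=
  aZ ((x⁻¹ * y⁻¹ * x * y) * (x⁻¹ * y⁻¹ * x * y))

end Cfsg.Agent.Lib.Helper85.Suz2
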