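import Mathlib
import Cfsg.Prelude.Def_Local
import Cfsg.Agent.Lib.Helper85.Suz2Defs

/-!
# Thompson's theorem on soluble groups with one class of involutions: definitions (helper85)

Project SUZ2 part 2 (S3797).  `THyp G`: `G` finite solvable with `O_{2'}(G) = 1`, one class of
involutions, at least two involutions.  `conjY H N`: the automorphisms of the subgroup `H` induced by
conjugation with the elements of `N` that normalize `H`.
-/

set_option autoImplicit false

namespace Cfsg.Agent.Lib.Helper85.Suz2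

/-- hypothesis package (odd core already trivial) -/
structure THyp (G : Type*) [Group G] : Prop where
  fin : Finite G
  sol : Group.IsSolvable G
  core : ∀ N : Subgroup G, N.Normal → (Nat.card N).Coprime 2 → N = ⊥
  conj : ∀ x y : G, x ≠ 1 → x * x = 1 → y ≠ 1 → y * y = 1 → ∃ g : G, g * x * g⁻¹ = y
  two : ∃ x y : G, x ≠ y ∧ x ≠ 1 ∧ x * x = 1 ∧ y ≠ 1 ∧ y * y = 1

variable {G : Type*} [Group G]

/-- the automorphisms of `H` induced by conjugation with elements of `N` normalizing `H` -/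
def conjY (H N : Subgroup G) : Subgroup (MulAut ↥H) where
  carrier := {β | ∃ n ∈ N, ∀ x : ↥H, ((β x : ↥H) : G) = n * (x : G) * n⁻¹}
  one_mem' := ⟨1, N.one_mem, fun x => by simp⟩
  mul_mem' := by
    rintro β₁ β₂ ⟨n₁, hn₁, h₁⟩ ⟨n₂, hn₂, h₂⟩
    refine ⟨n₁ * n₂, N.mul_mem hn₁ hn₂, fun x => ?_⟩
    show ((β₁ (β₂ x) : ↥H) : G) = _
    rw [h₁, h₂]
    group
  inv_mem' := by
    rintro β ⟨n, hn, h⟩
    refine ⟨n⁻¹, N.inv_mem hn, fun x => ?_⟩
    have h1 := h (β⁻¹ x)
    have h2 : β (β⁻¹ x) = x := by simp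
    rw [h2] at h1
    rw [h1]
    group

theorem mem_conjY {H N : Subgroup G} {β : MulAut ↥H} :
    β ∈ conjY H N ↔ ∃ n ∈ N, ∀ x : ↥H, ((β x : ↥H) : G) = n * (x : G) * n⁻¹ := Iff.rfl

end Cfsg.Agent.Lib.Helper85.Suz2
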