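import Mathlib
import Cfsg.Agent.Lib.Helper85.SqfDefs
import Cfsg.Agent.Lib.Helper1.PCore
import Cfsg.Agent.S0526

/-!
# Project SQF (S4130): small auxiliary facts used by the assembly and by module [DER] (helper85)
-/

set_option autoImplicit false

namespace Cfsg.Agent.Lib.Helper85.Sqf

open Cfsg

/-- [AB] the derived subgroup of a finite supersolvable group lies in the Fitting subgroup. -/
theorem commutator_le_fitting_of_isSupersolvable {G : Type*} [Group G] [Finite G]
    (hG : Cfsg.IsSupersolvable G) : commutator G ≤ fittingSubgroup G :=
  le_sSup ⟨inferInstance, Cfsg.Agent.S0526.result hG⟩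

/-- a finite commutative group of squarefree order is cyclic -/
theorem isCyclic_of_comm_of_squarefree {A : Type*} [Group A] [Finite A]
    (hc : ∀ a b : A, a * b = b * a) (hs : Squarefree (Nat.card A)) : IsCyclic A := by
  let _ : CommGroup A := { (inferInstance : Group A) with mul_comm := hc }
  have : Group.IsNilpotent A := CommGroup.isNilpotent
  have : IsZGroup A := IsZGroup.of_squarefree hs
  infer_instance

/-- [CYC] `G / F(G)` is cyclic as soon as it is abelian of squarefree order. -/
theorem isCyclic_quotient_fitting_of {G : Type*} [Group G] [Finite G]
    (hab : commutator G ≤ fittingSubgroup G) (hsq : Squarefree (fittingSubgroup G).index)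
    (hn : (fittingSubgroup G).Normal) : IsCyclic (G ⧸ fittingSubgroup G) := by
  have hcm : IsMulCommutative (G ⧸ fittingSubgroup G) :=
    Subgroup.Normal.quotient_commutative_iff_commutator_le.mpr hab
  apply isCyclic_of_comm_of_squarefree (fun a b => hcm.is_comm.comm a b)
  rw [← Subgroup.index_eq_card]
  exact hsq

/-- [DCYC] the derived subgroup of a supersolvable group is cyclic if its order is squarefree. -/
theorem isCyclic_commutator {G : Type*} [Group G] [Finite G] (hG : Cfsg.IsSupersolvable G)
    (hs : Squarefree (Nat.card (commutator G))) : IsCyclic (commutator G) := by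
  have : Group.IsNilpotent (commutator G) := Cfsg.Agent.S0526.result hG
  have : IsZGroup (commutator G) := IsZGroup.of_squarefree hs
  infer_instance

end Cfsg.Agent.Lib.Helper85.Sqf
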