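import Cfsg.Agent.Lib.Helper87.FusionConstrained
import Cfsg.Agent.Lib.Helper85.FusionNormal

/-!
If `Q = O_p(F)` is centric in the saturated fusion system `F` and `Z` is central in `F`, then every
element of `S` acting trivially on `Q/Z` (i.e. `[t, Q] ≤ Z`) lies in `Q`.
-/

set_option autoImplicit false

namespace Cfsg.Agent.Lib.Helper85

open Cfsg Cfsg.FusionSystem Cfsg.Agent.Lib.Helper87
open scoped commutatorElement

variable {Ω : Type*} [Group Ω] {S : Subgroup Ω}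

/-- a map of the system fixes the elements of a central subgroup -/
theorem apply_eq_of_isCentral (F : FusionSystem S) {Z : Subgroup Ω} (hZ : F.IsCentral Z) {P : Subgroup Ω}
    {ψ : P →* Ω} (hψ : ψ ∈ F.Hom P) {z : Ω} (hzZ : z ∈ Z) (hzP : z ∈ P) : ψ ⟨z, hzP⟩ = z := by
  obtain ⟨ψ', -, h1, h2⟩ := hZ.2 P ψ hψ
  have e : Subgroup.inclusion (le_sup_left : P ≤ P ⊔ Z) ⟨z, hzP⟩ =
      Subgroup.inclusion (le_sup_right : Z ≤ P ⊔ Z) ⟨z, hzZ⟩ := Subtype.ext rfl
  rw [← h1, e, h2]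

/-- a central subgroup is normal in the system -/
theorem isNormal_of_isCentral' (F : FusionSystem S) {Z : Subgroup Ω} (hZ : F.IsCentral Z) : F.IsNormal Z := by
  refine ⟨hZ.1, fun P φ hφ => ?_⟩
  obtain ⟨ψ, hψ, h1, h2⟩ := hZ.2 P φ hφ
  refine ⟨ψ, hψ, h1, ?_⟩
  rw [map_subgroupOf_eq_iff]
  constructor
  · intro x hx
    have : x = Subgroup.inclusion (le_sup_right : Z ≤ P ⊔ Z) ⟨x, hx⟩ := Subtype.ext rfl
    rw [this, h2]
    exact hx
  · intro q hq
    exact ⟨Subgroup.inclusion (le_sup_right : Z ≤ P ⊔ Z) ⟨q, hq⟩, hq, h2 ⟨q, hq⟩⟩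

theorem weaklyClosed_bot (F : FusionSystem S) : F.WeaklyClosed (⊥ : Subgroup Ω) := by
  refine ⟨bot_le, fun φ _ => ?_⟩
  rw [eq_bot_iff]
  rintro _ ⟨⟨x, hx⟩, rfl⟩
  rw [Subgroup.mem_bot] at hx
  subst hx
  rw [Subgroup.mem_bot]
  exact map_one φ

/-- **Key lemma.** Let `Q` be the largest subgroup normal in the saturated system `F`, with `C_S(Q) ≤ Q`, and let `Z` be
central in `F`. Every `t ∈ S` with `[t, Q] ≤ Z` lies in `Q`. -/
theorem mem_of_comm_mem_central (F : FusionSystem S) [Finite S] {p : ℕ} [Fact p.Prime] (hS : IsPGroup p S)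
    (hF : F.IsSaturated p) {Q : Subgroup Ω} (hQ : F.IsNormal Q)
    (hQmax : ∀ M : Subgroup Ω, F.IsNormal M → M ≤ Q) (hQc : centralizerIn S Q ≤ Q)
    {Z : Subgroup Ω} (hZ : F.IsCentral Z) {t : Ω} (ht : t ∈ S)
    (htQ : ∀ q ∈ Q, q⁻¹ * (t * q * t⁻¹) ∈ Z) : t ∈ Q := by
  have hQS : Q ≤ S := hQ.1
  have hZS : Z ≤ S := hZ.1
  have hfinQ : Finite Q := finite_of_le hQS
  have hnilQ : Group.IsNilpotent Q := (hS.to_le hQS).isNilpotent
  have hQsc : F.StronglyClosed Q := Cfsg.Agent.S5088.stronglyClosed_of_isNormal F hQ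
  have hQn : ∀ g ∈ S, ∀ x ∈ Q, g * x * g⁻¹ ∈ Q := fun g hg x hx => StronglyClosed_conj_mem hQsc hg hx
  have hZn : F.IsNormal Z := isNormal_of_isCentral' F hZ
  have hZQ : Z ≤ Q := hQmax Z hZn
  -- `Z` is central in `S`
  have hZc : ∀ s ∈ S, ∀ z ∈ Z, s * z * s⁻¹ = z := by
    intro s hs z hz
    exact apply_eq_of_isCentral F hZ (F.conj_mem hZS hs) hz hz
  -- the subgroup `D`
  let D : Subgroup Ω :=
    { carrier := {x | x ∈ S ∧ ∀ q ∈ Q, q⁻¹ * (x * q * x⁻¹) ∈ Z}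
      one_mem' := ⟨S.one_mem, fun q _ => by
        have : q⁻¹ * (1 * q * 1⁻¹) = 1 := by group
        rw [this]; exact Z.one_mem⟩
      mul_mem' := by
        rintro x y ⟨hx, hxQ⟩ ⟨hy, hyQ⟩
        refine ⟨S.mul_mem hx hy, fun q hq => ?_⟩
        have h1 := hyQ q hq
        have h2 := hxQ q hq
        have h3 := hZc x hx _ h1
        have e : q⁻¹ * (x * y * q * (x * y)⁻¹) =
            (q⁻¹ * (x * q * x⁻¹)) * (x * (q⁻¹ * (y * q * y⁻¹)) * x⁻¹) := by group
        rw [e, h3]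
        exact Z.mul_mem h2 h1
      inv_mem' := by
        rintro x ⟨hx, hxQ⟩
        refine ⟨S.inv_mem hx, fun q hq => ?_⟩
        have hq' : x⁻¹ * q * x⁻¹⁻¹ ∈ Q := hQn _ (S.inv_mem hx) q hq
        have h1 := hxQ _ hq'
        have e : q⁻¹ * (x⁻¹ * q * x⁻¹⁻¹) =
            ((x⁻¹ * q * x⁻¹⁻¹)⁻¹ * (x * (x⁻¹ * q * x⁻¹⁻¹) * x⁻¹))⁻¹ := by group
        rw [e]
        exact Z.inv_mem h1 }
  have hDS : D ≤ S := fun x hx => hx.1
  have hDQ : ∀ x ∈ D, ∀ q ∈ Q, q⁻¹ * (x * q * x⁻¹) ∈ Z := fun x hx => hx.2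
  have htD : t ∈ D := ⟨ht, htQ⟩
  have hZD : Z ≤ D := by
    intro z hz
    refine ⟨hZS hz, fun q hq => ?_⟩
    have h1 := hZc q⁻¹ (S.inv_mem (hQS hq)) z hz
    have e : q⁻¹ * (z * q * z⁻¹) = (q⁻¹ * z * q⁻¹⁻¹) * z⁻¹ := by group
    rw [e, h1, mul_inv_cancel]
    exact Z.one_mem
  have hMS : D ⊔ Q ≤ S := sup_le hDS hQS
  -- `M = D Q` is strongly closed
  have hMsc : F.StronglyClosed (D ⊔ Q) := by
    refine ⟨hMS, fun P hP φ hφ y => ?_⟩
    have hy' : (y : Ω) ∈ Q ⊔ D := by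
      rw [sup_comm]
      exact hP y.2
    obtain ⟨q, hq, x, hx, hy⟩ := exists_mul_of_mem_sup (fun k hk h hh => hQn k (hDS hk) h hh) hy'
    obtain ⟨ψ, hψ, hψP, hψQ⟩ := hQ.2 P φ hφ
    rw [map_subgroupOf_eq_iff] at hψQ
    have hqPQ : q ∈ P ⊔ Q := (le_sup_right : Q ≤ P ⊔ Q) hq
    have hxPQ : x ∈ P ⊔ Q := by
      have : x = q⁻¹ * (y : Ω) := by rw [hy]; group
      rw [this]
      exact Subgroup.mul_mem _ (Subgroup.inv_mem _ hqPQ) ((le_sup_left : P ≤ P ⊔ Q) y.2)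
    have h1 : Subgroup.inclusion (le_sup_left : P ≤ P ⊔ Q) y = ⟨q, hqPQ⟩ * ⟨x, hxPQ⟩ := Subtype.ext hy
    rw [← hψP, h1, map_mul]
    refine Subgroup.mul_mem _ ((le_sup_right : Q ≤ _ ⊔ Q) (hψQ.1 ⟨q, hqPQ⟩ hq)) ((le_sup_left : _ ≤ _ ⊔ Q) ?_)
    refine ⟨(F.le_of_mem hψ).2 _, fun r hr => ?_⟩
    obtain ⟨r', hr'Q, hr'⟩ := hψQ.2 r hr
    have hz := hDQ x hx (r' : Ω) hr'Q
    have hzPQ : (r' : Ω)⁻¹ * (x * (r' : Ω) * x⁻¹) ∈ P ⊔ Q :=
      Subgroup.mul_mem _ (Subgroup.inv_mem _ r'.2)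
        (Subgroup.mul_mem _ (Subgroup.mul_mem _ hxPQ r'.2) (Subgroup.inv_mem _ hxPQ))
    have h2 := apply_eq_of_isCentral F hZ hψ hz hzPQ
    have e : (⟨(r' : Ω)⁻¹ * (x * (r' : Ω) * x⁻¹), hzPQ⟩ : ↥(P ⊔ Q)) =
        r'⁻¹ * (⟨x, hxPQ⟩ * r' * ⟨x, hxPQ⟩⁻¹) := Subtype.ext rfl
    rw [e, map_mul, map_mul, map_mul, map_inv, map_inv, hr'] at h2
    rw [h2]
    exact hz
  have hDn : ∀ s ∈ S, ∀ n ∈ D, s * n * s⁻¹ ∈ D := by
    intro s hs n hn
    have := StronglyClosed_conj_mem hMsc hs ((le_sup_left : D ≤ D ⊔ Q) hn)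
    refine ⟨S.mul_mem (S.mul_mem hs (hDS hn)) (S.inv_mem hs), fun q hq => ?_⟩
    have hq' : s⁻¹ * q * s⁻¹⁻¹ ∈ Q := hQn _ (S.inv_mem hs) q hq
    have h1 := hDQ n hn _ hq'
    have h2 := hZc s hs _ h1
    have e : q⁻¹ * (s * n * s⁻¹ * q * (s * n * s⁻¹)⁻¹) =
        s * ((s⁻¹ * q * s⁻¹⁻¹)⁻¹ * (n * (s⁻¹ * q * s⁻¹⁻¹) * n⁻¹)) * s⁻¹ := by group
    rw [e, h2]
    exact h1
  -- commutator facts
  have hcQD : ∀ a ∈ Q, ∀ x ∈ D, ⁅a, x⁆ ∈ Z := by
    intro a ha x hx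
    have h1 := hDQ x hx a⁻¹ (Q.inv_mem ha)
    have e : ⁅a, x⁆ = a⁻¹⁻¹ * (x * a⁻¹ * x⁻¹) := by
      rw [commutatorElement_def]; group
    rw [e]; exact h1
  have hZSn : ∀ k, ∀ s ∈ S, ∀ n ∈ zSer Q k, s * n * s⁻¹ ∈ zSer Q k := fun k s hs n hn =>
    StronglyClosed_conj_mem (Cfsg.Agent.S5088.stronglyClosed_of_isNormal F (zSer_isNormal F hQ k)) hs hn
  have hZkS : ∀ k, zSer Q k ≤ S := fun k => (zSer_le Q k).trans hQS
  -- the chain
  set cl := Group.nilpotencyClass Q with hcl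
  have hEn : ∀ k, F.IsNormal (Z ⊔ zSer Q k) := fun k => isNormal_sup F hZn (zSer_isNormal F hQ k)
  have hEsn : ∀ k, ∀ s ∈ S, ∀ n ∈ Z ⊔ zSer Q k, s * n * s⁻¹ ∈ Z ⊔ zSer Q k := fun k s hs n hn =>
    StronglyClosed_conj_mem (Cfsg.Agent.S5088.stronglyClosed_of_isNormal F (hEn k)) hs hn
  have hMn : F.IsNormal (D ⊔ Q) := by
    refine isNormal_of_chain F hS hF _ hMsc (cl + 2)
      (fun k => if k = 0 then ⊥ else if k ≤ cl + 1 then Z ⊔ zSer Q (k - 1) else D ⊔ Q) ?_ ?_ ?_ ?_ ?_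
    · simp only [if_true]
    · intro k hk
      have h0 : k ≠ 0 := by omega
      have h1 : ¬ k ≤ cl + 1 := by omega
      simp only [h0, h1, if_false]
    · intro a b hab
      show (if a = 0 then ⊥ else if a ≤ cl + 1 then Z ⊔ zSer Q (a - 1) else D ⊔ Q) ≤
        (if b = 0 then ⊥ else if b ≤ cl + 1 then Z ⊔ zSer Q (b - 1) else D ⊔ Q)
      by_cases ha0 : a = 0
      · rw [if_pos ha0]; exact bot_le
      · have hb0 : b ≠ 0 := by omega
        rw [if_neg ha0, if_neg hb0]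
        by_cases hb : b ≤ cl + 1
        · rw [if_pos hb, if_pos (hab.trans hb)]
          exact sup_le_sup_left (zSer_mono Q (Nat.sub_le_sub_right hab 1)) _
        · rw [if_neg hb]
          by_cases ha : a ≤ cl + 1
          · rw [if_pos ha]
            exact sup_le (hZD.trans le_sup_left) ((zSer_le Q _).trans le_sup_right)
          · rw [if_neg ha]
    · intro k hk
      show ⁅(if k + 1 = 0 then ⊥ else if k + 1 ≤ cl + 1 then Z ⊔ zSer Q (k + 1 - 1) else D ⊔ Q), D ⊔ Q⁆ ≤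
        (if k = 0 then ⊥ else if k ≤ cl + 1 then Z ⊔ zSer Q (k - 1) else D ⊔ Q)
      rw [if_neg (Nat.succ_ne_zero k), Nat.add_sub_cancel]
      by_cases hk1 : k + 1 ≤ cl + 1
      · rw [if_pos hk1]
        by_cases hk0 : k = 0
        · rw [if_pos hk0, hk0, zSer_zero, sup_bot_eq, Subgroup.commutator_le]
          intro z hz m hm
          have h1 := hZc m (hMS hm) z hz
          rw [Subgroup.mem_bot, commutatorElement_def]
          have e : z * m * z⁻¹ * m⁻¹ = z * (m * z * m⁻¹)⁻¹ := by group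
          rw [e, h1, mul_inv_cancel]
        · rw [if_neg hk0, if_pos (by omega : k ≤ cl + 1)]
          refine commutator_sup_sup_le (S := S) (hEsn (k - 1)) hZS (hZkS k) hDS hQS ?_ ?_ ?_ ?_
          · rw [Subgroup.commutator_le]
            intro z hz m hm
            have h1 := hZc m (hDS hm) z hz
            rw [commutatorElement_def]
            have e : z * m * z⁻¹ * m⁻¹ = z * (m * z * m⁻¹)⁻¹ := by group
            rw [e, h1, mul_inv_cancel]
            exact Subgroup.one_mem _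
          · rw [Subgroup.commutator_le]
            intro z hz m hm
            have h1 := hZc m (hQS hm) z hz
            rw [commutatorElement_def]
            have e : z * m * z⁻¹ * m⁻¹ = z * (m * z * m⁻¹)⁻¹ := by group
            rw [e, h1, mul_inv_cancel]
            exact Subgroup.one_mem _
          · rw [Subgroup.commutator_le]
            intro a ha x hx
            exact (le_sup_left : Z ≤ Z ⊔ zSer Q (k - 1)) (hcQD a (zSer_le Q k ha) x hx)
          · exact (zSer_comm' Q k).trans le_sup_right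
      · rw [if_neg hk1]
        have hk2 : k = cl + 1 := by omega
        have hk0 : k ≠ 0 := by omega
        rw [if_neg hk0, if_pos (by omega : k ≤ cl + 1), hk2, Nat.add_sub_cancel, zSer_eq Q le_rfl]
        refine le_trans ?_ (le_sup_right : Q ≤ Z ⊔ Q)
        refine commutator_sup_sup_le (S := S) hQn hDS hQS hDS hQS ?_ ?_ ?_ (commutator_self_le Q)
        · -- `[D, D] ≤ Q`
          rw [Subgroup.commutator_le]
          intro x hx y hy
          apply hQc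
          refine ⟨?_, ?_⟩
          · rw [commutatorElement_def]
            exact S.mul_mem (S.mul_mem (S.mul_mem (hDS hx) (hDS hy)) (S.inv_mem (hDS hx))) (S.inv_mem (hDS hy))
          · refine commutator_mem_centralizer_of_conj_comm (fun q hq => hQn _ (S.inv_mem (hDS hx)) q hq)
              (fun q hq => hQn _ (S.inv_mem (hDS hy)) q hq) ?_
            exact conj_comm_of_stab (R := Z)
              (fun q hq r hr => by rw [hZc q (hQS hq) r hr]; exact hr)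
              (hDQ x hx) (hDQ y hy) (fun r hr => hZc x (hDS hx) r hr) (fun r hr => hZc y (hDS hy) r hr)
        · rw [Subgroup.commutator_le]
          intro x hx q hq
          rw [commutatorElement_def]
          exact Q.mul_mem (hQn x (hDS hx) q hq) (Q.inv_mem hq)
        · rw [Subgroup.commutator_le]
          intro q hq x hx
          have e : ⁅q, x⁆ = q * (x * q⁻¹ * x⁻¹) := by
            rw [commutatorElement_def]
            group
          rw [e]
          exact Q.mul_mem hq (hQn x (hDS hx) _ (Q.inv_mem hq))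
    · intro k hk
      show F.WeaklyClosed (if k = 0 then ⊥ else if k ≤ cl + 1 then Z ⊔ zSer Q (k - 1) else D ⊔ Q)
      by_cases hk0 : k = 0
      · rw [if_pos hk0]; exact weaklyClosed_bot F
      · rw [if_neg hk0, if_pos (by omega)]
        exact Cfsg.Agent.S5088.weaklyClosed_of_stronglyClosed F
          (Cfsg.Agent.S5088.stronglyClosed_of_isNormal F (hEn _))
  exact hQmax _ hMn ((le_sup_left : D ≤ D ⊔ Q) htD)

end Cfsg.Agent.Lib.Helper85
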