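import Cfsg.Agent.Lib.Helper85.FusionBiset
import Cfsg.Agent.Lib.Helper85.FusionNormal
import Cfsg.Agent.Lib.Helper85.FusionCentralComm

/-!
# Transfer for saturated fusion systems (via a characteristic biset)

For a saturated fusion system `F` over a finite `p`-group `S` we construct a homomorphism
`τ : S →* S / S'` which is constant on `F`-conjugate elements and which is the `m`-th power map on `Z(F)`,
for some `m` prime to `p`.
-/

set_option autoImplicit false

namespace Cfsg.Agent.Lib.Helper85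

open Cfsg Cfsg.FusionSystem MulAction Cfsg.Agent.S5328

universe u

section General

theorem transfer_eq_pow_of_forall {G : Type*} [Group G] {H : Subgroup G} {A : Type*} [CommGroup A]
    (ϕ : H →* A) [H.FiniteIndex] (g : G) (a : A)
    (key : ∀ (k : ℕ) (g₀ : G) (hk : g₀⁻¹ * g ^ k * g₀ ∈ H), ϕ ⟨g₀⁻¹ * g ^ k * g₀, hk⟩ = a ^ k) :
    MonoidHom.transfer ϕ g = a ^ H.index := by
  classical
  let := H.fintypeQuotientOfFiniteIndex
  rw [MonoidHom.transfer_eq_prod_quotient_orbitRel_zpowers_quot, Subgroup.index_eq_sum_minimalPeriod H g,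
    ← Finset.prod_pow_eq_pow_sum]
  exact Finset.prod_congr rfl (fun q _ => key _ _ _)

theorem exists_stabilizer_index_coprime {G : Type*} [Group G] [Finite G] {α : Type*} [MulAction G α]
    [Finite α] (p : ℕ) [Fact p.Prime] (h : ¬ p ∣ Nat.card α) :
    ∃ a : α, ¬ p ∣ (stabilizer G a).index := by
  obtain ⟨P⟩ : Nonempty (Sylow p G) := inferInstance
  obtain ⟨a, ha⟩ := P.2.nonempty_fixed_point_of_prime_not_dvd_card α h
  refine ⟨a, fun hdiv => P.not_dvd_index (hdiv.trans (Subgroup.index_dvd_of_le ?_))⟩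
  intro g hg
  exact ha ⟨g, hg⟩

end General

section Biset

variable {Ω : Type u} [Group Ω] {S : Subgroup Ω} {X : Type*} [MulAction (S × S) X]

/-- the right action is free when all stabilizers are graphs -/
theorem right_free (F : FusionSystem S) (hstab : ∀ x : X, IsGraph F (stabilizer (S × S) x)) (x : X)
    {s s' : S} (h : ((1 : S), s) • x = ((1 : S), s') • x) : s = s' := by
  have hmem : (((1 : S), s'⁻¹ * s) : S × S) ∈ stabilizer (S × S) x := by
    rw [mem_stabilizer_iff]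
    have e : (((1 : S), s'⁻¹ * s) : S × S) = ((1 : S), s'⁻¹) * ((1 : S), s) := by
      rw [Prod.mk_mul_mk, one_mul]
    rw [e, mul_smul, h, smul_smul, Prod.mk_mul_mk, one_mul, inv_mul_cancel]
    exact one_smul _ x
  obtain ⟨Q, ψ, hψ, hK⟩ := hstab x
  obtain ⟨q, h1, h2⟩ := (hK _).1 hmem
  have hq : q = 1 := by
    apply F.injective_of_mem hψ
    rw [map_one]
    exact h1.symm
  rw [hq] at h2
  have h3 : s'⁻¹ * s = 1 := Subtype.ext h2
  exact (inv_mul_eq_one.1 h3).symm

variable (S X) in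
/-- the orbit relation of the right action -/
def rightSetoid : Setoid X where
  r x y := ∃ s : S, ((1 : S), s) • x = y
  iseqv := by
    refine ⟨fun x => ⟨1, one_smul _ x⟩, ?_, ?_⟩
    · rintro x y ⟨s, rfl⟩
      refine ⟨s⁻¹, ?_⟩
      rw [smul_smul, Prod.mk_mul_mk, one_mul, inv_mul_cancel]
      exact one_smul _ x
    · rintro x y z ⟨s, rfl⟩ ⟨t, rfl⟩
      refine ⟨t * s, ?_⟩
      rw [smul_smul, Prod.mk_mul_mk, one_mul]

instance rightQuotientAction : MulAction (biG S X) (Quotient (rightSetoid S X)) where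
  smul g := Quotient.map' (fun x => (g : Equiv.Perm X) x) (by
    rintro x y ⟨s, rfl⟩
    exact ⟨s, (g.2 s x).symm⟩)
  one_smul := by
    rintro ⟨x⟩
    rfl
  mul_smul := by
    rintro g h ⟨x⟩
    rfl

theorem smul_mk_rightQuotient (g : biG S X) (x : X) :
    g • (Quotient.mk (rightSetoid S X) x) = Quotient.mk (rightSetoid S X) ((g : Equiv.Perm X) x) := rfl

theorem card_eq_card_rightQuotient_mul [Finite X] [Finite S] (F : FusionSystem S)
    (hstab : ∀ x : X, IsGraph F (stabilizer (S × S) x)) :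
    Nat.card X = Nat.card (Quotient (rightSetoid S X)) * Nat.card S := by
  rw [← Nat.card_prod]
  have h : ∀ x : X, ∃ s : S, ((1 : S), s) • (Quotient.mk (rightSetoid S X) x).out = x := fun x =>
    Quotient.exact (Quotient.out_eq (Quotient.mk (rightSetoid S X) x))
  choose σ hσ using h
  refine Nat.card_congr (Equiv.ofBijective
    (fun x => (Quotient.mk (rightSetoid S X) x, σ x)) ⟨?_, ?_⟩)
  · intro x y hxy
    have h1 : Quotient.mk (rightSetoid S X) x = Quotient.mk (rightSetoid S X) y := congrArg Prod.fst hxy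
    have h2 : σ x = σ y := congrArg Prod.snd hxy
    rw [← hσ x, ← hσ y, h1, h2]
  · rintro ⟨r, s⟩
    refine ⟨((1 : S), s) • r.out, ?_⟩
    have e : Quotient.mk (rightSetoid S X) (((1 : S), s) • r.out) = r := by
      rw [← Quotient.out_eq r]
      apply Quotient.sound
      refine ⟨s⁻¹, ?_⟩
      rw [Quotient.out_eq r, smul_smul, Prod.mk_mul_mk, one_mul, inv_mul_cancel]
      exact one_smul _ _
    apply Prod.ext
    · exact e
    · have h3 := hσ (((1 : S), s) • r.out)
      rw [e] at h3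
      exact right_free F hstab _ h3

/-- maps of the system are realized by conjugation in the biset group (stable version) -/
theorem exists_conj_of_mem_stable [Finite S] (F : FusionSystem S) [Finite X]
    (hstab : ∀ x : X, IsGraph F (stabilizer (S × S) x))
    (hst : ∀ L L' : Subgroup (S × S), grel F L L' →
      Nat.card (fixedPoints L X) = Nat.card (fixedPoints L' X))
    {P : Subgroup Ω} (hP : P ≤ S) (φ : P →* Ω) (hφ : ∀ x : P, φ x ∈ S) (hφm : φ ∈ F.Hom P) :
    ∃ g : biG S X, ∀ x : P, biι S X ⟨φ x, hφ x⟩ = g * biι S X ⟨x, hP x.2⟩ * g⁻¹ := by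
  have hempty : ∀ L : Subgroup (S × S), ¬ IsGraph F L → Nat.card (fixedPoints L X) = 0 := by
    intro L hL
    rw [Nat.card_eq_zero]
    left
    constructor
    rintro ⟨x, hx⟩
    apply hL
    exact isGraph_of_le F (hstab x) (fun l hl => hx ⟨l, hl⟩)
  let φ' : P.subgroupOf S →* S :=
    { toFun := fun u => ⟨φ ⟨u.1, u.2⟩, hφ _⟩
      map_one' := by
        apply Subtype.ext
        change φ ⟨((1 : P.subgroupOf S) : S), _⟩ = 1
        have : (⟨(((1 : P.subgroupOf S) : S) : Ω), (1 : P.subgroupOf S).2⟩ : P) = 1 := rfl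
        rw [this, map_one]
      map_mul' := by
        intro a b
        apply Subtype.ext
        change φ ⟨((a * b : P.subgroupOf S) : S), _⟩ = φ ⟨(a : S), a.2⟩ * φ ⟨(b : S), b.2⟩
        rw [← map_mul]
        rfl }
  have hφ'inj : Function.Injective φ' := by
    intro a b hab
    have := F.injective_of_mem hφm (congrArg Subtype.val hab)
    have h3 : ((a : S) : Ω) = ((b : S) : Ω) := congrArg (fun z : P => (z : Ω)) this
    exact Subtype.ext (Subtype.ext h3)
  let j₁ : (P.subgroupOf S) × S →* S × S := (P.subgroupOf S).subtype.prodMap (MonoidHom.id S)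
  let j₂ : (P.subgroupOf S) × S →* S × S := φ'.prodMap (MonoidHom.id S)
  obtain ⟨ψ, hψ, hψinv, -⟩ := exists_inv F hφm rfl
  have hmarks : ∀ K' : Subgroup ((P.subgroupOf S) × S),
      Nat.card (fixedPoints (K'.map j₁) X) = Nat.card (fixedPoints (K'.map j₂) X) := by
    intro K'
    have hR1 : ∀ z ∈ K'.map j₁, ((z.1 : S) : Ω) ∈ P := by
      rintro _ ⟨⟨a, b⟩, -, rfl⟩
      exact a.2
    have hR2 : ∀ z ∈ K'.map j₂, ((z.1 : S) : Ω) ∈ φ.range := by
      rintro _ ⟨⟨a, b⟩, -, rfl⟩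
      exact ⟨⟨a.1, a.2⟩, rfl⟩
    have hdom : gdom (K'.map j₁) = gdom (K'.map j₂) := by
      ext x
      rw [mem_gdom_iff, mem_gdom_iff]
      constructor
      · rintro ⟨_, ⟨⟨a, b⟩, hab, rfl⟩, rfl⟩
        exact ⟨j₂ (a, b), ⟨(a, b), hab, rfl⟩, rfl⟩
      · rintro ⟨_, ⟨⟨a, b⟩, hab, rfl⟩, rfl⟩
        exact ⟨j₁ (a, b), ⟨(a, b), hab, rfl⟩, rfl⟩
    by_cases h1 : IsGraph F (K'.map j₁)
    · have h2 : IsGraph F (K'.map j₂) := by
        refine isGraph_of_comp F h1 hφm hR1 (fun w => ?_)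
        constructor
        · rintro ⟨⟨a, b⟩, hab, rfl⟩
          exact ⟨j₁ (a, b), ⟨(a, b), hab, rfl⟩, rfl, rfl⟩
        · rintro ⟨_, ⟨⟨a, b⟩, hab, rfl⟩, h1', h2'⟩
          refine ⟨(a, b), hab, ?_⟩
          ext
          · exact h1'.symm
          · rw [h2']; rfl
      refine hst _ _ ⟨h1, h2, ?_⟩
      rw [hdom]
      exact isConj_refl F (gdom_le _)
    · have h2 : ¬ IsGraph F (K'.map j₂) := by
        intro h2
        apply h1
        refine isGraph_of_comp F h2 hψ hR2 (fun w => ?_)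
        constructor
        · rintro ⟨⟨a, b⟩, hab, rfl⟩
          refine ⟨j₂ (a, b), ⟨(a, b), hab, rfl⟩, ?_, rfl⟩
          exact (hψinv ⟨a.1, a.2⟩ _).symm
        · rintro ⟨_, ⟨⟨a, b⟩, hab, rfl⟩, h1', h2'⟩
          refine ⟨(a, b), hab, ?_⟩
          ext
          · rw [h1']
            exact (hψinv ⟨a.1, a.2⟩ _).symm
          · rw [h2']; rfl
      rw [hempty _ h1, hempty _ h2]
  obtain ⟨e, he⟩ := exists_perm_of_card_fixedPoints_map_eq j₁ j₂ hmarks
  have heG : e ∈ biG S X := by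
    intro s x
    have := he ((1 : P.subgroupOf S), s) x
    have e1 : j₁ ((1 : P.subgroupOf S), s) = ((1 : S), s) := rfl
    have e2 : j₂ ((1 : P.subgroupOf S), s) = ((1 : S), s) := by
      change (φ' 1, s) = _
      rw [map_one]
    rw [e1, e2] at this
    exact this
  refine ⟨⟨e, heG⟩, fun x => ?_⟩
  apply Subtype.ext
  apply Equiv.ext
  intro y
  have := he ((⟨⟨x, hP x.2⟩, x.2⟩ : P.subgroupOf S), (1 : S)) (e⁻¹ y)
  change e ((((⟨x, hP x.2⟩ : S), (1 : S)) : S × S) • e⁻¹ y) =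
    (((⟨φ x, hφ x⟩ : S), (1 : S)) : S × S) • e (e⁻¹ y) at this
  rw [Equiv.Perm.inv_def, Equiv.apply_symm_apply] at this
  rw [biι_apply, ← this]
  rfl

/-- a homomorphism to the abelianization defined on the stabilizer of a right orbit -/
theorem exists_orbit_hom (F : FusionSystem S) (hstab : ∀ x : X, IsGraph F (stabilizer (S × S) x))
    (x₀ : X) :
    ∃ ϕ : stabilizer (biG S X) (Quotient.mk (rightSetoid S X) x₀) →* Abelianization S,
      ∀ (g : stabilizer (biG S X) (Quotient.mk (rightSetoid S X) x₀)) (s : S),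
        ((1 : S), s) • x₀ = ((g : biG S X) : Equiv.Perm X) x₀ → ϕ g = Abelianization.of s := by
  have hex : ∀ g : stabilizer (biG S X) (Quotient.mk (rightSetoid S X) x₀),
      ∃ s : S, ((1 : S), s) • x₀ = ((g : biG S X) : Equiv.Perm X) x₀ := by
    intro g
    have h1 : (g : biG S X) • (Quotient.mk (rightSetoid S X) x₀) = Quotient.mk (rightSetoid S X) x₀ := g.2
    rw [smul_mk_rightQuotient] at h1
    exact (rightSetoid S X).iseqv.symm (Quotient.exact h1)
  choose σ hσ using hex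
  have hmul : ∀ g h, σ (g * h) = σ h * σ g := by
    intro g h
    apply right_free F hstab x₀
    rw [hσ (g * h)]
    change ((g : biG S X) : Equiv.Perm X) (((h : biG S X) : Equiv.Perm X) x₀) = _
    rw [← hσ h, (g : biG S X).2 (σ h) x₀, ← hσ g, smul_smul, Prod.mk_mul_mk, one_mul]
  refine ⟨MonoidHom.mk' (fun g => Abelianization.of (σ g)) (fun g h => ?_), fun g s hs => ?_⟩
  · rw [hmul, map_mul, mul_comm]
  · change Abelianization.of (σ g) = _
    congr 1
    apply right_free F hstab x₀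
    rw [hσ g, hs]

end Biset


section Transfer

variable {Ω : Type u} [Group Ω] {S : Subgroup Ω}

theorem central_key [Finite S] (F : FusionSystem S) {X : Type*} [MulAction (S × S) X]
    (hstab : ∀ x : X, IsGraph F (stabilizer (S × S) x)) (x₀ : X)
    (ϕ : stabilizer (biG S X) (Quotient.mk (rightSetoid S X) x₀) →* Abelianization S)
    (hϕ : ∀ (g : stabilizer (biG S X) (Quotient.mk (rightSetoid S X) x₀)) (s : S),
      ((1 : S), s) • x₀ = ((g : biG S X) : Equiv.Perm X) x₀ → ϕ g = Abelianization.of s)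
    (z : S) (hz : (z : Ω) ∈ F.center) (k : ℕ) (g₀ : biG S X)
    (hk : g₀⁻¹ * (biι S X z) ^ k * g₀ ∈
      stabilizer (biG S X) (Quotient.mk (rightSetoid S X) x₀)) :
    ϕ ⟨_, hk⟩ = ((Abelianization.of z)⁻¹) ^ k := by
  have hk' := hk
  rw [mem_stabilizer_iff, smul_mk_rightQuotient] at hk'
  obtain ⟨s, hs⟩ := (rightSetoid S X).iseqv.symm (Quotient.exact hk')
  rw [hϕ ⟨_, hk⟩ s hs]
  have h1 : ((1 : S), s) • ((g₀ : Equiv.Perm X) x₀) =
      ((z ^ k, (1 : S)) : S × S) • ((g₀ : Equiv.Perm X) x₀) := by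
    rw [← g₀.2 s x₀, hs, ← biι_apply, map_pow]
    change (g₀ : Equiv.Perm X) ((g₀ : Equiv.Perm X)⁻¹
      ((((biι S X z) ^ k : biG S X) : Equiv.Perm X) ((g₀ : Equiv.Perm X) x₀))) = _
    rw [Equiv.Perm.inv_def, Equiv.apply_symm_apply]
  have hmem : ((z ^ k, s⁻¹) : S × S) ∈ stabilizer (S × S) ((g₀ : Equiv.Perm X) x₀) := by
    rw [mem_stabilizer_iff]
    have e : ((z ^ k, s⁻¹) : S × S) = ((1 : S), s⁻¹) * (z ^ k, (1 : S)) := by
      rw [Prod.mk_mul_mk, one_mul, mul_one]
    rw [e, mul_smul, ← h1, smul_smul, Prod.mk_mul_mk, one_mul, inv_mul_cancel]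
    exact one_smul _ _
  obtain ⟨Q, ψ, hψ, hK⟩ := hstab ((g₀ : Equiv.Perm X) x₀)
  obtain ⟨q, h2, h3⟩ := (hK _).1 hmem
  obtain ⟨ν, hν, hνinv, -⟩ := exists_inv F hψ rfl
  have hzk : ((z ^ k : S) : Ω) ∈ F.center := by
    rw [Subgroup.coe_pow]
    exact Subgroup.pow_mem _ hz k
  have hqr : ψ q ∈ ψ.range := MonoidHom.mem_range.2 ⟨q, rfl⟩
  have hzr : ((z ^ k : S) : Ω) ∈ ψ.range := by
    rw [h2]; exact hqr
  have h4 := apply_eq_of_isCentral F (isCentral_center F) hν hzk hzr
  have h5 := hνinv q hqr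
  have h6 : (q : Ω) = ((z ^ k : S) : Ω) := by
    rw [← h5, ← h4]
    congr 1
    exact Subtype.ext h2.symm
  have h7 : s⁻¹ = z ^ k := Subtype.ext (h3.trans h6)
  have h8 : s = (z ^ k)⁻¹ := by rw [← h7, inv_inv]
  rw [h8, map_inv, map_pow, inv_pow]

/-- **Transfer for saturated fusion systems.** There is a homomorphism `τ : S → S/S'`, constant on
`F`-conjugate elements, which is the `m`-th power map on `Z(F)` for some `m` prime to `p`. -/
theorem exists_transfer_hom [Finite S] (F : FusionSystem S) {p : ℕ} [Fact p.Prime]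
    (hS : IsPGroup p S) (hF : F.IsSaturated p) :
    ∃ (m : ℕ) (τ : S →* Abelianization S), ¬ p ∣ m ∧
      (∀ (P : Subgroup Ω) (φ : P →* Ω), φ ∈ F.Hom P → ∀ (x : P) (hx : (x : Ω) ∈ S)
        (hφx : φ x ∈ S), τ ⟨φ x, hφx⟩ = τ ⟨x, hx⟩) ∧
      ∀ z : S, (z : Ω) ∈ F.center → τ z = (Abelianization.of z) ^ m := by
  obtain ⟨X, hXfin, hXact, hstab, hst, m, hm, hpm⟩ := exists_char_biset F hS hF
  have hcardR : Nat.card (Quotient (rightSetoid S X)) = m := by
    have := card_eq_card_rightQuotient_mul F hstab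
    rw [hm] at this
    exact (Nat.eq_of_mul_eq_mul_right Nat.card_pos this).symm
  obtain ⟨r₀, hr₀⟩ := exists_stabilizer_index_coprime (G := biG S X)
    (α := Quotient (rightSetoid S X)) p (by rw [hcardR]; exact hpm)
  obtain ⟨x₀, rfl⟩ := Quotient.exists_rep r₀
  obtain ⟨ϕ, hϕ⟩ := exists_orbit_hom F hstab x₀
  refine ⟨(stabilizer (biG S X) (Quotient.mk (rightSetoid S X) x₀)).index,
    invMonoidHom.comp ((MonoidHom.transfer ϕ).comp (biι S X)), hr₀, ?_, ?_⟩
  · intro P φ hφ x hx hφx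
    obtain ⟨g, hg⟩ := exists_conj_of_mem_stable F hstab hst (F.le_of_mem hφ).1 φ
      (F.le_of_mem hφ).2 hφ
    have h1 := hg x
    change (MonoidHom.transfer ϕ (biι S X ⟨φ x, hφx⟩))⁻¹ =
      (MonoidHom.transfer ϕ (biι S X ⟨x, hx⟩))⁻¹
    rw [h1, map_mul, map_mul, map_inv, mul_comm, inv_mul_cancel_left]
  · intro z hz
    change (MonoidHom.transfer ϕ (biι S X z))⁻¹ = _
    rw [transfer_eq_pow_of_forall ϕ (biι S X z) ((Abelianization.of z)⁻¹)
      (fun k g₀ hk => central_key F hstab x₀ ϕ hϕ z hz k g₀ hk), inv_pow, inv_inv]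

end Transfer

end Cfsg.Agent.Lib.Helper85
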