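import Cfsg.Agent.Lib.Helper91.TwOut.Defs

set_option autoImplicit false

/-!
helper85: project TWOUT (helper91), modules [A-PSI] and [A-KER].
-/

namespace Cfsg.Agent.Lib.Helper85.TwOut

open Cfsg Cfsg.Agent.Lib.Helper91.TwOut

variable {Γ : Type*} [Group Γ]

section PartII

variable {F : Type*} [Field F]

/-- uniqueness of the normal form `(c, τ)`. -/
theorem nf_unique (c c' : Fˣ) (τ τ' : F ≃+* F) (h : ∀ t : F, (c : F) * τ t = (c' : F) * τ' t) :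
    c = c' ∧ τ = τ' := by
  have hc : c = c' := by
    apply Units.ext
    have := h 1
    simpa using this
  refine ⟨hc, ?_⟩
  subst hc
  apply RingEquiv.ext
  intro t
  exact mul_left_cancel₀ c.ne_zero (h t)

/-- [A-PSI] -/
theorem exists_psi (Φ : Matrix.SpecialLinearGroup (Fin 2) F →* Γ)
    (hinj : Function.Injective fun t : F => Φ (sx t)) (A : Subgroup (MulAut Γ))
    (h : ∀ θ ∈ A, ∃ (c : Fˣ) (τ : F ≃+* F), ∀ t, θ (Φ (sx t)) = Φ (sx ((c : F) * τ t))) :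
    ∃ Ψ : ↥A →* RingAut F, ∀ θ : ↥A, ∃ c : Fˣ, ∀ t, (θ : MulAut Γ) (Φ (sx t)) = Φ (sx ((c : F) * Ψ θ t)) := by
  classical
  -- the chosen data
  have h' : ∀ θ : ↥A, ∃ τ : F ≃+* F, ∃ c : Fˣ, ∀ t, (θ : MulAut Γ) (Φ (sx t)) = Φ (sx ((c : F) * τ t)) := by
    intro θ
    obtain ⟨c, τ, hcτ⟩ := h θ θ.2
    exact ⟨τ, c, hcτ⟩
  let ψ : ↥A → RingAut F := fun θ => Classical.choose (h' θ)
  have hψ : ∀ θ : ↥A, ∃ c : Fˣ, ∀ t, (θ : MulAut Γ) (Φ (sx t)) = Φ (sx ((c : F) * ψ θ t)) :=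
    fun θ => Classical.choose_spec (h' θ)
  -- uniqueness
  have huniq : ∀ (θ : ↥A) (c : Fˣ) (τ : F ≃+* F),
      (∀ t, (θ : MulAut Γ) (Φ (sx t)) = Φ (sx ((c : F) * τ t))) → ψ θ = τ := by
    intro θ c τ hcτ
    obtain ⟨c', hc'⟩ := hψ θ
    have : ∀ t : F, (c' : F) * ψ θ t = (c : F) * τ t := by
      intro t
      have := (hc' t).symm.trans (hcτ t)
      exact hinj this
    exact (nf_unique c' c (ψ θ) τ this).2
  refine ⟨{ toFun := ψ, map_one' := ?_, map_mul' := ?_ }, hψ⟩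
  · apply huniq 1 1 1
    intro t
    simp
  · intro θ₁ θ₂
    obtain ⟨c₁, h₁⟩ := hψ θ₁
    obtain ⟨c₂, h₂⟩ := hψ θ₂
    apply huniq (θ₁ * θ₂) (c₁ * Units.map ((ψ θ₁ : F ≃+* F) : F →* F) c₂) (ψ θ₁ * ψ θ₂)
    intro t
    have e1 : ((θ₁ * θ₂ : ↥A) : MulAut Γ) (Φ (sx t)) = (θ₁ : MulAut Γ) ((θ₂ : MulAut Γ) (Φ (sx t))) := rfl
    rw [e1, h₂ t, h₁]
    congr 2
    have e2 : (ψ θ₁ * ψ θ₂) t = ψ θ₁ (ψ θ₂ t) := rfl
    rw [e2, map_mul, Units.val_mul, Units.coe_map]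
    simp only [MonoidHom.coe_coe, RingEquiv.coe_toRingHom]
    ring

end PartII

/-- [A-KER] -/
theorem card_ker_le {K K₀ : Type*} [Field K] [Fintype K] [Field K₀] [Fintype K₀] [Finite Γ] (emb : K₀ →+* K)
    (Φa : Matrix.SpecialLinearGroup (Fin 2) K →* Γ) (Φb : Matrix.SpecialLinearGroup (Fin 2) K₀ →* Γ)
    (hinja : Function.Injective fun t : K => Φa (sx t)) (hinjb : Function.Injective fun t : K₀ => Φb (sx t))
    (hgen : Subgroup.closure (Set.range (fun t : K => Φa (sx t)) ∪ Set.range (fun t : K => Φa (sy t)) ∪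
      Set.range (fun t : K₀ => Φb (sx t)) ∪ Set.range (fun t : K₀ => Φb (sy t))) = ⊤)
    (A : Subgroup (MulAut Γ)) (Ψ : ↥A →* RingAut K)
    (hnf : ∀ θ : ↥A, ∃ (ca : Kˣ) (cb : K₀ˣ) (τ₀ : K₀ ≃+* K₀), (∀ u, emb (τ₀ u) = Ψ θ (emb u)) ∧
      (∀ t, (θ : MulAut Γ) (Φa (sx t)) = Φa (sx ((ca : K) * Ψ θ t))) ∧
      (∀ t, (θ : MulAut Γ) (Φa (sy t)) = Φa (sy (((ca⁻¹ : Kˣ) : K) * Ψ θ t))) ∧
      (∀ u, (θ : MulAut Γ) (Φb (sx u)) = Φb (sx ((cb : K₀) * τ₀ u))) ∧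
      (∀ u, (θ : MulAut Γ) (Φb (sy u)) = Φb (sy (((cb⁻¹ : K₀ˣ) : K₀) * τ₀ u)))) :
    Nat.card ↥Ψ.ker ≤ (Fintype.card K - 1) * (Fintype.card K₀ - 1) := by
  classical
  -- normal form for kernel elements: `Ψ θ = 1`, `τ₀ = 1`
  have hker : ∀ θ : ↥Ψ.ker, ∃ x : Kˣ × K₀ˣ,
      (∀ t, ((θ : ↥A) : MulAut Γ) (Φa (sx t)) = Φa (sx ((x.1 : K) * t))) ∧
      (∀ t, ((θ : ↥A) : MulAut Γ) (Φa (sy t)) = Φa (sy (((x.1⁻¹ : Kˣ) : K) * t))) ∧
      (∀ u, ((θ : ↥A) : MulAut Γ) (Φb (sx u)) = Φb (sx ((x.2 : K₀) * u))) ∧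
      (∀ u, ((θ : ↥A) : MulAut Γ) (Φb (sy u)) = Φb (sy (((x.2⁻¹ : K₀ˣ) : K₀) * u))) := by
    intro θ
    obtain ⟨ca, cb, τ₀, h0, h1, h2, h3, h4⟩ := hnf (θ : ↥A)
    have hΨ : Ψ (θ : ↥A) = 1 := θ.2
    have hτ : ∀ u, τ₀ u = u := by
      intro u
      have := h0 u
      rw [hΨ] at this
      exact emb.injective this
    refine ⟨(ca, cb), ?_, ?_, ?_, ?_⟩
    · intro t; rw [h1 t, hΨ]; rfl
    · intro t; rw [h2 t, hΨ]; rfl
    · intro u; rw [h3 u, hτ]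
    · intro u; rw [h4 u, hτ]
  let f : ↥Ψ.ker → Kˣ × K₀ˣ := fun θ => Classical.choose (hker θ)
  have hf := fun θ => Classical.choose_spec (hker θ)
  have hinj : Function.Injective f := by
    intro θ θ' hθ
    apply Subtype.ext
    apply Subtype.ext
    obtain ⟨a1, a2, a3, a4⟩ := hf θ
    obtain ⟨b1, b2, b3, b4⟩ := hf θ'
    have hfe : f θ = f θ' := hθ
    have key : (((θ : ↥A) : MulAut Γ) : Γ ≃* Γ).toMonoidHom = (((θ' : ↥A) : MulAut Γ) : Γ ≃* Γ).toMonoidHom := by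
      apply MonoidHom.eq_of_eqOn_dense hgen
      intro g hg
      rcases hg with ((⟨t, rfl⟩ | ⟨t, rfl⟩) | ⟨t, rfl⟩) | ⟨t, rfl⟩
      · show ((θ : ↥A) : MulAut Γ) (Φa (sx t)) = ((θ' : ↥A) : MulAut Γ) (Φa (sx t))
        rw [a1, b1]
        show Φa (sx (((f θ).1 : K) * t)) = Φa (sx (((f θ').1 : K) * t))
        rw [hfe]
      · show ((θ : ↥A) : MulAut Γ) (Φa (sy t)) = ((θ' : ↥A) : MulAut Γ) (Φa (sy t))
        rw [a2, b2]
        show Φa (sy ((((f θ).1⁻¹ : Kˣ) : K) * t)) = Φa (sy ((((f θ').1⁻¹ : Kˣ) : K) * t))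
        rw [hfe]
      · show ((θ : ↥A) : MulAut Γ) (Φb (sx t)) = ((θ' : ↥A) : MulAut Γ) (Φb (sx t))
        rw [a3, b3]
        show Φb (sx (((f θ).2 : K₀) * t)) = Φb (sx (((f θ').2 : K₀) * t))
        rw [hfe]
      · show ((θ : ↥A) : MulAut Γ) (Φb (sy t)) = ((θ' : ↥A) : MulAut Γ) (Φb (sy t))
        rw [a4, b4]
        show Φb (sy ((((f θ).2⁻¹ : K₀ˣ) : K₀) * t)) = Φb (sy ((((f θ').2⁻¹ : K₀ˣ) : K₀) * t))
        rw [hfe]
    apply MulEquiv.ext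
    intro g
    exact DFunLike.congr_fun key g
  have hcard := Nat.card_le_card_of_injective f hinj
  have h2 : Nat.card (Kˣ × K₀ˣ) = (Fintype.card K - 1) * (Fintype.card K₀ - 1) := by
    rw [Nat.card_prod, Nat.card_eq_fintype_card, Nat.card_eq_fintype_card, Fintype.card_units,
      Fintype.card_units]
  rw [h2] at hcard
  exact hcard

end Cfsg.Agent.Lib.Helper85.TwOut
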