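import Mathlib
import Cfsg.Agent.Lib.Helper76.WardRedB
import Cfsg.Agent.Lib.Helper76.FrobRedA
import Cfsg.Agent.Lib.Helper54.Coprime
import Cfsg.Agent.Lib.Helper22.Solvable

/-!
# S4306 reduction, module [R3] (helper85)

* `nilpotent_of_sylow_centralize'`: helper76's nilpotency criterion `WardRed.nilpotent_of_sylow_centralize`
  with the `p`-group `A` replaced by a solvable group `A` of order prime to `|H|`.
* `AA_facts`: in the context `FCtx r s G f h`, the group `⟨f⟩⟨h⟩` is solvable of order `r * s`.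
-/

set_option autoImplicit false
set_option linter.unusedSectionVars false
set_option linter.unusedVariables false

namespace Cfsg.Agent.Lib.Helper85.FrobRedR3

open scoped commutatorElement Pointwise
open Cfsg.Agent.Lib.Helper76.WardRed
open Cfsg.Agent.Lib.Helper76.FrobRed

variable {Γ : Type*} [Group Γ] [Finite Γ]

/-- **Nilpotency criterion**, coprime solvable operator group. -/
theorem nilpotent_of_sylow_centralize' (H N A : Subgroup Γ)
    (hNH : N ≤ H) [hNn : N.Normal] (hNnil : Group.IsNilpotent N)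
    (hHN : ∃ k, H.lowerCentralSeries k ≤ N)
    (hAH : A ≤ Subgroup.normalizer (H : Set Γ)) (hcop : (Nat.card A).Coprime (Nat.card H))
    (hAsolv : Group.IsSolvable A)
    (hdag : ∀ (q t : ℕ) [Fact q.Prime] [Fact t.Prime], q ≠ t → ∀ Q T : Subgroup Γ, Q ≤ H → T ≤ H →
      Q.Normal → IsPGroup q Q → IsPGroup t T → A ≤ Subgroup.normalizer (T : Set Γ) →
      Q ≤ Subgroup.centralizer (T : Set Γ)) :
    Group.IsNilpotent H := by
  obtain ⟨k, hk⟩ := hHN
  -- for every prime a normal "Sylow" subgroup
  have key : ∀ (t : ℕ) [Fact t.Prime], ∃ T : Subgroup Γ, T ≤ H ∧ IsPGroup t T ∧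
      Nat.card T = t ^ (Nat.card H).factorization t ∧ H ≤ Subgroup.normalizer (T : Set Γ) := by
    intro t _
    obtain ⟨P, hAT⟩ :=
      Cfsg.Agent.Lib.Helper54.exists_invariant_sylow A H hAH hcop (Or.inl hAsolv) t
    obtain ⟨T, hT⟩ : ∃ T : Subgroup Γ, T = (P : Subgroup H).map H.subtype := ⟨_, rfl⟩
    rw [← hT] at hAT
    have hTH : T ≤ H := by rw [hT]; exact Subgroup.map_subtype_le _
    have hTt : IsPGroup t T := by rw [hT]; exact P.isPGroup'.map _
    have hTcard : Nat.card T = t ^ (Nat.card H).factorization t := by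
      rw [hT, Subgroup.card_map_of_injective H.subtype_injective]
      exact P.card_eq_multiplicity
    refine ⟨T, hTH, hTt, hTcard, ?_⟩
    apply le_normalizer_of_lcs_le hNH hTH hTt hTcard _ hk
    apply Cfsg.Agent.Lib.Helper48.le_of_forall_exists_sylow_le
    intro q _
    obtain ⟨R, hRN, hRn, hRq, hRcard⟩ := exists_normal_sylow_of_nilpotent N hNnil q
    refine ⟨R, hRN, ?_, hRcard⟩
    by_cases hqt : q = t
    · subst hqt
      have hsup : IsPGroup q (T ⊔ R : Subgroup Γ) := hTt.to_sup_of_normal_right hRq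
      exact (le_of_isPGroup_sup hTH (hRN.trans hNH) hTcard hsup).trans Subgroup.le_normalizer
    · exact (hdag q t hqt R T (hRN.trans hNH) hTH hRn hRq hTt hAT).trans
        (Subgroup.centralizer_le_normalizer _)
  -- all Sylow subgroups of `H` are normal
  have q := (Group.isNilpotent_of_finite_tfae (G := H)).out 0 3
  rw [q]
  intro t ht P
  obtain ⟨T, hTH, hTt, hTcard, hHT⟩ := key t
  have hP' : (P : Subgroup H).map H.subtype ≤ T := by
    have hsup : IsPGroup t (T ⊔ (P : Subgroup H).map H.subtype : Subgroup Γ) :=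
      hTt.to_sup_of_normal_left' (P.isPGroup'.map _) ((Subgroup.map_subtype_le _).trans hHT)
    exact le_of_isPGroup_sup hTH (Subgroup.map_subtype_le _) hTcard hsup
  have hPcard : Nat.card ((P : Subgroup H).map H.subtype) = Nat.card T := by
    rw [Subgroup.card_map_of_injective H.subtype_injective, hTcard]
    exact P.card_eq_multiplicity
  have hPT : (P : Subgroup H).map H.subtype = T :=
    Subgroup.eq_of_le_of_card_ge hP' (le_of_eq hPcard.symm)
  have hPeq : (P : Subgroup H) = T.subgroupOf H := by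
    rw [← hPT]
    ext x
    simp [Subgroup.mem_subgroupOf]
  rw [hPeq]
  exact Subgroup.normal_subgroupOf_of_le_normalizer hHT

variable {r s : ℕ} [Fact r.Prime] [Fact s.Prime] {G : Subgroup Γ} {f h : Γ}

theorem orderOf_f (c : FCtx r s G f h) : orderOf f = r :=
  orderOf_eq_prime c.hf c.hf1

theorem orderOf_h (c : FCtx r s G f h) : orderOf h = s :=
  orderOf_eq_prime c.hh c.hh1

/-- `h` normalizes `⟨f⟩` -/
theorem zpowers_h_le_normalizer (c : FCtx r s G f h) :
    Subgroup.zpowers h ≤ Subgroup.normalizer ((Subgroup.zpowers f : Subgroup Γ) : Set Γ) := by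
  rw [Subgroup.zpowers_le, Cfsg.Agent.Lib.Helper54.mem_normalizer_iff_conj_smul]
  apply Subgroup.eq_of_le_of_card_ge
  · have h1 : MulAut.conj h • Subgroup.zpowers f = Subgroup.zpowers (h * f * h⁻¹) := by
      rw [Subgroup.pointwise_smul_def]
      exact MonoidHom.map_zpowers _ f
    rw [h1, Subgroup.zpowers_le]
    exact c.hnorm
  · rw [Cfsg.Agent.Lib.Helper54.card_conj_smul]

theorem AA_facts (c : FCtx r s G f h) :
    Group.IsSolvable (Subgroup.zpowers f ⊔ Subgroup.zpowers h : Subgroup Γ) ∧
      Nat.card (Subgroup.zpowers f ⊔ Subgroup.zpowers h : Subgroup Γ) = r * s := by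
  have hr : r.Prime := Fact.out
  have hs : s.Prime := Fact.out
  have hn := zpowers_h_le_normalizer c
  have hcf : Nat.card (Subgroup.zpowers f) = r := by rw [Nat.card_zpowers, orderOf_f c]
  have hch : Nat.card (Subgroup.zpowers h) = s := by rw [Nat.card_zpowers, orderOf_h c]
  refine ⟨?_, ?_⟩
  · apply Cfsg.Agent.Lib.Helper22.isSolvable_sup_of_le_normalizer hn
    · exact Group.isSolvable_of_comm (fun a b => mul_comm' a b)
    · exact Group.isSolvable_of_comm (fun a b => mul_comm' a b)
  · have hcop : (Nat.card (Subgroup.zpowers f)).Coprime (Nat.card (Subgroup.zpowers h)) := by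
      rw [hcf, hch]
      exact (Nat.coprime_primes hr hs).mpr c.hrs
    have hdisj : Subgroup.zpowers f ⊓ Subgroup.zpowers h = ⊥ :=
      (Subgroup.disjoint_of_coprime_natCard hcop).eq_bot
    rw [Cfsg.Agent.Lib.Helper54.card_sup_of_le_normalizer hn hdisj, hcf, hch]

end Cfsg.Agent.Lib.Helper85.FrobRedR3
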