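import Cfsg.Agent.Lib.Helper85.QuotModelCorr
import Cfsg.Agent.Lib.Helper85.FusionRealized
import Cfsg.Agent.Lib.Helper85.FusionNC
import Cfsg.Agent.S5126

/-!
# Realizing the normalizer systems of a factor system

Let `E` be the factor system of `F` by the strongly closed `K`, through `θ`, let `R' ≤ S' = θ(S)` and `R` its full preimage.
If the normalizer system `N_F(R)` is realized by `ι : N_S(R) →* G` with `ι(K)` normal in `G`, then the normalizer system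
`N_E(R')` is realized by the induced homomorphism `N_{S'}(R') →* G ⧸ ι(K)`.
-/

set_option autoImplicit false

namespace Cfsg.Agent.Lib.Helper85

open Cfsg Cfsg.FusionSystem

variable {Ω : Type*} [Group Ω] {S : Subgroup Ω} {Ω' : Type*} [Group Ω']

theorem map_subgroupOf_eq_of_mapsTo {M R : Subgroup Ω} [Finite R] (hRM : R ≤ M) (ψ : M →* Ω)
    (hinj : Function.Injective ψ) (h : ∀ x : M, (x : Ω) ∈ R → ψ x ∈ R) : (R.subgroupOf M).map ψ = R := by
  let f : R → R := fun r => ⟨ψ ⟨r, hRM r.2⟩, h _ r.2⟩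
  have hf : Function.Injective f := by
    intro a b hab
    have h1 : ψ ⟨a, hRM a.2⟩ = ψ ⟨b, hRM b.2⟩ := congrArg Subtype.val hab
    have h2 := hinj h1
    exact Subtype.ext (congrArg (fun t : M => (t : Ω)) h2)
  have hs := Finite.injective_iff_surjective.mp hf
  ext y
  constructor
  · rintro ⟨x, hx, rfl⟩
    exact h x (Subgroup.mem_subgroupOf.1 hx)
  · intro hy
    obtain ⟨r, hr⟩ := hs ⟨y, hy⟩
    exact ⟨⟨r, hRM r.2⟩, Subgroup.mem_subgroupOf.2 r.2, congrArg Subtype.val hr⟩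

section thetaN

variable {K : Subgroup Ω} (θ : S →* Ω') (hKS : K ≤ S) (hker : ∀ s : S, θ s = 1 ↔ (s : Ω) ∈ K)
  {R' : Subgroup Ω'} (hR' : R' ≤ θ.range)

include hKS hker hR' in
/-- The full preimage of a join. -/
theorem preimageAlong_sup_le {P' : Subgroup Ω'} (hP' : P' ≤ θ.range) :
    preimageAlong θ (P' ⊔ R') ≤ preimageAlong θ P' ⊔ preimageAlong θ R' := by
  have h1 : P' ⊔ R' = imageAlong θ (preimageAlong θ P' ⊔ preimageAlong θ R') := by
    unfold imageAlong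
    rw [Subgroup.subgroupOf_sup (preimageAlong_le θ P') (preimageAlong_le θ R'), Subgroup.map_sup]
    have e1 := imageAlong_preimageAlong θ hP'
    have e2 := imageAlong_preimageAlong θ hR'
    unfold imageAlong at e1 e2
    rw [e1, e2]
  rw [h1, Cfsg.Agent.Lib.Helper87.preimageAlong_imageAlong θ hker hKS
    (sup_le (preimageAlong_le θ P') (preimageAlong_le θ R'))]
  exact sup_le le_rfl ((ker_le_preimageAlong θ hKS hker R').trans le_sup_right)

include hR' in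
theorem mem_normalizerIn_preimageAlong_iff (x : Ω) :
    x ∈ normalizerIn S (preimageAlong θ R') ↔ ∃ hx : x ∈ S, θ ⟨x, hx⟩ ∈ normalizerIn θ.range R' := by
  rw [← preimageAlong_normalizerIn θ hR', mem_preimageAlong_iff]

/-- `θ` as a homomorphism `N_S(R) →* N_{S'}(R')`, `R` the full preimage of `R'`. -/
def thetaN : ↥(normalizerIn S (preimageAlong θ R')) →* ↥(normalizerIn θ.range R') :=
  (θ.comp (Subgroup.inclusion (inf_le_left : normalizerIn S (preimageAlong θ R') ≤ S))).codRestrict _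
    (fun x => ((mem_normalizerIn_preimageAlong_iff θ hR' x).mp x.2).2)

theorem thetaN_coe (x : ↥(normalizerIn S (preimageAlong θ R'))) :
    ((thetaN θ hR' x : ↥(normalizerIn θ.range R')) : Ω') = θ ⟨x, x.2.1⟩ := rfl

theorem thetaN_surjective : Function.Surjective (thetaN θ hR') := by
  rintro ⟨y, hy⟩
  obtain ⟨s, rfl⟩ : y ∈ θ.range := hy.1
  have h : (s : Ω) ∈ normalizerIn S (preimageAlong θ R') :=
    (mem_normalizerIn_preimageAlong_iff θ hR' s).mpr ⟨s.2, hy⟩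
  exact ⟨⟨s, h⟩, Subtype.ext rfl⟩

include hker in
theorem thetaN_eq_one_iff (x : ↥(normalizerIn S (preimageAlong θ R'))) :
    thetaN θ hR' x = 1 ↔ (x : Ω) ∈ K := by
  rw [← hker ⟨x, x.2.1⟩]
  constructor
  · intro h
    exact congrArg Subtype.val h
  · intro h
    exact Subtype.ext h

/-- Lifting an element of `N_{S'}(R')` lying in `P'` to the full preimage of `P'`. -/
theorem exists_thetaN_eq (P' : Subgroup Ω') (y : ↥(normalizerIn θ.range R')) (hy : (y : Ω') ∈ P') :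
    ∃ t : ↥(normalizerIn S (preimageAlong θ R')), (t : Ω) ∈ preimageAlong θ P' ∧ thetaN θ hR' t = y := by
  obtain ⟨t, rfl⟩ := thetaN_surjective θ hR' y
  exact ⟨t, (mem_preimageAlong_iff θ P' t).mpr ⟨t.2.1, hy⟩, rfl⟩

variable {G : Type*} [Group G] (ι : ↥(normalizerIn S (preimageAlong θ R')) →* G) [hKn : (imι ι K).Normal]

/-- The homomorphism `N_{S'}(R') →* G ⧸ ι(K)` induced by `ι`. -/
noncomputable def iotaBar : ↥(normalizerIn θ.range R') →* G ⧸ imι ι K :=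
  (thetaN θ hR').liftOfSurjective (thetaN_surjective θ hR')
    ⟨(QuotientGroup.mk' (imι ι K)).comp ι, fun x hx => by
      rw [MonoidHom.mem_ker] at hx ⊢
      have h1 : (x : Ω) ∈ K := (thetaN_eq_one_iff θ hker hR' x).mp hx
      exact (QuotientGroup.eq_one_iff _).2 ⟨x, Subgroup.mem_subgroupOf.2 h1, rfl⟩⟩

theorem iotaBar_thetaN (t : ↥(normalizerIn S (preimageAlong θ R'))) :
    iotaBar θ hker hR' ι (thetaN θ hR' t) = QuotientGroup.mk' (imι ι K) (ι t) := by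
  have := MonoidHom.liftOfRightInverse_comp_apply (thetaN θ hR')
    (Function.surjInv (thetaN_surjective θ hR'))
    (Function.rightInverse_surjInv (thetaN_surjective θ hR'))
    ⟨(QuotientGroup.mk' (imι ι K)).comp ι, fun x hx => by
      rw [MonoidHom.mem_ker] at hx ⊢
      have h1 : (x : Ω) ∈ K := (thetaN_eq_one_iff θ hker hR' x).mp hx
      exact (QuotientGroup.eq_one_iff _).2 ⟨x, Subgroup.mem_subgroupOf.2 h1, rfl⟩⟩ t
  exact this

theorem iotaBar_injective (hinj : Function.Injective ι) : Function.Injective (iotaBar θ hker hR' ι) := by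
  rw [injective_iff_map_eq_one]
  intro y hy
  obtain ⟨t, rfl⟩ := thetaN_surjective θ hR' y
  rw [iotaBar_thetaN] at hy
  have h1 : ι t ∈ imι ι K := (QuotientGroup.eq_one_iff _).1 hy
  obtain ⟨q, hq, hqt⟩ := h1
  have h2 : q = t := hinj hqt
  rw [thetaN_eq_one_iff θ hker hR', ← h2]
  exact Subgroup.mem_subgroupOf.1 hq

theorem range_iotaBar :
    (iotaBar θ hker hR' ι).range = ι.range.map (QuotientGroup.mk' (imι ι K)) := by
  ext y
  constructor
  · rintro ⟨z, rfl⟩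
    obtain ⟨t, rfl⟩ := thetaN_surjective θ hR' z
    rw [iotaBar_thetaN]
    exact ⟨ι t, ⟨t, rfl⟩, rfl⟩
  · rintro ⟨_, ⟨t, rfl⟩, rfl⟩
    exact ⟨thetaN θ hR' t, iotaBar_thetaN θ hker hR' ι t⟩

theorem imι_iotaBar :
    imι (iotaBar θ hker hR' ι) R' = (imι ι (preimageAlong θ R')).map (QuotientGroup.mk' (imι ι K)) := by
  ext y
  constructor
  · rintro ⟨z, hz, rfl⟩
    obtain ⟨t, rfl⟩ := thetaN_surjective θ hR' z
    rw [iotaBar_thetaN]
    have h1 : (t : Ω) ∈ preimageAlong θ R' :=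
      (mem_preimageAlong_iff θ R' t).mpr ⟨t.2.1, Subgroup.mem_subgroupOf.1 hz⟩
    exact ⟨ι t, ⟨t, Subgroup.mem_subgroupOf.2 h1, rfl⟩, rfl⟩
  · rintro ⟨_, ⟨t, ht, rfl⟩, rfl⟩
    have h1 : (t : Ω) ∈ preimageAlong θ R' := Subgroup.mem_subgroupOf.1 ht
    refine ⟨thetaN θ hR' t, ?_, iotaBar_thetaN θ hker hR' ι t⟩
    exact Subgroup.mem_subgroupOf.2 ((mem_preimageAlong_iff θ R' t).mp h1).2

end thetaN

section real

variable (F : FusionSystem S) {K : Subgroup Ω} (hK : F.StronglyClosed K) (θ : S →* Ω')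
  (hker : ∀ s : S, θ s = 1 ↔ (s : Ω) ∈ K) (E : FusionSystem θ.range)
  (hHom : ∀ (P' : Subgroup Ω') (φ' : P' →* Ω'),
    φ' ∈ E.Hom P' ↔ P' ≤ θ.range ∧ ∃ φ ∈ F.Hom (preimageAlong θ P'), InducedAlong θ φ φ')
  {R' : Subgroup Ω'} (hR' : R' ≤ θ.range)
  (N : FusionSystem (normalizerIn S (preimageAlong θ R'))) (hN : F.IsNormalizerSystem (preimageAlong θ R') N)
  (N' : FusionSystem (normalizerIn θ.range R')) (hN' : E.IsNormalizerSystem R' N')
  {G : Type*} [Group G] {ι : ↥(normalizerIn S (preimageAlong θ R')) →* G} (hr : N.IsRealizedBy ι)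
  [hKn : (imι ι K).Normal]

include hK hHom hN hN' hr in
/-- **The normalizer system of the factor system is realized by the quotient group.** -/
theorem isRealizedBy_iotaBar [Finite S] : N'.IsRealizedBy (iotaBar θ hker hR' ι) := by
  have hKS : K ≤ S := hK.1
  have hRS : preimageAlong θ R' ≤ S := preimageAlong_le θ R'
  have hR'T' : R' ≤ normalizerIn θ.range R' := le_inf hR' Subgroup.le_normalizer
  have : Finite ↥(preimageAlong θ R') :=
    Finite.of_injective (Subgroup.inclusion hRS) (Subgroup.inclusion_injective _)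
  have hinj := iotaBar_injective θ hker hR' ι hr.1
  refine ⟨hinj, fun P' hP' φ' hφ' => ⟨?_, ?_⟩⟩
  · intro h
    rw [hN' P'] at h
    obtain ⟨hφ'E, -, -, ψ', hψ', hψ'e, hψ'R⟩ := h
    obtain ⟨hPR', ψ, hψ, hMS, hψS, hM', hind⟩ := (hHom _ ψ').mp hψ'
    have hRM : preimageAlong θ R' ≤ preimageAlong θ (P' ⊔ R') := preimageAlong_mono θ le_sup_right
    have hMT : preimageAlong θ (P' ⊔ R') ≤ normalizerIn S (preimageAlong θ R') := by
      intro x hx
      rw [mem_normalizerIn_preimageAlong_iff θ hR']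
      obtain ⟨hxS, hx'⟩ := (mem_preimageAlong_iff θ _ x).mp hx
      exact ⟨hxS, (sup_le hP' hR'T') hx'⟩
    rw [Cfsg.Agent.Lib.Helper87.map_subgroupOf_eq_iff] at hψ'R
    have hψR : ∀ x : ↥(preimageAlong θ (P' ⊔ R')), (x : Ω) ∈ preimageAlong θ R' → ψ x ∈ preimageAlong θ R' := by
      intro x hx
      rw [mem_preimageAlong_iff]
      refine ⟨hψS x, ?_⟩
      rw [← hind x]
      exact hψ'R.1 _ ((mem_preimageAlong_iff θ R' x).mp hx).2
    have hψmap := map_subgroupOf_eq_of_mapsTo hRM ψ (F.injective_of_mem hψ) hψR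
    have hψN : ψ ∈ F.normalizerHom (preimageAlong θ R') (preimageAlong θ (P' ⊔ R')) :=
      Cfsg.Agent.S5126.mem_normalizerHom_of_map_eq F hRM hMT hψ hψmap
    have hψT : ∀ x : ↥(preimageAlong θ (P' ⊔ R')), ψ x ∈ normalizerIn S (preimageAlong θ R') := hψN.2.2.1
    rw [← hN _] at hψN
    obtain ⟨g, hg⟩ := (hr.2 _ hMT ψ hψT).mp hψN
    refine ⟨QuotientGroup.mk' _ g, fun x' => ?_⟩
    obtain ⟨t, htP, ht⟩ := exists_thetaN_eq θ hR' P' ⟨x', hP' x'.2⟩ x'.2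
    have htM : (t : Ω) ∈ preimageAlong θ (P' ⊔ R') := preimageAlong_mono θ le_sup_left htP
    have hθt : θ ⟨t, t.2.1⟩ = x' := congrArg Subtype.val ht
    have h1 : (⟨φ' x', hφ' x'⟩ : ↥(normalizerIn θ.range R')) = thetaN θ hR' ⟨ψ ⟨t, htM⟩, hψT _⟩ := by
      apply Subtype.ext
      rw [thetaN_coe]
      show φ' x' = θ ⟨ψ ⟨t, htM⟩, _⟩
      rw [← hψ'e x']
      refine Eq.trans ?_ (hind ⟨t, htM⟩)
      congr 1
      exact Subtype.ext hθt.symm
    rw [h1, iotaBar_thetaN, ← ht, iotaBar_thetaN]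
    have h2 := hg ⟨t, htM⟩
    rw [h2, map_mul, map_mul, map_inv]
  · rintro ⟨gb, hgb⟩
    obtain ⟨g, rfl⟩ := QuotientGroup.mk'_surjective _ gb
    have hP'r : P' ≤ θ.range := hP'.trans inf_le_left
    have hM₀T : preimageAlong θ P' ≤ normalizerIn S (preimageAlong θ R') := by
      intro x hx
      rw [mem_normalizerIn_preimageAlong_iff θ hR']
      obtain ⟨hxS, hx'⟩ := (mem_preimageAlong_iff θ _ x).mp hx
      exact ⟨hxS, hP' hx'⟩
    have hmem : ∀ x : ↥(preimageAlong θ P'), θ ⟨x, (hM₀T x.2).1⟩ ∈ P' :=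
      fun x => ((mem_preimageAlong_iff θ P' x).mp x.2).2
    have e1 : ∀ x : ↥(preimageAlong θ P'),
        (⟨((⟨θ ⟨x, (hM₀T x.2).1⟩, hmem x⟩ : P') : Ω'), hP' (hmem x)⟩ : ↥(normalizerIn θ.range R')) =
          thetaN θ hR' ⟨x, hM₀T x.2⟩ := fun x => Subtype.ext rfl
    have hconj : ∀ x : ↥(preimageAlong θ P'), g * ι ⟨x, hM₀T x.2⟩ * g⁻¹ ∈ ι.range := by
      intro x
      obtain ⟨t, ht⟩ := thetaN_surjective θ hR' ⟨φ' ⟨θ ⟨x, (hM₀T x.2).1⟩, hmem x⟩, hφ' _⟩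
      have h1 := hgb ⟨θ ⟨x, (hM₀T x.2).1⟩, hmem x⟩
      rw [← ht, e1, iotaBar_thetaN, iotaBar_thetaN] at h1
      have h2 : (ι t)⁻¹ * (g * ι ⟨x, hM₀T x.2⟩ * g⁻¹) ∈ imι ι K := by
        rw [← QuotientGroup.eq_one_iff]
        have : ((((ι t)⁻¹ * (g * ι ⟨x, hM₀T x.2⟩ * g⁻¹) : G)) : G ⧸ imι ι K) =
            (QuotientGroup.mk' (imι ι K) (ι t))⁻¹ * (QuotientGroup.mk' (imι ι K) g *
              QuotientGroup.mk' (imι ι K) (ι ⟨x, hM₀T x.2⟩) * (QuotientGroup.mk' (imι ι K) g)⁻¹) := rfl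
        rw [this, ← h1, inv_mul_cancel]
      have h3 := imι_le_range ι K h2
      have e : g * ι ⟨x, hM₀T x.2⟩ * g⁻¹ = ι t * ((ι t)⁻¹ * (g * ι ⟨x, hM₀T x.2⟩ * g⁻¹)) := by group
      rw [e]
      exact ι.range.mul_mem ⟨t, rfl⟩ h3
    obtain ⟨φ, hφT, hφN, hφι⟩ : ∃ (φ : ↥(preimageAlong θ P') →* Ω)
        (hφT : ∀ x, φ x ∈ normalizerIn S (preimageAlong θ R')), φ ∈ N.Hom (preimageAlong θ P') ∧
          ∀ x, ι ⟨φ x, hφT x⟩ = g * ι ⟨x, hM₀T x.2⟩ * g⁻¹ :=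
      ⟨conjι hr.1 hM₀T g hconj, conjι_mem hr.1 hM₀T g hconj, conjι_mem_Hom hr hM₀T g hconj,
        ι_conjι hr.1 hM₀T g hconj⟩
    have key : ∀ x : ↥(preimageAlong θ P'), θ ⟨φ x, (hφT x).1⟩ = φ' ⟨θ ⟨x, (hM₀T x.2).1⟩, hmem x⟩ := by
      intro x
      have h1 := hgb ⟨θ ⟨x, (hM₀T x.2).1⟩, hmem x⟩
      rw [e1, iotaBar_thetaN] at h1
      have h2 : iotaBar θ hker hR' ι (thetaN θ hR' ⟨φ x, hφT x⟩) =
          iotaBar θ hker hR' ι ⟨φ' ⟨θ ⟨x, (hM₀T x.2).1⟩, hmem x⟩, hφ' _⟩ := by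
        rw [iotaBar_thetaN, hφι, h1, map_mul, map_mul, map_inv]
      exact congrArg Subtype.val (hinj h2)
    rw [hN _] at hφN
    obtain ⟨hφF, -, -, ψ, hψ, hψe, hψR⟩ := hφN
    rw [hN' P']
    refine ⟨?_, hP', hφ', ?_⟩
    · rw [hHom]
      exact ⟨hP'r, φ, hφF, preimageAlong_le θ P', fun x => (hφT x).1, hmem, fun x => (key x).symm⟩
    · have hPR'r : P' ⊔ R' ≤ θ.range := sup_le hP'r hR'
      have hle : preimageAlong θ (P' ⊔ R') ≤ preimageAlong θ P' ⊔ preimageAlong θ R' :=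
        preimageAlong_sup_le θ hKS hker hR' hP'r
      have hψ₁ : ψ.comp (Subgroup.inclusion hle) ∈ F.Hom (preimageAlong θ (P' ⊔ R')) := restrict_mem F hψ hle
      obtain ⟨ψ₁, hψ₁def⟩ : ∃ ψ₁, ψ₁ = ψ.comp (Subgroup.inclusion hle) := ⟨_, rfl⟩
      rw [← hψ₁def] at hψ₁
      have hψ₁S : ∀ x, ψ₁ x ∈ S := (F.le_of_mem hψ₁).2
      have hker₁ : ∀ x : ↥(preimageAlong θ (P' ⊔ R')),
          θ ⟨x, preimageAlong_le θ _ x.2⟩ = 1 → θ ⟨ψ₁ x, hψ₁S x⟩ = 1 := by
        intro x hx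
        have h1 : (x : Ω) ∈ K := (hker _).mp hx
        exact (hker _).mpr ((stronglyClosed_apply_mem_iff F hK hψ₁ x).mpr h1)
      rw [Cfsg.Agent.Lib.Helper87.map_subgroupOf_eq_iff] at hψR
      refine ⟨inducedHom θ hPR'r ψ₁ hψ₁S hker₁, ?_, ?_, ?_⟩
      · rw [hHom]
        exact ⟨hPR'r, ψ₁, hψ₁, inducedAlong_inducedHom θ hPR'r ψ₁ hψ₁S hker₁⟩
      · intro x'
        obtain ⟨t, htP, ht⟩ := exists_thetaN_eq θ hR' P' ⟨x', hP' x'.2⟩ x'.2
        have htM₁ : (t : Ω) ∈ preimageAlong θ (P' ⊔ R') := preimageAlong_mono θ le_sup_left htP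
        have hθt : θ ⟨t, t.2.1⟩ = x' := congrArg Subtype.val ht
        have hmem₁ : θ ⟨t, t.2.1⟩ ∈ P' ⊔ R' := by rw [hθt]; exact le_sup_left (a := P') (b := R') x'.2
        have h1 := inducedHom_apply θ hPR'r ψ₁ hψ₁S hker₁ ⟨t, htM₁⟩ hmem₁
        have h2 : ψ₁ ⟨t, htM₁⟩ = φ ⟨t, htP⟩ := by
          rw [hψ₁def]
          exact hψe ⟨t, htP⟩
        have h3 := key ⟨t, htP⟩
        have e2 : Subgroup.inclusion (le_sup_left : P' ≤ P' ⊔ R') x' = ⟨θ ⟨t, t.2.1⟩, hmem₁⟩ :=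
          Subtype.ext hθt.symm
        rw [e2]
        refine h1.trans ?_
        have e3 : (⟨ψ₁ ⟨t, htM₁⟩, hψ₁S _⟩ : S) = ⟨φ ⟨t, htP⟩, (hφT _).1⟩ := Subtype.ext h2
        rw [e3, h3]
        congr 1
        exact Subtype.ext hθt
      · rw [Cfsg.Agent.Lib.Helper87.map_subgroupOf_eq_iff]
        constructor
        · intro y hy
          obtain ⟨t, htR, ht⟩ := exists_thetaN_eq θ hR' R' ⟨y, (sup_le hP' hR'T') y.2⟩ hy
          have htM₁ : (t : Ω) ∈ preimageAlong θ (P' ⊔ R') := preimageAlong_mono θ le_sup_right htR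
          have hθt : θ ⟨t, t.2.1⟩ = y := congrArg Subtype.val ht
          have hmem₁ : θ ⟨t, t.2.1⟩ ∈ P' ⊔ R' := by rw [hθt]; exact y.2
          have h1 := inducedHom_apply θ hPR'r ψ₁ hψ₁S hker₁ ⟨t, htM₁⟩ hmem₁
          have e2 : y = ⟨θ ⟨t, t.2.1⟩, hmem₁⟩ := Subtype.ext hθt.symm
          rw [e2, h1]
          have h4 : ψ₁ ⟨t, htM₁⟩ ∈ preimageAlong θ R' := by
            rw [hψ₁def]
            exact hψR.1 _ htR
          exact ((mem_preimageAlong_iff θ R' _).mp h4).2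
        · intro q hq
          obtain ⟨s, rfl⟩ := hR' hq
          have hsR : (s : Ω) ∈ preimageAlong θ R' := (mem_preimageAlong_iff θ R' s).mpr ⟨s.2, hq⟩
          obtain ⟨x, hxR, hx⟩ := hψR.2 _ hsR
          have hxM₁ : (x : Ω) ∈ preimageAlong θ (P' ⊔ R') := preimageAlong_mono θ le_sup_right hxR
          have hmemR : θ ⟨x, preimageAlong_le θ _ hxM₁⟩ ∈ R' := ((mem_preimageAlong_iff θ R' x).mp hxR).2
          have hmem₁ : θ ⟨x, preimageAlong_le θ _ hxM₁⟩ ∈ P' ⊔ R' := le_sup_right (a := P') (b := R') hmemR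
          refine ⟨⟨θ ⟨x, preimageAlong_le θ _ hxM₁⟩, hmem₁⟩, hmemR, ?_⟩
          have h1 := inducedHom_apply θ hPR'r ψ₁ hψ₁S hker₁ ⟨x, hxM₁⟩ hmem₁
          have h5 : ψ₁ ⟨x, hxM₁⟩ = s := by
            rw [hψ₁def]
            exact hx
          refine h1.trans ?_
          congr 1
          exact Subtype.ext h5

end real

end Cfsg.Agent.Lib.Helper85
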