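import Mathlib
import Cfsg.Agent.Lib.Helper10.BGThirteenT
import Cfsg.Agent.Lib.Helper24.PrimeAction

/-!
# Bender–Glauberman 13.4 (statement S1428): modules NAg1 and NAg2  (helper85)

The two "non-alpha" modules of helper10's plan (board #2416), with the modules KB, CONJ and Z0 taken
as hypotheses (`KBStmt G`, `CONJStmt G`, `Z0Stmt G` are their literal statements for a fixed `G`).

* `nonalpha_noncyclic_of`: module NAg1 (`T` not cyclic).
* `nonalpha_cyclic_of`: module NAg2 (`T` a cyclic Sylow `p`-subgroup of `G`).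
-/

set_option autoImplicit false

open scoped commutatorElement Pointwise

namespace Cfsg.Agent.Lib.Helper85.BG13NA

open Cfsg
open Cfsg.Agent.Lib.Helper10.BG13
open Cfsg.Agent.Lib.Helper33 (SylIn cj)
open Cfsg.Agent.Lib.Helper34 (UniquenessThm)

/-- module KB of #2416, as a hypothesis -/
def KBStmt (G : Type*) [Group G] : Prop :=
  ∀ M L : Subgroup G, IsCoatom M → IsCoatom L → L ≠ M → ∀ (q : ℕ) [Fact q.Prime],
    q ∈ sigma M → q ∈ tau2 L → ∀ S : Subgroup G, IsPGroup q S → S ≤ M → S ≤ L →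
      ¬ q ∣ S.relIndex L →
        sigmaCore L ⊓ M = ⊥ ∧ ∃ E : Subgroup G, IsComplIn E (sigmaCore L) L ∧ E ≤ M

/-- module CONJ of #2416, as a hypothesis -/
def CONJStmt (G : Type*) [Group G] : Prop :=
  ∀ L : Subgroup G, IsCoatom L → ∀ E : Subgroup G, IsComplIn E (sigmaCore L) L →
    ∀ (p : ℕ) [Fact p.Prime], p ∉ sigma L → ∀ T : Subgroup G, IsPGroup p T → T ≤ L →
      ∃ l ∈ L, MulAut.conj l • T ≤ E

/-- module Z0 of #2416, as a hypothesis -/
def Z0Stmt (G : Type*) [Group G] : Prop :=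
  ∀ M L : Subgroup G, IsCoatom M → IsCoatom L → ∀ (p q : ℕ) [Fact p.Prime] [Fact q.Prime],
    p ≠ q → p ∣ Nat.card L → p ∉ beta L → q ∈ sigma M → q ∈ sigma L →
      ∀ T : Subgroup G, IsPGroup p T → T ≤ L →
        ∃ g : G, T ≤ MulAut.conj g • M ∧ ∀ y ∈ L, y ∈ Subgroup.normalizer (T : Set G) →
          ∃ c ∈ Subgroup.centralizer (T : Set G), c⁻¹ * y ∈ MulAut.conj g • M

variable {G : Type*} [Group G]

theorem conj_inv_smul_conj_smul (g : G) (M : Subgroup G) :
    MulAut.conj g⁻¹ • MulAut.conj g • M = M := by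
  rw [← mul_smul, ← map_mul, inv_mul_cancel, map_one, one_smul]

theorem commutator_conj_smul (g : G) (M : Subgroup G) :
    ⁅MulAut.conj g • M, MulAut.conj g • M⁆ = MulAut.conj g • ⁅M, M⁆ :=
  (Subgroup.map_commutator M M (MulAut.conj g).toMonoidHom).symm

/-- `τ₁(M)` is invariant under conjugation of `M` -/
theorem tau1_conj_smul_aux [Finite G] {M : Subgroup G} {p : ℕ} (hp : p ∈ tau1 M) (g : G) :
    p ∈ tau1 (MulAut.conj g • M) := by
  obtain ⟨hpp, hσ, hd, hnd, hr⟩ := hp
  refine ⟨hpp, ?_, ?_, ?_, ?_⟩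
  · intro h
    apply hσ
    have := Cfsg.Agent.Lib.Helper24.mem_sigma_conj_smul h g⁻¹
    rwa [conj_inv_smul_conj_smul] at this
  · rw [Cfsg.Agent.Lib.Helper54.card_conj_smul]
    exact hd
  · rw [commutator_conj_smul, Cfsg.Agent.Lib.Helper54.card_conj_smul]
    exact hnd
  · rw [Cfsg.Agent.Lib.Helper54.pRankLE_conj_smul_iff]
    exact hr

/-- a subgroup of prime order `p` is a `p`-group -/
theorem isPGroup_of_card_eq {p : ℕ} {P : Subgroup G} (hP : Nat.card P = p) : IsPGroup p P :=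
  IsPGroup.of_card (n := 1) (by rw [hP, pow_one])

theorem ne_bot_of_card_eq_prime {p : ℕ} (hp : p.Prime) {P : Subgroup G} (hP : Nat.card P = p) :
    P ≠ ⊥ := by
  intro h
  rw [h, Subgroup.card_bot] at hP
  exact hp.one_lt.ne hP

/-- module NAg1 of #2416, with KB, CONJ, Z0 as hypotheses -/
theorem nonalpha_noncyclic_of [Finite G] (hKB : KBStmt G) (hCONJ : CONJStmt G) (hZ0 : Z0Stmt G)
    (hG : IsMinSimpleOddOrder G) (hU : UniquenessThm G) (h1424 : H1424 G)
    (M L : Subgroup G) (hM : IsCoatom M) (hL : IsCoatom L) (p q : ℕ) [Fact p.Prime] [Fact q.Prime]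
    (hpM : p ∈ tau1 M) (hp2 : PRankLE p 2 G) (hqM : q ∈ sigma M) (X : Subgroup G) (hXM : X ≤ M)
    (hX : Nat.card X = q) (hNX : Subgroup.normalizer (X : Set G) ≤ L) (T : Subgroup G)
    (hT : IsPGroup p T) (hTL : T ≤ L) (hTnc : ¬ IsCyclic ↥T) (P : Subgroup G) (hPT : P ≤ T)
    (hPM : P ≤ M) (hP : Nat.card P = p) : False := by
  have hp : p.Prime := Fact.out
  have hq : q.Prime := Fact.out
  have hpdvd : p ∣ Nat.card G := hpM.2.2.1.trans (Subgroup.card_subgroup_dvd_card M)
  have hpodd : p ≠ 2 := Cfsg.Agent.Lib.Helper54.ne_two_of_dvd_of_odd hG.1 hpdvd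
  -- every `p`-subgroup of a conjugate of `M` is cyclic
  have hcyc : ∀ (g : G) (T' : Subgroup G), IsPGroup p T' → T' ≤ MulAut.conj g • M →
      IsCyclic ↥T' := by
    intro g T' hT' hle
    apply Cfsg.Agent.Lib.Helper54.isCyclic_of_pRankLE_one hpodd hT'
    apply Cfsg.Agent.Lib.Helper54.pRankLE_of_le hle
    rw [Cfsg.Agent.Lib.Helper54.pRankLE_conj_smul_iff]
    exact hpM.2.2.2.2
  have hcyc1 : ∀ T' : Subgroup G, IsPGroup p T' → T' ≤ M → IsCyclic ↥T' := by
    intro T' hT' hle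
    apply hcyc 1 T' hT'
    rw [map_one, one_smul]
    exact hle
  by_cases hne : L = M
  · subst hne
    exact hTnc (hcyc1 T hT hTL)
  · have hXq : IsPGroup q X := isPGroup_of_card_eq hX
    have hX1 : X ≠ ⊥ := ne_bot_of_card_eq_prime hq hX
    obtain ⟨S, -, hSM, hSyl, -⟩ :=
      exists_sylIn_of_normalizer_le h1424 M L hM hL hne q hqM X hXq hX1 hXM hNX
    have hT1 : T ≠ ⊥ := by
      intro h
      apply hTnc
      rw [h]
      infer_instance
    have hpL : p ∣ Nat.card L :=
      (Cfsg.Agent.Lib.Helper34.dvd_card_of_isPGroup_ne_bot hT hT1).trans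
        (Subgroup.card_dvd_of_le hTL)
    have hpq : p ≠ q := fun h => hpM.2.1 (h ▸ hqM)
    have hpβ : p ∉ beta L := by
      intro h
      exact h.1.2
        (Cfsg.Agent.Lib.Helper54.pRankLE_of_injective L.subtype L.subtype_injective hp2)
    have hPp : IsPGroup p P := isPGroup_of_card_eq hP
    rcases Cfsg.Agent.Lib.Helper54.mem_sigma_or_tau2_of_normalizer_le hG hU L hL q X hXq hX1 hNX
      with hqL | hqL
    · obtain ⟨g, hTg, -⟩ := hZ0 M L hM hL p q hpq hpL hpβ hqM hqL T hT hTL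
      exact hTnc (hcyc g T hT hTg)
    · obtain ⟨hbot, E, hE, hEM⟩ :=
        hKB M L hM hL hne q hqM hqL S hSyl.isPGroup hSM hSyl.le hSyl.not_dvd
      by_cases hpL' : p ∈ sigma L
      · have hPσ : P ≤ sigmaCore L :=
          Cfsg.Agent.Lib.Helper54.le_sigmaCore_of_isPi hG hU L hL (hPT.trans hTL)
            (fun t ht htd => by
              rw [prime_eq_of_dvd_card_isPGroup hPp ht htd]; exact hpL')
        have h1 : P ≤ sigmaCore L ⊓ M := le_inf hPσ hPM
        rw [hbot] at h1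
        exact ne_bot_of_card_eq_prime hp hP (le_bot_iff.mp h1)
      · obtain ⟨l, -, hle⟩ := hCONJ L hL E hE p hpL' T hT hTL
        have h1 : IsCyclic ↥(MulAut.conj l • T) :=
          hcyc1 _ (Cfsg.Agent.Lib.Helper54.isPGroup_conj_smul hT l) (hle.trans hEM)
        apply hTnc
        exact isCyclic_of_surjective (Subgroup.equivSMul (MulAut.conj l) T).symm
          (MulEquiv.surjective _)

/-- module NAg2 of #2416, with KB, CONJ, Z0 as hypotheses -/
theorem nonalpha_cyclic_of [Finite G] (hKB : KBStmt G) (hCONJ : CONJStmt G) (hZ0 : Z0Stmt G)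
    (hG : IsMinSimpleOddOrder G) (hU : UniquenessThm G) (h1424 : H1424 G)
    (M L : Subgroup G) (hM : IsCoatom M) (hL : IsCoatom L) (p q : ℕ) [Fact p.Prime] [Fact q.Prime]
    (hpM : p ∈ tau1 M) (hqM : q ∈ sigma M) (X : Subgroup G) (hXM : X ≤ M) (hX : Nat.card X = q)
    (hNX : Subgroup.normalizer (X : Set G) ≤ L) (T : Sylow p G)
    (hTc : IsCyclic ↥(T : Subgroup G)) (hTL : (T : Subgroup G) ≤ L) (P : Subgroup G)
    (hPT : P ≤ (T : Subgroup G)) (hPM : P ≤ M) (hP : Nat.card P = p) (y : G)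
    (hyT : y ∈ Subgroup.normalizer ((T : Subgroup G) : Set G)) (hyL : y ∈ L)
    (hyP : y ∉ Subgroup.centralizer (P : Set G)) : False := by
  have hp : p.Prime := Fact.out
  have hq : q.Prime := Fact.out
  have hyNP : y ∈ Subgroup.normalizer (P : Set G) :=
    Cfsg.Agent.Lib.Helper54.normalizer_le_normalizer_of_isCyclic hTc T.isPGroup' hPT hyT
  have hPp : IsPGroup p P := isPGroup_of_card_eq hP
  have hP1 : P ≠ ⊥ := ne_bot_of_card_eq_prime hp hP
  by_cases hne : L = M
  · subst hne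
    exact hyP (tau1_normalizer_inf_le_centralizer hpM hPM hP ⟨hyL, hyNP⟩)
  · have hXq : IsPGroup q X := isPGroup_of_card_eq hX
    have hX1 : X ≠ ⊥ := ne_bot_of_card_eq_prime hq hX
    obtain ⟨S, -, hSM, hSyl, -⟩ :=
      exists_sylIn_of_normalizer_le h1424 M L hM hL hne q hqM X hXq hX1 hXM hNX
    have hPL : P ≤ L := hPT.trans hTL
    have hpL : p ∣ Nat.card L := by
      have h1 : p ∣ Nat.card P := by rw [hP]
      exact h1.trans (Subgroup.card_dvd_of_le hPL)
    have hpq : p ≠ q := fun h => hpM.2.1 (h ▸ hqM)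
    have hpβ : p ∉ beta L := by
      intro h
      apply h.1.2
      have h1 : PRankLE p 1 G :=
        Cfsg.Agent.Lib.Helper54.pRankLE_of_sylow T
          (Cfsg.Agent.Lib.Helper24.pRankLE_one_of_isCyclic p hp.pos hTc)
      exact Cfsg.Agent.Lib.Helper54.pRankLE_mono_right hp.pos (by norm_num)
        (Cfsg.Agent.Lib.Helper54.pRankLE_of_injective L.subtype L.subtype_injective h1)
    rcases Cfsg.Agent.Lib.Helper54.mem_sigma_or_tau2_of_normalizer_le hG hU L hL q X hXq hX1 hNX
      with hqL | hqL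
    · obtain ⟨g, hTg, hy'⟩ :=
        hZ0 M L hM hL p q hpq hpL hpβ hqM hqL (T : Subgroup G) T.isPGroup' hTL
      obtain ⟨c, hc, hcy⟩ := hy' y hyL hyT
      have hcP : c ∈ Subgroup.centralizer (P : Set G) :=
        Subgroup.centralizer_le (by exact_mod_cast hPT) hc
      have h1 : c⁻¹ * y ∈ Subgroup.normalizer (P : Set G) :=
        mul_mem (inv_mem (Subgroup.centralizer_le_normalizer _ hcP)) hyNP
      have h2 : c⁻¹ * y ∈ Subgroup.centralizer (P : Set G) :=
        tau1_normalizer_inf_le_centralizer (tau1_conj_smul_aux hpM g) (hPT.trans hTg) hP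
          ⟨hcy, h1⟩
      apply hyP
      have e : y = c * (c⁻¹ * y) := by group
      rw [e]
      exact mul_mem hcP h2
    · obtain ⟨hbot, E, hE, hEM⟩ :=
        hKB M L hM hL hne q hqM hqL S hSyl.isPGroup hSM hSyl.le hSyl.not_dvd
      have hpL' : p ∉ sigma L := by
        intro hpL'
        have hPσ : P ≤ sigmaCore L :=
          Cfsg.Agent.Lib.Helper54.le_sigmaCore_of_isPi hG hU L hL hPL
            (fun t ht htd => by
              rw [prime_eq_of_dvd_card_isPGroup hPp ht htd]; exact hpL')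
        have h1 : P ≤ sigmaCore L ⊓ M := le_inf hPσ hPM
        rw [hbot] at h1
        exact hP1 (le_bot_iff.mp h1)
      obtain ⟨l, hl, hle⟩ := hCONJ L hL E hE p hpL' P hPp hPL
      obtain ⟨hEL, hσL, hEσ, hfac⟩ := hE
      have hy'L : l * y * l⁻¹ ∈ L := mul_mem (mul_mem hl hyL) (inv_mem hl)
      obtain ⟨e, he, s, hs, hes⟩ := hfac _ hy'L
      -- `y' = l y l⁻¹` normalizes `P' = l P l⁻¹`
      have hy'N : l * y * l⁻¹ ∈ Subgroup.normalizer ((MulAut.conj l • P : Subgroup G) : Set G) := by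
        rw [Cfsg.Agent.Lib.Helper54.normalizer_conj_smul]
        exact Cfsg.Agent.Lib.Helper54.conj_mem_conj_smul hyNP
      have hn := Cfsg.Agent.Lib.Helper54.le_normalizer_sigmaCore L
      -- `e` acts on `P'` as `y'` does
      have key : ∀ x ∈ MulAut.conj l • P,
          (l * y * l⁻¹) * x * (l * y * l⁻¹)⁻¹ = e * x * e⁻¹ := by
        intro x hx
        have hxE : x ∈ E := hle hx
        have hxL : x ∈ L := hEL hxE
        have h1 : (l * y * l⁻¹) * x * (l * y * l⁻¹)⁻¹ ∈ E :=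
          hle ((Subgroup.mem_normalizer_iff.mp hy'N x).mp hx)
        have h2 : e * x * e⁻¹ ∈ E := mul_mem (mul_mem he hxE) (inv_mem he)
        have h3 : (l * y * l⁻¹) * x * (l * y * l⁻¹)⁻¹ * (e * x * e⁻¹)⁻¹ ∈ sigmaCore L := by
          rw [hes]
          have e1 : e * s * x * (e * s)⁻¹ * (e * x * e⁻¹)⁻¹ = e * (s * (x * s⁻¹ * x⁻¹)) * e⁻¹ := by
            group
          rw [e1]
          have hs' : s⁻¹ ∈ sigmaCore L := inv_mem hs
          have h5 : x * s⁻¹ * x⁻¹ ∈ sigmaCore L :=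
            (Subgroup.mem_normalizer_iff.mp (hn hxL) s⁻¹).mp hs'
          have h6 : s * (x * s⁻¹ * x⁻¹) ∈ sigmaCore L := mul_mem hs h5
          exact (Subgroup.mem_normalizer_iff.mp (hn (hEL he)) _).mp h6
        have h4 : (l * y * l⁻¹) * x * (l * y * l⁻¹)⁻¹ * (e * x * e⁻¹)⁻¹ ∈ E ⊓ sigmaCore L :=
          Subgroup.mem_inf.mpr ⟨E.mul_mem h1 (E.inv_mem h2), h3⟩
        rw [hEσ, Subgroup.mem_bot] at h4
        exact mul_inv_eq_one.mp h4
      -- `e` normalizes `P'`
      have heN : e ∈ Subgroup.normalizer ((MulAut.conj l • P : Subgroup G) : Set G) := by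
        rw [Cfsg.Agent.Lib.Helper54.mem_normalizer_iff_conj_smul]
        apply Subgroup.eq_of_le_of_card_ge
        · intro z hz
          rw [Cfsg.Agent.Lib.Helper54.mem_conj_smul_iff] at hz
          have h1 := key _ hz
          have h2 : e * (e⁻¹ * z * e) * e⁻¹ = z := by group
          rw [h2] at h1
          rw [← h1]
          exact (Subgroup.mem_normalizer_iff.mp hy'N _).mp hz
        · rw [Cfsg.Agent.Lib.Helper54.card_conj_smul e]
      have hP'c : Nat.card (MulAut.conj l • P : Subgroup G) = p := by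
        rw [Cfsg.Agent.Lib.Helper54.card_conj_smul, hP]
      have heC : e ∈ Subgroup.centralizer ((MulAut.conj l • P : Subgroup G) : Set G) :=
        tau1_normalizer_inf_le_centralizer hpM (hle.trans hEM) hP'c ⟨hEM he, heN⟩
      apply hyP
      rw [Subgroup.mem_centralizer_iff]
      intro x hx
      have hx' : l * x * l⁻¹ ∈ MulAut.conj l • P :=
        Cfsg.Agent.Lib.Helper54.conj_mem_conj_smul hx
      have h1 := key _ hx'
      have h2 : (l * x * l⁻¹) * e = e * (l * x * l⁻¹) :=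
        Subgroup.mem_centralizer_iff.mp heC _ hx'
      have h3 : e * (l * x * l⁻¹) * e⁻¹ = l * x * l⁻¹ := by
        rw [← h2, mul_inv_cancel_right]
      rw [h3] at h1
      -- `l y l⁻¹ (l x l⁻¹) (l y l⁻¹)⁻¹ = l x l⁻¹`
      have h4 : l * (y * x * y⁻¹) * l⁻¹ = l * x * l⁻¹ := by
        rw [← h1]; group
      have h5 : y * x * y⁻¹ = x := by
        have := mul_left_cancel (mul_right_cancel h4)
        exact this
      calc x * y = (y * x * y⁻¹) * y := by rw [h5]
        _ = y * x := by group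

end Cfsg.Agent.Lib.Helper85.BG13NA
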