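import Mathlib
import Cfsg.Agent.Lib.Helper42.ClBN.Defs
import Cfsg.Agent.Lib.Helper42.ClBN.Descent
import Cfsg.Agent.Lib.Helper5.BNStRes

/-!
# CLBN-[LONG]: the longest element of the descended (B,N)-pair
-/

set_option autoImplicit false

namespace Cfsg.Agent.Lib.Helper42.ClBN

open Matrix Cfsg Cfsg.Agent.Lib.Helper5.GLU Cfsg.Agent.Lib.Helper6 Cfsg.Agent.Lib.Helper5.BNSt
  Cfsg.Agent.Lib.Helper5.CoxEx
open scoped MatrixGroups

universe u

variable {n : ℕ} {F : Type u} [Field F]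

namespace LongAux

/-- entries of a conjugate by a monomial matrix -/
lemma mono_conj_apply {m : GL (Fin n) F} {w : Equiv.Perm (Fin n)} (hm : IsMono m w)
    (X : GL (Fin n) F) (a b : Fin n) :
    ((m⁻¹ * X * m : GL (Fin n) F) : Matrix (Fin n) (Fin n) F) a b
      = ((m⁻¹ : GL (Fin n) F) : Matrix (Fin n) (Fin n) F) a (w a)
        * (X : Matrix (Fin n) (Fin n) F) (w a) (w b) * (m : Matrix (Fin n) (Fin n) F) (w b) b := by
  rw [Units.val_mul, Matrix.mul_apply, Finset.sum_eq_single (w b)]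
  · congr 1
    rw [Units.val_mul, Matrix.mul_apply, Finset.sum_eq_single (w a)]
    · intro i _ hi
      have h1 := hm.inv a i (by
        intro h
        apply hi
        rw [h]
        exact (w.apply_symm_apply i).symm)
      rw [h1, zero_mul]
    · intro h; exact absurd (Finset.mem_univ _) h
  · intro j _ hj
    rw [hm j b hj, mul_zero]
  · intro h; exact absurd (Finset.mem_univ _) h

lemma mono_inv_mul_entry {m : GL (Fin n) F} {w : Equiv.Perm (Fin n)} (hm : IsMono m w) (a : Fin n) :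
    ((m⁻¹ : GL (Fin n) F) : Matrix (Fin n) (Fin n) F) a (w a)
      * (m : Matrix (Fin n) (Fin n) F) (w a) a = 1 := by
  have h1 : ((m⁻¹ * m : GL (Fin n) F) : Matrix (Fin n) (Fin n) F) a a = 1 := by simp
  rw [Units.val_mul, Matrix.mul_apply, Finset.sum_eq_single (w a)] at h1
  · exact h1
  · intro i _ hi
    rw [hm i a hi, mul_zero]
  · intro h; exact absurd (Finset.mem_univ _) h

end LongAux

open LongAux

/-- conjugation by a monomial matrix with the order reversing permutation swaps upper and lower -/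
theorem rev_conj_mem_Bor {n₀ : GL (Fin n) F} (h₀ : IsMono n₀ Fin.revPerm) {b : GL (Fin n) F}
    (hb : b ∈ Bor n F) : n₀⁻¹ * b * n₀ ∈ Bor n F ↔ b ∈ Tor n F := by
  constructor
  · intro h
    rw [mem_Tor]
    intro i j hij
    rcases lt_or_gt_of_ne hij with hlt | hgt
    · -- `i < j`: use the conjugate at `(rev i, rev j)`
      have h1 := mem_Bor.1 h (Fin.rev i) (Fin.rev j) (Fin.rev_lt_rev.2 hlt)
      rw [mono_conj_apply h₀] at h1
      simp only [Fin.revPerm_apply, Fin.rev_rev] at h1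
      have h2 := mono_inv_mul_entry h₀ (Fin.rev i)
      simp only [Fin.revPerm_apply, Fin.rev_rev] at h2
      have h3 := h₀.entry_ne_zero (Fin.rev j)
      simp only [Fin.revPerm_apply, Fin.rev_rev] at h3
      have h4 := left_ne_zero_of_mul_eq_one h2
      rcases mul_eq_zero.1 h1 with h5 | h5
      · rcases mul_eq_zero.1 h5 with h6 | h6
        · exact absurd h6 h4
        · exact h6
      · exact absurd h5 h3
    · exact mem_Bor.1 hb i j hgt
  · intro h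
    rw [mem_Tor] at h
    rw [mem_Bor]
    intro a c hca
    rw [mono_conj_apply h₀]
    have hne : (Fin.revPerm a : Fin n) ≠ Fin.revPerm c := by
      intro he
      exact (ne_of_gt hca) (Fin.revPerm.injective he)
    rw [h _ _ hne, mul_zero, zero_mul]

theorem rev_conj_Low {n₀ : GL (Fin n) F} (h₀ : IsMono n₀ Fin.revPerm) {v : GL (Fin n) F}
    (hv : v ∈ Low n F) : n₀⁻¹ * v * n₀ ∈ Uni n F := by
  rw [mem_Low] at hv
  rw [mem_Uni]
  constructor
  · intro a c hca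
    rw [mono_conj_apply h₀]
    have hlt : (Fin.revPerm a : Fin n) < Fin.revPerm c := by
      simp only [Fin.revPerm_apply]
      exact Fin.rev_lt_rev.2 hca
    rw [hv.1 _ _ hlt, mul_zero, zero_mul]
  · intro a
    rw [mono_conj_apply h₀, hv.2, mul_one]
    exact mono_inv_mul_entry h₀ a

theorem isLongest_twist {P : Cfsg.BNPair (GL (Fin n) F)} (hB : P.B = Bor n F) (hN : P.N = Mon n F)
    {G₁ : Subgroup (GL (Fin n) F)} {S₁ : Set (GL (Fin n) F)} {wd : GL (Fin n) F → List (GL (Fin n) F)}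
    (hS : Sharp P (Uni n F) (Low n F)) (hT : Twist P (Uni n F) (Low n F) G₁ S₁ wd)
    {n₀ : GL (Fin n) F} (hn₀ : n₀ ∈ G₁) (h₀ : IsMono n₀ Fin.revPerm)
    (hbig : ∀ s ∈ S₁, ∃ x ∈ Uni n F ⊓ G₁, ∃ b ∈ Bor n F, ∃ v ∈ Low n F, s * x = b * v) :
    IsLongest (SW (Twist.bnPair hS hT)) (clG (Twist.bnPair hS hT) ⟨n₀, hn₀⟩) := by
  have hn₀N : n₀ ∈ P.N := by rw [hN]; exact ⟨Fin.revPerm, h₀⟩
  have hn₀N₁ : (⟨n₀, hn₀⟩ : ↥G₁) ∈ (Twist.bnPair hS hT).N :=
    Subgroup.mem_subgroupOf.2 ⟨hn₀N, hn₀⟩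
  apply isLongest_of_inDC (Twist.bnPair hS hT) hn₀N₁
  intro s hs
  have hs₁ : (s : GL (Fin n) F) ∈ S₁ := hs
  obtain ⟨x, hx, b, hb, v, hv, e⟩ := hbig _ hs₁
  have hxB : x ∈ P.B := by rw [hB]; exact Uni_le_Bor hx.1
  refine ⟨⟨x, hx.2⟩, Subgroup.mem_subgroupOf.2 ⟨hxB, hx.2⟩, ?_⟩
  have hg : (s : GL (Fin n) F) * x * n₀ ∈ G₁ := G₁.mul_mem (G₁.mul_mem s.2 hx.2) hn₀
  have hdc : InDC P n₀ ((s : GL (Fin n) F) * x * n₀) := by
    refine ⟨b, by rw [hB]; exact hb, n₀⁻¹ * v * n₀, ?_, ?_⟩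
    · rw [hB]; exact Uni_le_Bor (rev_conj_Low h₀ hv)
    · rw [e]; group
  obtain ⟨b₁, hb₁, b₂, hb₂, e'⟩ := Twist.inDC_descend hS hT hg ⟨hn₀N, hn₀⟩ hdc
  exact ⟨⟨b₁, hb₁.2⟩, Subgroup.mem_subgroupOf.2 hb₁, ⟨b₂, hb₂.2⟩, Subgroup.mem_subgroupOf.2 hb₂,
    Subtype.ext (by simpa using e')⟩

end Cfsg.Agent.Lib.Helper42.ClBN
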