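import Mathlib
import Cfsg.Agent.Lib.Helper42.ClBN.Defs
import Cfsg.Agent.Lib.Helper6.BNBruhat

/-!
# CLBN-[SHARP]: sharp Bruhat form in `GL_n` over a finite field
-/

set_option autoImplicit false

namespace Cfsg.Agent.Lib.Helper42.ClBN

open Matrix Cfsg Cfsg.Agent.Lib.Helper5.GLU Cfsg.Agent.Lib.Helper6
open scoped MatrixGroups

universe u

variable {n : ℕ} {F : Type u} [Field F]

namespace SharpAux

lemma eq_one_of_entries {g : GL (Fin n) F}
    (h1 : ∀ i j : Fin n, i ≠ j → (g : Matrix (Fin n) (Fin n) F) i j = 0)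
    (h2 : ∀ i, (g : Matrix (Fin n) (Fin n) F) i i = 1) : g = 1 := by
  apply Units.ext
  ext i j
  by_cases hij : i = j
  · subst hij
    rw [h2]; simp
  · rw [h1 i j hij]; simp [Matrix.one_apply_ne hij]

lemma perm_eq_self_of_le (w : Equiv.Perm (Fin n)) (h : ∀ j, w j ≤ j) : ∀ j, w j = j := by
  suffices H : ∀ k : ℕ, ∀ j : Fin n, j.val = k → w j = j from fun j => H j.val j rfl
  intro k
  induction k using Nat.strong_induction_on with
  | _ k ih =>
    intro j hj
    rcases lt_or_eq_of_le (h j) with hlt | heq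
    · exfalso
      have h1 : w (w j) = w j := ih (w j).val (by rw [← hj]; exact hlt) (w j) rfl
      have h2 : w j = j := w.injective h1
      rw [h2] at hlt
      exact lt_irrefl _ hlt
    · exact heq

/-- upper triangular and monomial implies lower triangular (i.e. diagonal) -/
lemma mem_BorL_of_Bor_of_mono {g : GL (Fin n) F} (hg : g ∈ Bor n F) {w : Equiv.Perm (Fin n)}
    (hw : IsMono g w) : g ∈ BorL n F := by
  have hle : ∀ j, w j ≤ j := by
    intro j
    by_contra hcon
    exact hw.entry_ne_zero j (mem_Bor.1 hg (w j) j (not_le.mp hcon))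
  have hid := perm_eq_self_of_le w hle
  rw [mem_BorL]
  intro i j hij
  apply hw i j
  rw [hid j]
  exact ne_of_lt hij

/-- weight of a row: zeros in early columns weigh more than all later columns together -/
noncomputable def rowW (r : Fin n → F) : ℕ := by
  classical
  exact ∑ j, if r j = 0 then 2 ^ (Fin.rev j).val else 0

noncomputable def matW (M : Matrix (Fin n) (Fin n) F) : ℕ := ∑ i, rowW (M i)

lemma rowW_lt {r r' : Fin n → F} (c : Fin n) (h1 : ∀ j < c, r' j = r j) (h2 : r c ≠ 0)
    (h3 : r' c = 0) : rowW r < rowW r' := by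
  classical
  unfold rowW
  rw [← Finset.sum_filter_add_sum_filter_not Finset.univ (fun j => j < c)
      (fun j => if r j = 0 then 2 ^ (Fin.rev j).val else 0),
    ← Finset.sum_filter_add_sum_filter_not Finset.univ (fun j => j < c)
      (fun j => if r' j = 0 then 2 ^ (Fin.rev j).val else 0)]
  have e1 : ∑ j ∈ Finset.univ.filter (fun j => j < c), (if r' j = 0 then 2 ^ (Fin.rev j).val else 0)
      = ∑ j ∈ Finset.univ.filter (fun j => j < c), (if r j = 0 then 2 ^ (Fin.rev j).val else 0) := by
    apply Finset.sum_congr rfl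
    intro j hj
    rw [Finset.mem_filter] at hj
    rw [h1 j hj.2]
  rw [e1]
  apply Nat.add_lt_add_left
  have hlt : ∑ j ∈ Finset.univ.filter (fun j => ¬ j < c),
      (if r j = 0 then 2 ^ (Fin.rev j).val else 0) < 2 ^ (Fin.rev c).val := by
    calc ∑ j ∈ Finset.univ.filter (fun j => ¬ j < c), (if r j = 0 then 2 ^ (Fin.rev j).val else 0)
        ≤ ∑ j ∈ Finset.univ.filter (fun j => c < j), (if r j = 0 then 2 ^ (Fin.rev j).val else 0) := by
          apply Finset.sum_le_sum_of_ne_zero
          intro x hx hne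
          rw [Finset.mem_filter] at hx ⊢
          refine ⟨Finset.mem_univ _, ?_⟩
          rcases lt_or_eq_of_le (not_lt.mp hx.2) with h | h
          · exact h
          · exfalso
            rw [← h, if_neg h2] at hne
            exact hne rfl
      _ ≤ ∑ j ∈ Finset.univ.filter (fun j => c < j), 2 ^ (Fin.rev j).val := by
          apply Finset.sum_le_sum
          intro j _
          split_ifs
          · exact le_rfl
          · exact Nat.zero_le _
      _ = ∑ k ∈ (Finset.univ.filter (fun j => c < j)).image (fun j => (Fin.rev j).val), 2 ^ k := by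
          rw [Finset.sum_image]
          intro a _ b _ hab
          exact Fin.rev_injective (Fin.ext hab)
      _ < 2 ^ (Fin.rev c).val := by
          apply Nat.geomSum_lt le_rfl
          intro k hk
          rw [Finset.mem_image] at hk
          obtain ⟨j, hj, rfl⟩ := hk
          rw [Finset.mem_filter] at hj
          exact Fin.rev_lt_rev.2 hj.2
  have hge : 2 ^ (Fin.rev c).val ≤ ∑ j ∈ Finset.univ.filter (fun j => ¬ j < c),
      (if r' j = 0 then 2 ^ (Fin.rev j).val else 0) := by
    have hc : c ∈ Finset.univ.filter (fun j => ¬ j < c) := by simp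
    calc 2 ^ (Fin.rev c).val = (if r' c = 0 then 2 ^ (Fin.rev c).val else 0) := by rw [if_pos h3]
      _ ≤ _ := Finset.single_le_sum
          (f := fun j => if r' j = 0 then 2 ^ (Fin.rev j).val else 0) (fun _ _ => Nat.zero_le _) hc
  exact lt_of_lt_of_le hlt hge

/-- clearing the entry `(i, c)` with the row `k` whose leading entry is in column `c` -/
lemma matW_lt (M : Matrix (Fin n) (Fin n) F) (i k c : Fin n) (hik : i ≠ k)
    (hi : M i c ≠ 0) (hk : M k c ≠ 0) (hz : ∀ j < c, M k j = 0) :
    matW M < matW (transvection i k (-(M i c / M k c)) * M) := by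
  classical
  unfold matW
  apply Finset.sum_lt_sum
  · intro a _
    by_cases ha : a = i
    · subst ha
      apply le_of_lt
      apply rowW_lt c
      · intro j hj
        rw [transvection_mul_apply_same, hz j hj]; ring
      · exact hi
      · rw [transvection_mul_apply_same]
        field_simp
        ring
    · apply le_of_eq
      congr 1
      funext b
      rw [transvection_mul_apply_of_ne _ _ _ _ ha]
  · refine ⟨i, Finset.mem_univ _, ?_⟩
    apply rowW_lt c
    · intro j hj
      rw [transvection_mul_apply_same, hz j hj]; ring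
    · exact hi
    · rw [transvection_mul_apply_same]
      field_simp
      ring

lemma transvection_mem_Uni (i k : Fin n) (hik : i < k) (t : F) :
    ∃ u ∈ Uni n F, ((u : GL (Fin n) F) : Matrix (Fin n) (Fin n) F) = transvection i k t := by
  refine ⟨Matrix.GeneralLinearGroup.mkOfDetNeZero (transvection i k t)
    (by rw [det_transvection_of_ne _ _ (ne_of_lt hik)]; exact one_ne_zero), ?_, rfl⟩
  rw [mem_Uni]
  constructor
  · intro a b hab
    show (transvection i k t) a b = 0
    rw [transvection, Matrix.add_apply, Matrix.one_apply_ne (ne_of_gt hab), zero_add,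
      Matrix.single_apply]
    rw [if_neg]
    rintro ⟨rfl, rfl⟩
    exact absurd hik (not_lt.mpr (le_of_lt hab))
  · intro a
    show (transvection i k t) a a = 1
    rw [transvection, Matrix.add_apply, Matrix.one_apply_eq, Matrix.single_apply, if_neg, add_zero]
    rintro ⟨rfl, rfl⟩
    exact lt_irrefl _ hik

/-- diagonal matrices as elements of `GL` -/
def diagGL (d : Fin n → Fˣ) : GL (Fin n) F where
  val := Matrix.diagonal (fun i => (d i : F))
  inv := Matrix.diagonal (fun i => ((d i)⁻¹ : Fˣ))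
  val_inv := by
    rw [Matrix.diagonal_mul_diagonal]
    simp
  inv_val := by
    rw [Matrix.diagonal_mul_diagonal]
    simp

lemma diagGL_val (d : Fin n → Fˣ) :
    ((diagGL d : GL (Fin n) F) : Matrix (Fin n) (Fin n) F) = Matrix.diagonal (fun i => (d i : F)) := rfl

lemma diagGL_inv_val (d : Fin n → Fˣ) :
    (((diagGL d)⁻¹ : GL (Fin n) F) : Matrix (Fin n) (Fin n) F)
      = Matrix.diagonal (fun i => (((d i)⁻¹ : Fˣ) : F)) := rfl

lemma isMono_diagGL (d : Fin n → Fˣ) : IsMono (diagGL d) 1 := by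
  intro i j hij
  rw [diagGL_val]
  exact Matrix.diagonal_apply_ne _ hij

lemma permGL_mul_apply (w : Equiv.Perm (Fin n)) (X : Matrix (Fin n) (Fin n) F) (i b : Fin n) :
    (((permGL (F := F) w : GL (Fin n) F) : Matrix (Fin n) (Fin n) F) * X) (w i) b = X i b := by
  rw [Matrix.mul_apply, Finset.sum_eq_single i]
  · rw [permGL_apply, if_pos rfl, one_mul]
  · intro x _ hx
    rw [permGL_apply, if_neg, zero_mul]
    intro h
    exact hx (w.injective h).symm
  · intro h; exact absurd (Finset.mem_univ _) h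

lemma mul_permGL_apply (w : Equiv.Perm (Fin n)) (X : Matrix (Fin n) (Fin n) F) (a j : Fin n) :
    (X * ((permGL (F := F) w : GL (Fin n) F) : Matrix (Fin n) (Fin n) F)) a j = X a (w j) := by
  rw [Matrix.mul_apply, Finset.sum_eq_single (w j)]
  · rw [permGL_apply, if_pos rfl, mul_one]
  · intro x _ hx
    rw [permGL_apply, if_neg hx, mul_zero]
  · intro h; exact absurd (Finset.mem_univ _) h

/-- existence of the sharp form -/
theorem sharp_ex [Finite F] (g : GL (Fin n) F) :
    ∃ u ∈ Uni n F, ∃ m ∈ Mon n F, ∃ v ∈ Uni n F, m * v * m⁻¹ ∈ Low n F ∧ g = u * m * v := by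
  classical
  have : Finite (Matrix (Fin n) (Fin n) F) := inferInstance
  have : Finite (GL (Fin n) F) :=
    Finite.of_injective (fun g : GL (Fin n) F => (g : Matrix (Fin n) (Fin n) F))
      (fun a b hab => Units.ext hab)
  obtain ⟨u₀, hu₀⟩ := Finite.exists_max
    (fun u : Uni n F => matW (((u : GL (Fin n) F) * g : GL (Fin n) F) : Matrix (Fin n) (Fin n) F))
  set h : GL (Fin n) F := (u₀ : GL (Fin n) F) * g with hh
  set H : Matrix (Fin n) (Fin n) F := (h : Matrix (Fin n) (Fin n) F) with hH
  have hunit : IsUnit H.det := by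
    rw [← Matrix.isUnit_iff_isUnit_det]
    exact h.isUnit
  have hrow : ∀ i, H i ≠ 0 := by
    intro i hi
    have := Matrix.det_eq_zero_of_row_eq_zero (A := H) i (fun j => congrFun hi j)
    rw [this] at hunit
    exact not_isUnit_zero hunit
  choose π hπ1 hπ2 using fun i => exists_first_nonzero (H i) (hrow i)
  -- key property
  have key : ∀ i k, i < k → H i (π k) = 0 := by
    intro i k hik
    by_contra hne
    obtain ⟨x, hx, hxm⟩ := transvection_mem_Uni (F := F) i k hik (-(H i (π k) / H k (π k)))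
    have hlt := matW_lt H i k (π k) (ne_of_lt hik) hne (hπ1 k) (hπ2 k)
    have hle := hu₀ ⟨x * u₀, Subgroup.mul_mem _ hx u₀.2⟩
    simp only at hle
    have e : (((x * (u₀ : GL (Fin n) F)) * g : GL (Fin n) F) : Matrix (Fin n) (Fin n) F) =
        transvection i k (-(H i (π k) / H k (π k))) * H := by
      rw [mul_assoc, Units.val_mul, hxm]
    rw [e] at hle
    exact absurd hlt (not_lt.mpr hle)
  have hinj : Function.Injective π := by
    intro i k hpi
    by_contra hne
    rcases lt_or_gt_of_ne hne with hlt | hgt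
    · exact hπ1 i (by rw [hpi]; exact key i k hlt)
    · exact hπ1 k (by rw [← hpi]; exact key k i hgt)
  let σ : Equiv.Perm (Fin n) := Equiv.ofBijective π (Finite.injective_iff_bijective.mp hinj)
  have hσ : ∀ i, σ i = π i := fun i => rfl
  let d : Fin n → Fˣ := fun i => Units.mk0 (H i (π i)) (hπ1 i)
  have hd : ∀ i, ((d i : Fˣ) : F) = H i (π i) := fun i => rfl
  have hdinv : ∀ i, (((d i)⁻¹ : Fˣ) : F) = (H i (π i))⁻¹ := fun i => by
    rw [Units.val_inv_eq_inv_val, hd]
  set m : GL (Fin n) F := diagGL d * permGL σ⁻¹ with hm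
  have hminv : m⁻¹ = permGL σ * (diagGL d)⁻¹ := by
    rw [hm, _root_.mul_inv_rev, map_inv, inv_inv]
  have hmono : IsMono m σ⁻¹ := by
    have := (isMono_diagGL d).mul (isMono_permGL (F := F) σ⁻¹)
    rwa [one_mul] at this
  -- entries of `v = m⁻¹ * h`
  have hv : ∀ i b, ((m⁻¹ * h : GL (Fin n) F) : Matrix (Fin n) (Fin n) F) (σ i) b
      = (H i (π i))⁻¹ * H i b := by
    intro i b
    rw [hminv, mul_assoc, Units.val_mul, permGL_mul_apply, Units.val_mul, diagGL_inv_val,
      Matrix.diagonal_mul, hdinv]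
  -- entries of `h * m⁻¹`
  have hx : ∀ a j, ((h * m⁻¹ : GL (Fin n) F) : Matrix (Fin n) (Fin n) F) a j
      = H a (π j) * (H j (π j))⁻¹ := by
    intro a j
    rw [hminv, ← mul_assoc, Units.val_mul, diagGL_inv_val, Matrix.mul_diagonal, Units.val_mul,
      mul_permGL_apply, hdinv, hσ]
  refine ⟨(u₀ : GL (Fin n) F)⁻¹, (Uni n F).inv_mem u₀.2, m, ⟨σ⁻¹, hmono⟩, m⁻¹ * h, ?_, ?_, ?_⟩
  · rw [mem_Uni]
    constructor
    · intro a b hab
      obtain ⟨i, rfl⟩ := σ.surjective a
      rw [hv, hπ2 i b (by rw [← hσ]; exact hab), mul_zero]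
    · intro a
      obtain ⟨i, rfl⟩ := σ.surjective a
      rw [hv, hσ, inv_mul_cancel₀ (hπ1 i)]
  · have e : m * (m⁻¹ * h) * m⁻¹ = h * m⁻¹ := by group
    rw [e, mem_Low]
    constructor
    · intro a j haj
      rw [hx, key a j haj, zero_mul]
    · intro a
      rw [hx, mul_inv_cancel₀ (hπ1 a)]
  · rw [hh]; group

end SharpAux

open SharpAux

theorem Uni_inf_Mon : Uni n F ⊓ Mon n F = ⊥ := by
  rw [eq_bot_iff]
  rintro g ⟨hU, w, hw⟩
  rw [Subgroup.mem_bot]
  have hU' := mem_Uni.1 hU
  have hw1 : ∀ j, w j = j := by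
    intro j
    by_contra hne
    have := hw j j (fun h => hne h.symm)
    rw [hU'.2 j] at this
    exact one_ne_zero this
  apply eq_one_of_entries
  · intro i j hij
    apply hw i j
    rw [hw1 j]; exact hij
  · exact hU'.2

theorem Uni_inf_BorL : Uni n F ⊓ BorL n F = ⊥ := by
  rw [eq_bot_iff]
  rintro g ⟨hU, hL⟩
  rw [Subgroup.mem_bot]
  have hU' := mem_Uni.1 hU
  have hL' := mem_BorL.1 hL
  apply eq_one_of_entries
  · intro i j hij
    rcases lt_or_gt_of_ne hij with h | h
    · exact hL' i j h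
    · exact hU'.1 i j h
  · exact hU'.2

theorem sharp_GL [Finite F] (P : Cfsg.BNPair (GL (Fin n) F)) (hB : P.B = Bor n F) (hN : P.N = Mon n F) :
    Sharp P (Uni n F) (Low n F) := by
  refine ⟨?_, ?_, ?_⟩
  · rw [hB]; exact Uni_le_Bor
  · intro g
    obtain ⟨u, hu, m, hm, v, hv, h1, h2⟩ := sharp_ex g
    exact ⟨u, hu, m, hN ▸ hm, v, hv, h1, h2⟩
  · intro u hu m hm v hv hmv u' hu' m' hm' v' hv' hmv' e
    have hUB : Uni n F ≤ P.B := by rw [hB]; exact Uni_le_Bor
    have hdc : InDC P m m' := by
      refine ⟨u'⁻¹ * u, P.B.mul_mem (P.B.inv_mem (hUB hu')) (hUB hu), v * v'⁻¹,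
        P.B.mul_mem (hUB hv) (P.B.inv_mem (hUB hv')), ?_⟩
      have h0 : m' = u'⁻¹ * (u' * m' * v') * v'⁻¹ := by group
      rw [← e] at h0
      rw [h0]; group
    have hrel : m⁻¹ * m' ∈ P.B := bruhat_unique P hm hm' hdc
    have hc : m * (m⁻¹ * m') * m⁻¹ ∈ P.B :=
      P.conj_mem m hm (m⁻¹ * m') ⟨hrel, P.N.mul_mem (P.N.inv_mem hm) hm'⟩
    have hc' : m' * m⁻¹ ∈ Bor n F := by
      have e1 : m * (m⁻¹ * m') * m⁻¹ = m' * m⁻¹ := by group
      rw [e1, hB] at hc
      exact hc
    have hmon : m' * m⁻¹ ∈ Mon n F := by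
      rw [hN] at hm hm'
      exact (Mon n F).mul_mem hm' ((Mon n F).inv_mem hm)
    obtain ⟨w, hw⟩ := hmon
    have hL : m' * m⁻¹ ∈ BorL n F := mem_BorL_of_Bor_of_mono hc' hw
    have hx : u'⁻¹ * u = (m' * v' * m'⁻¹) * (m' * m⁻¹) * (m * v * m⁻¹)⁻¹ := by
      have h0 : u'⁻¹ * u = u'⁻¹ * (u * m * v) * v⁻¹ * m⁻¹ := by group
      rw [e] at h0
      rw [h0]; group
    have hxL : u'⁻¹ * u ∈ BorL n F := by
      rw [hx]
      exact (BorL n F).mul_mem ((BorL n F).mul_mem (Low_le_BorL hmv') hL)
        ((BorL n F).inv_mem (Low_le_BorL hmv))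
    have hxU : u'⁻¹ * u ∈ Uni n F := (Uni n F).mul_mem ((Uni n F).inv_mem hu') hu
    have hx1 : u'⁻¹ * u = 1 := by
      have : u'⁻¹ * u ∈ Uni n F ⊓ BorL n F := ⟨hxU, hxL⟩
      rw [Uni_inf_BorL] at this
      exact this
    have huu : u = u' := by
      have := inv_mul_eq_one.mp hx1
      exact this.symm
    subst huu
    have e2 : m * v = m' * v' := by
      have := e
      rw [mul_assoc, mul_assoc] at this
      exact mul_left_cancel this
    have hy : m'⁻¹ * m = v' * v⁻¹ := by
      have h0 : m'⁻¹ * m = m'⁻¹ * (m * v) * v⁻¹ := by group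
      rw [e2] at h0
      rw [h0]; group
    have hy1 : m'⁻¹ * m = 1 := by
      have h1 : m'⁻¹ * m ∈ Uni n F := by
        rw [hy]; exact (Uni n F).mul_mem hv' ((Uni n F).inv_mem hv)
      have h2 : m'⁻¹ * m ∈ Mon n F := by
        rw [hN] at hm hm'
        exact (Mon n F).mul_mem ((Mon n F).inv_mem hm') hm
      have : m'⁻¹ * m ∈ Uni n F ⊓ Mon n F := ⟨h1, h2⟩
      rw [Uni_inf_Mon] at this
      exact this
    have hmm : m = m' := by
      have := inv_mul_eq_one.mp hy1
      exact this.symm
    subst hmm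
    exact ⟨rfl, rfl, mul_left_cancel e2⟩

end Cfsg.Agent.Lib.Helper42.ClBN
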