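import Cfsg.Agent.Lib.Helper85.MarksBuild
import Cfsg.Agent.Lib.Helper85.SylowAux

/-!
# Stable `H`-sets (after Broto–Levi–Oliver and Reeh)

For a finite `p`-group `H`, a family `𝒦` of subgroups and an equivalence relation `rel` on it with
"fully normalized" representatives admitting transporters, we build a finite `H`-set with stabilizers in `𝒦`
whose fixed-point counts are constant on `rel`-classes, without scaling the top part.
-/

set_option autoImplicit false

namespace Cfsg.Agent.Lib.Helper85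

open MulAction

universe u

section Frobenius

variable {H : Type*} [Group H] {X : Type*} [MulAction H X]

/-- the `N`-invariant subset of `K`-fixed points, for `N` normalizing `K` -/
def fixedSub (K N : Subgroup H) (hN : N ≤ Subgroup.normalizer (K : Set H)) : SubMulAction N X where
  carrier := fixedPoints K X
  smul_mem' := by
    intro n x hx k
    have hk : (n : H)⁻¹ * (k : H) * (n : H) ∈ K := by
      have := (Subgroup.mem_normalizer_iff.1 (hN (N.inv_mem n.2))) (k : H)
      have h2 := this.1 k.2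
      simpa using h2
    have h1 : ((n : H)⁻¹ * (k : H) * (n : H)) • x = x := hx ⟨_, hk⟩
    change (k : H) • ((n : H) • x) = (n : H) • x
    calc (k : H) • ((n : H) • x) = (n : H) • (((n : H)⁻¹ * (k : H) * (n : H)) • x) := by
          simp only [smul_smul]; congr 1; group
      _ = (n : H) • x := by rw [h1]

theorem mem_fixedPoints_sup_zpowers (K : Subgroup H) (g : H) (x : X) :
    x ∈ fixedPoints (K ⊔ Subgroup.zpowers g : Subgroup H) X ↔ x ∈ fixedPoints K X ∧ g • x = x := by
  constructor
  · intro hx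
    refine ⟨fun k => hx ⟨k, (le_sup_left : K ≤ K ⊔ Subgroup.zpowers g) k.2⟩, ?_⟩
    exact hx ⟨g, (le_sup_right : Subgroup.zpowers g ≤ K ⊔ Subgroup.zpowers g) (Subgroup.mem_zpowers g)⟩
  · rintro ⟨hK, hg⟩
    have hle : K ⊔ Subgroup.zpowers g ≤ stabilizer H x := by
      refine sup_le (fun k hk => hK ⟨k, hk⟩) ?_
      rw [Subgroup.zpowers_le]
      exact hg
    exact fun k => hle k.2

/-- **Frobenius congruence**: for `K ≤ N ≤ N_H(K)`, `|N|` divides `∑_{g ∈ N} |X^{⟨K, g⟩}|`. -/
theorem card_dvd_sum_card_fixedPoints [Finite H] [Finite X] (K N : Subgroup H)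
    (hN : N ≤ Subgroup.normalizer (K : Set H)) [Fintype N] :
    Nat.card N ∣ ∑ g : N, Nat.card (fixedPoints (K ⊔ Subgroup.zpowers (g : H) : Subgroup H) X) := by
  classical
  have : Fintype (fixedSub (X := X) K N hN) := Fintype.ofFinite _
  have : ∀ g : N, Fintype (fixedBy (fixedSub (X := X) K N hN) g) := fun g => Fintype.ofFinite _
  have : Fintype (Quotient (orbitRel N (fixedSub (X := X) K N hN))) := Fintype.ofFinite _
  have hB := sum_card_fixedBy_eq_card_orbits_mul_card_group N (fixedSub (X := X) K N hN)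
  have hterm : ∀ g : N, Fintype.card (fixedBy (fixedSub (X := X) K N hN) g) =
      Nat.card (fixedPoints (K ⊔ Subgroup.zpowers (g : H) : Subgroup H) X) := by
    intro g
    rw [← Nat.card_eq_fintype_card]
    refine Nat.card_congr ⟨fun y => ⟨(y.1 : X), ?_⟩, fun x => ⟨⟨(x : X), ?_⟩, ?_⟩, fun y => ?_, fun x => ?_⟩
    · rw [mem_fixedPoints_sup_zpowers]
      refine ⟨y.1.2, ?_⟩
      have := y.2
      rw [mem_fixedBy] at this
      exact congrArg Subtype.val this
    · exact ((mem_fixedPoints_sup_zpowers K (g : H) (x : X)).1 x.2).1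
    · rw [mem_fixedBy]
      apply Subtype.ext
      exact ((mem_fixedPoints_sup_zpowers K (g : H) (x : X)).1 x.2).2
    · rfl
    · rfl
  rw [Finset.sum_congr rfl (fun g _ => (hterm g).symm), hB, Nat.card_eq_fintype_card]
  exact Dvd.intro_left _ rfl

end Frobenius

section Aux

variable {H : Type u} [Group H] [Finite H]

/-- `|N_H(K) : K|` -/
noncomputable def wcard (K : Subgroup H) : ℕ :=
  (K.subgroupOf (Subgroup.normalizer (K : Set H))).index

omit [Finite H] in
theorem card_mul_wcard (K : Subgroup H) :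
    Nat.card K * wcard K = Nat.card (Subgroup.normalizer (K : Set H)) := by
  unfold wcard
  rw [← Subgroup.card_mul_index (K.subgroupOf (Subgroup.normalizer (K : Set H)))]
  congr 1
  exact (Nat.card_congr (Subgroup.subgroupOfEquivOfLe Subgroup.le_normalizer).toEquiv).symm

theorem wcard_pos (K : Subgroup H) : 0 < wcard K := by
  have h1 := card_mul_wcard K
  have h2 : 0 < Nat.card (Subgroup.normalizer (K : Set H)) := Nat.card_pos
  rcases Nat.eq_zero_or_pos (wcard K) with h | h
  · rw [h, mul_zero] at h1; omega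
  · exact h

theorem wcard_map_conj (K : Subgroup H) (g : H) :
    wcard (K.map (MulAut.conj g).toMonoidHom) = wcard K := by
  have h1 := card_mul_wcard K
  have h2 := card_mul_wcard (K.map (MulAut.conj g).toMonoidHom)
  rw [normalizer_map_conj, card_map_conj_marks, card_map_conj_marks, ← h1] at h2
  exact Nat.eq_of_mul_eq_mul_left Nat.card_pos h2

theorem mem_normalizer_of_forall_conj_mem (K : Subgroup H) {g : H} (h : ∀ x ∈ K, g * x * g⁻¹ ∈ K) :
    g ∈ Subgroup.normalizer (K : Set H) := by
  have hle : K.map (MulAut.conj g).toMonoidHom ≤ K := by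
    rintro _ ⟨x, hx, rfl⟩
    exact h x hx
  have heq : K.map (MulAut.conj g).toMonoidHom = K :=
    Subgroup.eq_of_le_of_card_ge hle (card_map_conj_marks K g).ge
  rw [Subgroup.mem_normalizer_iff]
  intro x
  constructor
  · intro hx; exact h x hx
  · intro hx
    rw [← heq] at hx
    obtain ⟨y, hy, hye⟩ := hx
    have : y = x := by
      have h2 : g * y * g⁻¹ = g * x * g⁻¹ := hye
      exact mul_left_cancel (mul_right_cancel h2)
    rw [← this]; exact hy

theorem mark_self (L : Subgroup H) : mark L L = wcard L := by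
  have h1 := card_mul_mark L L
  have h2 : Nat.card {h : H | ∀ l ∈ L, h⁻¹ * l * h ∈ L} =
      Nat.card (Subgroup.normalizer (L : Set H)) := by
    refine Nat.card_congr ⟨fun h => ⟨(h : H)⁻¹, ?_⟩, fun n => ⟨(n : H)⁻¹, ?_⟩, fun h => ?_, fun n => ?_⟩
    · apply mem_normalizer_of_forall_conj_mem
      intro l hl
      have := h.2 l hl
      simpa using this
    · intro l hl
      have := (Subgroup.mem_normalizer_iff.1 n.2 l).1 hl
      simpa using this
    · apply Subtype.ext; simp
    · apply Subtype.ext; simp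
  rw [h2, ← card_mul_wcard L] at h1
  exact Nat.eq_of_mul_eq_mul_left Nat.card_pos h1

/-- marks of conjugate subgroups of the same order -/
theorem mark_map_conj_self (L : Subgroup H) (g : H) :
    mark (L.map (MulAut.conj g).toMonoidHom) L = wcard L := by
  have h1 := mark_map_conj (L.map (MulAut.conj g).toMonoidHom) L g
  rw [mark_self, wcard_map_conj] at h1
  exact h1.symm

end Aux

section Rep

variable {H : Type u} [Group H]

/-- conjugacy of subgroups -/
def conjSetoid (H : Type u) [Group H] : Setoid (Subgroup H) where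
  r K L := ∃ h : H, L = K.map (MulAut.conj h).toMonoidHom
  iseqv := by
    refine ⟨fun K => ⟨1, ?_⟩, ?_, ?_⟩
    · ext x; simp
    · rintro K L ⟨h, rfl⟩
      refine ⟨h⁻¹, ?_⟩
      rw [map_conj_map_conj]
      ext x; simp
    · rintro K L M ⟨h, rfl⟩ ⟨g, rfl⟩
      exact ⟨g * h, by rw [map_conj_map_conj]⟩

/-- a representative of the conjugacy class of `K` -/
noncomputable def conjRep (K : Subgroup H) : Subgroup H :=
  (Quotient.mk (conjSetoid H) K).out

theorem conjRep_eq_map_conj (K : Subgroup H) :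
    ∃ h : H, conjRep K = K.map (MulAut.conj h).toMonoidHom := by
  have h1 : (conjSetoid H).r (conjRep K) K := Quotient.exact (Quotient.out_eq (Quotient.mk (conjSetoid H) K))
  exact (conjSetoid H).iseqv.symm h1

theorem conjRep_map_conj (K : Subgroup H) (h : H) :
    conjRep (K.map (MulAut.conj h).toMonoidHom) = conjRep K := by
  unfold conjRep
  congr 1
  exact Quotient.sound ((conjSetoid H).iseqv.symm ⟨h, rfl⟩)

theorem conjRep_conjRep (K : Subgroup H) : conjRep (conjRep K) = conjRep K := by
  obtain ⟨h, hh⟩ := conjRep_eq_map_conj K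
  exact (congrArg conjRep hh).trans (conjRep_map_conj K h)

/-- the `H`-set with `c K` orbits of type `H ⧸ K` -/
abbrev SetOf (c : Subgroup H → ℕ) : Type u := Σ K : Subgroup H, Σ _ : Fin (c K), H ⧸ K

theorem card_fixedPoints_setOf [Finite H] [Fintype (Subgroup H)] (c : Subgroup H → ℕ) (L : Subgroup H) :
    Nat.card (fixedPoints L (SetOf c)) = wmark c L := by
  rw [wmark, card_fixedPoints_sigma]
  refine Finset.sum_congr rfl fun K _ => ?_
  rw [card_fixedPoints_sigma]
  simp only [Finset.sum_const, Finset.card_univ, Fintype.card_fin, smul_eq_mul, mark]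
  rfl

theorem stabilizer_setOf_mem (c : Subgroup H → ℕ) (𝒦 : Set (Subgroup H))
    (hconj : ∀ K ∈ 𝒦, ∀ h : H, K.map (MulAut.conj h).toMonoidHom ∈ 𝒦)
    (hc : ∀ K, c K ≠ 0 → K ∈ 𝒦) (x : SetOf c) : stabilizer H x ∈ 𝒦 := by
  obtain ⟨K, i, q⟩ := x
  obtain ⟨g, rfl⟩ := QuotientGroup.mk_surjective q
  have hK : K ∈ 𝒦 := hc K (by
    intro h0
    rw [h0] at i
    exact i.elim0)
  have hst : stabilizer H (⟨K, i, (g : H ⧸ K)⟩ : SetOf c) =
      stabilizer H (g • ((1 : H) : H ⧸ K)) := by
    ext h
    simp only [mem_stabilizer_iff, Sigma.smul_mk, Sigma.mk.injEq, heq_eq_eq, true_and,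
      MulAction.Quotient.smul_coe, smul_eq_mul, mul_one]
  rw [hst, stabilizer_smul_eq_stabilizer_map_conj, stabilizer_quotient]
  exact hconj K hK g

theorem card_setOf [Finite H] [Fintype (Subgroup H)] (c : Subgroup H → ℕ) :
    Nat.card (SetOf c) = ∑ K : Subgroup H, c K * K.index := by
  rw [Nat.card_sigma]
  refine Finset.sum_congr rfl fun K _ => ?_
  rw [Nat.card_sigma]
  simp only [Finset.sum_const, Finset.card_univ, Fintype.card_fin, smul_eq_mul, Subgroup.index]

end Rep


section Stable

variable {H : Type u} [Group H] [Finite H]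

/-- `P` is a "fully normalized" representative of its class: normalizers of all members of the class
embed compatibly into the normalizer of `P`. -/
def IsRep (𝒦 : Set (Subgroup H)) (rel : Subgroup H → Subgroup H → Prop) (P : Subgroup H) : Prop :=
  ∀ K' : Subgroup H, rel K' P →
    ∃ θ : Subgroup.normalizer (K' : Set H) →* H, Function.Injective θ ∧
      (K'.subgroupOf (Subgroup.normalizer (K' : Set H))).map θ = P ∧
      ∀ Q : Subgroup (Subgroup.normalizer (K' : Set H)),
        K'.subgroupOf (Subgroup.normalizer (K' : Set H)) ≤ Q →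
        ((Q.map (Subgroup.normalizer (K' : Set H)).subtype ∈ 𝒦 →
            rel (Q.map (Subgroup.normalizer (K' : Set H)).subtype) (Q.map θ)) ∧
          (Q.map θ ∈ 𝒦 → Q.map (Subgroup.normalizer (K' : Set H)).subtype ∈ 𝒦))

/-- data for the construction of a stable set -/
structure StableData (𝒦 : Set (Subgroup H)) (rel : Subgroup H → Subgroup H → Prop) : Prop where
  sub : ∀ K ∈ 𝒦, ∀ K' : Subgroup H, K' ≤ K → K' ∈ 𝒦
  conj : ∀ K ∈ 𝒦, ∀ h : H, K.map (MulAut.conj h).toMonoidHom ∈ 𝒦
  rel_symm : ∀ K K', rel K K' → rel K' K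
  rel_trans : ∀ K K' K'', rel K K' → rel K' K'' → rel K K''
  rel_conj : ∀ K ∈ 𝒦, ∀ h : H, rel K (K.map (MulAut.conj h).toMonoidHom)
  rel_mem : ∀ K K', rel K K' → K ∈ 𝒦
  rel_card : ∀ K K', rel K K' → Nat.card K = Nat.card K'
  fn : ∀ K ∈ 𝒦, ∃ P, rel K P ∧ IsRep 𝒦 rel P

variable {𝒦 : Set (Subgroup H)} {rel : Subgroup H → Subgroup H → Prop}

omit [Finite H] in
theorem StableData.rel_refl (D : StableData 𝒦 rel) {K : Subgroup H} (hK : K ∈ 𝒦) : rel K K := by
  have h := D.rel_conj K hK 1
  have e : K.map (MulAut.conj (1 : H)).toMonoidHom = K := by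
    ext x; simp
  rwa [e] at h

omit [Finite H] in
theorem StableData.rel_mem' (D : StableData 𝒦 rel) {K K' : Subgroup H} (h : rel K K') : K' ∈ 𝒦 :=
  D.rel_mem K' K (D.rel_symm K K' h)

omit [Finite H] in
theorem wmark_eq_zero_of_not_mem [Fintype (Subgroup H)] (D : StableData 𝒦 rel) (c : Subgroup H → ℕ)
    (hc : ∀ K, c K ≠ 0 → K ∈ 𝒦) {L : Subgroup H} (hL : L ∉ 𝒦) : wmark c L = 0 := by
  unfold wmark
  apply Finset.sum_eq_zero
  intro K _
  by_cases hcK : c K = 0
  · rw [hcK, zero_mul]
  · by_cases hm : mark K L = 0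
    · rw [hm, mul_zero]
    · exfalso
      apply hL
      obtain ⟨g, hg⟩ := exists_of_mark_ne_zero hm
      have h1 : L.map (MulAut.conj g⁻¹).toMonoidHom ∈ 𝒦 :=
        D.sub K (hc K hcK) _ (map_conj_le_of_forall hg)
      have h2 := D.conj _ h1 g
      rw [map_conj_map_conj] at h2
      have e : L.map (MulAut.conj (g * g⁻¹)).toMonoidHom = L := by
        ext x; simp
      rwa [e] at h2

theorem range_le_normalizer_of_isRep {K' P : Subgroup H}
    (θ : Subgroup.normalizer (K' : Set H) →* H)
    (hθ : (K'.subgroupOf (Subgroup.normalizer (K' : Set H))).map θ = P) :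
    θ.range ≤ Subgroup.normalizer (P : Set H) := by
  rintro _ ⟨n, rfl⟩
  apply mem_normalizer_of_forall_conj_mem
  intro x hx
  rw [← hθ] at hx ⊢
  obtain ⟨k, hk, rfl⟩ := hx
  refine ⟨n * k * n⁻¹, ?_, by simp⟩
  exact (Subgroup.normal_in_normalizer (H := K')).conj_mem k hk n

theorem wcard_dvd_of_isRep (D : StableData 𝒦 rel) {K' P : Subgroup H} (hrel : rel K' P)
    (hP : IsRep 𝒦 rel P) : wcard K' ∣ wcard P := by
  obtain ⟨θ, hinj, hθ, -⟩ := hP K' hrel
  have h1 : Nat.card θ.range ∣ Nat.card (Subgroup.normalizer (P : Set H)) :=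
    Subgroup.card_dvd_of_le (range_le_normalizer_of_isRep θ hθ)
  have h2 : Nat.card θ.range = Nat.card (Subgroup.normalizer (K' : Set H)) :=
    (Nat.card_congr (MonoidHom.ofInjective hinj).toEquiv).symm
  rw [h2, ← card_mul_wcard, ← card_mul_wcard, D.rel_card K' P hrel] at h1
  exact Nat.dvd_of_mul_dvd_mul_left Nat.card_pos h1

theorem card_sup_zpowers_gt {K : Subgroup H} {g : H} (hg : g ∉ K) :
    Nat.card K < Nat.card (K ⊔ Subgroup.zpowers g : Subgroup H) := by
  have hle : K ≤ K ⊔ Subgroup.zpowers g := le_sup_left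
  rcases Nat.lt_or_ge (Nat.card K) (Nat.card (K ⊔ Subgroup.zpowers g : Subgroup H)) with h | h
  · exact h
  · exfalso
    have := Subgroup.eq_of_le_of_card_ge hle h
    apply hg
    rw [this]
    exact (le_sup_right : Subgroup.zpowers g ≤ K ⊔ Subgroup.zpowers g) (Subgroup.mem_zpowers g)

/-- **Reeh's congruence**: if the weighted marks are stable above the order of `K'`, then the marks of `K'` and
of the representative of its class are congruent modulo `|N(K') : K'|`. -/
theorem reeh_congr [Fintype (Subgroup H)] (D : StableData 𝒦 rel) (c : Subgroup H → ℕ)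
    (hc : ∀ K, c K ≠ 0 → K ∈ 𝒦) {K' P : Subgroup H}
    (hst : ∀ K K₁, rel K K₁ → Nat.card K' < Nat.card K → wmark c K = wmark c K₁)
    (hrel : rel K' P) (hP : IsRep 𝒦 rel P) :
    wmark c K' ≡ wmark c P [MOD wcard K'] := by
  classical
  obtain ⟨θ, hinj, hθ, hQ⟩ := hP K' hrel
  have : Fintype (Subgroup.normalizer (K' : Set H)) := Fintype.ofFinite _
  have : Fintype θ.range := Fintype.ofFinite _
  have hfix : ∀ L : Subgroup H, Nat.card (fixedPoints L (SetOf c)) = wmark c L :=
    card_fixedPoints_setOf c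
  have F1 := card_dvd_sum_card_fixedPoints (X := SetOf c) K' (Subgroup.normalizer (K' : Set H)) le_rfl
  have F2 := card_dvd_sum_card_fixedPoints (X := SetOf c) P θ.range
    (range_le_normalizer_of_isRep θ hθ)
  simp only [hfix] at F1 F2
  have hre : ∑ g : θ.range, wmark c (P ⊔ Subgroup.zpowers (g : H)) =
      ∑ g : Subgroup.normalizer (K' : Set H), wmark c (P ⊔ Subgroup.zpowers (θ g)) := by
    symm
    exact Fintype.sum_equiv (MonoidHom.ofInjective hinj).toEquiv _ _ (fun g => rfl)
  rw [hre, ← Nat.card_congr (MonoidHom.ofInjective hinj).toEquiv] at F2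
  have h1 : ∀ g : Subgroup.normalizer (K' : Set H), wmark c (K' ⊔ Subgroup.zpowers (g : H)) =
      if (g : H) ∈ K' then wmark c K' else wmark c (K' ⊔ Subgroup.zpowers (g : H)) := by
    intro g
    split_ifs with hg
    · congr 1
      exact sup_eq_left.2 ((Subgroup.zpowers_le).2 hg)
    · rfl
  have h2 : ∀ g : Subgroup.normalizer (K' : Set H), wmark c (P ⊔ Subgroup.zpowers (θ g)) =
      if (g : H) ∈ K' then wmark c P else wmark c (K' ⊔ Subgroup.zpowers (g : H)) := by
    intro g
    split_ifs with hg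
    · congr 1
      refine sup_eq_left.2 ((Subgroup.zpowers_le).2 ?_)
      rw [← hθ]
      exact ⟨g, hg, rfl⟩
    · have hQ1 : (K'.subgroupOf (Subgroup.normalizer (K' : Set H)) ⊔ Subgroup.zpowers g).map
          (Subgroup.normalizer (K' : Set H)).subtype = K' ⊔ Subgroup.zpowers (g : H) := by
        rw [Subgroup.map_sup, Subgroup.subgroupOf_map_subtype, MonoidHom.map_zpowers]
        congr 1
        exact inf_eq_left.2 Subgroup.le_normalizer
      have hQ2 : (K'.subgroupOf (Subgroup.normalizer (K' : Set H)) ⊔ Subgroup.zpowers g).map θ =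
          P ⊔ Subgroup.zpowers (θ g) := by
        rw [Subgroup.map_sup, hθ, MonoidHom.map_zpowers]
      obtain ⟨hQa, hQb⟩ := hQ (K'.subgroupOf (Subgroup.normalizer (K' : Set H)) ⊔ Subgroup.zpowers g)
        le_sup_left
      rw [hQ1, hQ2] at hQa hQb
      by_cases hmem : K' ⊔ Subgroup.zpowers (g : H) ∈ 𝒦
      · exact (hst _ _ (hQa hmem) (card_sup_zpowers_gt hg)).symm
      · have hmem2 : P ⊔ Subgroup.zpowers (θ g) ∉ 𝒦 := fun h => hmem (hQb h)
        rw [wmark_eq_zero_of_not_mem D c hc hmem, wmark_eq_zero_of_not_mem D c hc hmem2]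
  rw [Finset.sum_congr rfl (fun g _ => h1 g), Finset.sum_ite] at F1
  rw [Finset.sum_congr rfl (fun g _ => h2 g), Finset.sum_ite] at F2
  simp only [Finset.sum_const, smul_eq_mul] at F1 F2
  have hcard : (Finset.univ.filter
      (fun g : Subgroup.normalizer (K' : Set H) => (g : H) ∈ K')).card = Nat.card K' := by
    rw [← Fintype.card_subtype, ← Nat.card_eq_fintype_card]
    exact Nat.card_congr (Subgroup.subgroupOfEquivOfLe Subgroup.le_normalizer).toEquiv
  rw [hcard, ← card_mul_wcard K'] at F1 F2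
  have m1 := (Nat.modEq_zero_iff_dvd).2 F1
  have m2 := (Nat.modEq_zero_iff_dvd).2 F2
  have m3 := m1.trans m2.symm
  have m4 := Nat.ModEq.add_right_cancel' _ m3
  exact Nat.ModEq.mul_left_cancel' (Nat.card_pos.ne') m4

/-- the top clause: members of `𝒦` of maximal order, with constant `wcard` on their class, have `w` fixed points -/
def TopClause [Fintype (Subgroup H)] (𝒦 : Set (Subgroup H)) (rel : Subgroup H → Subgroup H → Prop)
    (n : ℕ) (c : Subgroup H → ℕ) : Prop :=
  ∀ L ∈ 𝒦, n < Nat.card L → (∀ K ∈ 𝒦, Nat.card K ≤ Nat.card L) → ∀ w : ℕ,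
    (∀ K', rel L K' → wcard K' = w) → wmark c L = w

/-- admissible values for the number of fixed points on the class of `L` -/
def targetSet [Fintype (Subgroup H)] (rel : Subgroup H → Subgroup H → Prop) (c : Subgroup H → ℕ)
    (L : Subgroup H) : Set ℕ :=
  {N | 1 ≤ N ∧ ∀ K', rel L K' → wmark c K' ≤ N ∧ N ≡ wmark c K' [MOD wcard K']}

omit [Finite H] in
theorem targetSet_congr [Fintype (Subgroup H)] (D : StableData 𝒦 rel) (c : Subgroup H → ℕ)
    {L L' : Subgroup H} (h : rel L L') : targetSet rel c L = targetSet rel c L' := by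
  ext N
  constructor
  · rintro ⟨h1, h2⟩
    exact ⟨h1, fun K' hK' => h2 K' (D.rel_trans _ _ _ h hK')⟩
  · rintro ⟨h1, h2⟩
    exact ⟨h1, fun K' hK' => h2 K' (D.rel_trans _ _ _ (D.rel_symm _ _ h) hK')⟩

theorem targetSet_nonempty [Fintype (Subgroup H)] (D : StableData 𝒦 rel) (c : Subgroup H → ℕ)
    (hc : ∀ K, c K ≠ 0 → K ∈ 𝒦) {L : Subgroup H} (hL : L ∈ 𝒦)
    (hst : ∀ K K₁, rel K K₁ → Nat.card L < Nat.card K → wmark c K = wmark c K₁) :
    (targetSet rel c L).Nonempty := by
  obtain ⟨P, hLP, hPrep⟩ := D.fn L hL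
  set M : ℕ := 1 + ∑ K : Subgroup H, wmark c K with hMdef
  have hM : ∀ K : Subgroup H, wmark c K < M := by
    intro K
    have := Finset.single_le_sum (f := fun K : Subgroup H => wmark c K) (fun _ _ => Nat.zero_le _)
      (Finset.mem_univ K)
    omega
  have hwP : 0 < wcard P := wcard_pos P
  have hMw : M ≤ M * wcard P := Nat.le_mul_of_pos_right M hwP
  refine ⟨wmark c P + M * wcard P, ?_, fun K' hK' => ?_⟩
  · have : 1 ≤ M := by omega
    change 1 ≤ wmark c P + M * wcard P
    omega
  · have hK'P : rel K' P := D.rel_trans _ _ _ (D.rel_symm _ _ hK') hLP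
    refine ⟨?_, ?_⟩
    · have := hM K'
      omega
    · have hcard : Nat.card K' = Nat.card L := (D.rel_card _ _ hK').symm
      have hre := reeh_congr D c hc (K' := K') (P := P)
        (fun K K₁ hr hlt => hst K K₁ hr (by rw [← hcard]; exact hlt)) hK'P hPrep
      obtain ⟨e, he⟩ := wcard_dvd_of_isRep D hK'P hPrep
      unfold Nat.ModEq
      rw [he, show M * (wcard K' * e) = wcard K' * (M * e) by ring, Nat.add_mul_mod_self_left]
      exact hre.symm

open Classical in
theorem stable_step [Fintype (Subgroup H)] (D : StableData 𝒦 rel) (n : ℕ) (c : Subgroup H → ℕ)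
    (hc : ∀ K, c K ≠ 0 → K ∈ 𝒦 ∧ n + 1 < Nat.card K)
    (hst : ∀ K K', rel K K' → n + 1 < Nat.card K → wmark c K = wmark c K')
    (htop : TopClause 𝒦 rel (n + 1) c) :
    ∃ c' : Subgroup H → ℕ, (∀ K, c' K ≠ 0 → K ∈ 𝒦 ∧ n < Nat.card K) ∧
      (∀ K K', rel K K' → n < Nat.card K → wmark c' K = wmark c' K') ∧ TopClause 𝒦 rel n c' := by
  set Nt : Subgroup H → ℕ := fun L => sInf (targetSet rel c L) with hNt
  set d : Subgroup H → ℕ := fun K =>
    if K ∈ 𝒦 ∧ Nat.card K = n + 1 ∧ conjRep K = K then (Nt K - wmark c K) / wcard K else 0 with hd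
  have hcK : ∀ K, c K ≠ 0 → K ∈ 𝒦 := fun K h => (hc K h).1
  have hNt_mem : ∀ L ∈ 𝒦, Nat.card L = n + 1 → Nt L ∈ targetSet rel c L := by
    intro L hL hcard
    apply Nat.sInf_mem
    apply targetSet_nonempty D c hcK hL
    intro K K₁ hr hlt
    exact hst K K₁ hr (by omega)
  have hNt_congr : ∀ L L' : Subgroup H, rel L L' → Nt L = Nt L' := by
    intro L L' h
    simp only [hNt]
    rw [targetSet_congr D c h]
  have hsplit : ∀ L : Subgroup H, wmark (fun K => c K + d K) L =
      wmark c L + ∑ K : Subgroup H, d K * mark K L := by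
    intro L
    simp only [wmark, add_mul, Finset.sum_add_distrib]
  have hbig : ∀ L : Subgroup H, n + 1 < Nat.card L → wmark (fun K => c K + d K) L = wmark c L := by
    intro L hL
    rw [hsplit]
    have : ∑ K : Subgroup H, d K * mark K L = 0 := by
      apply Finset.sum_eq_zero
      intro K _
      simp only [hd]
      split_ifs with hK
      · rw [mark_eq_zero_of_card_lt (by omega), mul_zero]
      · rw [zero_mul]
    rw [this, add_zero]
  have heq : ∀ L ∈ 𝒦, Nat.card L = n + 1 → wmark (fun K => c K + d K) L = Nt L := by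
    intro L hL hcard
    rw [hsplit]
    obtain ⟨h, hh⟩ := conjRep_eq_map_conj L
    have hsum : ∑ K : Subgroup H, d K * mark K L = d (conjRep L) * mark (conjRep L) L := by
      apply Finset.sum_eq_single (conjRep L)
      · intro K _ hne
        simp only [hd]
        split_ifs with hK
        · by_cases hm : mark K L = 0
          · rw [hm, mul_zero]
          · exfalso
            obtain ⟨g, hg⟩ := eq_map_conj_of_mark_ne_zero hm (hK.2.1.trans hcard.symm)
            apply hne
            rw [← hK.2.2, hg, conjRep_map_conj]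
        · rw [zero_mul]
      · intro h; exact (h (Finset.mem_univ _)).elim
    rw [hsum]
    have hrelL : rel L (conjRep L) := by rw [hh]; exact D.rel_conj L hL h
    have hcond : conjRep L ∈ 𝒦 ∧ Nat.card (conjRep L) = n + 1 ∧ conjRep (conjRep L) = conjRep L := by
      refine ⟨D.rel_mem' hrelL, ?_, conjRep_conjRep L⟩
      rw [← D.rel_card _ _ hrelL, hcard]
    have hdval : d (conjRep L) = (Nt L - wmark c L) / wcard L := by
      simp only [hd]
      rw [if_pos hcond, ← hNt_congr _ _ hrelL]
      rw [hh, wmark_map_conj, wcard_map_conj]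
    rw [hdval, hh, mark_map_conj_self]
    obtain ⟨-, hm⟩ := hNt_mem L hL hcard
    obtain ⟨hle, hmod⟩ := hm L (D.rel_refl hL)
    have hdvd : wcard L ∣ Nt L - wmark c L := (Nat.modEq_iff_dvd' hle).1 hmod.symm
    rw [Nat.div_mul_cancel hdvd]
    omega
  refine ⟨fun K => c K + d K, ?_, ?_, ?_⟩
  · intro K hK
    by_cases h0 : c K = 0
    · have hdK : d K ≠ 0 := by
        intro h; apply hK; simp only [h0, h, add_zero]
      simp only [hd] at hdK
      split_ifs at hdK with hcond
      · exact ⟨hcond.1, by omega⟩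
      · exact (hdK rfl).elim
    · obtain ⟨h1, h2⟩ := hc K h0
      exact ⟨h1, by omega⟩
  · intro K K' hr hlt
    rcases Nat.lt_or_ge (n + 1) (Nat.card K) with h | h
    · rw [hbig K h, hbig K' (by rw [← D.rel_card _ _ hr]; exact h)]
      exact hst K K' hr h
    · have hcard : Nat.card K = n + 1 := by omega
      rw [heq K (D.rel_mem _ _ hr) hcard,
        heq K' (D.rel_mem' hr) (by rw [← D.rel_card _ _ hr]; exact hcard)]
      exact hNt_congr _ _ hr
  · intro L hL hlt hmax w hw
    rcases Nat.lt_or_ge (n + 1) (Nat.card L) with h | h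
    · rw [hbig L h]
      exact htop L hL h hmax w hw
    · have hcard : Nat.card L = n + 1 := by omega
      rw [heq L hL hcard]
      have hc0 : ∀ K, c K = 0 := by
        intro K
        by_contra hne
        obtain ⟨h1, h2⟩ := hc K hne
        have := hmax K h1
        omega
      have ha0 : ∀ K, wmark c K = 0 := by
        intro K
        simp only [wmark, hc0, zero_mul, Finset.sum_const_zero]
      have hwL : wcard L = w := hw L (D.rel_refl hL)
      apply le_antisymm
      · apply Nat.sInf_le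
        refine ⟨by rw [← hwL]; exact wcard_pos L, fun K' hK' => ?_⟩
        rw [ha0, hw K' hK']
        exact ⟨Nat.zero_le _, (Nat.modEq_zero_iff_dvd).2 dvd_rfl⟩
      · obtain ⟨h1, hm⟩ := hNt_mem L hL hcard
        obtain ⟨-, hmod⟩ := hm L (D.rel_refl hL)
        rw [ha0, hwL] at hmod
        have hdvd : w ∣ Nt L := (Nat.modEq_zero_iff_dvd).1 hmod
        exact Nat.le_of_dvd (by omega) hdvd

theorem exists_stable_aux [Fintype (Subgroup H)] (D : StableData 𝒦 rel) :
    ∀ k n : ℕ, n + k = Nat.card H → ∃ c : Subgroup H → ℕ,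
      (∀ K, c K ≠ 0 → K ∈ 𝒦 ∧ n < Nat.card K) ∧
      (∀ K K', rel K K' → n < Nat.card K → wmark c K = wmark c K') ∧ TopClause 𝒦 rel n c := by
  intro k
  induction k with
  | zero =>
    intro n hn
    refine ⟨fun _ => 0, fun K hK => (hK rfl).elim, ?_, ?_⟩
    · intro K K' _ hlt
      have := Subgroup.card_le_card_group K
      omega
    · intro L _ hlt
      have := Subgroup.card_le_card_group L
      omega
  | succ k ih =>
    intro n hn
    obtain ⟨c, h1, h2, h3⟩ := ih (n + 1) (by omega)
    exact stable_step D n c h1 h2 h3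

/-- **Existence of stable multiplicities.** -/
theorem exists_stable [Fintype (Subgroup H)] (D : StableData 𝒦 rel) :
    ∃ c : Subgroup H → ℕ, (∀ K, c K ≠ 0 → K ∈ 𝒦) ∧
      (∀ K K', rel K K' → wmark c K = wmark c K') ∧
      (∀ L ∈ 𝒦, (∀ K ∈ 𝒦, Nat.card K ≤ Nat.card L) → ∀ w : ℕ,
        (∀ K', rel L K' → wcard K' = w) → wmark c L = w) := by
  obtain ⟨c, h1, h2, h3⟩ := exists_stable_aux D (Nat.card H) 0 (by omega)
  exact ⟨c, fun K hK => (h1 K hK).1, fun K K' hr => h2 K K' hr Nat.card_pos,
    fun L hL hmax w hw => h3 L hL Nat.card_pos hmax w hw⟩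

open Classical in
theorem card_mul_mark_eq_card_filter [Fintype H] (K L : Subgroup H)
    (hcard : Nat.card K = Nat.card L) :
    Nat.card K * mark K L =
      (Finset.univ.filter (fun h : H => K.map (MulAut.conj h).toMonoidHom = L)).card := by
  rw [card_mul_mark, Nat.card_eq_fintype_card, ← Fintype.card_subtype]
  refine Fintype.card_congr (Equiv.subtypeEquivRight fun h => ?_)
  constructor
  · intro hl
    have h1 : L.map (MulAut.conj h⁻¹).toMonoidHom = K :=
      Subgroup.eq_of_le_of_card_ge (map_conj_le_of_forall hl) (by rw [card_map_conj_marks, hcard])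
    rw [← h1, map_conj_map_conj]
    ext x; simp
  · intro he l hl
    rw [← he] at hl
    obtain ⟨k, hk, rfl⟩ := hl
    simpa [mul_assoc] using hk

open Classical in
theorem sum_card_mul_mark_left [Fintype (Subgroup H)] (𝒦 : Set (Subgroup H))
    (hconj : ∀ K ∈ 𝒦, ∀ h : H, K.map (MulAut.conj h).toMonoidHom ∈ 𝒦) {K : Subgroup H}
    (hK : K ∈ 𝒦) :
    ∑ L : Subgroup H, (if L ∈ 𝒦 ∧ Nat.card L = Nat.card K then Nat.card K * mark K L else 0)
      = Nat.card H := by
  have : Fintype H := Fintype.ofFinite H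
  have key : ∀ L : Subgroup H,
      (if L ∈ 𝒦 ∧ Nat.card L = Nat.card K then Nat.card K * mark K L else 0) =
        (Finset.univ.filter (fun h : H => K.map (MulAut.conj h).toMonoidHom = L)).card := by
    intro L
    split_ifs with hL
    · exact card_mul_mark_eq_card_filter K L hL.2.symm
    · symm
      rw [Finset.card_eq_zero, Finset.filter_eq_empty_iff]
      intro h _ he
      apply hL
      rw [← he]
      exact ⟨hconj K hK h, card_map_conj_marks _ _⟩
  have hfib := Finset.card_eq_sum_card_fiberwise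
    (f := fun h : H => K.map (MulAut.conj h).toMonoidHom) (s := Finset.univ) (t := Finset.univ)
    (fun _ _ => Finset.mem_univ _)
  rw [Finset.sum_congr rfl (fun L _ => key L), Nat.card_eq_fintype_card, ← Finset.card_univ, hfib]

open Classical in
/-- double counting for the top layer -/
theorem sum_top_mul_card [Fintype (Subgroup H)] (D : StableData 𝒦 rel) (c : Subgroup H → ℕ)
    (hc : ∀ K, c K ≠ 0 → K ∈ 𝒦) (n₀ w : ℕ) (hmax : ∀ K ∈ 𝒦, Nat.card K ≤ n₀)
    (hw : ∀ L ∈ 𝒦, Nat.card L = n₀ → wmark c L = w) :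
    (∑ K : Subgroup H, if K ∈ 𝒦 ∧ Nat.card K = n₀ then c K else 0) * Nat.card H =
      (Finset.univ.filter (fun L : Subgroup H => L ∈ 𝒦 ∧ Nat.card L = n₀)).card * w * n₀ := by
  have h1 : (Finset.univ.filter (fun L : Subgroup H => L ∈ 𝒦 ∧ Nat.card L = n₀)).card * w * n₀ =
      ∑ L ∈ Finset.univ.filter (fun L : Subgroup H => L ∈ 𝒦 ∧ Nat.card L = n₀),
        ∑ K : Subgroup H, c K * (n₀ * mark K L) := by
    rw [mul_assoc, ← smul_eq_mul, ← Finset.sum_const]
    refine Finset.sum_congr rfl fun L hL => ?_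
    rw [Finset.mem_filter] at hL
    rw [← hw L hL.2.1 hL.2.2, wmark, Finset.sum_mul]
    refine Finset.sum_congr rfl fun K _ => ?_
    ring
  rw [h1, Finset.sum_comm, Finset.sum_mul]
  refine Finset.sum_congr rfl fun K _ => ?_
  rw [← Finset.mul_sum]
  split_ifs with hK
  · congr 1
    rw [← sum_card_mul_mark_left 𝒦 D.conj hK.1, Finset.sum_filter]
    refine Finset.sum_congr rfl fun L _ => ?_
    rw [hK.2]
  · rw [zero_mul]
    by_cases h0 : c K = 0
    · rw [h0, zero_mul]
    · have hK1 := hc K h0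
      have hlt : Nat.card K < n₀ := by
        have := hmax K hK1
        rcases Nat.lt_or_ge (Nat.card K) n₀ with h | h
        · exact h
        · exact (hK ⟨hK1, by omega⟩).elim
      symm
      rw [Nat.mul_eq_zero]
      right
      apply Finset.sum_eq_zero
      intro L hL
      rw [Finset.mem_filter] at hL
      rw [mark_eq_zero_of_card_lt (by omega), mul_zero]

open Classical in
theorem card_setOf_eq [Fintype (Subgroup H)] (c : Subgroup H → ℕ) (hc : ∀ K, c K ≠ 0 → K ∈ 𝒦)
    (n₀ i₀ p : ℕ) (hmax : ∀ K ∈ 𝒦, Nat.card K ≤ n₀)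
    (htop : ∀ K ∈ 𝒦, Nat.card K = n₀ → K.index = i₀)
    (hidx : ∀ K ∈ 𝒦, Nat.card K < n₀ → p * i₀ ∣ K.index) :
    ∃ r : ℕ, Nat.card (SetOf c) =
      (∑ K : Subgroup H, if K ∈ 𝒦 ∧ Nat.card K = n₀ then c K else 0) * i₀ + p * i₀ * r := by
  have hterm : ∀ K : Subgroup H, ∃ r : ℕ, c K * K.index =
      (if K ∈ 𝒦 ∧ Nat.card K = n₀ then c K else 0) * i₀ + p * i₀ * r := by
    intro K
    split_ifs with hK
    · exact ⟨0, by rw [htop K hK.1 hK.2, mul_zero, add_zero]⟩
    · by_cases h0 : c K = 0
      · exact ⟨0, by rw [h0]; ring⟩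
      · have hK1 := hc K h0
        have hlt : Nat.card K < n₀ := by
          have := hmax K hK1
          rcases Nat.lt_or_ge (Nat.card K) n₀ with h | h
          · exact h
          · exact (hK ⟨hK1, by omega⟩).elim
        obtain ⟨e, he⟩ := hidx K hK1 hlt
        exact ⟨c K * e, by rw [he]; ring⟩
  choose r hr using hterm
  refine ⟨∑ K : Subgroup H, r K, ?_⟩
  rw [card_setOf, Finset.sum_mul, Finset.mul_sum, ← Finset.sum_add_distrib]
  exact Finset.sum_congr rfl fun K _ => hr K

end Stable

end Cfsg.Agent.Lib.Helper85
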