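import Cfsg.Agent.S5328
import Cfsg.Agent.Lib.Helper85.MarksStable
import Cfsg.Agent.Lib.Helper85.FusionBasic
import Cfsg.Agent.Lib.Helper85.FusionRS
import Cfsg.Agent.Lib.Helper87.FusionCore
import Cfsg.Agent.Lib.Helper87.FusionSat
import Cfsg.Agent.Lib.Helper87.FusionFully

/-!
# A characteristic biset for a saturated fusion system

For a saturated fusion system `F` over a finite `p`-group `S` we construct a finite `S × S`-set all of whose
point stabilizers are graphs of maps of `F`, whose fixed point counts are `F`-stable, and with `|X| / |S|` prime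
to `p` (Broto–Levi–Oliver).
-/

set_option autoImplicit false

namespace Cfsg.Agent.Lib.Helper85

open Cfsg Cfsg.FusionSystem MulAction Cfsg.Agent.S5328

universe u

section Graph

variable {Ω : Type u} [Group Ω] {S : Subgroup Ω}

/-- the projection of a subgroup of `S × S` to the second factor, as a subgroup of the ambient group -/
def gdom (K : Subgroup (S × S)) : Subgroup Ω := (K.map (MonoidHom.snd S S)).map S.subtype

theorem gdom_le (K : Subgroup (S × S)) : gdom K ≤ S := by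
  rintro _ ⟨s, -, rfl⟩
  exact s.2

theorem mem_gdom_iff (K : Subgroup (S × S)) (x : Ω) : x ∈ gdom K ↔ ∃ z ∈ K, (z.2 : Ω) = x := by
  constructor
  · rintro ⟨_, ⟨z, hz, rfl⟩, rfl⟩
    exact ⟨z, hz, rfl⟩
  · rintro ⟨z, hz, rfl⟩
    exact ⟨z.2, ⟨z, hz, rfl⟩, rfl⟩

theorem gdom_eq_of_graph {K : Subgroup (S × S)} {P : Subgroup Ω} {φ : P →* Ω} (hP : P ≤ S)
    (hφS : ∀ x : P, φ x ∈ S)
    (hK : ∀ z : S × S, z ∈ K ↔ ∃ x : P, (z.1 : Ω) = φ x ∧ (z.2 : Ω) = x) : gdom K = P := by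
  ext x
  rw [mem_gdom_iff]
  constructor
  · rintro ⟨z, hz, rfl⟩
    obtain ⟨y, -, h2⟩ := (hK z).1 hz
    rw [h2]; exact y.2
  · intro hx
    exact ⟨(⟨φ ⟨x, hx⟩, hφS _⟩, ⟨x, hP hx⟩), (hK _).2 ⟨⟨x, hx⟩, rfl, rfl⟩, rfl⟩

theorem card_eq_card_gdom (F : FusionSystem S) {K : Subgroup (S × S)} (hK : IsGraph F K) :
    Nat.card K = Nat.card (gdom K) := by
  obtain ⟨P, φ, hφ, hK⟩ := hK
  refine Nat.card_congr (Equiv.ofBijective
    (fun z : K => (⟨((z : S × S).2 : Ω), (mem_gdom_iff K _).2 ⟨z, z.2, rfl⟩⟩ : gdom K)) ⟨?_, ?_⟩)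
  · intro z w h
    have h2 : (((z : S × S).2 : S) : Ω) = ((w : S × S).2 : S) :=
      congrArg (fun t : gdom K => (t : Ω)) h
    obtain ⟨x, hx1, hx2⟩ := (hK z).1 z.2
    obtain ⟨y, hy1, hy2⟩ := (hK w).1 w.2
    have hxy : x = y := Subtype.ext (by rw [← hx2, ← hy2, h2])
    apply Subtype.ext
    apply Prod.ext
    · apply Subtype.ext
      rw [hx1, hy1, hxy]
    · exact Subtype.ext h2
  · rintro ⟨x, hx⟩
    obtain ⟨z, hz, rfl⟩ := (mem_gdom_iff K x).1 hx
    exact ⟨⟨z, hz⟩, rfl⟩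

/-- two graphs are related when their domains are conjugate in the system -/
def grel (F : FusionSystem S) (K K' : Subgroup (S × S)) : Prop :=
  IsGraph F K ∧ IsGraph F K' ∧ F.IsConj (gdom K) (gdom K')

/-- the image of a graph under a product of two maps of the system is a graph with conjugate domain -/
theorem isGraph_prod (F : FusionSystem S) {K₁ K₂ : Subgroup (S × S)} (hK : IsGraph F K₁)
    {R₁ R₂ : Subgroup Ω} {χ₁ : R₁ →* Ω} {χ₂ : R₂ →* Ω} (hχ₁ : χ₁ ∈ F.Hom R₁) (hχ₂ : χ₂ ∈ F.Hom R₂)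
    (hR₁ : ∀ z ∈ K₁, (z.1 : Ω) ∈ R₁) (hR₂ : ∀ z ∈ K₁, (z.2 : Ω) ∈ R₂)
    (h₂ : ∀ w : S × S, w ∈ K₂ ↔ ∃ z, ∃ hz : z ∈ K₁,
      (w.1 : Ω) = χ₁ ⟨z.1, hR₁ z hz⟩ ∧ (w.2 : Ω) = χ₂ ⟨z.2, hR₂ z hz⟩) :
    IsGraph F K₂ ∧ F.IsConj (gdom K₁) (gdom K₂) := by
  obtain ⟨Q, ψ, hψ, hK⟩ := hK
  have hQS : Q ≤ S := (F.le_of_mem hψ).1
  have hψS : ∀ x : Q, ψ x ∈ S := (F.le_of_mem hψ).2
  have hzx : ∀ x : Q, ((⟨ψ x, hψS x⟩, ⟨x, hQS x.2⟩) : S × S) ∈ K₁ := fun x => (hK _).2 ⟨x, rfl, rfl⟩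
  have hQR₂ : Q ≤ R₂ := fun x hx => hR₂ _ (hzx ⟨x, hx⟩)
  have hψR₁ : ∀ x : Q, ψ x ∈ R₁ := fun x => hR₁ _ (hzx x)
  have hχ₂' : χ₂.comp (Subgroup.inclusion hQR₂) ∈ F.Hom Q := restrict_mem F hχ₂ hQR₂
  obtain ⟨ν, hν, hνinv, hνrange⟩ := exists_inv F hχ₂' rfl
  have hνQ : ∀ y : (χ₂.comp (Subgroup.inclusion hQR₂)).range, ν y ∈ Q := by
    intro y
    exact hνrange.le ⟨y, rfl⟩
  have hlam := F.comp_mem hν hψ hνQ
  have hlamR₁ : ∀ y : (χ₂.comp (Subgroup.inclusion hQR₂)).range,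
      (ψ.comp (ν.codRestrict Q hνQ)) y ∈ R₁ := fun y => hψR₁ _
  have hμ := F.comp_mem hlam hχ₁ hlamR₁
  have hgraph : ∀ w : S × S, w ∈ K₂ ↔ ∃ y : (χ₂.comp (Subgroup.inclusion hQR₂)).range,
      (w.1 : Ω) = (χ₁.comp ((ψ.comp (ν.codRestrict Q hνQ)).codRestrict R₁ hlamR₁)) y ∧
        (w.2 : Ω) = y := by
    intro w
    rw [h₂]
    constructor
    · rintro ⟨z, hz, h1, h2⟩
      obtain ⟨x, hx1, hx2⟩ := (hK z).1 hz
      have hx2' : (⟨(z.2 : Ω), hR₂ z hz⟩ : R₂) = Subgroup.inclusion hQR₂ x := Subtype.ext hx2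
      refine ⟨⟨(χ₂.comp (Subgroup.inclusion hQR₂)) x, ⟨x, rfl⟩⟩, ?_, ?_⟩
      · rw [h1]
        change χ₁ _ = χ₁ _
        congr 1
        apply Subtype.ext
        change (z.1 : Ω) = ψ ⟨ν _, _⟩
        rw [hx1]
        congr 1
        exact Subtype.ext (hνinv x _).symm
      · rw [h2, hx2']
        rfl
    · rintro ⟨⟨_, x, rfl⟩, h1, h2⟩
      refine ⟨_, hzx x, ?_, ?_⟩
      · rw [h1]
        change χ₁ _ = χ₁ _
        congr 1
        apply Subtype.ext
        change ψ ⟨ν _, _⟩ = ψ x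
        congr 1
        exact Subtype.ext (hνinv x _)
      · rw [h2]
        rfl
  refine ⟨⟨_, _, hμ, hgraph⟩, ?_⟩
  rw [gdom_eq_of_graph hQS hψS hK,
    gdom_eq_of_graph (F.le_of_mem hμ).1 (F.le_of_mem hμ).2 hgraph]
  exact ⟨_, hχ₂', rfl⟩

end Graph

section ProdHom

variable {Ω : Type u} [Group Ω] {S : Subgroup Ω}

/-- the homomorphism `(a, b) ↦ (χ₁ a, χ₂ b)` on a subgroup of `S × S` -/
def biProdHom (N : Subgroup (S × S)) {R₁ R₂ : Subgroup Ω} (χ₁ : R₁ →* Ω) (χ₂ : R₂ →* Ω)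
    (hχ₁S : ∀ x, χ₁ x ∈ S) (hχ₂S : ∀ x, χ₂ x ∈ S)
    (h₁ : ∀ n : N, (((n : S × S).1 : S) : Ω) ∈ R₁)
    (h₂ : ∀ n : N, (((n : S × S).2 : S) : Ω) ∈ R₂) : N →* S × S :=
  MonoidHom.prod
    ((χ₁.codRestrict S hχ₁S).comp
      (((S.subtype.comp (MonoidHom.fst S S)).comp N.subtype).codRestrict R₁ h₁))
    ((χ₂.codRestrict S hχ₂S).comp
      (((S.subtype.comp (MonoidHom.snd S S)).comp N.subtype).codRestrict R₂ h₂))

variable {N : Subgroup (S × S)} {R₁ R₂ : Subgroup Ω} {χ₁ : R₁ →* Ω} {χ₂ : R₂ →* Ω}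
  {hχ₁S : ∀ x, χ₁ x ∈ S} {hχ₂S : ∀ x, χ₂ x ∈ S}
  {h₁ : ∀ n : N, (((n : S × S).1 : S) : Ω) ∈ R₁} {h₂ : ∀ n : N, (((n : S × S).2 : S) : Ω) ∈ R₂}

theorem biProdHom_apply (n : N) : biProdHom N χ₁ χ₂ hχ₁S hχ₂S h₁ h₂ n =
    (⟨χ₁ ⟨_, h₁ n⟩, hχ₁S _⟩, ⟨χ₂ ⟨_, h₂ n⟩, hχ₂S _⟩) := rfl

theorem biProdHom_injective (F : FusionSystem S) (hχ₁ : χ₁ ∈ F.Hom R₁) (hχ₂ : χ₂ ∈ F.Hom R₂) :
    Function.Injective (biProdHom N χ₁ χ₂ hχ₁S hχ₂S h₁ h₂) := by
  intro n n' h
  have e1 : χ₁ ⟨_, h₁ n⟩ = χ₁ ⟨_, h₁ n'⟩ := congrArg (fun w : S × S => (w.1 : Ω)) h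
  have e2 : χ₂ ⟨_, h₂ n⟩ = χ₂ ⟨_, h₂ n'⟩ := congrArg (fun w : S × S => (w.2 : Ω)) h
  have f1 := congrArg Subtype.val (F.injective_of_mem hχ₁ e1)
  have f2 := congrArg Subtype.val (F.injective_of_mem hχ₂ e2)
  exact Subtype.ext (Prod.ext (Subtype.ext f1) (Subtype.ext f2))

theorem isGraph_map_biProdHom (F : FusionSystem S) (hχ₁ : χ₁ ∈ F.Hom R₁) (hχ₂ : χ₂ ∈ F.Hom R₂)
    (Q : Subgroup N) (hQ : IsGraph F (Q.map N.subtype)) :
    IsGraph F (Q.map (biProdHom N χ₁ χ₂ hχ₁S hχ₂S h₁ h₂)) ∧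
      F.IsConj (gdom (Q.map N.subtype)) (gdom (Q.map (biProdHom N χ₁ χ₂ hχ₁S hχ₂S h₁ h₂))) := by
  have hR₁ : ∀ z ∈ Q.map N.subtype, ((z.1 : S) : Ω) ∈ R₁ := by
    rintro _ ⟨q, -, rfl⟩; exact h₁ q
  have hR₂ : ∀ z ∈ Q.map N.subtype, ((z.2 : S) : Ω) ∈ R₂ := by
    rintro _ ⟨q, -, rfl⟩; exact h₂ q
  refine isGraph_prod F hQ hχ₁ hχ₂ hR₁ hR₂ (fun w => ?_)
  constructor
  · rintro ⟨q, hq, rfl⟩
    exact ⟨(q : S × S), ⟨q, hq, rfl⟩, rfl, rfl⟩
  · rintro ⟨_, ⟨q, hq, rfl⟩, e1, e2⟩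
    refine ⟨q, hq, ?_⟩
    exact Prod.ext (Subtype.ext e1.symm) (Subtype.ext e2.symm)

theorem isGraph_of_map_biProdHom (F : FusionSystem S) (hχ₁ : χ₁ ∈ F.Hom R₁) (hχ₂ : χ₂ ∈ F.Hom R₂)
    (Q : Subgroup N) (hQ : IsGraph F (Q.map (biProdHom N χ₁ χ₂ hχ₁S hχ₂S h₁ h₂))) :
    IsGraph F (Q.map N.subtype) := by
  obtain ⟨ν₁, hν₁, hν₁inv, -⟩ := exists_inv F hχ₁ rfl
  obtain ⟨ν₂, hν₂, hν₂inv, -⟩ := exists_inv F hχ₂ rfl
  have hR₁ : ∀ z ∈ Q.map (biProdHom N χ₁ χ₂ hχ₁S hχ₂S h₁ h₂), ((z.1 : S) : Ω) ∈ χ₁.range := by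
    rintro _ ⟨q, -, rfl⟩; exact ⟨_, rfl⟩
  have hR₂ : ∀ z ∈ Q.map (biProdHom N χ₁ χ₂ hχ₁S hχ₂S h₁ h₂), ((z.2 : S) : Ω) ∈ χ₂.range := by
    rintro _ ⟨q, -, rfl⟩; exact ⟨_, rfl⟩
  refine (isGraph_prod F hQ hν₁ hν₂ hR₁ hR₂ (fun w => ?_)).1
  constructor
  · rintro ⟨q, hq, rfl⟩
    refine ⟨biProdHom N χ₁ χ₂ hχ₁S hχ₂S h₁ h₂ q, ⟨q, hq, rfl⟩, ?_, ?_⟩
    · exact (hν₁inv ⟨_, h₁ q⟩ _).symm
    · exact (hν₂inv ⟨_, h₂ q⟩ _).symm
  · rintro ⟨_, ⟨q, hq, rfl⟩, e1, e2⟩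
    refine ⟨q, hq, ?_⟩
    apply Prod.ext
    · apply Subtype.ext
      rw [e1]
      exact (hν₁inv ⟨_, h₁ q⟩ _).symm
    · apply Subtype.ext
      rw [e2]
      exact (hν₂inv ⟨_, h₂ q⟩ _).symm

end ProdHom

section Rep

variable {Ω : Type u} [Group Ω] {S : Subgroup Ω}

/-- the diagonal copy of `P ≤ S` in `S × S` -/
def diagSub (P : Subgroup Ω) : Subgroup (S × S) :=
  (P.subgroupOf S).map ((MonoidHom.id S).prod (MonoidHom.id S))

theorem mem_diagSub_iff {P : Subgroup Ω} (hP : P ≤ S) (z : S × S) :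
    z ∈ diagSub P ↔ ∃ x : P, (z.1 : Ω) = P.subtype x ∧ (z.2 : Ω) = x := by
  constructor
  · rintro ⟨s, hs, rfl⟩
    exact ⟨⟨s, hs⟩, rfl, rfl⟩
  · rintro ⟨x, h1, h2⟩
    refine ⟨⟨x, hP x.2⟩, x.2, ?_⟩
    exact Prod.ext (Subtype.ext h1.symm) (Subtype.ext h2.symm)

theorem isGraph_diagSub (F : FusionSystem S) {P : Subgroup Ω} (hP : P ≤ S) :
    IsGraph F (diagSub (S := S) P) :=
  ⟨P, P.subtype, id_mem F hP, mem_diagSub_iff hP⟩

theorem gdom_diagSub {P : Subgroup Ω} (hP : P ≤ S) : gdom (diagSub (S := S) P) = P :=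
  gdom_eq_of_graph hP (fun x => hP x.2) (mem_diagSub_iff hP)

theorem conj_of_mem_normalizer_graph {K' : Subgroup (S × S)} {P' : Subgroup Ω} {φ' : P' →* Ω}
    (hP' : P' ≤ S) (hφ'S : ∀ x, φ' x ∈ S)
    (hK' : ∀ z : S × S, z ∈ K' ↔ ∃ x : P', (z.1 : Ω) = φ' x ∧ (z.2 : Ω) = x)
    {n : S × S} (hn : n ∈ Subgroup.normalizer (K' : Set (S × S))) (x : P') :
    ∃ hx : ((n.2 : S) : Ω) * x * ((n.2 : S) : Ω)⁻¹ ∈ P',
      ((n.1 : S) : Ω) * φ' x * ((n.1 : S) : Ω)⁻¹ = φ' ⟨_, hx⟩ := by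
  have hz : ((⟨φ' x, hφ'S x⟩, ⟨x, hP' x.2⟩) : S × S) ∈ K' := (hK' _).2 ⟨x, rfl, rfl⟩
  have h3 := (Subgroup.mem_normalizer_iff.1 hn _).1 hz
  obtain ⟨y, h1, h2⟩ := (hK' _).1 h3
  have hy : ((n.2 : S) : Ω) * x * ((n.2 : S) : Ω)⁻¹ = y := h2
  have hx : ((n.2 : S) : Ω) * x * ((n.2 : S) : Ω)⁻¹ ∈ P' := by rw [hy]; exact y.2
  refine ⟨hx, ?_⟩
  have h1' : ((n.1 : S) : Ω) * φ' x * ((n.1 : S) : Ω)⁻¹ = φ' y := h1
  rw [h1']
  congr 1
  exact Subtype.ext hy.symm

theorem isRep_diagSub [Finite S] (F : FusionSystem S) {p : ℕ} [Fact p.Prime] (hS : IsPGroup p S)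
    {P : Subgroup Ω} (hPa : F.IsFullyAutomized p P) (hPr : F.IsReceptive P) :
    IsRep {K | IsGraph F K} (grel F) (diagSub (S := S) P) := by
  intro K' hK'
  have hPS : P ≤ S := hPr.1
  obtain ⟨⟨P', φ', hφ', hK'eq⟩, -, hconj⟩ := hK'
  have hP'S : P' ≤ S := (F.le_of_mem hφ').1
  have hφ'S := (F.le_of_mem hφ').2
  rw [gdom_eq_of_graph hP'S hφ'S hK'eq, gdom_diagSub hPS] at hconj
  obtain ⟨ψ₂, e, hψ₂, he, hψ₂e⟩ := Lib.Helper87.exists_extension F hS hPa hPr hconj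
  obtain ⟨φinv, hφinv, hφinv_apply, hφinv_range⟩ := exists_inv F hφ' rfl
  have hφinvP' : ∀ y : φ'.range, φinv y ∈ P' := fun y => hφinv_range.le ⟨y, rfl⟩
  have hmem : ∀ x : P', φ' x ∈ φ'.range := fun x => MonoidHom.mem_range.2 ⟨x, rfl⟩
  have hlam := F.comp_mem hφinv he hφinvP'
  have hlam_apply : ∀ x : P', ∀ h : φ' x ∈ φ'.range,
      ((P.subtype.comp e.toMonoidHom).comp (φinv.codRestrict P' hφinvP')) ⟨φ' x, h⟩ = e x := by
    intro x h
    change ((e ⟨φinv ⟨φ' x, h⟩, _⟩ : P) : Ω) = e x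
    congr 2
    exact Subtype.ext (hφinv_apply x h)
  have hlamrange : ((P.subtype.comp e.toMonoidHom).comp (φinv.codRestrict P' hφinvP')).range = P := by
    apply le_antisymm
    · rintro _ ⟨y, rfl⟩
      exact (e _).2
    · intro y hy
      refine ⟨⟨φ' (e.symm ⟨y, hy⟩), hmem _⟩, ?_⟩
      rw [hlam_apply]
      simp
  obtain ⟨ψ₁, hψ₁, hψ₁ext⟩ := hPr.2 φ'.range _ hlam hlamrange
  have hfinP' : Finite P' := Lib.Helper87.finite_of_le hP'S
  have hfinR : Finite φ'.range := Lib.Helper87.finite_of_le (range_le_of_mem_Hom F hφ')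
  have h₂ : ∀ n : Subgroup.normalizer (K' : Set (S × S)),
      (((n : S × S).2 : S) : Ω) ∈ normalizerIn S P' := by
    intro n
    refine ⟨(n : S × S).2.2, ?_⟩
    apply mem_normalizer_of_conj_le_of_finite
    intro x hx
    obtain ⟨hx', -⟩ := conj_of_mem_normalizer_graph hP'S hφ'S hK'eq n.2 ⟨x, hx⟩
    exact hx'
  have h₁ : ∀ n : Subgroup.normalizer (K' : Set (S × S)), (((n : S × S).1 : S) : Ω) ∈
      extender S φ'.range ((P.subtype.comp e.toMonoidHom).comp (φinv.codRestrict P' hφinvP')) := by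
    intro n
    apply Subgroup.subset_closure
    refine ⟨(n : S × S).1.2, ?_, ψ₂ ⟨_, h₂ n⟩, (F.le_of_mem hψ₂).2 _, ?_⟩
    · apply mem_normalizer_of_conj_le_of_finite
      rintro _ ⟨x, rfl⟩
      obtain ⟨hx', hx''⟩ := conj_of_mem_normalizer_graph hP'S hφ'S hK'eq n.2 x
      rw [hx'']
      exact hmem _
    · rintro ⟨_, hx0⟩ hx
      obtain ⟨x, rfl⟩ := MonoidHom.mem_range.1 hx0
      obtain ⟨hx', hx''⟩ := conj_of_mem_normalizer_graph hP'S hφ'S hK'eq n.2 x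
      have hPN : P' ≤ normalizerIn S P' := Lib.Helper87.le_normalizerIn hP'S
      have e0 : (⟨(((n : S × S).1 : S) : Ω) * φ' x * (((n : S × S).1 : S) : Ω)⁻¹, hx⟩ : φ'.range) =
          ⟨φ' ⟨_, hx'⟩, hmem _⟩ := Subtype.ext hx''
      have e2 : ((e ⟨_, hx'⟩ : P) : Ω) = ψ₂ ⟨_, hPN hx'⟩ := (hψ₂e _ hx' _).symm
      have e3 : ψ₂ ⟨(((n : S × S).2 : S) : Ω) * x * (((n : S × S).2 : S) : Ω)⁻¹, hPN hx'⟩ =
          ψ₂ ⟨_, h₂ n⟩ * ψ₂ ⟨x, hPN x.2⟩ * (ψ₂ ⟨_, h₂ n⟩)⁻¹ := by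
        rw [← map_inv, ← map_mul, ← map_mul]
        rfl
      change ((P.subtype.comp e.toMonoidHom).comp (φinv.codRestrict P' hφinvP'))
        ⟨(((n : S × S).1 : S) : Ω) * φ' x * (((n : S × S).1 : S) : Ω)⁻¹, hx⟩ = _
      rw [e0, hlam_apply, e2, e3, hψ₂e x x.2, hlam_apply]
  refine ⟨biProdHom _ ψ₁ ψ₂ (F.le_of_mem hψ₁).2 (F.le_of_mem hψ₂).2 h₁ h₂,
    biProdHom_injective F hψ₁ hψ₂, ?_, fun Q _ => ⟨fun hQ => ?_, fun hQ => ?_⟩⟩
  · ext w
    constructor
    · rintro ⟨n, hn, rfl⟩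
      obtain ⟨x, e1, e2⟩ := (hK'eq n).1 hn
      rw [mem_diagSub_iff hPS]
      refine ⟨e x, ?_, ?_⟩
      · rw [biProdHom_apply]
        change ψ₁ ⟨(((n : S × S).1 : S) : Ω), h₁ n⟩ = _
        have hr : (((n : S × S).1 : S) : Ω) ∈ φ'.range := by rw [e1]; exact hmem x
        rw [hψ₁ext _ hr (h₁ n)]
        have e0 : (⟨(((n : S × S).1 : S) : Ω), hr⟩ : φ'.range) = ⟨φ' x, hmem x⟩ := Subtype.ext e1
        rw [e0, hlam_apply]
        rfl
      · rw [biProdHom_apply]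
        change ψ₂ ⟨(((n : S × S).2 : S) : Ω), h₂ n⟩ = _
        have hr : (((n : S × S).2 : S) : Ω) ∈ P' := by rw [e2]; exact x.2
        rw [hψ₂e _ hr (h₂ n)]
        congr 2
        exact Subtype.ext e2
    · intro hw
      rw [mem_diagSub_iff hPS] at hw
      obtain ⟨y, w1, w2⟩ := hw
      have hz : ((⟨φ' (e.symm y), hφ'S _⟩, ⟨(e.symm y : P'), hP'S (e.symm y).2⟩) : S × S) ∈ K' :=
        (hK'eq _).2 ⟨e.symm y, rfl, rfl⟩
      refine ⟨⟨_, Subgroup.le_normalizer hz⟩, hz, ?_⟩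
      rw [biProdHom_apply]
      apply Prod.ext
      · apply Subtype.ext
        rw [w1]
        change ψ₁ ⟨φ' (e.symm y), _⟩ = y
        rw [hψ₁ext _ (hmem _) _, hlam_apply]
        simp
      · apply Subtype.ext
        rw [w2]
        change ψ₂ ⟨(e.symm y : P'), _⟩ = y
        rw [hψ₂e _ (e.symm y).2 _]
        simp
  · obtain ⟨g1, g2⟩ := isGraph_map_biProdHom F hψ₁ hψ₂ Q hQ
    exact ⟨hQ, g1, g2⟩
  · exact isGraph_of_map_biProdHom F hψ₁ hψ₂ Q hQ

end Rep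

section Top

variable {Ω : Type u} [Group Ω] {S : Subgroup Ω}

/-- the graph of an automorphism of `S` -/
def graphAut (α : MulAut S) : Subgroup (S × S) := (α.toMonoidHom.prod (MonoidHom.id S)).range

theorem mem_graphAut_iff (α : MulAut S) (z : S × S) : z ∈ graphAut α ↔ z.1 = α z.2 := by
  constructor
  · rintro ⟨s, rfl⟩
    rfl
  · intro h
    exact ⟨z.2, Prod.ext h.symm rfl⟩

theorem graphAut_injective : Function.Injective (graphAut (S := S)) := by
  intro α β h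
  apply MulEquiv.ext
  intro s
  have h1 : ((α s, s) : S × S) ∈ graphAut β := by
    rw [← h]
    exact (mem_graphAut_iff α _).2 rfl
  exact (mem_graphAut_iff β _).1 h1

theorem card_graphAut (α : MulAut S) : Nat.card (graphAut α) = Nat.card S := by
  have hinj : Function.Injective (α.toMonoidHom.prod (MonoidHom.id S)) := by
    intro a b h
    exact congrArg Prod.snd h
  exact (Nat.card_congr (MonoidHom.ofInjective hinj).toEquiv).symm

theorem isGraph_graphAut (F : FusionSystem S) {α : MulAut S} (hα : α ∈ F.autGroup S) :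
    IsGraph F (graphAut α) := by
  refine ⟨S, S.subtype.comp α.toMonoidHom, (mem_autGroup_iff F le_rfl α).1 hα, fun z => ?_⟩
  rw [mem_graphAut_iff]
  constructor
  · intro h
    exact ⟨z.2, by rw [h]; rfl, rfl⟩
  · rintro ⟨x, h1, h2⟩
    have hx : x = z.2 := Subtype.ext h2.symm
    rw [hx] at h1
    exact Subtype.ext h1

theorem exists_eq_graphAut [Finite S] (F : FusionSystem S) {K : Subgroup (S × S)} (hK : IsGraph F K)
    (hcard : Nat.card K = Nat.card S) : ∃ α ∈ F.autGroup S, K = graphAut α := by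
  have hc := card_eq_card_gdom F hK
  obtain ⟨P, φ, hφ, hK⟩ := hK
  have hPS : P ≤ S := (F.le_of_mem hφ).1
  have hφS := (F.le_of_mem hφ).2
  rw [gdom_eq_of_graph hPS hφS hK, hcard] at hc
  have hSP : S = P := (Subgroup.eq_of_le_of_card_ge hPS hc.le).symm
  subst hSP
  have hinj : Function.Injective (φ.codRestrict S hφS) := by
    intro a b h
    exact F.injective_of_mem hφ (congrArg Subtype.val h)
  have hbij : Function.Bijective (φ.codRestrict S hφS) := Finite.injective_iff_bijective.1 hinj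
  refine ⟨MulEquiv.ofBijective (φ.codRestrict S hφS) hbij, ?_, ?_⟩
  · rw [mem_autGroup_iff F le_rfl]
    have e : S.subtype.comp (MulEquiv.ofBijective (φ.codRestrict S hφS) hbij).toMonoidHom = φ := by
      ext x
      rfl
    rw [e]
    exact hφ
  · ext z
    rw [hK, mem_graphAut_iff]
    constructor
    · rintro ⟨x, h1, h2⟩
      have hx : x = z.2 := Subtype.ext h2.symm
      rw [hx] at h1
      exact Subtype.ext h1
    · intro h
      exact ⟨z.2, by rw [h]; rfl, rfl⟩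

theorem wcard_graphAut [Finite S] (α : MulAut S) :
    wcard (graphAut α) = Nat.card (Subgroup.center S) := by
  have hmemN : ∀ n : S × S, n ∈ Subgroup.normalizer (graphAut α : Set (S × S)) ↔
      n.2⁻¹ * α.symm n.1 ∈ Subgroup.center S := by
    intro n
    constructor
    · intro hn
      rw [Subgroup.mem_center_iff]
      intro x
      have hz : ((α x, x) : S × S) ∈ graphAut α := (mem_graphAut_iff α _).2 rfl
      have h3 := (Subgroup.mem_normalizer_iff.1 hn _).1 hz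
      rw [mem_graphAut_iff] at h3
      have h4 : n.1 * α x * n.1⁻¹ = α (n.2 * x * n.2⁻¹) := h3
      have h5 := congrArg α.symm h4
      simp only [map_mul, map_inv, MulEquiv.symm_apply_apply] at h5
      -- h5 : α.symm n.1 * x * (α.symm n.1)⁻¹ = n.2 * x * n.2⁻¹
      have h6 : α.symm n.1 * x = n.2 * x * n.2⁻¹ * α.symm n.1 := by
        rw [← h5]; group
      calc x * (n.2⁻¹ * α.symm n.1) = n.2⁻¹ * (n.2 * x * n.2⁻¹ * α.symm n.1) := by group
        _ = n.2⁻¹ * α.symm n.1 * x := by rw [← h6]; group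
    · intro hc
      rw [Subgroup.mem_center_iff] at hc
      apply mem_normalizer_of_forall_conj_mem
      intro z hz
      rw [mem_graphAut_iff] at hz ⊢
      change n.1 * z.1 * n.1⁻¹ = α (n.2 * z.2 * n.2⁻¹)
      rw [hz]
      apply α.symm.injective
      simp only [map_mul, map_inv, MulEquiv.symm_apply_apply]
      have h6 := hc z.2
      calc α.symm n.1 * z.2 * (α.symm n.1)⁻¹
          = n.2 * (n.2⁻¹ * α.symm n.1 * z.2) * (α.symm n.1)⁻¹ := by group
        _ = n.2 * (z.2 * (n.2⁻¹ * α.symm n.1)) * (α.symm n.1)⁻¹ := by rw [h6]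
        _ = n.2 * z.2 * n.2⁻¹ := by group
  have hcardN : Nat.card (Subgroup.normalizer (graphAut α : Set (S × S))) =
      Nat.card S * Nat.card (Subgroup.center S) := by
    rw [← Nat.card_prod]
    refine Nat.card_congr ⟨fun n => (n.1.2, ⟨n.1.2⁻¹ * α.symm n.1.1, (hmemN n.1).1 n.2⟩),
      fun bz => ⟨(α (bz.1 * bz.2), bz.1), (hmemN _).2 ?_⟩, fun n => ?_, fun bz => ?_⟩
    · simp
    · apply Subtype.ext
      apply Prod.ext
      · simp
      · rfl
    · apply Prod.ext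
      · rfl
      · apply Subtype.ext
        simp
  have h1 := card_mul_wcard (graphAut α)
  rw [hcardN, card_graphAut] at h1
  exact Nat.eq_of_mul_eq_mul_left Nat.card_pos h1

end Top

section Main

variable {Ω : Type u} [Group Ω] {S : Subgroup Ω}

theorem stableData_graph [Finite S] (F : FusionSystem S) {p : ℕ} [Fact p.Prime] (hS : IsPGroup p S)
    (hF : F.IsSaturated p) : StableData {K : Subgroup (S × S) | IsGraph F K} (grel F) where
  sub := fun K hK K' hle => isGraph_of_le F hK hle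
  conj := fun K hK h => isGraph_map_conj F hK h
  rel_symm := fun K K' h => ⟨h.2.1, h.1, isConj_symm F h.2.2⟩
  rel_trans := fun K K' K'' h h' => ⟨h.1, h'.2.1, isConj_trans F h.2.2 h'.2.2⟩
  rel_conj := by
    intro K hK h
    have hR₁ : ∀ z ∈ K, ((z.1 : S) : Ω) ∈ S := fun z _ => z.1.2
    have hR₂ : ∀ z ∈ K, ((z.2 : S) : Ω) ∈ S := fun z _ => z.2.2
    obtain ⟨g1, g2⟩ := isGraph_prod F hK (F.conj_mem (P := S) le_rfl h.1.2)
      (F.conj_mem (P := S) le_rfl h.2.2) hR₁ hR₂ (K₂ := K.map (MulAut.conj h).toMonoidHom)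
      (fun w => by
        constructor
        · rintro ⟨z, hz, rfl⟩
          exact ⟨z, hz, rfl, rfl⟩
        · rintro ⟨z, hz, e1, e2⟩
          exact ⟨z, hz, Prod.ext (Subtype.ext e1.symm) (Subtype.ext e2.symm)⟩)
    exact ⟨hK, g1, g2⟩
  rel_mem := fun K K' h => h.1
  rel_card := fun K K' h => by
    rw [card_eq_card_gdom F h.1, card_eq_card_gdom F h.2.1]
    exact isConj_card_eq F h.2.2
  fn := by
    intro K hK
    obtain ⟨P, hconj, hPa, hPr⟩ := hF (gdom K) (gdom_le K)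
    refine ⟨diagSub P, ⟨hK, isGraph_diagSub F hPr.1, ?_⟩, isRep_diagSub F hS hPa hPr⟩
    rw [gdom_diagSub hPr.1]
    exact hconj

theorem card_center_mul_card_inn [Finite S] :
    Nat.card (Subgroup.center S) * Nat.card (autInducedBy S S) = Nat.card S := by
  have hker : (MulAut.conj (G := S)).ker = Subgroup.center S := by
    ext x
    rw [MonoidHom.mem_ker, Subgroup.mem_center_iff]
    constructor
    · intro h g
      have h1 : MulAut.conj x g = g := by rw [h]; rfl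
      rw [MulAut.conj_apply] at h1
      calc g * x = x * g * x⁻¹ * x := by rw [h1]
        _ = x * g := by group
    · intro h
      apply MulEquiv.ext
      intro g
      rw [MulAut.conj_apply, ← h g]
      simp
  have hrange : (MulAut.conj (G := S)).range = autInducedBy S S := by
    ext α
    rw [Lib.Helper87.mem_autInducedBy_iff]
    constructor
    · rintro ⟨g, rfl⟩
      exact ⟨g, g.2, fun x => rfl⟩
    · rintro ⟨g, hg, h⟩
      refine ⟨⟨g, hg⟩, ?_⟩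
      apply MulEquiv.ext
      intro x
      exact Subtype.ext (h x).symm
  rw [← hker, ← hrange, ← Subgroup.index_ker, Subgroup.card_mul_index]

theorem exists_index_autGroup [Finite S] (F : FusionSystem S) {p : ℕ} [Fact p.Prime]
    (hfa : F.IsFullyAutomized p S) :
    ∃ idx : ℕ, Nat.card (F.autGroup S) = Nat.card (autInducedBy S S) * idx ∧ ¬ p ∣ idx := by
  obtain ⟨-, R, hR⟩ := hfa
  refine ⟨(R : Subgroup (F.autGroup S)).index, ?_, R.not_dvd_index⟩
  rw [← Subgroup.card_mul_index (R : Subgroup (F.autGroup S)), hR]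
  congr 1
  exact Nat.card_congr (Subgroup.subgroupOfEquivOfLe
    (Lib.Helper87.autInducedBy_le_autGroup F le_rfl)).toEquiv

open Classical in
theorem card_top_graphs [Finite S] [Fintype (Subgroup (S × S))] (F : FusionSystem S) :
    (Finset.univ.filter (fun L : Subgroup (S × S) =>
      L ∈ {K : Subgroup (S × S) | IsGraph F K} ∧ Nat.card L = Nat.card S)).card =
      Nat.card (F.autGroup S) := by
  rw [← Fintype.card_subtype, ← Nat.card_eq_fintype_card]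
  symm
  refine Nat.card_congr (Equiv.ofBijective (fun α : F.autGroup S =>
    (⟨graphAut (α : MulAut S), isGraph_graphAut F α.2, card_graphAut _⟩ :
      {L : Subgroup (S × S) // L ∈ {K : Subgroup (S × S) | IsGraph F K} ∧
        Nat.card L = Nat.card S})) ⟨?_, ?_⟩)
  · intro α β h
    exact Subtype.ext (graphAut_injective (congrArg Subtype.val h))
  · rintro ⟨K, hK, hcard⟩
    obtain ⟨α, hα, rfl⟩ := exists_eq_graphAut F hK hcard
    exact ⟨⟨α, hα⟩, rfl⟩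

/-- **Existence of a characteristic biset** (Broto–Levi–Oliver). -/
theorem exists_char_biset [Finite S] (F : FusionSystem S) {p : ℕ} [Fact p.Prime] (hS : IsPGroup p S)
    (hF : F.IsSaturated p) :
    ∃ (X : Type u) (_ : Finite X) (_ : MulAction (S × S) X),
      (∀ x : X, IsGraph F (stabilizer (S × S) x)) ∧
      (∀ L L', grel F L L' → Nat.card (fixedPoints L X) = Nat.card (fixedPoints L' X)) ∧
      ∃ m : ℕ, Nat.card X = m * Nat.card S ∧ ¬ p ∣ m := by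
  classical
  have : Fintype (Subgroup (S × S)) := Fintype.ofFinite _
  have D := stableData_graph F hS hF
  obtain ⟨c, hc, hst, htop⟩ := exists_stable D
  refine ⟨SetOf c, inferInstance, inferInstance, fun x => stabilizer_setOf_mem c _ D.conj hc x, ?_, ?_⟩
  · intro L L' h
    rw [card_fixedPoints_setOf, card_fixedPoints_setOf]
    exact hst L L' h
  · have hp : p.Prime := Fact.out
    have hmax : ∀ K ∈ {K : Subgroup (S × S) | IsGraph F K}, Nat.card K ≤ Nat.card S := by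
      intro K hK
      rw [card_eq_card_gdom F hK]
      exact Subgroup.card_le_of_le (gdom_le K)
    have hw : ∀ L ∈ {K : Subgroup (S × S) | IsGraph F K}, Nat.card L = Nat.card S →
        wmark c L = Nat.card (Subgroup.center S) := by
      intro L hL hcard
      apply htop L hL (fun K hK => by rw [hcard]; exact hmax K hK)
      intro K' hK'
      obtain ⟨α, -, rfl⟩ := exists_eq_graphAut F hK'.2.1 (by rw [← D.rel_card _ _ hK', hcard])
      exact wcard_graphAut α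
    have h1 := sum_top_mul_card D c hc (Nat.card S) (Nat.card (Subgroup.center S)) hmax hw
    rw [card_top_graphs F, Nat.card_prod] at h1
    obtain ⟨idx, hidx, hpidx⟩ := exists_index_autGroup F
      (Lib.Helper87.fullyAutomized_receptive_of_fullyNormalized F hS hF (isFullyNormalized_top F)).1
    have h2 := card_center_mul_card_inn (S := S)
    have hSpos : 0 < Nat.card S := Nat.card_pos
    have ht : (∑ K : Subgroup (S × S),
        if K ∈ {K : Subgroup (S × S) | IsGraph F K} ∧ Nat.card K = Nat.card S then c K else 0) =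
        idx := by
      have h3 : (∑ K : Subgroup (S × S),
          if K ∈ {K : Subgroup (S × S) | IsGraph F K} ∧ Nat.card K = Nat.card S then c K else 0) *
          (Nat.card S * Nat.card S) = idx * (Nat.card S * Nat.card S) := by
        rw [h1, hidx]
        calc Nat.card (autInducedBy S S) * idx * Nat.card (Subgroup.center S) * Nat.card S
            = idx * ((Nat.card (Subgroup.center S) * Nat.card (autInducedBy S S)) * Nat.card S) := by
              ring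
          _ = idx * (Nat.card S * Nat.card S) := by rw [h2]
      exact Nat.eq_of_mul_eq_mul_right (Nat.mul_pos hSpos hSpos) h3
    have hidxK : ∀ K : Subgroup (S × S), Nat.card K * K.index = Nat.card S * Nat.card S := by
      intro K
      rw [Subgroup.card_mul_index, Nat.card_prod]
    have htopidx : ∀ K ∈ {K : Subgroup (S × S) | IsGraph F K}, Nat.card K = Nat.card S →
        K.index = Nat.card S := by
      intro K _ hcard
      have := hidxK K
      rw [hcard] at this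
      exact Nat.eq_of_mul_eq_mul_left hSpos this
    have hidxdiv : ∀ K ∈ {K : Subgroup (S × S) | IsGraph F K}, Nat.card K < Nat.card S →
        p * Nat.card S ∣ K.index := by
      intro K _ hlt
      obtain ⟨b, hb⟩ := hS.exists_card_eq
      have h3 := hidxK K
      rw [hb, ← pow_add] at h3
      have hKdvd : Nat.card K ∣ p ^ (b + b) := Dvd.intro _ h3
      obtain ⟨a, -, ha⟩ := (Nat.dvd_prime_pow hp).1 hKdvd
      have hab : a < b := by
        rw [ha, hb] at hlt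
        exact (Nat.pow_lt_pow_iff_right hp.one_lt).1 hlt
      have h4 : K.index = p ^ (b + b - a) := by
        rw [ha] at h3
        have h5 : p ^ a * p ^ (b + b - a) = p ^ (b + b) := by
          rw [← pow_add]; congr 1; omega
        exact Nat.eq_of_mul_eq_mul_left (pow_pos hp.pos a) (h3.trans h5.symm)
      rw [h4, hb, ← pow_succ']
      exact pow_dvd_pow p (by omega)
    obtain ⟨r, hr⟩ := card_setOf_eq c hc (Nat.card S) (Nat.card S) p hmax htopidx hidxdiv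
    refine ⟨idx + p * r, ?_, ?_⟩
    · rw [hr, ht]; ring
    · intro hdiv
      exact hpidx ((Nat.dvd_add_left (dvd_mul_right p r)).1 hdiv)

end Main

end Cfsg.Agent.Lib.Helper85
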