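import Mathlib
import Cfsg.Agent.Lib.Helper76.PCore

/-!
# Fixed points of a group on an abelian `p`-group are a direct factor of the fixed points of a subgroup of index prime to `p`

* `exists_complement_fixedPoints`: abstract form (a finite group `N` acting on a commutative `p`-group `A`, `T ≤ N` of
  index prime to `p`): `C_A(N)` has a complement in `C_A(T)`, namely the kernel of the trace map
  `a ↦ ∏_{n ∈ N/T} n • a`.
* `exists_complement_fixed`: the same inside a group `G`, for subgroups `T ≤ N` and a commutative `p`-subgroup `V`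
  normalized by `N`.
-/

set_option autoImplicit false

namespace Cfsg.Agent.Lib.Helper85

open Cfsg

section abstract

variable {N A : Type*} [Group N] [Finite N] [CommGroup A] [MulDistribMulAction N A]

omit [Finite N] in
theorem out_smul_eq_of_fixed (T : Subgroup N) (a : A) (ha : ∀ t ∈ T, t • a = a) (n : N) :
    ((QuotientGroup.mk n : N ⧸ T).out) • a = n • a := by
  obtain ⟨h, hh⟩ := QuotientGroup.mk_out_eq_mul T n
  rw [hh, mul_smul, ha _ h.2]

/-- **The trace decomposition.** -/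
theorem exists_complement_fixedPoints {p : ℕ} [Fact p.Prime] (hA : IsPGroup p A) (T : Subgroup N)
    (hidx : ¬ p ∣ T.index) :
    ∃ K : Subgroup A, (∀ k ∈ K, ∀ t ∈ T, t • k = k) ∧
      (∀ a : A, (∀ n : N, n • a = a) → a ∈ K → a = 1) ∧
      ∀ a : A, (∀ t ∈ T, t • a = a) → ∃ w k : A, (∀ n : N, n • w = w) ∧ k ∈ K ∧ a = w * k := by
  classical
  have : Fintype (N ⧸ T) := Fintype.ofFinite _
  let tr : A →* A := ∏ c : N ⧸ T, MulDistribMulAction.toMonoidHom A (c.out)
  have tr_apply : ∀ a : A, tr a = ∏ c : N ⧸ T, c.out • a := by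
    intro a
    show (∏ c : N ⧸ T, MulDistribMulAction.toMonoidHom A (c.out)) a = _
    rw [MonoidHom.finsetProd_apply]
    rfl
  have fixed : ∀ a : A, (∀ t ∈ T, t • a = a) → ∀ g : N, g • tr a = tr a := by
    intro a ha g
    rw [tr_apply]
    have h1 : g • ∏ c : N ⧸ T, c.out • a = ∏ c : N ⧸ T, g • (c.out • a) :=
      map_prod (MulDistribMulAction.toMonoidHom A g) (fun c : N ⧸ T => c.out • a) Finset.univ
    rw [h1]
    have h2 : ∀ c : N ⧸ T, g • (c.out • a) = (g • c).out • a := by
      intro c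
      rw [← mul_smul, ← out_smul_eq_of_fixed T a ha (g * c.out)]
      congr 2
      conv_rhs => rw [← QuotientGroup.out_eq' c]
      rfl
    rw [Finset.prod_congr rfl (fun c _ => h2 c)]
    exact Equiv.prod_comp (MulAction.toPerm g) (fun c : N ⧸ T => c.out • a)
  have hpow : ∀ a : A, (∀ n : N, n • a = a) → tr a = a ^ T.index := by
    intro a ha
    rw [tr_apply, Finset.prod_congr rfl (fun c _ => ha c.out), Finset.prod_const, Finset.card_univ,
      Subgroup.index, Nat.card_eq_fintype_card]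
  let FixT : Subgroup A :=
    { carrier := {a | ∀ t ∈ T, t • a = a}
      one_mem' := fun t _ => smul_one t
      mul_mem' := fun {a b} ha hb t ht => by rw [smul_mul', ha t ht, hb t ht]
      inv_mem' := fun {a} ha t ht => by rw [smul_inv', ha t ht] }
  let FixN : Subgroup A :=
    { carrier := {a | ∀ n : N, n • a = a}
      one_mem' := fun n => smul_one n
      mul_mem' := fun {a b} ha hb n => by rw [smul_mul', ha n, hb n]
      inv_mem' := fun {a} ha n => by rw [smul_inv', ha n] }
  have hcop : T.index.Coprime p :=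
    ((Nat.Prime.coprime_iff_not_dvd (Fact.out : p.Prime)).mpr hidx).symm
  refine ⟨tr.ker ⊓ FixT, fun k hk t ht => hk.2 t ht, ?_, ?_⟩
  · intro a ha hK
    have h1 : tr a = 1 := hK.1
    rw [hpow a ha] at h1
    obtain ⟨k, hk⟩ := hA a
    exact Cfsg.Agent.Lib.Helper76.eq_one_of_pow_eq_one_of_coprime p a _ k hcop h1 hk
  · intro a ha
    have hu : tr a ∈ FixN := fun n => fixed a ha n
    have hFp : IsPGroup p FixN := hA.to_subgroup FixN
    obtain ⟨w, hw⟩ := (hFp.powEquiv' hidx).surjective ⟨tr a, hu⟩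
    have hw' : (w : A) ^ T.index = tr a := by
      have := congrArg Subtype.val hw
      simpa using this
    refine ⟨w, (w : A)⁻¹ * a, w.2, ⟨?_, ?_⟩, by group⟩
    · show (w : A)⁻¹ * a ∈ tr.ker
      rw [MonoidHom.mem_ker, map_mul, map_inv, hpow _ w.2, hw', inv_mul_cancel]
    · exact FixT.mul_mem (FixT.inv_mem (fun t _ => w.2 t)) ha

end abstract

section concrete

variable {G : Type*} [Group G] [Finite G]

/-- **`C_V(N)` is a direct factor of `C_V(T)`**, with the decomposition made explicit. -/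
theorem exists_complement_fixed' {p : ℕ} [Fact p.Prime] (N T V : Subgroup G)
    (hTN : T ≤ N) (hidx : ¬ p ∣ T.relIndex N) (hVp : IsPGroup p V) (hVc : ∀ a ∈ V, ∀ b ∈ V, a * b = b * a)
    (hNV : N ≤ Subgroup.normalizer (V : Set G)) :
    ∃ K : Subgroup G, K ≤ V ⊓ Subgroup.centralizer (T : Set G) ∧
      (V ⊓ Subgroup.centralizer (N : Set G)) ⊓ K = ⊥ ∧
      ∀ x ∈ V ⊓ Subgroup.centralizer (T : Set G), ∃ w ∈ V ⊓ Subgroup.centralizer (N : Set G), ∃ k ∈ K,
        x = w * k := by
  let _ : CommGroup V :=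
    { (inferInstance : Group V) with mul_comm := fun a b => Subtype.ext (hVc a a.2 b b.2) }
  let _ : MulDistribMulAction N V :=
    { smul := fun n v => ⟨(n : G) * v * (n : G)⁻¹, (Subgroup.mem_normalizer_iff.mp (hNV n.2) v).mp v.2⟩
      one_smul := fun v => Subtype.ext (by show (1 : G) * v * (1 : G)⁻¹ = v; group)
      mul_smul := fun a b v => Subtype.ext (by
        show ((a * b : N) : G) * v * ((a * b : N) : G)⁻¹ = (a : G) * ((b : G) * v * (b : G)⁻¹) * (a : G)⁻¹
        rw [Subgroup.coe_mul]; group)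
      smul_mul := fun n v w => Subtype.ext (by
        show (n : G) * ((v * w : V) : G) * (n : G)⁻¹ = ((n : G) * v * (n : G)⁻¹) * ((n : G) * w * (n : G)⁻¹)
        rw [Subgroup.coe_mul]; group)
      smul_one := fun n => Subtype.ext (by show (n : G) * ((1 : V) : G) * (n : G)⁻¹ = 1; rw [Subgroup.coe_one]; group) }
  have hsmul : ∀ (n : N) (v : V), ((n • v : V) : G) = (n : G) * v * (n : G)⁻¹ := fun n v => rfl
  obtain ⟨K, hK1, hK2, hK3⟩ := exists_complement_fixedPoints (N := ↥N) (A := ↥V) hVp (T.subgroupOf N) hidx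
  have fixT_iff : ∀ v : V, (∀ t ∈ T.subgroupOf N, t • v = v) ↔ (v : G) ∈ Subgroup.centralizer (T : Set G) := by
    intro v
    rw [Subgroup.mem_centralizer_iff]
    constructor
    · intro h t ht
      have h1 := congrArg Subtype.val (h ⟨t, hTN ht⟩ (Subgroup.mem_subgroupOf.2 ht))
      rw [hsmul] at h1
      have h2 : t * (v : G) * t⁻¹ = v := h1
      calc t * (v : G) = t * (v : G) * t⁻¹ * t := by group
        _ = (v : G) * t := by rw [h2]
    · intro h t ht
      apply Subtype.ext
      rw [hsmul]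
      have h1 := h t (Subgroup.mem_subgroupOf.1 ht)
      calc (t : G) * (v : G) * (t : G)⁻¹ = (v : G) * t * (t : G)⁻¹ := by rw [h1]
        _ = v := by group
  have fixN_iff : ∀ v : V, (∀ n : N, n • v = v) ↔ (v : G) ∈ Subgroup.centralizer (N : Set G) := by
    intro v
    rw [Subgroup.mem_centralizer_iff]
    constructor
    · intro h n hn
      have h1 := congrArg Subtype.val (h ⟨n, hn⟩)
      rw [hsmul] at h1
      have h2 : n * (v : G) * n⁻¹ = v := h1
      calc n * (v : G) = n * (v : G) * n⁻¹ * n := by group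
        _ = (v : G) * n := by rw [h2]
    · intro h n
      apply Subtype.ext
      rw [hsmul]
      have h1 := h n n.2
      calc (n : G) * (v : G) * (n : G)⁻¹ = (v : G) * n * (n : G)⁻¹ := by rw [h1]
        _ = v := by group
  refine ⟨K.map V.subtype, ?_, ?_, ?_⟩
  · rintro _ ⟨k, hk, rfl⟩
    exact ⟨k.2, (fixT_iff k).mp (hK1 k hk)⟩
  · rw [eq_bot_iff]
    rintro x ⟨⟨hxV, hxN⟩, ⟨k, hk, rfl⟩⟩
    have := hK2 k ((fixN_iff k).mpr hxN) hk
    rw [this]
    exact Subgroup.one_mem _
  · rintro x ⟨hxV, hxT⟩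
    obtain ⟨w, k, hw, hk, hx⟩ := hK3 ⟨x, hxV⟩ ((fixT_iff ⟨x, hxV⟩).mpr hxT)
    have hx' : x = (w : G) * (k : G) := congrArg Subtype.val hx
    exact ⟨w, ⟨w.2, (fixN_iff w).mp hw⟩, k, ⟨k, hk, rfl⟩, hx'⟩

/-- **`C_V(N)` is a direct factor of `C_V(T)`.** -/
theorem exists_complement_fixed {p : ℕ} [Fact p.Prime] (N T V : Subgroup G)
    (hTN : T ≤ N) (hidx : ¬ p ∣ T.relIndex N) (hVp : IsPGroup p V) (hVc : ∀ a ∈ V, ∀ b ∈ V, a * b = b * a)
    (hNV : N ≤ Subgroup.normalizer (V : Set G)) :
    ∃ K : Subgroup G, K ≤ V ⊓ Subgroup.centralizer (T : Set G) ∧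
      (V ⊓ Subgroup.centralizer (N : Set G)) ⊓ K = ⊥ ∧
      (V ⊓ Subgroup.centralizer (N : Set G)) ⊔ K = V ⊓ Subgroup.centralizer (T : Set G) := by
  obtain ⟨K, hK1, hK2, hK3⟩ := exists_complement_fixed' N T V hTN hidx hVp hVc hNV
  refine ⟨K, hK1, hK2, le_antisymm (sup_le (inf_le_inf_left _ (Subgroup.centralizer_le hTN)) hK1) ?_⟩
  intro x hx
  obtain ⟨w, hw, k, hk, rfl⟩ := hK3 x hx
  exact Subgroup.mul_mem_sup hw hk

end concrete

end Cfsg.Agent.Lib.Helper85
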