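import Cfsg.Agent.Lib.Helper85.FusionWCGlobal
import Cfsg.Agent.Lib.Helper85.WeakClosedFactor
import Cfsg.Agent.Lib.Helper87.FusionFully
import Cfsg.Agent.Lib.Helper88.FusionAut
import Cfsg.Agent.Lib.Helper33.KInfFunctor
import Cfsg.Agent.Lib.Helper33.Sections
import Cfsg.Agent.Lib.Helper76.PCore
import Cfsg.Agent.S1985
import Cfsg.Agent.S1978

/-!
helper85: the centre of a saturated fusion system is a direct factor of `Z(S)` for odd `p` (S5295).

* `exists_complement_center_normalizer`: for `V ⊴ S` containing `Z(S)`, the centre of `N_F(V)` has a complement in `Z(S)`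
  (trace argument for `Aut_F(V)` acting on `Z(V)`).
* `wcHyp_kInfLower`, `centerLe_kInfLower`: Glauberman's `K_∞` satisfies the hypotheses of `center_normalizer_eq` for odd `p`.
-/

set_option autoImplicit false

universe u

namespace Cfsg.Agent.Lib.Helper85

open Cfsg Cfsg.FusionSystem Cfsg.Agent.Lib.Helper87

section complement

variable {Ω : Type*} [Group Ω] {S : Subgroup Ω} {p : ℕ} [Fact p.Prime]

/-- **Trace argument.** For `V ⊴ S` containing `Z(S)`, the centre of `N_F(V)` has a complement in `Z(S)`. -/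
theorem exists_complement_center_normalizer [Finite S] (hS : IsPGroup p S) (F : FusionSystem S) (hF : F.IsSaturated p)
    {V : Subgroup Ω} (hVS : V ≤ S) (hVn : normalizerIn S V = S) (hZV : centralizerIn S S ≤ V)
    {N : FusionSystem (normalizerIn S V)} (hN : F.IsNormalizerSystem V N) :
    ∃ K : Subgroup Ω, K ≤ centralizerIn S S ∧ N.center ⊓ K = ⊥ ∧ N.center ⊔ K = centralizerIn S S := by
  classical
  have hfinV : Finite V := finite_of_le hVS
  have hfinN : Finite (normalizerIn S V) := finite_of_le (normalizerIn_le S V)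
  have hVN : V ≤ normalizerIn S V := Cfsg.Agent.Lib.Helper87.le_normalizerIn hVS
  have hSN : S ≤ normalizerIn S V := le_of_eq hVn.symm
  have hVfn : F.IsFullyNormalized V := by
    refine ⟨hVS, fun Q _ => ?_⟩
    rw [hVn]
    exact Subgroup.card_le_of_le (normalizerIn_le S Q)
  obtain ⟨hVa, -⟩ := fullyAutomized_receptive_of_fullyNormalized F hS hF hVfn
  have hNc : N.IsCentral N.center := isCentral_center N
  have hNcS : N.center ≤ centralizerIn S S := by
    intro z hz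
    refine ⟨normalizerIn_le S V (hNc.1 hz), Subgroup.mem_centralizer_iff.2 ?_⟩
    intro s hs
    have h1 := commute_of_isCentral N hNc hz (hSN hs)
    calc s * z = s * z * s⁻¹ * s := by group
      _ = z * s := by rw [h1]
  -- every element of `Aut_F(V)` is a map of `N`
  have hautN : ∀ α : MulAut V, α ∈ F.autGroup V → V.subtype.comp α.toMonoidHom ∈ N.Hom V := by
    intro α hα
    have hφ : V.subtype.comp α.toMonoidHom ∈ F.Hom V := (Cfsg.Agent.Lib.Helper87.mem_autGroup_iff F hVS).1 hα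
    rw [hN]
    refine Cfsg.Agent.S5126.mem_normalizerHom_of_map_eq F le_rfl hVN hφ ?_
    rw [Subgroup.subgroupOf_self, ← MonoidHom.range_eq_map]
    exact range_subtype_comp α
  -- the centre of `V` and the action of `Aut_F(V)` on it
  let Zv : Subgroup Ω := V ⊓ Subgroup.centralizer (V : Set Ω)
  have hZvV : Zv ≤ V := inf_le_left
  have hZvcomm : ∀ a ∈ Zv, ∀ b ∈ Zv, a * b = b * a := fun a ha b hb =>
    (Subgroup.mem_centralizer_iff.1 hb.2 a ha.1)
  have hpres : ∀ (α : MulAut V) (z : Ω) (hz : z ∈ Zv), ((α ⟨z, hZvV hz⟩ : V) : Ω) ∈ Zv := by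
    intro α z hz
    refine ⟨(α ⟨z, hZvV hz⟩).2, Subgroup.mem_centralizer_iff.2 ?_⟩
    intro v hv
    have h1 : (⟨v, hv⟩ : V) = α (α⁻¹ ⟨v, hv⟩) := by rw [MulAut.apply_inv_self]
    have h2 : (α⁻¹ ⟨v, hv⟩ : V) * ⟨z, hZvV hz⟩ = ⟨z, hZvV hz⟩ * (α⁻¹ ⟨v, hv⟩ : V) := by
      apply Subtype.ext
      exact Subgroup.mem_centralizer_iff.1 hz.2 _ (α⁻¹ ⟨v, hv⟩ : V).2
    have h3 : (⟨v, hv⟩ : V) * α ⟨z, hZvV hz⟩ = α ⟨z, hZvV hz⟩ * ⟨v, hv⟩ := by
      rw [h1, ← map_mul, ← map_mul, h2]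
    exact congrArg Subtype.val h3
  let _ : CommGroup Zv :=
    { (inferInstance : Group Zv) with mul_comm := fun a b => Subtype.ext (hZvcomm a a.2 b b.2) }
  let _ : MulDistribMulAction (F.autGroup V) Zv :=
    { smul := fun α z => ⟨((α : MulAut V) ⟨z, hZvV z.2⟩ : V), hpres α z z.2⟩
      one_smul := fun z => Subtype.ext rfl
      mul_smul := fun α β z => Subtype.ext rfl
      smul_mul := fun α a b => Subtype.ext (by
        show (((α : MulAut V) (⟨a, hZvV a.2⟩ * ⟨b, hZvV b.2⟩) : V) : Ω) = _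
        rw [map_mul]
        rfl)
      smul_one := fun α => Subtype.ext (by
        show (((α : MulAut V) ⟨(1 : Ω), _⟩ : V) : Ω) = 1
        have : (⟨(1 : Ω), hZvV Zv.one_mem⟩ : V) = 1 := rfl
        rw [this, map_one]
        rfl) }
  have hsmul : ∀ (α : F.autGroup V) (z : Zv), ((α • z : Zv) : Ω) = (((α : MulAut V) ⟨z, hZvV z.2⟩ : V) : Ω) :=
    fun α z => rfl
  have hfinAut : Finite (F.autGroup V) := inferInstance
  have hpZv : IsPGroup p Zv := hS.to_le (hZvV.trans hVS)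
  -- the subgroup `Aut_S(V)`
  obtain ⟨-, R, hR⟩ := hVa
  have hidx : ¬ p ∣ ((autInducedBy S V).subgroupOf (F.autGroup V)).index := by
    rw [← hR]
    exact R.not_dvd_index
  obtain ⟨K, hK1, hK2, hK3⟩ := exists_complement_fixedPoints hpZv ((autInducedBy S V).subgroupOf (F.autGroup V)) hidx
  -- fixed points of `Aut_S(V)`
  have hfixT : ∀ z : Zv, (∀ t ∈ (autInducedBy S V).subgroupOf (F.autGroup V), t • z = z) ↔
      (z : Ω) ∈ centralizerIn S S := by
    intro z
    constructor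
    · intro h
      refine ⟨hVS (hZvV z.2), Subgroup.mem_centralizer_iff.2 ?_⟩
      intro s hs
      have hsn : s ∈ Subgroup.normalizer (V : Set Ω) := (hSN hs).2
      have hcS : conjAut V s hsn ∈ autInducedBy S V := Cfsg.Agent.Lib.Helper87.mem_autInducedBy_iff.2 ⟨s, hs, fun x => rfl⟩
      have hcF : conjAut V s hsn ∈ F.autGroup V := autInducedBy_le_autGroup F hVS hcS
      have h1 := h ⟨conjAut V s hsn, hcF⟩ (Subgroup.mem_subgroupOf.2 hcS)
      have h2 := congrArg (fun y : Zv => (y : Ω)) h1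
      have h3 : s * (z : Ω) * s⁻¹ = z := h2
      calc s * (z : Ω) = s * z * s⁻¹ * s := by group
        _ = z * s := by rw [h3]
    · intro hz t ht
      have ht' : (t : MulAut V) ∈ autInducedBy S V := Subgroup.mem_subgroupOf.1 ht
      obtain ⟨g, hg, hgt⟩ := Cfsg.Agent.Lib.Helper87.mem_autInducedBy_iff.1 ht'
      apply Subtype.ext
      rw [hsmul, hgt]
      show g * (z : Ω) * g⁻¹ = z
      have := Subgroup.mem_centralizer_iff.1 hz.2 g hg
      rw [this, mul_inv_cancel_right]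
  -- the subgroup of fixed points of `Aut_F(V)` in `Z(V)` is central in `N`
  let Z₁ : Subgroup Ω :=
    { carrier := {z | ∃ hz : z ∈ Zv, ∀ α : F.autGroup V, α • (⟨z, hz⟩ : Zv) = ⟨z, hz⟩}
      one_mem' := ⟨Zv.one_mem, fun α => smul_one α⟩
      mul_mem' := by
        rintro a b ⟨ha, ha'⟩ ⟨hb, hb'⟩
        refine ⟨Zv.mul_mem ha hb, fun α => ?_⟩
        have : (⟨a * b, Zv.mul_mem ha hb⟩ : Zv) = ⟨a, ha⟩ * ⟨b, hb⟩ := rfl
        rw [this, smul_mul', ha', hb']
      inv_mem' := by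
        rintro a ⟨ha, ha'⟩
        refine ⟨Zv.inv_mem ha, fun α => ?_⟩
        have : (⟨a⁻¹, Zv.inv_mem ha⟩ : Zv) = (⟨a, ha⟩ : Zv)⁻¹ := rfl
        rw [this, smul_inv', ha'] }
  have hZ₁V : Z₁ ≤ V := fun z hz => hZvV hz.1
  have hZ₁c : N.IsCentral Z₁ := by
    refine ⟨hZ₁V.trans hVN, fun P φ hφ => ?_⟩
    rw [hN] at hφ
    obtain ⟨hφF, hPN, hφN, ψ, hψ, hψe, hψV⟩ := hφ
    have hψN : ψ ∈ N.Hom (P ⊔ V) := by
      rw [hN]
      exact Cfsg.Agent.S5126.mem_normalizerHom_of_map_eq F le_sup_right (sup_le hPN hVN) hψ hψV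
    have hle : P ⊔ Z₁ ≤ P ⊔ V := sup_le_sup_left hZ₁V P
    refine ⟨ψ.comp (Subgroup.inclusion hle), Cfsg.Agent.Lib.Helper87.restrict_mem N hψN hle, fun x => hψe x, ?_⟩
    rintro ⟨z, hz⟩
    have hVPV : V ≤ P ⊔ V := le_sup_right
    have hφV : ψ.comp (Subgroup.inclusion hVPV) ∈ F.Hom V := Cfsg.Agent.Lib.Helper87.restrict_mem F hψ hVPV
    have hrange : (ψ.comp (Subgroup.inclusion hVPV)).range = V := by
      rw [range_comp_inclusion ψ hVPV]
      exact hψV
    obtain ⟨α, hα, hαx⟩ := Cfsg.Agent.Lib.Helper88.exists_aut_of_range_eq F hφV hrange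
    obtain ⟨hzZv, hzfix⟩ := hz
    have h1 := congrArg (fun y : Zv => (y : Ω)) (hzfix ⟨α, hα⟩)
    have h2 : ((α ⟨z, hZvV hzZv⟩ : V) : Ω) = z := h1
    rw [hαx] at h2
    exact h2
  have hZ₁le : Z₁ ≤ N.center := le_center_of_isCentral N hZ₁c
  -- fixed points of `Aut_F(V)`
  have hfixN : ∀ z : Zv, (∀ α : F.autGroup V, α • z = z) ↔ (z : Ω) ∈ N.center := by
    intro z
    constructor
    · intro h
      exact hZ₁le ⟨z.2, h⟩
    · intro hz α
      apply Subtype.ext
      rw [hsmul]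
      exact apply_eq_of_isCentral N hNc (hautN α α.2) hz (hZvV z.2)
  have hZSZv : centralizerIn S S ≤ Zv := by
    intro x hx
    refine ⟨hZV hx, Subgroup.mem_centralizer_iff.2 ?_⟩
    intro v hv
    exact Subgroup.mem_centralizer_iff.1 hx.2 v (hVS hv)
  refine ⟨K.map Zv.subtype, ?_, ?_, ?_⟩
  · rintro _ ⟨k, hk, rfl⟩
    exact (hfixT k).1 (hK1 k hk)
  · rw [eq_bot_iff]
    rintro x ⟨hxN, k, hk, rfl⟩
    have h1 : k = 1 := hK2 k ((hfixN k).2 hxN) hk
    rw [h1]
    exact Subgroup.one_mem _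
  · apply le_antisymm
    · apply sup_le hNcS
      rintro _ ⟨k, hk, rfl⟩
      exact (hfixT k).1 (hK1 k hk)
    · intro x hx
      obtain ⟨w, k, hw, hk, hxwk⟩ := hK3 ⟨x, hZSZv hx⟩ ((hfixT ⟨x, hZSZv hx⟩).2 hx)
      have h1 : x = (w : Ω) * (k : Ω) := congrArg (fun y : Zv => (y : Ω)) hxwk
      rw [h1]
      exact Subgroup.mul_mem_sup ((hfixN w).1 hw) ⟨k, hk, rfl⟩

end complement

section kinf

variable {p : ℕ} [Fact p.Prime]

/-- `K_∞` contains the centre. -/
theorem centerLe_kInfLower : CenterLe.{u} p (fun Q _ => Cfsg.kInfLower Q) := by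
  intro Q _ _ hQ
  exact (Cfsg.Agent.S1978.result hQ).2.1.trans (Cfsg.Agent.S1978.result hQ).1

/-- `K_∞` satisfies the local hypothesis for control of weak closure of elements, `p` odd (Glauberman; S1985). -/
theorem wcHyp_kInfLower (hp : p ≠ 2) : WCHyp.{u} p (fun Q _ => Cfsg.kInfLower Q) := by
  intro G _ _ P x hx hn g
  obtain ⟨-, T, -, hTp, hTidx, hctl⟩ := Cfsg.Agent.S1985.result (G := G) hp
  have hW := Cfsg.Agent.Lib.Helper33.isCharPFunctor_kInfLower.{u} p
  have hcf := Cfsg.Agent.Lib.Helper33.isConjugacyFunctor_inducedFunctor (G := G) _ hW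
  have hTidx' : ¬ p ∣ T.index := by rwa [Subgroup.relIndex_top_right] at hTidx
  obtain ⟨-, -, hWconj⟩ := hcf T hTp
  let T' : Sylow p G := hTp.toSylow hTidx'
  obtain ⟨c, hc⟩ := MulAction.exists_smul_eq G T' P
  have hPT : (P : Subgroup G) = T.map (MulAut.conj c).toMonoidHom := by
    rw [← hc]
    rfl
  have hcoreT : pCore p G ≤ T := Cfsg.Agent.Lib.Helper76.pCore_le_sylow p T'
  have hcoren : (pCore p G).Normal := inferInstance
  -- the conjugate element
  have hx' : c⁻¹ * x * c⁻¹⁻¹ ∈ pCore p G := hcoren.conj_mem x hx c⁻¹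
  have hcen : c⁻¹ * x * c⁻¹⁻¹ ∈ T ⊓ Subgroup.centralizer
      (((⊤ : Subgroup G) ⊓ Subgroup.normalizer ((Cfsg.inducedFunctor (G := G) Cfsg.kInfLower T : Subgroup G) : Set G) :
        Subgroup G) : Set G) := by
    refine ⟨hcoreT hx', Subgroup.mem_centralizer_iff.2 ?_⟩
    rintro m ⟨-, hm⟩
    have hm' : c * m * c⁻¹ ∈ Subgroup.normalizer
        ((Cfsg.inducedFunctor (G := G) (fun Q _ => Cfsg.kInfLower Q) (P : Subgroup G) : Subgroup G) : Set G) := by
      rw [hPT]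
      have h1 := hWconj c
      have h2 : Cfsg.inducedFunctor (G := G) (fun Q _ => Cfsg.kInfLower Q) (T.map (MulAut.conj c).toMonoidHom) =
          (Cfsg.inducedFunctor (G := G) Cfsg.kInfLower T).map (MulAut.conj c).toMonoidHom := h1
      rw [h2]
      have h3 := Subgroup.map_normalizer_eq_of_bijective (Cfsg.inducedFunctor (G := G) Cfsg.kInfLower T)
        (f := (MulAut.conj c).toMonoidHom) (MulAut.conj c).bijective
      have h4 : c * m * c⁻¹ ∈ (Subgroup.normalizer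
          ((Cfsg.inducedFunctor (G := G) Cfsg.kInfLower T : Subgroup G) : Set G)).map (MulAut.conj c).toMonoidHom :=
        ⟨m, hm, rfl⟩
      rw [h3] at h4
      exact h4
    have h5 := hn _ hm'
    show m * (c⁻¹ * x * c⁻¹⁻¹) = c⁻¹ * x * c⁻¹⁻¹ * m
    have e1 : m * (c⁻¹ * x * c⁻¹⁻¹) = c⁻¹ * ((c * m * c⁻¹) * x) * c := by group
    have e2 : c⁻¹ * x * c⁻¹⁻¹ * m = c⁻¹ * (x * (c * m * c⁻¹)) * c := by group
    rw [e1, e2, h5]
  have hwc : ∀ h : G, h * (c⁻¹ * x * c⁻¹⁻¹) * h⁻¹ = c⁻¹ * x * c⁻¹⁻¹ := by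
    intro h
    exact hctl _ hcen h (Subgroup.mem_top h) (hcoreT (hcoren.conj_mem _ hx' h))
  have e3 : c * (c⁻¹ * x * c⁻¹⁻¹) * c⁻¹ = x := by group
  have hxy : c⁻¹ * x * c⁻¹⁻¹ = x := (hwc c).symm.trans e3
  have h8 := hwc g
  rw [hxy] at h8
  calc g * x = g * x * g⁻¹ * g := by group
    _ = x * g := by rw [h8]

end kinf

end Cfsg.Agent.Lib.Helper85
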