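import Cfsg.Agent.Lib.Helper85.FusionTate2
import Cfsg.Agent.Lib.Helper85.FusionNC
import Cfsg.Agent.Lib.Helper88.FusionInner
import Cfsg.Agent.Lib.Helper87.FusionKNormSat
import Cfsg.Agent.Lib.Helper1.PGroupMax
import Cfsg.Agent.S5083

/-!
# Criteria for a saturated fusion system to be inner

* `eq_inner_of_focal_le_frattini`: `foc(E) ≤ Φ(S)` implies `E = F_S(S)` (Tate);
* `eq_inner_of_stronglyClosed_le_frattini`: if `Aut_E(S) = Inn(S)` and some strongly closed `Q` satisfies
  `[S,S] ≤ Q ≤ Φ(S)`, then `E = F_S(S)`.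
-/

set_option autoImplicit false

namespace Cfsg.Agent.Lib.Helper85

open Cfsg Cfsg.FusionSystem
open scoped commutatorElement

universe u

theorem commutator_le_frattini_of_isPGroup {G : Type*} [Group G] [Finite G] {p : ℕ} [hp : Fact p.Prime]
    (hG : IsPGroup p G) : commutator G ≤ frattini G := by
  unfold frattini Order.radical
  refine le_iInf₂ (fun M hM => ?_)
  have hMn : M.Normal := Cfsg.Agent.Lib.Helper1.coatom_normal_of_isPGroup hG hM
  have hidx : M.index = p := Cfsg.Agent.Lib.Helper1.coatom_index_of_isPGroup hG hM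
  have hcard : Nat.card (G ⧸ M) = p := by rw [← Subgroup.index_eq_card]; exact hidx
  have hcyc : IsCyclic (G ⧸ M) := isCyclic_of_prime_card hcard
  let _ : CommGroup (G ⧸ M) := IsCyclic.commGroup
  have h := Abelianization.commutator_subset_ker (QuotientGroup.mk' M)
  rwa [QuotientGroup.ker_mk'] at h

variable {Ω : Type u} [Group Ω] {S : Subgroup Ω}

theorem inner_isSubsystemOf (E : FusionSystem S) : (innerFusionSystem S).IsSubsystemOf E := by
  rintro P φ ⟨hP, g, hg, h⟩
  have : φ = conjHom P g := by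
    ext x
    exact h x
  rw [this]
  exact E.conj_mem hP hg

theorem autGroup_inner_le (P : Subgroup Ω) : (innerFusionSystem S).autGroup P ≤ autInducedBy S P := by
  unfold FusionSystem.autGroup autInducedBy
  apply Subgroup.closure_mono
  rintro α ⟨-, g, hg, h⟩
  exact ⟨g, hg, fun x => h x⟩

theorem hyperfocal_inner_eq_bot {p : ℕ} (hS : IsPGroup p S) :
    (innerFusionSystem S).hyperfocalSubgroup p = ⊥ := by
  rw [eq_bot_iff]
  unfold FusionSystem.hyperfocalSubgroup
  rw [Subgroup.closure_le]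
  rintro y ⟨P, α, x, -, hα, rfl⟩
  have hp : IsPGroup p ((innerFusionSystem S).autGroup P) :=
    (Helper87.autInducedBy_isPGroup hS P).to_le (autGroup_inner_le P)
  rw [Helper84.pResidual_eq_bot_of_isPGroup hp, Subgroup.mem_bot] at hα
  rw [hα]
  show (x : Ω)⁻¹ * (((1 : MulAut P) x : P) : Ω) ∈ (⊥ : Subgroup Ω)
  rw [MulAut.one_apply, inv_mul_cancel]
  exact Subgroup.one_mem _

/-- A saturated fusion system with trivial hyperfocal subgroup is inner. -/
theorem eq_inner_of_hyperfocal_eq_bot [Finite S] (E : FusionSystem S) {p : ℕ} [Fact p.Prime]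
    (hS : IsPGroup p S) (hE : E.IsSaturated p) (h : E.hyperfocalSubgroup p = ⊥) :
    E = innerFusionSystem S := by
  apply Cfsg.Agent.S5083.result p hS E hE
  intro P hPS
  have : Finite P := Helper87.finite_of_le hPS
  intro g
  refine ⟨(orderOf g).factorization p, ?_⟩
  have h1 := Helper34.pow_ordProj_mem_pResidual p g
  apply Subtype.ext
  apply MulEquiv.ext
  intro x
  have h2 : (x : Ω)⁻¹ * ((((g ^ p ^ (orderOf g).factorization p : E.autGroup P) : MulAut P) x : P) : Ω) ∈
      E.hyperfocalSubgroup p := Subgroup.subset_closure ⟨P, _, x, hPS, h1, rfl⟩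
  rw [h, Subgroup.mem_bot, inv_mul_eq_one] at h2
  exact (Subtype.ext h2).symm

/-- **Tate**: a saturated fusion system whose focal subgroup lies in the Frattini subgroup is inner. -/
theorem eq_inner_of_focal_le_frattini [Finite S] (E : FusionSystem S) {p : ℕ} [Fact p.Prime]
    (hS : IsPGroup p S) (hE : E.IsSaturated p)
    (h : E.focalSubgroup ≤ (frattini ↥S).map S.subtype) : E = innerFusionSystem S := by
  have hIE := inner_isSubsystemOf E
  have hI : (innerFusionSystem S).IsSaturated p := Helper88.inner_isSaturated hS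
  have h1 : (frattini ↥S).map S.subtype ⊔ E.focalSubgroup =
      (frattini ↥S).map S.subtype ⊔ (innerFusionSystem S).focalSubgroup := by
    rw [sup_eq_left.2 h, sup_eq_left.2 ((focal_mono hIE).trans h)]
  have h2 := focal_eq_of_frattini_sup_eq E (innerFusionSystem S) hS hE hIE h1
  have h3 := hyperfocal_le_of_focal_eq E (innerFusionSystem S) hS hE hI hIE h2
  rw [hyperfocal_inner_eq_bot hS] at h3
  exact eq_inner_of_hyperfocal_eq_bot E hS hE (le_bot_iff.1 h3)

/-- If `Aut_E(S)` is inner and `Q ⊇ [S,S]` is strongly closed, every map of `E` is the identity modulo `Q`. -/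
theorem inv_mul_mem_of_stronglyClosed [Finite S] (E : FusionSystem S) {p : ℕ} [Fact p.Prime]
    (hS : IsPGroup p S) (hE : E.IsSaturated p)
    (hAut : ∀ ν : S →* Ω, ν ∈ E.Hom S → ∃ g ∈ S, ∀ x : S, ν x = g * (x : Ω) * g⁻¹)
    (Q : Subgroup Ω) (hQ : E.StronglyClosed Q) (h1 : ⁅(S : Subgroup Ω), (S : Subgroup Ω)⁆ ≤ Q)
    {P : Subgroup Ω} {φ : P →* Ω} (hφ : φ ∈ E.Hom P) (x : P) : (x : Ω)⁻¹ * φ x ∈ Q := by
  refine (Helper87.alperin_weak E (Cfsg.Agent.S5092.subE E Q h1) hS hE ?_ P hφ).2 x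
  intro R hRa hRr IH α hα
  have hRS : R ≤ S := hRa.1
  have hαF : R.subtype.comp (α : R ≃* R).toMonoidHom ∈ E.Hom R := (Helper87.mem_autGroup_iff E hRS).1 hα
  refine ⟨hαF, ?_⟩
  have hcomm : ∀ (y t : Ω), y ∈ S → t ∈ S → y⁻¹ * (t * y * t⁻¹) ∈ Q := by
    intro y t hy ht
    have e : y⁻¹ * (t * y * t⁻¹) = ⁅y⁻¹, t⁆ := by rw [commutatorElement_def]; group
    rw [e]
    exact h1 (Subgroup.commutator_mem_commutator (S.inv_mem hy) ht)
  by_cases hRtop : R = S
  · subst hRtop
    obtain ⟨g, hg, hgx⟩ := hAut _ hαF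
    intro y
    have : (R.subtype.comp (α : R ≃* R).toMonoidHom) y = g * (y : Ω) * g⁻¹ := hgx y
    rw [this]
    exact hcomm _ _ y.2 hg
  · obtain ⟨t, htN, htR⟩ := Helper87.exists_mem_normalizerIn_not_mem hS hRS hRtop
    have hDn : ∀ α ∈ E.autGroup R, ∀ β ∈ autModSub Q R, α * β * α⁻¹ ∈ autModSub Q R := by
      intro a ha b hb y
      have h1 := hb (a⁻¹ y)
      have h2 := Helper87.StronglyClosed_aut_mem hQ hRS ha (r := (a⁻¹ y)⁻¹ * b (a⁻¹ y)) h1
      have e1 : a (a⁻¹ y) = y := MulAut.apply_inv_self _ _ _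
      have e : (y : Ω)⁻¹ * (((a * b * a⁻¹) y : R) : Ω) = ((a ((a⁻¹ y)⁻¹ * b (a⁻¹ y)) : R) : Ω) := by
        rw [map_mul, map_inv, e1]
        rfl
      rw [e]
      exact h2
    have hgD : Helper87.conjAut R t htN.2 ∈ autModSub Q R := by
      intro y
      show (y : Ω)⁻¹ * (t * (y : Ω) * t⁻¹) ∈ Q
      exact hcomm _ _ (hRS y.2) htN.1
    obtain ⟨δ, hδ, X, ψ, hψ, hRX, hXN, htX, hψe⟩ :=
      Helper87.exists_frattini_extension E hS hRa hRr (autModSub Q R) hDn α hα t htN hgD
    have hXS : X ≤ S := hXN.trans inf_le_left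
    have hfinX : Finite X := Helper87.finite_of_le hXS
    have hlt : Nat.card R < Nat.card X := by
      by_contra hlt
      push Not at hlt
      have := Subgroup.eq_of_le_of_card_ge hRX hlt
      rw [this] at htR
      exact htR htX
    have hψQ := (IH X hlt hψ).2
    have hδα : δ * α ∈ autModSub Q R := by
      intro y
      have h2 := hψe y y.2 (hRX y.2)
      have h3 := hψQ ⟨y, hRX y.2⟩
      rw [h2] at h3
      exact h3
    have hα' : α = δ⁻¹ * (δ * α) := by group
    intro y
    have h4 : α ∈ autModSub Q R := by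
      rw [hα']
      exact Subgroup.mul_mem _ (Subgroup.inv_mem _ hδ) hδα
    exact h4 y

/-- If `Aut_E(S)` is inner and some strongly closed subgroup `Q` satisfies `[S,S] ≤ Q ≤ Φ(S)`, then `E` is inner. -/
theorem eq_inner_of_stronglyClosed_le_frattini [Finite S] (E : FusionSystem S) {p : ℕ} [Fact p.Prime]
    (hS : IsPGroup p S) (hE : E.IsSaturated p)
    (hAut : ∀ ν : S →* Ω, ν ∈ E.Hom S → ∃ g ∈ S, ∀ x : S, ν x = g * (x : Ω) * g⁻¹)
    (Q : Subgroup Ω) (hQ : E.StronglyClosed Q) (h1 : ⁅(S : Subgroup Ω), (S : Subgroup Ω)⁆ ≤ Q)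
    (h2 : Q ≤ (frattini ↥S).map S.subtype) : E = innerFusionSystem S := by
  apply eq_inner_of_focal_le_frattini E hS hE
  refine le_trans ?_ h2
  unfold FusionSystem.focalSubgroup
  rw [Subgroup.closure_le]
  rintro y ⟨P, φ, x, hφ, rfl⟩
  exact inv_mul_mem_of_stronglyClosed E hS hE hAut Q hQ h1 hφ x

/-- If the normalizer system of `S` is inner, every automorphism of `S` in the system is inner. -/
theorem aut_top_inner_of_normalizer_inner [Finite S] (F : FusionSystem S)
    (hN : ∀ N : FusionSystem (normalizerIn S S), F.IsNormalizerSystem S N →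
      ∀ P : Subgroup Ω, N.Hom P = (innerFusionSystem (normalizerIn S S)).Hom P)
    (ν : S →* Ω) (hν : ν ∈ F.Hom S) : ∃ g ∈ S, ∀ x : S, ν x = g * (x : Ω) * g⁻¹ := by
  have h := hN (normalizerSystem F S le_rfl) (isNormalizerSystem_normalizerSystem F S le_rfl) S
  have hSN : S ≤ normalizerIn S S := fun x hx => ⟨hx, Subgroup.le_normalizer hx⟩
  have hνS : ∀ x : S, ν x ∈ S := (F.le_of_mem hν).2
  have hle : S ⊔ S ≤ S := sup_le le_rfl le_rfl
  have hsurj : Function.Surjective (ν.codRestrict S hνS) := by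
    apply Finite.surjective_of_injective
    intro a b hab
    apply F.injective_of_mem hν
    exact congrArg Subtype.val hab
  have hmem : ν ∈ (normalizerSystem F S le_rfl).Hom S := by
    show ν ∈ F.normalizerHom S S
    refine ⟨hν, hSN, fun x => hSN (hνS x), ν.comp (Subgroup.inclusion hle), restrict_mem F hν hle,
      fun x => ?_, ?_⟩
    · show ν _ = ν x
      congr 1
    · rw [Helper87.map_subgroupOf_eq_iff]
      refine ⟨fun x _ => hνS _, fun q hq => ?_⟩
      obtain ⟨y, hy⟩ := hsurj ⟨q, hq⟩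
      refine ⟨⟨y, le_sup_left (a := S) (b := S) y.2⟩, y.2, ?_⟩
      show ν _ = q
      have := congrArg Subtype.val hy
      exact this
  rw [h] at hmem
  obtain ⟨-, g, hg, hgx⟩ := hmem
  exact ⟨g, hg.1, hgx⟩

end Cfsg.Agent.Lib.Helper85
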