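import Cfsg.Agent.Lib.Helper85.FusionFactor
import Cfsg.Agent.Lib.Helper85.FusionSub
import Cfsg.Agent.Lib.Helper87.FusionFrattini
import Cfsg.Agent.Lib.Helper87.FusionNormal

/-!
# Extending maps of a saturated fusion system modulo a strongly closed subgroup

For `F` saturated over the finite `p`-group `S` and `T` strongly closed in `F`, every map `φ : P → S` of `F` has an
"extension modulo `T`": a map `ψ : P T → S` of `F` with `ψ x ≡ φ x (mod T)` for `x ∈ P` (Puig).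
-/

set_option autoImplicit false

namespace Cfsg.Agent.Lib.Helper85

open Cfsg Cfsg.FusionSystem

variable {Ω : Type*} [Group Ω] {S : Subgroup Ω}

/-- The homomorphism `φ` on `P` has an extension `ψ` in the system to `P T` that agrees with `φ` modulo `T`. -/
def ExtendsMod (F : FusionSystem S) (T : Subgroup Ω) {P : Subgroup Ω} (φ : P →* Ω) : Prop :=
  ∃ ψ ∈ F.Hom (P ⊔ T), ∀ x : P, (φ x)⁻¹ * ψ (Subgroup.inclusion le_sup_left x) ∈ T

section
variable (F : FusionSystem S) {T : Subgroup Ω} (hT : F.StronglyClosed T)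

include hT in
theorem extendsMod_conj {P : Subgroup Ω} (hP : P ≤ S) {g : Ω} (hg : g ∈ S) :
    ExtendsMod F T (conjHom P g) :=
  ⟨conjHom (P ⊔ T) g, F.conj_mem (sup_le hP hT.1) hg, fun x => by
    show (g * (x : Ω) * g⁻¹)⁻¹ * (g * (x : Ω) * g⁻¹) ∈ T
    rw [inv_mul_cancel]; exact T.one_mem⟩

include hT in
theorem extendsMod_comp {P Q : Subgroup Ω} {φ : P →* Ω} {φ₂ : Q →* Ω}
    (h1 : ExtendsMod F T φ) (h2 : ExtendsMod F T φ₂) (h : ∀ x : P, φ x ∈ Q) :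
    ExtendsMod F T (φ₂.comp (φ.codRestrict Q h)) := by
  obtain ⟨ψ₁, hψ₁, e₁⟩ := h1
  obtain ⟨ψ₂, hψ₂, e₂⟩ := h2
  have hmap : ∀ y : ↥(P ⊔ T), ψ₁ y ∈ Q ⊔ T := by
    apply forall_mem_of_sup
    · intro a ha
      have := e₁ ⟨a, ha⟩
      have haPT : a ∈ P ⊔ T := (le_sup_left : P ≤ P ⊔ T) ha
      have e : ψ₁ ⟨a, haPT⟩ =
          φ ⟨a, ha⟩ * ((φ ⟨a, ha⟩)⁻¹ * ψ₁ ⟨a, haPT⟩) := by group
      rw [e]
      exact Subgroup.mul_mem _ (le_sup_left (a := Q) (b := T) (h ⟨a, ha⟩)) (le_sup_right (a := Q) (b := T) this)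
    · intro b hb
      exact le_sup_right (a := Q) (b := T) ((stronglyClosed_apply_mem_iff F hT hψ₁ _).mpr hb)
  refine ⟨ψ₂.comp (ψ₁.codRestrict (Q ⊔ T) hmap), F.comp_mem hψ₁ hψ₂ hmap, fun x => ?_⟩
  have htT : (φ x)⁻¹ * ψ₁ (Subgroup.inclusion le_sup_left x) ∈ T := e₁ x
  have hsplit : (⟨ψ₁ (Subgroup.inclusion le_sup_left x), hmap _⟩ : ↥(Q ⊔ T)) =
      (Subgroup.inclusion le_sup_left (⟨φ x, h x⟩ : Q)) *
        ⟨(φ x)⁻¹ * ψ₁ (Subgroup.inclusion le_sup_left x), le_sup_right (a := Q) (b := T) htT⟩ := by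
    apply Subtype.ext
    show _ = φ x * ((φ x)⁻¹ * ψ₁ (Subgroup.inclusion le_sup_left x))
    group
  show (φ₂ ⟨φ x, h x⟩)⁻¹ * ψ₂ ⟨ψ₁ (Subgroup.inclusion le_sup_left x), hmap _⟩ ∈ T
  rw [hsplit, map_mul, ← mul_assoc]
  exact T.mul_mem (e₂ ⟨φ x, h x⟩) ((stronglyClosed_apply_mem_iff F hT hψ₂ _).mpr htT)

include hT in
theorem extendsMod_inv [Finite S] {P : Subgroup Ω} {φ : P →* Ω} (h1 : ExtendsMod F T φ)
    {φinv : φ.range →* Ω} (hinv : ∀ x : P, φinv ⟨φ x, ⟨x, rfl⟩⟩ = (x : Ω)) :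
    ExtendsMod F T φinv := by
  obtain ⟨ψ, hψ, e⟩ := h1
  obtain ⟨ψinv, hψinv, hψi⟩ := F.inv_mem hψ
  have hTr : T ≤ ψ.range := by
    intro z hz
    obtain ⟨s, -, hs⟩ := stronglyClosed_surj F hT hψ le_sup_right z hz
    exact ⟨s, hs⟩
  have hle : φ.range ⊔ T ≤ ψ.range := by
    refine sup_le ?_ hTr
    rintro _ ⟨x, rfl⟩
    have e1 : φ x = ψ (Subgroup.inclusion le_sup_left x) *
        ((φ x)⁻¹ * ψ (Subgroup.inclusion le_sup_left x))⁻¹ := by group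
    rw [e1]
    exact Subgroup.mul_mem _ ⟨_, rfl⟩ (Subgroup.inv_mem _ (hTr (e x)))
  refine ⟨ψinv.comp (Subgroup.inclusion hle), restrict_mem F hψinv hle, ?_⟩
  rintro ⟨_, x, rfl⟩
  obtain ⟨s, hsT, hs⟩ := stronglyClosed_surj F hT hψ le_sup_right _ (T.inv_mem (e x))
  have key : φ x = ψ (Subgroup.inclusion le_sup_left x * s) := by
    rw [map_mul, hs]; group
  have e2 : (Subgroup.inclusion hle (Subgroup.inclusion le_sup_left (⟨φ x, ⟨x, rfl⟩⟩ : φ.range))) =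
      ⟨ψ (Subgroup.inclusion le_sup_left x * s), ⟨_, rfl⟩⟩ := Subtype.ext key
  show (φinv ⟨φ x, ⟨x, rfl⟩⟩)⁻¹ *
    ψinv (Subgroup.inclusion hle (Subgroup.inclusion le_sup_left (⟨φ x, ⟨x, rfl⟩⟩ : φ.range))) ∈ T
  rw [hinv, e2, hψi]
  show (x : Ω)⁻¹ * ((x : Ω) * (s : Ω)) ∈ T
  rw [inv_mul_cancel_left]
  exact hsT

/-- The subsystem of `F` of the maps that extend modulo the strongly closed subgroup `T`. -/
def modSystem [Finite S] : FusionSystem S where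
  Hom P := {φ | φ ∈ F.Hom P ∧ ExtendsMod F T φ}
  le_of_mem h := F.le_of_mem h.1
  injective_of_mem h := F.injective_of_mem h.1
  conj_mem hP hg := ⟨F.conj_mem hP hg, extendsMod_conj F hT hP hg⟩
  comp_mem := by
    rintro P Q φ φ₂ ⟨hφ, h1⟩ ⟨hφ₂, h2⟩ h
    exact ⟨F.comp_mem hφ hφ₂ h, extendsMod_comp F hT h1 h2 h⟩
  inv_mem := by
    rintro P φ ⟨hφ, h1⟩
    obtain ⟨φinv, hφinv, hinv⟩ := F.inv_mem hφ
    exact ⟨φinv, ⟨hφinv, extendsMod_inv F hT h1 hinv⟩, hinv⟩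

/-- The automorphisms of `R` that are trivial modulo `T`. -/
def autModSub (T R : Subgroup Ω) : Subgroup (MulAut R) where
  carrier := {δ | ∀ x : R, (x : Ω)⁻¹ * ((δ x : R) : Ω) ∈ T}
  one_mem' := fun x => by
    show (x : Ω)⁻¹ * (x : Ω) ∈ T
    rw [inv_mul_cancel]; exact T.one_mem
  mul_mem' := by
    intro a b ha hb x
    have e : (x : Ω)⁻¹ * (((a * b) x : R) : Ω) =
        ((x : Ω)⁻¹ * ((b x : R) : Ω)) * (((b x : R) : Ω)⁻¹ * ((a (b x) : R) : Ω)) := by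
      rw [MulAut.mul_apply]; group
    rw [e]
    exact T.mul_mem (hb x) (ha (b x))
  inv_mem' := by
    intro a ha x
    have h := ha (a⁻¹ x)
    have e1 : a (a⁻¹ x) = x := MulAut.apply_inv_self _ _ _
    rw [e1] at h
    have e : (x : Ω)⁻¹ * ((a⁻¹ x : R) : Ω) = (((a⁻¹ x : R) : Ω)⁻¹ * (x : Ω))⁻¹ := by group
    rw [e]
    exact T.inv_mem h

theorem mem_autModSub_iff {T R : Subgroup Ω} {δ : MulAut R} :
    δ ∈ autModSub T R ↔ ∀ x : R, (x : Ω)⁻¹ * ((δ x : R) : Ω) ∈ T := Iff.rfl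

include hT in
/-- **Puig.** In a saturated fusion system, every map extends modulo a strongly closed subgroup. -/
theorem extendsMod_of_saturated [Finite S] {p : ℕ} [Fact p.Prime] (hS : IsPGroup p S) (hF : F.IsSaturated p)
    {P : Subgroup Ω} {φ : P →* Ω} (hφ : φ ∈ F.Hom P) : ExtendsMod F T φ := by
  refine (Helper87.alperin_weak F (modSystem F hT) hS hF ?_ P hφ).2
  intro R hRa hRr IH α hα
  have hRS : R ≤ S := hRa.1
  have hαF : R.subtype.comp (α : R ≃* R).toMonoidHom ∈ F.Hom R := (Helper87.mem_autGroup_iff F hRS).1 hα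
  refine ⟨hαF, ?_⟩
  by_cases hTR : T ≤ R
  · have hle : R ⊔ T ≤ R := sup_le le_rfl hTR
    refine ⟨_, restrict_mem F hαF hle, fun x => ?_⟩
    show (((α x : R) : Ω))⁻¹ * ((α x : R) : Ω) ∈ T
    rw [inv_mul_cancel]; exact T.one_mem
  · have hRT : R ⊔ T ≤ S := sup_le hRS hT.1
    have hfin : Finite ↥(R ⊔ T) := Helper87.finite_of_le hRT
    have hne : R ≠ R ⊔ T := fun h => hTR (h ▸ le_sup_right)
    obtain ⟨x, hxN, hxR⟩ := Helper87.exists_mem_normalizerIn_not_mem (hS.to_le hRT)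
      (le_sup_left : R ≤ R ⊔ T) hne
    have hx' : x ∈ T ⊔ R := by rw [sup_comm]; exact hxN.1
    obtain ⟨t, ht, r, hr, rfl⟩ := Helper87.exists_mul_of_mem_sup
      (fun k hk h hh => Helper87.StronglyClosed_conj_mem hT (hRS hk) hh) hx'
    have htN : t ∈ normalizerIn S R := by
      refine ⟨hT.1 ht, ?_⟩
      have : t = (t * r) * r⁻¹ := by group
      rw [this]
      exact Subgroup.mul_mem _ hxN.2 (Subgroup.inv_mem _ (Subgroup.le_normalizer hr))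
    have htR : t ∉ R := fun h => hxR (R.mul_mem h hr)
    have hDn : ∀ α ∈ F.autGroup R, ∀ β ∈ autModSub T R, α * β * α⁻¹ ∈ autModSub T R := by
      intro a ha b hb y
      have h1 := hb (a⁻¹ y)
      have h2 := Helper87.StronglyClosed_aut_mem hT hRS ha (r := (a⁻¹ y)⁻¹ * b (a⁻¹ y)) h1
      have e1 : a (a⁻¹ y) = y := MulAut.apply_inv_self _ _ _
      have e : (y : Ω)⁻¹ * (((a * b * a⁻¹) y : R) : Ω) = ((a ((a⁻¹ y)⁻¹ * b (a⁻¹ y)) : R) : Ω) := by
        rw [map_mul, map_inv, e1]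
        rfl
      rw [e]
      exact h2
    have hgD : Helper87.conjAut R t htN.2 ∈ autModSub T R := by
      intro y
      show (y : Ω)⁻¹ * (t * (y : Ω) * t⁻¹) ∈ T
      have h1 := Helper87.StronglyClosed_conj_mem hT (S.inv_mem (hRS y.2)) ht
      have e : (y : Ω)⁻¹ * (t * (y : Ω) * t⁻¹) = ((y : Ω)⁻¹ * t * ((y : Ω)⁻¹)⁻¹) * t⁻¹ := by group
      rw [e]
      exact T.mul_mem h1 (T.inv_mem ht)
    obtain ⟨δ, hδ, X, ψ, hψ, hRX, hXN, htX, hψe⟩ :=
      Helper87.exists_frattini_extension F hS hRa hRr (autModSub T R) hDn α hα t htN hgD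
    have hXS : X ≤ S := hXN.trans inf_le_left
    have hfinX : Finite X := Helper87.finite_of_le hXS
    have hlt : Nat.card R < Nat.card X := by
      by_contra hlt
      push Not at hlt
      have := Subgroup.eq_of_le_of_card_ge hRX hlt
      rw [this] at htR
      exact htR htX
    obtain ⟨-, ψ', hψ', e'⟩ := IH X hlt hψ
    have hle : R ⊔ T ≤ X ⊔ T := sup_le_sup_right hRX T
    refine ⟨_, restrict_mem F hψ' hle, fun y => ?_⟩
    have h1 := e' ⟨y, hRX y.2⟩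
    have h2 := hψe y y.2 (hRX y.2)
    rw [h2] at h1
    have h3 := hδ (α y)
    have e : (((α y : R) : Ω))⁻¹ * ψ' (Subgroup.inclusion le_sup_left (⟨y, hRX y.2⟩ : X)) =
        ((((α y : R) : Ω))⁻¹ * (((δ * α) ⟨y, y.2⟩ : R) : Ω)) *
          (((((δ * α) ⟨y, y.2⟩ : R) : Ω))⁻¹ * ψ' (Subgroup.inclusion le_sup_left (⟨y, hRX y.2⟩ : X))) := by
      group
    show (((α y : R) : Ω))⁻¹ * ψ' (Subgroup.inclusion le_sup_left (⟨y, hRX y.2⟩ : X)) ∈ T
    rw [e]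
    exact T.mul_mem h3 h1

end

end Cfsg.Agent.Lib.Helper85
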