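import Cfsg.Agent.Lib.Helper85.FusionTransfer

/-!
# A Park-type transfer package for saturated fusion systems

For a saturated fusion system `F` over a finite `p`-group `S` there are a finite group `𝔾`, an injective
homomorphism `ι : S → 𝔾`, a subgroup `H ≤ 𝔾` of index prime to `p` containing `ι(S)` and a homomorphism
`ϕ : H → S / S'` such that the maps of `F` are realized by conjugations in `𝔾` and such that, for every `g : 𝔾`,
the homomorphism `t ↦ ϕ (g⁻¹ ι(t) g)` (defined where `g⁻¹ ι(t) g ∈ H`) is induced by a map of `F`.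
-/

set_option autoImplicit false

namespace Cfsg.Agent.Lib.Helper85

open Cfsg Cfsg.FusionSystem MulAction Cfsg.Agent.S5328

universe u

variable {Ω : Type u} [Group Ω] {S : Subgroup Ω}

theorem biι_injective (F : FusionSystem S) {X : Type*} [MulAction (S × S) X] [Nonempty X]
    (hstab : ∀ x : X, IsGraph F (stabilizer (S × S) x)) : Function.Injective (biι S X) := by
  rw [injective_iff_map_eq_one]
  intro s hs
  obtain ⟨x⟩ := (inferInstance : Nonempty X)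
  have h1 : ((s, (1 : S)) : S × S) • x = x := by
    rw [← biι_apply, hs]
    rfl
  obtain ⟨Q, ψ, hψ, hK⟩ := hstab x
  obtain ⟨q, h2, h3⟩ := (hK _).1 (mem_stabilizer_iff.2 h1)
  have hq : q = 1 := Subtype.ext h3.symm
  rw [hq, map_one] at h2
  exact Subtype.ext h2

/-- the key computation: conjugates of elements of `S` lying in the stabilizer of a right orbit -/
theorem park_key [Finite S] (F : FusionSystem S) {X : Type*} [MulAction (S × S) X]
    (hstab : ∀ x : X, IsGraph F (stabilizer (S × S) x)) (x₀ : X)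
    (ϕ : stabilizer (biG S X) (Quotient.mk (rightSetoid S X) x₀) →* Abelianization S)
    (hϕ : ∀ (g : stabilizer (biG S X) (Quotient.mk (rightSetoid S X) x₀)) (s : S),
      ((1 : S), s) • x₀ = ((g : biG S X) : Equiv.Perm X) x₀ → ϕ g = Abelianization.of s)
    (g₀ : biG S X) :
    ∃ (R : Subgroup Ω) (ν : R →* Ω), ν ∈ F.Hom R ∧
      ∀ (t : S) (hk : g₀⁻¹ * biι S X t * g₀ ∈ stabilizer (biG S X) (Quotient.mk (rightSetoid S X) x₀)),
        ∃ (ht : (t : Ω) ∈ R) (hν : ν ⟨t, ht⟩ ∈ S), (ϕ ⟨_, hk⟩)⁻¹ = Abelianization.of ⟨ν ⟨t, ht⟩, hν⟩ := by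
  obtain ⟨Q, ψ, hψ, hK⟩ := hstab ((g₀ : Equiv.Perm X) x₀)
  obtain ⟨ν, hν, hνinv, -⟩ := exists_inv F hψ rfl
  refine ⟨ψ.range, ν, hν, fun t hk => ?_⟩
  have hk' := hk
  rw [mem_stabilizer_iff, smul_mk_rightQuotient] at hk'
  obtain ⟨s, hs⟩ := (rightSetoid S X).iseqv.symm (Quotient.exact hk')
  rw [hϕ ⟨_, hk⟩ s hs]
  have h1 : ((1 : S), s) • ((g₀ : Equiv.Perm X) x₀) =
      ((t, (1 : S)) : S × S) • ((g₀ : Equiv.Perm X) x₀) := by
    rw [← g₀.2 s x₀, hs, ← biι_apply]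
    change (g₀ : Equiv.Perm X) ((g₀ : Equiv.Perm X)⁻¹
      (((biι S X t : biG S X) : Equiv.Perm X) ((g₀ : Equiv.Perm X) x₀))) = _
    rw [Equiv.Perm.inv_def, Equiv.apply_symm_apply]
  have hmem : ((t, s⁻¹) : S × S) ∈ stabilizer (S × S) ((g₀ : Equiv.Perm X) x₀) := by
    rw [mem_stabilizer_iff]
    have e : ((t, s⁻¹) : S × S) = ((1 : S), s⁻¹) * (t, (1 : S)) := by
      rw [Prod.mk_mul_mk, one_mul, mul_one]
    rw [e, mul_smul, ← h1, smul_smul, Prod.mk_mul_mk, one_mul, inv_mul_cancel]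
    exact one_smul _ _
  obtain ⟨q, h2, h3⟩ := (hK _).1 hmem
  have hqr : ψ q ∈ ψ.range := MonoidHom.mem_range.2 ⟨q, rfl⟩
  have htr : (t : Ω) ∈ ψ.range := by
    rw [h2]; exact hqr
  have h5 := hνinv q hqr
  have h6 : ν ⟨(t : Ω), htr⟩ = ((s⁻¹ : S) : Ω) := by
    rw [h3, ← h5]
    congr 1
    exact Subtype.ext h2
  have hνS : ν ⟨(t : Ω), htr⟩ ∈ S := by
    rw [h6]; exact (s⁻¹).2
  refine ⟨htr, hνS, ?_⟩
  rw [← map_inv]
  congr 1
  exact Subtype.ext h6.symm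

/-- **Park-type transfer package.** -/
theorem exists_park [Finite S] (F : FusionSystem S) {p : ℕ} [Fact p.Prime]
    (hS : IsPGroup p S) (hF : F.IsSaturated p) :
    ∃ (𝔾 : Type u) (_ : Group 𝔾) (_ : Finite 𝔾) (ι : S →* 𝔾) (H : Subgroup 𝔾)
      (ϕ : H →* Abelianization S),
      Function.Injective ι ∧ ¬ p ∣ H.index ∧ (∀ s : S, ι s ∈ H) ∧
      (∀ (P : Subgroup Ω) (φ : P →* Ω), φ ∈ F.Hom P → ∃ g : 𝔾, ∀ (x : P) (hx : (x : Ω) ∈ S)
        (hφx : φ x ∈ S), ι ⟨φ x, hφx⟩ = g * ι ⟨x, hx⟩ * g⁻¹) ∧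
      (∀ g : 𝔾, ∃ (R : Subgroup Ω) (ν : R →* Ω), ν ∈ F.Hom R ∧
        ∀ (t : S) (h : g⁻¹ * ι t * g ∈ H), ∃ (ht : (t : Ω) ∈ R) (hν : ν ⟨t, ht⟩ ∈ S),
          ϕ ⟨_, h⟩ = Abelianization.of ⟨ν ⟨t, ht⟩, hν⟩) := by
  obtain ⟨X, hXfin, hXact, hstab, hst, m, hm, hpm⟩ := exists_char_biset F hS hF
  have hcardR : Nat.card (Quotient (rightSetoid S X)) = m := by
    have := card_eq_card_rightQuotient_mul F hstab
    rw [hm] at this
    exact (Nat.eq_of_mul_eq_mul_right Nat.card_pos this).symm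
  have hm0 : m ≠ 0 := by
    rintro rfl
    exact hpm (dvd_zero p)
  have : Nonempty X := by
    have : 0 < Nat.card X := by
      rw [hm]
      exact Nat.mul_pos (Nat.pos_of_ne_zero hm0) Nat.card_pos
    exact (Nat.card_pos_iff.1 this).1
  -- a Sylow subgroup containing the image of `S`
  have hrange : IsPGroup p (biι S X).range := by
    apply hS.of_surjective (biι S X).rangeRestrict
    exact (biι S X).rangeRestrict_surjective
  obtain ⟨P, hP⟩ := hrange.exists_le_sylow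
  obtain ⟨r₀, hr₀⟩ := P.2.nonempty_fixed_point_of_prime_not_dvd_card
    (Quotient (rightSetoid S X)) (by rw [hcardR]; exact hpm)
  have hPH : (P : Subgroup (biG S X)) ≤ stabilizer (biG S X) r₀ := by
    intro g hg
    exact hr₀ ⟨g, hg⟩
  obtain ⟨x₀, rfl⟩ := Quotient.exists_rep r₀
  obtain ⟨ϕ, hϕ⟩ := exists_orbit_hom F hstab x₀
  refine ⟨biG S X, inferInstance, inferInstance, biι S X,
    stabilizer (biG S X) (Quotient.mk (rightSetoid S X) x₀), invMonoidHom.comp ϕ,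
    biι_injective F hstab, ?_, ?_, ?_, ?_⟩
  · intro hdiv
    exact P.not_dvd_index (hdiv.trans (Subgroup.index_dvd_of_le hPH))
  · intro s
    exact hPH (hP (MonoidHom.mem_range.2 ⟨s, rfl⟩))
  · intro P' φ hφ
    obtain ⟨g, hg⟩ := exists_conj_of_mem_stable F hstab hst (F.le_of_mem hφ).1 φ
      (F.le_of_mem hφ).2 hφ
    exact ⟨g, fun x hx hφx => hg x⟩
  · intro g
    obtain ⟨R, ν, hν, h⟩ := park_key F hstab x₀ ϕ hϕ g
    refine ⟨R, ν, hν, fun t hk => ?_⟩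
    obtain ⟨ht, hνS, h1⟩ := h t hk
    exact ⟨ht, hνS, h1⟩

end Cfsg.Agent.Lib.Helper85
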