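import Cfsg.Agent.Lib.Helper85.FusionBasic
import Cfsg.Prelude.Def_FusionComponents

set_option autoImplicit false

namespace Cfsg.Agent.Lib.Helper85

open Cfsg Cfsg.FusionSystem

variable {Ω₁ Ω₂ : Type*} [Group Ω₁] [Group Ω₂] {S₁ : Subgroup Ω₁} {S₂ : Subgroup Ω₂}

theorem fst_mem_map_fst {P : Subgroup (Ω₁ × Ω₂)} (x : P) :
    (x : Ω₁ × Ω₂).1 ∈ P.map (MonoidHom.fst Ω₁ Ω₂) := ⟨x, x.2, rfl⟩

theorem snd_mem_map_snd {P : Subgroup (Ω₁ × Ω₂)} (x : P) :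
    (x : Ω₁ × Ω₂).2 ∈ P.map (MonoidHom.snd Ω₁ Ω₂) := ⟨x, x.2, rfl⟩

theorem map_fst_le_of_le_prod {P : Subgroup (Ω₁ × Ω₂)} (hP : P ≤ S₁.prod S₂) :
    P.map (MonoidHom.fst Ω₁ Ω₂) ≤ S₁ := by
  rintro _ ⟨x, hx, rfl⟩
  exact (Subgroup.mem_prod.mp (hP hx)).1

theorem map_snd_le_of_le_prod {P : Subgroup (Ω₁ × Ω₂)} (hP : P ≤ S₁.prod S₂) :
    P.map (MonoidHom.snd Ω₁ Ω₂) ≤ S₂ := by
  rintro _ ⟨x, hx, rfl⟩
  exact (Subgroup.mem_prod.mp (hP hx)).2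

/-- The set of maps of the product system with source `P`. -/
def prodHom (F₁ : FusionSystem S₁) (F₂ : FusionSystem S₂) (P : Subgroup (Ω₁ × Ω₂)) :
    Set (P →* Ω₁ × Ω₂) :=
  {φ | P ≤ S₁.prod S₂ ∧
      ∃ φ₁ ∈ F₁.Hom (P.map (MonoidHom.fst Ω₁ Ω₂)), ∃ φ₂ ∈ F₂.Hom (P.map (MonoidHom.snd Ω₁ Ω₂)),
        ∀ (x : P) (h₁ : (x : Ω₁ × Ω₂).1 ∈ P.map (MonoidHom.fst Ω₁ Ω₂))
          (h₂ : (x : Ω₁ × Ω₂).2 ∈ P.map (MonoidHom.snd Ω₁ Ω₂)),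
          φ x = (φ₁ ⟨(x : Ω₁ × Ω₂).1, h₁⟩, φ₂ ⟨(x : Ω₁ × Ω₂).2, h₂⟩)}

/-- The direct product of two fusion systems. -/
def productSystem (F₁ : FusionSystem S₁) (F₂ : FusionSystem S₂) : FusionSystem (S₁.prod S₂) where
  Hom P := prodHom F₁ F₂ P
  le_of_mem := by
    rintro P φ ⟨hP, φ₁, hφ₁, φ₂, hφ₂, hφ⟩
    refine ⟨hP, fun x => ?_⟩
    rw [hφ x (fst_mem_map_fst x) (snd_mem_map_snd x)]
    exact Subgroup.mem_prod.mpr ⟨(F₁.le_of_mem hφ₁).2 _, (F₂.le_of_mem hφ₂).2 _⟩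
  injective_of_mem := by
    rintro P φ ⟨hP, φ₁, hφ₁, φ₂, hφ₂, hφ⟩ x y hxy
    rw [hφ x (fst_mem_map_fst x) (snd_mem_map_snd x), hφ y (fst_mem_map_fst y) (snd_mem_map_snd y)] at hxy
    have h1 := F₁.injective_of_mem hφ₁ (congrArg Prod.fst hxy)
    have h2 := F₂.injective_of_mem hφ₂ (congrArg Prod.snd hxy)
    apply Subtype.ext
    exact Prod.ext (congrArg Subtype.val h1) (congrArg Subtype.val h2)
  conj_mem := by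
    intro P g hP hg
    have hg' := Subgroup.mem_prod.mp hg
    refine ⟨hP, conjHom _ g.1, F₁.conj_mem (map_fst_le_of_le_prod hP) hg'.1,
      conjHom _ g.2, F₂.conj_mem (map_snd_le_of_le_prod hP) hg'.2, fun x h₁ h₂ => ?_⟩
    rfl
  comp_mem := by
    rintro P Q φ ψ ⟨hP, φ₁, hφ₁, φ₂, hφ₂, hφ⟩ ⟨hQ, ψ₁, hψ₁, ψ₂, hψ₂, hψ⟩ h
    have h₁ : ∀ x₁ : ↥(P.map (MonoidHom.fst Ω₁ Ω₂)), φ₁ x₁ ∈ Q.map (MonoidHom.fst Ω₁ Ω₂) := by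
      rintro ⟨_, x, hx, rfl⟩
      refine ⟨φ ⟨x, hx⟩, h ⟨x, hx⟩, ?_⟩
      rw [hφ ⟨x, hx⟩ (fst_mem_map_fst _) (snd_mem_map_snd _)]
      rfl
    have h₂ : ∀ x₂ : ↥(P.map (MonoidHom.snd Ω₁ Ω₂)), φ₂ x₂ ∈ Q.map (MonoidHom.snd Ω₁ Ω₂) := by
      rintro ⟨_, x, hx, rfl⟩
      refine ⟨φ ⟨x, hx⟩, h ⟨x, hx⟩, ?_⟩
      rw [hφ ⟨x, hx⟩ (fst_mem_map_fst _) (snd_mem_map_snd _)]
      rfl
    refine ⟨hP, _, F₁.comp_mem hφ₁ hψ₁ h₁, _, F₂.comp_mem hφ₂ hψ₂ h₂, fun x hx₁ hx₂ => ?_⟩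
    show ψ ⟨φ x, h x⟩ = _
    rw [hψ ⟨φ x, h x⟩ (fst_mem_map_fst _) (snd_mem_map_snd _)]
    have e := hφ x hx₁ hx₂
    apply Prod.ext
    · show ψ₁ _ = ψ₁ _
      congr 1
      apply Subtype.ext
      exact congrArg Prod.fst e
    · show ψ₂ _ = ψ₂ _
      congr 1
      apply Subtype.ext
      exact congrArg Prod.snd e
  inv_mem := by
    rintro P φ ⟨hP, φ₁, hφ₁, φ₂, hφ₂, hφ⟩
    have hR : φ.range ≤ S₁.prod S₂ := by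
      rintro _ ⟨x, rfl⟩
      rw [hφ x (fst_mem_map_fst x) (snd_mem_map_snd x)]
      exact Subgroup.mem_prod.mpr ⟨(F₁.le_of_mem hφ₁).2 _, (F₂.le_of_mem hφ₂).2 _⟩
    have hr₁ : φ.range.map (MonoidHom.fst Ω₁ Ω₂) ≤ φ₁.range := by
      rintro _ ⟨_, ⟨x, rfl⟩, rfl⟩
      refine ⟨⟨_, fst_mem_map_fst x⟩, ?_⟩
      rw [hφ x (fst_mem_map_fst x) (snd_mem_map_snd x)]
      rfl
    have hr₂ : φ.range.map (MonoidHom.snd Ω₁ Ω₂) ≤ φ₂.range := by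
      rintro _ ⟨_, ⟨x, rfl⟩, rfl⟩
      refine ⟨⟨_, snd_mem_map_snd x⟩, ?_⟩
      rw [hφ x (fst_mem_map_fst x) (snd_mem_map_snd x)]
      rfl
    obtain ⟨ψ₁, hψ₁, hψ₁x⟩ := F₁.inv_mem hφ₁
    obtain ⟨ψ₂, hψ₂, hψ₂x⟩ := F₂.inv_mem hφ₂
    refine ⟨((ψ₁.comp (Subgroup.inclusion hr₁)).comp ((MonoidHom.fst Ω₁ Ω₂).subgroupMap φ.range)).prod
      ((ψ₂.comp (Subgroup.inclusion hr₂)).comp ((MonoidHom.snd Ω₁ Ω₂).subgroupMap φ.range)),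
      ⟨hR, ψ₁.comp (Subgroup.inclusion hr₁), restrict_mem F₁ hψ₁ hr₁,
        ψ₂.comp (Subgroup.inclusion hr₂), restrict_mem F₂ hψ₂ hr₂, fun x h₁ h₂ => rfl⟩, fun x => ?_⟩
    have e := hφ x (fst_mem_map_fst x) (snd_mem_map_snd x)
    apply Prod.ext
    · show ψ₁ ⟨(φ x).1, _⟩ = (x : Ω₁ × Ω₂).1
      have := hψ₁x ⟨_, fst_mem_map_fst x⟩
      refine Eq.trans ?_ this
      congr 1
      apply Subtype.ext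
      exact congrArg Prod.fst e
    · show ψ₂ ⟨(φ x).2, _⟩ = (x : Ω₁ × Ω₂).2
      have := hψ₂x ⟨_, snd_mem_map_snd x⟩
      refine Eq.trans ?_ this
      congr 1
      apply Subtype.ext
      exact congrArg Prod.snd e

theorem isProductSystem_productSystem (F₁ : FusionSystem S₁) (F₂ : FusionSystem S₂) :
    IsProductSystem F₁ F₂ (productSystem F₁ F₂) := fun _ _ => Iff.rfl

end Cfsg.Agent.Lib.Helper85
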