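import Cfsg.Agent.Lib.Helper85.FusionInduced
import Cfsg.Agent.Lib.Helper85.FusionSub

/-!
# Automorphisms induced on a quotient

For `θ : S →* Ω'`, `Q' ≤ θ(S)` and `Q` the full preimage of `Q'`, the automorphisms of `Q` preserving the kernel of `θ` induce
automorphisms of `Q'`; this is a group homomorphism `kerStab θ Q' →* MulAut Q'`.
-/

set_option autoImplicit false

namespace Cfsg.Agent.Lib.Helper85

open Cfsg Cfsg.FusionSystem

variable {Ω : Type*} [Group Ω] {S : Subgroup Ω} {Ω' : Type*} [Group Ω'] (θ : S →* Ω')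

theorem mem_imageAlong_iff (P : Subgroup Ω) (y : Ω') :
    y ∈ imageAlong θ P ↔ ∃ (x : Ω) (hx : x ∈ S), x ∈ P ∧ θ ⟨x, hx⟩ = y :=
  mem_map_subgroupOf_iff θ

theorem imageAlong_preimageAlong {P' : Subgroup Ω'} (hP' : P' ≤ θ.range) :
    imageAlong θ (preimageAlong θ P') = P' := by
  ext y
  rw [mem_imageAlong_iff]
  constructor
  · rintro ⟨x, hx, hxP, rfl⟩
    exact ((mem_preimageAlong_iff θ P' x).mp hxP).2
  · intro hy
    obtain ⟨s, rfl⟩ := hP' hy
    exact ⟨s, s.2, (mem_preimageAlong_iff θ P' s).mpr ⟨s.2, hy⟩, rfl⟩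

/-- Elements of the full preimage, applied to `θ`. -/
def θp (P' : Subgroup Ω') (x : ↥(preimageAlong θ P')) : Ω' := θ ⟨x, preimageAlong_le θ P' x.2⟩

theorem θp_mem (P' : Subgroup Ω') (x : ↥(preimageAlong θ P')) : θp θ P' x ∈ P' :=
  ((mem_preimageAlong_iff θ P' x).mp x.2).2

theorem θp_mul (P' : Subgroup Ω') (x y : ↥(preimageAlong θ P')) : θp θ P' (x * y) = θp θ P' x * θp θ P' y := by
  unfold θp
  rw [← map_mul]
  rfl

theorem θp_inv (P' : Subgroup Ω') (x : ↥(preimageAlong θ P')) : θp θ P' x⁻¹ = (θp θ P' x)⁻¹ := by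
  unfold θp
  rw [← map_inv]
  rfl

theorem exists_θp_eq {P' : Subgroup Ω'} (hP' : P' ≤ θ.range) (y : P') :
    ∃ x : ↥(preimageAlong θ P'), θp θ P' x = y := by
  obtain ⟨x, hx⟩ := preimageRestrict_surjective θ hP' y
  exact ⟨x, congrArg Subtype.val hx⟩

/-- The automorphisms of the full preimage of `Q'` that preserve the kernel of `θ`. -/
def kerStab (Q' : Subgroup Ω') : Subgroup (MulAut ↥(preimageAlong θ Q')) where
  carrier := {γ | ∀ x, θp θ Q' x = 1 ↔ θp θ Q' (γ x) = 1}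
  one_mem' := fun _ => Iff.rfl
  mul_mem' := by
    intro a b ha hb x
    rw [MulAut.mul_apply]
    exact (hb x).trans (ha (b x))
  inv_mem' := by
    intro a ha x
    have := ha (a⁻¹ x)
    rw [MulAut.apply_inv_self] at this
    exact this.symm

variable {Q' : Subgroup Ω'} (hQ' : Q' ≤ θ.range)

/-- The endomorphism of `Q'` induced by a kernel-preserving automorphism of its full preimage. -/
noncomputable def inducedEnd (γ : kerStab θ Q') : Q' →* Q' :=
  (inducedHom θ hQ' ((preimageAlong θ Q').subtype.comp (γ : MulAut ↥(preimageAlong θ Q')).toMonoidHom)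
    (fun x => preimageAlong_le θ Q' ((γ : MulAut ↥(preimageAlong θ Q')) x).2)
    (fun x hx => (γ.2 x).mp hx)).codRestrict Q' (by
      intro y
      obtain ⟨x, hx⟩ := preimageRestrict_surjective θ hQ' y
      have hx' : θ ⟨x, preimageAlong_le θ Q' x.2⟩ = y := congrArg Subtype.val hx
      have h1 := inducedHom_apply θ hQ'
        ((preimageAlong θ Q').subtype.comp (γ : MulAut ↥(preimageAlong θ Q')).toMonoidHom)
        (fun x => preimageAlong_le θ Q' ((γ : MulAut ↥(preimageAlong θ Q')) x).2)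
        (fun x hx => (γ.2 x).mp hx) x (hx' ▸ y.2)
      have h2 : (⟨θ ⟨x, preimageAlong_le θ Q' x.2⟩, hx' ▸ y.2⟩ : Q') = y := Subtype.ext hx'
      rw [h2] at h1
      rw [h1]
      exact θp_mem θ Q' _)

theorem inducedEnd_apply (γ : kerStab θ Q') (x : ↥(preimageAlong θ Q')) (hx : θp θ Q' x ∈ Q') :
    ((inducedEnd θ hQ' γ ⟨θp θ Q' x, hx⟩ : Q') : Ω') = θp θ Q' ((γ : MulAut ↥(preimageAlong θ Q')) x) :=
  inducedHom_apply θ hQ' _ _ _ x hx

theorem inducedEnd_mul_apply (γ δ : kerStab θ Q') (y : Q') :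
    inducedEnd θ hQ' (γ * δ) y = inducedEnd θ hQ' γ (inducedEnd θ hQ' δ y) := by
  obtain ⟨x, hx⟩ := exists_θp_eq θ hQ' y
  have hy : y = ⟨θp θ Q' x, hx ▸ y.2⟩ := Subtype.ext hx.symm
  apply Subtype.ext
  rw [hy, inducedEnd_apply]
  have h1 : inducedEnd θ hQ' δ ⟨θp θ Q' x, hx ▸ y.2⟩ =
      ⟨θp θ Q' ((δ : MulAut ↥(preimageAlong θ Q')) x), θp_mem θ Q' _⟩ :=
    Subtype.ext (inducedEnd_apply θ hQ' δ x _)
  rw [h1, inducedEnd_apply]
  rfl

theorem inducedEnd_one_apply (y : Q') : inducedEnd θ hQ' 1 y = y := by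
  obtain ⟨x, hx⟩ := exists_θp_eq θ hQ' y
  have hy : y = ⟨θp θ Q' x, hx ▸ y.2⟩ := Subtype.ext hx.symm
  apply Subtype.ext
  rw [hy, inducedEnd_apply]
  rfl

/-- The automorphism of `Q'` induced by a kernel-preserving automorphism of its full preimage. -/
noncomputable def inducedAut (γ : kerStab θ Q') : MulAut Q' :=
  { toFun := inducedEnd θ hQ' γ
    invFun := inducedEnd θ hQ' γ⁻¹
    left_inv := fun y => by
      rw [← inducedEnd_mul_apply, inv_mul_cancel, inducedEnd_one_apply]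
    right_inv := fun y => by
      rw [← inducedEnd_mul_apply, mul_inv_cancel, inducedEnd_one_apply]
    map_mul' := map_mul _ }

theorem inducedAut_apply (γ : kerStab θ Q') (x : ↥(preimageAlong θ Q')) (hx : θp θ Q' x ∈ Q') :
    ((inducedAut θ hQ' γ ⟨θp θ Q' x, hx⟩ : Q') : Ω') = θp θ Q' ((γ : MulAut ↥(preimageAlong θ Q')) x) :=
  inducedEnd_apply θ hQ' γ x hx

/-- Passing to the induced automorphism, as a group homomorphism. -/
noncomputable def inducedAutHom : kerStab θ Q' →* MulAut Q' :=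
  MonoidHom.mk' (inducedAut θ hQ') (fun γ δ => by
    ext y
    exact congrArg Subtype.val (inducedEnd_mul_apply θ hQ' γ δ y))

theorem inducedAutHom_apply (γ : kerStab θ Q') (x : ↥(preimageAlong θ Q')) (hx : θp θ Q' x ∈ Q') :
    ((inducedAutHom θ hQ' γ ⟨θp θ Q' x, hx⟩ : Q') : Ω') = θp θ Q' ((γ : MulAut ↥(preimageAlong θ Q')) x) :=
  inducedEnd_apply θ hQ' γ x hx

/-- An automorphism of `Q'` is the induced one as soon as it is compatible with `θ`. -/
theorem eq_inducedAutHom (γ : kerStab θ Q') (γ' : MulAut Q')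
    (h : ∀ (x : ↥(preimageAlong θ Q')) (hx : θp θ Q' x ∈ Q'),
      ((γ' ⟨θp θ Q' x, hx⟩ : Q') : Ω') = θp θ Q' ((γ : MulAut ↥(preimageAlong θ Q')) x)) :
    inducedAutHom θ hQ' γ = γ' := by
  ext y
  obtain ⟨x, hx⟩ := exists_θp_eq θ hQ' y
  have hy : y = ⟨θp θ Q' x, hx ▸ y.2⟩ := Subtype.ext hx.symm
  rw [hy, inducedAutHom_apply, h]

/-- The kernel of `inducedAutHom`: the automorphisms trivial modulo the kernel of `θ`. -/
theorem inducedAutHom_eq_one_iff (γ : kerStab θ Q') :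
    inducedAutHom θ hQ' γ = 1 ↔ ∀ x, θp θ Q' ((γ : MulAut ↥(preimageAlong θ Q')) x) = θp θ Q' x := by
  constructor
  · intro h x
    have h1 := inducedAutHom_apply θ hQ' γ x (θp_mem θ Q' x)
    rw [h] at h1
    exact h1.symm
  · intro h
    apply eq_inducedAutHom
    intro x hx
    rw [h x]
    rfl

end Cfsg.Agent.Lib.Helper85
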