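import Cfsg.Agent.Lib.Helper85.TwistedTransfer
import Cfsg.Agent.Lib.Helper85.FusionModT
import Cfsg.Agent.S5124

/-!
# Tate's theorem for fusion systems: extension of invariant homomorphisms of the hyperfocal subgroup

For `F` saturated over the finite `p`-group `S` with hyperfocal subgroup `T`, every `S`-invariant homomorphism
`T → A` into a commutative group extends, up to a power prime to `p`, to a homomorphism `S → A`
(`tate_extension`).  The proof is a twisted transfer on a characteristic biset.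
-/

set_option autoImplicit false

namespace Cfsg.Agent.Lib.Helper85

open Cfsg Cfsg.FusionSystem MulAction Cfsg.Agent.S5328

universe u

variable {Ω : Type u} [Group Ω] {S : Subgroup Ω}

/-- The subsystem of `F` of the maps that are conjugations by elements of `S` modulo the kernel of `π`. -/
def conjModSystem (F : FusionSystem S) {Q : Type*} [Group Q] (π : S →* Q) : FusionSystem S where
  Hom P := {φ | φ ∈ F.Hom P ∧ ∃ s : S, ∀ (y : P) (hy : (y : Ω) ∈ S) (hφy : φ y ∈ S),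
    π ⟨φ y, hφy⟩ = π s * π ⟨y, hy⟩ * (π s)⁻¹}
  le_of_mem h := F.le_of_mem h.1
  injective_of_mem h := F.injective_of_mem h.1
  conj_mem := by
    intro P g hP hg
    refine ⟨F.conj_mem hP hg, ⟨g, hg⟩, fun y hy hφy => ?_⟩
    rw [← map_inv, ← map_mul, ← map_mul]
    rfl
  comp_mem := by
    rintro P R φ ψ ⟨hφ, s₁, h1⟩ ⟨hψ, s₂, h2⟩ h
    refine ⟨F.comp_mem hφ hψ h, s₂ * s₁, fun y hy hφy => ?_⟩
    have hφS : φ y ∈ S := (F.le_of_mem hφ).2 y
    have e1 := h2 ⟨φ y, h y⟩ hφS hφy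
    have e2 := h1 y hy hφS
    show π ⟨ψ ⟨φ y, h y⟩, hφy⟩ = _
    rw [e1, e2, map_mul, mul_inv_rev]
    simp only [mul_assoc]
  inv_mem := by
    rintro P φ ⟨hφ, s₁, h1⟩
    obtain ⟨ψ, hψ, hinv⟩ := F.inv_mem hφ
    refine ⟨ψ, ⟨hψ, s₁⁻¹, ?_⟩, hinv⟩
    rintro ⟨_, x, rfl⟩ hy hψy
    have hxS : (x : Ω) ∈ S := (F.le_of_mem hφ).1 x.2
    have e1 := h1 x hxS hy
    have e2 : (⟨ψ ⟨φ x, ⟨x, rfl⟩⟩, hψy⟩ : S) = ⟨x, hxS⟩ := Subtype.ext (hinv x)
    rw [e2, e1, map_inv, inv_inv]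
    group

theorem conjModSystem_le (F : FusionSystem S) {Q : Type*} [Group Q] (π : S →* Q) (P : Subgroup Ω) :
    (conjModSystem F π).Hom P ⊆ F.Hom P := fun _ h => h.1

/-- In a saturated fusion system every map is conjugation by an element of `S` modulo the hyperfocal subgroup. -/
theorem conj_mod_hyperfocal [Finite S] (F : FusionSystem S) {p : ℕ} [Fact p.Prime] (hS : IsPGroup p S)
    (hF : F.IsSaturated p) {Q : Type*} [Group Q] (π : S →* Q)
    (hπ : ∀ s : S, (s : Ω) ∈ F.hyperfocalSubgroup p → π s = 1)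
    {P : Subgroup Ω} {φ : P →* Ω} (hφ : φ ∈ F.Hom P) :
    ∃ s : S, ∀ (y : P) (hy : (y : Ω) ∈ S) (hφy : φ y ∈ S),
      π ⟨φ y, hφy⟩ = π s * π ⟨y, hy⟩ * (π s)⁻¹ := by
  refine (Helper87.alperin_weak F (conjModSystem F π) hS hF ?_ P hφ).2
  intro R hRa hRr _ α hα
  have hRS : R ≤ S := hRa.1
  have hαF : R.subtype.comp (α : R ≃* R).toMonoidHom ∈ F.Hom R := (Helper87.mem_autGroup_iff F hRS).1 hα
  refine ⟨hαF, ?_⟩
  obtain ⟨-, T, hT⟩ := hRa
  have : Finite R := Helper87.finite_of_le hRS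
  have hnd : ¬ p ∣ (T : Subgroup (F.autGroup R)).index := T.not_dvd_index
  have htop := Cfsg.Agent.Lib.Helper34.pResidual_sup_eq_top p (T : Subgroup (F.autGroup R)) hnd
  have := Cfsg.Agent.Lib.Helper34.pResidual_normal p (F.autGroup R)
  have hmem : (⟨α, hα⟩ : F.autGroup R) ∈ pResidual p (F.autGroup R) ⊔ (T : Subgroup (F.autGroup R)) := by
    rw [htop]; trivial
  rw [← SetLike.mem_coe, Subgroup.normal_mul] at hmem
  obtain ⟨β, hβ, γ, hγ, hβγ⟩ := hmem
  rw [SetLike.mem_coe, hT, Subgroup.mem_subgroupOf] at hγ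
  rw [SetLike.mem_coe] at hβ
  obtain ⟨s, hs, hsγ⟩ := Helper87.mem_autInducedBy_iff.1 hγ
  have hαx : ∀ x : R, α x = (β : MulAut R) ((γ : MulAut R) x) := by
    intro x
    have : α = (β : MulAut R) * (γ : MulAut R) := by
      have := congrArg Subtype.val hβγ
      exact this.symm
    rw [this]; rfl
  refine ⟨⟨s, hs⟩, fun y hy hφy => ?_⟩
  have hγS : (((γ : MulAut R) y : R) : Ω) ∈ S := hRS ((γ : MulAut R) y).2
  have h1 : (⟨((α y : R) : Ω), hφy⟩ : S) =
      ⟨(((γ : MulAut R) y : R) : Ω), hγS⟩ *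
        ⟨(((γ : MulAut R) y : R) : Ω)⁻¹ * (((β : MulAut R) ((γ : MulAut R) y) : R) : Ω),
          S.mul_mem (S.inv_mem hγS) (hRS ((β : MulAut R) ((γ : MulAut R) y)).2)⟩ := by
    apply Subtype.ext
    show ((α y : R) : Ω) = (((γ : MulAut R) y : R) : Ω) *
      ((((γ : MulAut R) y : R) : Ω)⁻¹ * (((β : MulAut R) ((γ : MulAut R) y) : R) : Ω))
    rw [hαx y]; group
  have h2 : (⟨(((γ : MulAut R) y : R) : Ω), hγS⟩ : S) = ⟨s, hs⟩ * ⟨y, hy⟩ * (⟨s, hs⟩ : S)⁻¹ :=
    Subtype.ext (hsγ y)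
  have h3 : π ⟨(((γ : MulAut R) y : R) : Ω)⁻¹ * (((β : MulAut R) ((γ : MulAut R) y) : R) : Ω),
      S.mul_mem (S.inv_mem hγS) (hRS ((β : MulAut R) ((γ : MulAut R) y)).2)⟩ = 1 :=
    hπ _ (Subgroup.subset_closure ⟨R, β, (γ : MulAut R) y, hRS, hβ, rfl⟩)
  show π ⟨((α y : R) : Ω), hφy⟩ = _
  rw [h1, map_mul, h3, mul_one, h2, map_mul, map_mul, map_inv]

/-- The hyperfocal subgroup is generated by the elements `t⁻¹ φ(t)` with `t` in the hyperfocal subgroup. -/
theorem hyperfocal_le_of_forall [Finite S] (F : FusionSystem S) {p : ℕ} [Fact p.Prime]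
    (hS : IsPGroup p S) (D : Subgroup Ω)
    (hD : ∀ (P : Subgroup Ω) (φ : P →* Ω), φ ∈ F.Hom P → ∀ x : P, (x : Ω) ∈ F.hyperfocalSubgroup p →
      (x : Ω)⁻¹ * φ x ∈ D) :
    F.hyperfocalSubgroup p ≤ D := by
  have key : ∀ (P : Subgroup Ω), P ≤ S →
      pResidual p (F.autGroup P) ≤ (autModSub D P).comap (F.autGroup P).subtype := by
    intro P hPS
    have : Finite P := Helper87.finite_of_le hPS
    unfold pResidual
    rw [Subgroup.closure_le]
    intro α hα
    have hα' : Nat.Coprime (orderOf α) p := hα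
    show (α : MulAut P) ∈ autModSub D P
    intro x
    -- the elements `n k = x⁻¹ α^k(x)`
    let n : ℕ → P := fun k => x⁻¹ * ((α : MulAut P) ^ k) x
    have hn_mem : ∀ k, ((n k : P) : Ω) ∈ F.hyperfocalSubgroup p := by
      intro k
      refine Subgroup.subset_closure ⟨P, α ^ k, x, hPS, Subgroup.pow_mem _ (Subgroup.subset_closure hα) k, ?_⟩
      rfl
    have hn_succ : ∀ k, n (k + 1) = n 1 * (α : MulAut P) (n k) := by
      intro k
      show x⁻¹ * ((α : MulAut P) ^ (k + 1)) x = x⁻¹ * ((α : MulAut P) ^ 1) x *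
        (α : MulAut P) (x⁻¹ * ((α : MulAut P) ^ k) x)
      rw [map_mul, map_inv, pow_one, pow_succ', MulAut.mul_apply]
      group
    have hαF : P.subtype.comp ((α : MulAut P) : P ≃* P).toMonoidHom ∈ F.Hom P :=
      (Helper87.mem_autGroup_iff F hPS).1 α.2
    have hstep : ∀ k, (((n 1 : P) : Ω) ^ k)⁻¹ * ((n k : P) : Ω) ∈ D := by
      intro k
      induction k with
      | zero =>
        have : ((n 0 : P) : Ω) = 1 := by
          show ((x⁻¹ * ((α : MulAut P) ^ 0) x : P) : Ω) = 1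
          rw [pow_zero, MulAut.one_apply, inv_mul_cancel]; rfl
        rw [pow_zero, this, inv_one, one_mul]
        exact D.one_mem
      | succ k ih =>
        have h1 := hD P _ hαF (n k) (hn_mem k)
        have e : (((n 1 : P) : Ω) ^ (k + 1))⁻¹ * ((n (k + 1) : P) : Ω) =
            ((((n 1 : P) : Ω) ^ k)⁻¹ * ((n k : P) : Ω)) *
              (((n k : P) : Ω)⁻¹ * (((α : MulAut P) (n k) : P) : Ω)) := by
          rw [hn_succ k, pow_succ']
          push_cast
          group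
        rw [e]
        exact D.mul_mem ih h1
    -- `α ^ (orderOf α) = 1`
    have hm : ((n (orderOf α) : P) : Ω) = 1 := by
      show ((x⁻¹ * ((α : MulAut P) ^ (orderOf α)) x : P) : Ω) = 1
      have : (α : MulAut P) ^ orderOf α = 1 := by
        rw [← Subgroup.coe_pow, pow_orderOf_eq_one]; rfl
      rw [this, MulAut.one_apply, inv_mul_cancel]; rfl
    have h2 := hstep (orderOf α)
    rw [hm, mul_one] at h2
    have h3 : ((n 1 : P) : Ω) ^ (orderOf α) ∈ D := by
      have := D.inv_mem h2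
      rwa [inv_inv] at this
    -- `n 1` is a `p`-element
    obtain ⟨j, hj⟩ := hS ⟨((n 1 : P) : Ω), hPS (n 1).2⟩
    have hj' : ((n 1 : P) : Ω) ^ (p ^ j) = 1 := by
      have := congrArg Subtype.val hj
      simpa using this
    have hdvd : orderOf ((n 1 : P) : Ω) ∣ p ^ j := orderOf_dvd_of_pow_eq_one hj'
    have hcop : Nat.Coprime (orderOf α) (orderOf ((n 1 : P) : Ω)) :=
      Nat.Coprime.coprime_dvd_right hdvd (Nat.Coprime.pow_right j hα')
    obtain ⟨i, hi⟩ := exists_pow_eq_self_of_coprime hcop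
    have h4 : ((n 1 : P) : Ω) ∈ D := by
      rw [← hi]
      exact D.pow_mem h3 i
    have e1 : ((n 1 : P) : Ω) = (x : Ω)⁻¹ * (((α : MulAut P) x : P) : Ω) := by
      show ((x⁻¹ * ((α : MulAut P) ^ 1) x : P) : Ω) = _
      rw [pow_one]; rfl
    rw [← e1]
    exact h4
  unfold FusionSystem.hyperfocalSubgroup
  rw [Subgroup.closure_le]
  rintro y ⟨P, β, x, hPS, hβ, rfl⟩
  exact key P hPS hβ x

/-- **Tate's theorem for fusion systems, extension form.**  A function `L : S → A` into a commutative group which is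
multiplicative and `S`-invariant on the hyperfocal subgroup agrees on it, up to a power prime to `p`, with a
homomorphism `S →* A`. -/
theorem tate_extension [Finite S] (F : FusionSystem S) {p : ℕ} [Fact p.Prime] (hS : IsPGroup p S)
    (hF : F.IsSaturated p) {A : Type*} [CommGroup A] (L : S → A)
    (hLmul : ∀ a b : S, (a : Ω) ∈ F.hyperfocalSubgroup p → (b : Ω) ∈ F.hyperfocalSubgroup p →
      L (a * b) = L a * L b)
    (hLconj : ∀ s a : S, (a : Ω) ∈ F.hyperfocalSubgroup p → L (s * a * s⁻¹) = L a) :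
    ∃ (n : ℕ) (μ : S →* A), ¬ p ∣ n ∧ ∀ t : S, (t : Ω) ∈ F.hyperfocalSubgroup p → μ t = L t ^ n := by
  classical
  have hTsc : F.StronglyClosed (F.hyperfocalSubgroup p) := Cfsg.Agent.S5124.result p hS F hF
  have hTS : F.hyperfocalSubgroup p ≤ S := hTsc.1
  -- the quotient `S / T`
  have hNn : ((F.hyperfocalSubgroup p).subgroupOf S).Normal := by
    refine ⟨fun n hn g => ?_⟩
    rw [Subgroup.mem_subgroupOf] at hn ⊢
    exact Cfsg.Agent.S5124.conj_mem_hyperfocal F p g.2 hn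
  let π : S →* S ⧸ (F.hyperfocalSubgroup p).subgroupOf S :=
    QuotientGroup.mk' ((F.hyperfocalSubgroup p).subgroupOf S)
  have hπs : Function.Surjective π := QuotientGroup.mk'_surjective _
  have hker : ∀ s : S, π s = 1 ↔ (s : Ω) ∈ F.hyperfocalSubgroup p := by
    intro s
    show QuotientGroup.mk' ((F.hyperfocalSubgroup p).subgroupOf S) s = 1 ↔ _
    rw [QuotientGroup.mk'_apply, QuotientGroup.eq_one_iff, Subgroup.mem_subgroupOf]
  have hLmul' : ∀ a b : S, π a = 1 → π b = 1 → L (a * b) = L a * L b :=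
    fun a b ha hb => hLmul a b ((hker a).1 ha) ((hker b).1 hb)
  have hLconj' : ∀ s a : S, π a = 1 → L (s * a * s⁻¹) = L a :=
    fun s a ha => hLconj s a ((hker a).1 ha)
  -- the characteristic biset
  obtain ⟨X, hXfin, hXact, hstab, hst, m, hcard, hpm⟩ := exists_char_biset F hS hF
  have hfree : ∀ (x : X) (s s' : S), ((1 : S), s) • x = ((1 : S), s') • x → s = s' :=
    fun x s s' h => right_free F hstab x h
  have hdegex : ∀ x : X, ∃ q : S ⧸ (F.hyperfocalSubgroup p).subgroupOf S,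
      ∀ z ∈ stabilizer (S × S) x, π z.1 * q * (π z.2)⁻¹ = q := by
    intro x
    obtain ⟨P, φ, hφ, hK⟩ := hstab x
    obtain ⟨s, hs⟩ := conj_mod_hyperfocal F hS hF π (fun s hs => (hker s).2 hs) hφ
    refine ⟨π s, fun z hz => ?_⟩
    obtain ⟨y, h1, h2⟩ := (hK z).1 hz
    have hyS : (y : Ω) ∈ S := h2 ▸ z.2.2
    have hφy : φ y ∈ S := h1 ▸ z.1.2
    have e1 : z.1 = ⟨φ y, hφy⟩ := Subtype.ext h1
    have e2 : z.2 = ⟨y, hyS⟩ := Subtype.ext h2
    rw [e1, e2, hs y hyS hφy]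
    group
  obtain ⟨deg, hdeg⟩ := exists_degree π hdegex
  obtain ⟨D⟩ := exists_twSection hπs hfree deg hdeg
  have : Fintype (Quotient (rightSetoid S X)) := Fintype.ofFinite _
  -- the homomorphism
  let μ : S →* A := MonoidHom.mk' (D.mu L) (D.mu_mul L hLmul' hLconj')
  have hn : Fintype.card (Quotient (rightSetoid S X)) = m := by
    have h1 := card_eq_card_rightQuotient_mul F hstab
    rw [hcard, Nat.card_eq_fintype_card (α := Quotient (rightSetoid S X))] at h1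
    have hSpos : 0 < Nat.card S := Nat.card_pos
    exact (Nat.eq_of_mul_eq_mul_right hSpos h1).symm
  refine ⟨Fintype.card (Quotient (rightSetoid S X)), μ, by rw [hn]; exact hpm, ?_⟩
  -- the correction term is trivial
  have hμ : ∀ t : S, (t : Ω) ∈ F.hyperfocalSubgroup p →
      μ t = L t ^ Fintype.card (Quotient (rightSetoid S X)) * D.ff L t :=
    fun t ht => D.mu_of_ker L hLmul' ((hker t).2 ht)
  have hff_mul : ∀ a b : S, (a : Ω) ∈ F.hyperfocalSubgroup p → (b : Ω) ∈ F.hyperfocalSubgroup p →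
      D.ff L (a * b) = D.ff L a * D.ff L b := by
    intro a b ha hb
    have h1 := hμ (a * b) (Subgroup.mul_mem _ ha hb)
    rw [map_mul, hμ a ha, hμ b hb, hLmul a b ha hb, mul_pow] at h1
    have h2 : L a ^ Fintype.card (Quotient (rightSetoid S X)) * D.ff L a *
        (L b ^ Fintype.card (Quotient (rightSetoid S X)) * D.ff L b) =
        L a ^ Fintype.card (Quotient (rightSetoid S X)) * L b ^ Fintype.card (Quotient (rightSetoid S X)) *
          (D.ff L a * D.ff L b) := by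
      rw [mul_mul_mul_comm]
    rw [h2] at h1
    exact (mul_left_cancel h1).symm
  have hff_one : D.ff L 1 = 1 := by
    have h := hff_mul 1 1 (Subgroup.one_mem _) (Subgroup.one_mem _)
    rw [mul_one] at h
    exact (mul_eq_left (a := D.ff L 1) (b := D.ff L 1)).1 h.symm
  let D₀ : Subgroup Ω :=
    { carrier := {x | ∃ h : x ∈ S, x ∈ F.hyperfocalSubgroup p ∧ D.ff L ⟨x, h⟩ = 1}
      one_mem' := ⟨S.one_mem, Subgroup.one_mem _, hff_one⟩
      mul_mem' := by
        rintro a b ⟨ha, haT, ha1⟩ ⟨hb, hbT, hb1⟩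
        refine ⟨S.mul_mem ha hb, Subgroup.mul_mem _ haT hbT, ?_⟩
        have := hff_mul ⟨a, ha⟩ ⟨b, hb⟩ haT hbT
        rw [ha1, hb1, mul_one] at this
        exact this
      inv_mem' := by
        rintro a ⟨ha, haT, ha1⟩
        refine ⟨S.inv_mem ha, Subgroup.inv_mem _ haT, ?_⟩
        have := hff_mul ⟨a⁻¹, S.inv_mem ha⟩ ⟨a, ha⟩ (Subgroup.inv_mem _ haT) haT
        have e : (⟨a⁻¹, S.inv_mem ha⟩ : S) * ⟨a, ha⟩ = 1 := Subtype.ext (inv_mul_cancel a)
        rw [e, hff_one, ha1, mul_one] at this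
        exact this.symm }
  have hle : F.hyperfocalSubgroup p ≤ D₀ := by
    apply hyperfocal_le_of_forall F hS D₀
    intro P φ hφ x hx
    have hPS : P ≤ S := (F.le_of_mem hφ).1
    have hφS : ∀ y : P, φ y ∈ S := (F.le_of_mem hφ).2
    have hφT : φ x ∈ F.hyperfocalSubgroup p := (stronglyClosed_apply_mem_iff F hTsc hφ x).2 hx
    obtain ⟨g, hg⟩ := exists_conj_of_mem_stable F hstab hst hPS φ hφS hφ
    have hgx : biι S X ⟨φ x, hφS x⟩ * g = g * biι S X ⟨x, hPS x.2⟩ := by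
      rw [hg x, inv_mul_cancel_right]
    have h1 : D.ff L ⟨φ x, hφS x⟩ = D.ff L ⟨x, hPS x.2⟩ :=
      D.ff_conj L hLmul' hLconj' hπs ((hker _).2 hx) ((hker _).2 hφT) g hgx
    refine ⟨S.mul_mem (S.inv_mem (hPS x.2)) (hφS x), Subgroup.mul_mem _ (Subgroup.inv_mem _ hx) hφT, ?_⟩
    have h2 := hff_mul ⟨(x : Ω)⁻¹, S.inv_mem (hPS x.2)⟩ ⟨φ x, hφS x⟩ (Subgroup.inv_mem _ hx) hφT
    have h3 := hff_mul ⟨(x : Ω)⁻¹, S.inv_mem (hPS x.2)⟩ ⟨x, hPS x.2⟩ (Subgroup.inv_mem _ hx) hx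
    have e : (⟨(x : Ω)⁻¹, S.inv_mem (hPS x.2)⟩ : S) * ⟨x, hPS x.2⟩ = 1 := Subtype.ext (inv_mul_cancel (x : Ω))
    rw [e, hff_one] at h3
    have e2 : (⟨(x : Ω)⁻¹ * φ x, S.mul_mem (S.inv_mem (hPS x.2)) (hφS x)⟩ : S) =
        ⟨(x : Ω)⁻¹, S.inv_mem (hPS x.2)⟩ * ⟨φ x, hφS x⟩ := rfl
    rw [e2, h2, h1, ← h3]
  intro t ht
  obtain ⟨h, -, h1⟩ := hle ht
  rw [hμ t ht, h1, mul_one]

end Cfsg.Agent.Lib.Helper85
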