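import Cfsg.Agent.Lib.Helper70.YoshidaWreath

/-!
# The Wielandt–Yoshida argument in a "virtual Sylow" setting (helper85 library)

`N ≤ G` of index prime to `p`, `K ≤ N` a `p`-subgroup, `θ : N → ℂˣ` of order `p`, `u ∈ K` with `θ u ≠ 1` whose transfer
vanishes, such that the cosets fixed by `K` contribute `θ u` and the longer cycles of the `K`-conjugates of `u` contribute
trivially.  Then there are `z ∈ K`, a normal subgroup `K₀` of index `p` in `K` and a character `μ` of order `p` of `K₀`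
with `μ [u, z; p-1] ≠ 1`.  This is the argument of `Helper70.Yoshida.exists_engel_witness`, freed from the hypothesis that
`K` is a Sylow subgroup of `G`.  Also: the passage from such a witness to a surjection onto `Z_p ≀ Z_p` for an abstract
finite `p`-group.
-/

set_option autoImplicit false
set_option linter.style.haveILetI false

open Finset

namespace Cfsg.Agent.Lib.Helper85

open Cfsg.Agent.Lib.Helper70.HallWielandt Cfsg.Agent.Lib.Helper70.Yoshida Cfsg.Agent.Lib.Helper70.YoshidaWreath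

variable {G : Type*} [Group G]

theorem engel_of_transfer [Finite G] {p : ℕ} [hp : Fact p.Prime] (N : Subgroup G) (θ : ↥N →* ℂˣ)
    (hθp : ∀ n, θ n ^ p = 1) (K : Subgroup G) (hKp : IsPGroup p K) (hKN : K ≤ N) (hidx : ¬ p ∣ N.index)
    (u : G) (huK : u ∈ K) (hθu : extd N θ u ≠ 1) (htr : MonoidHom.transfer θ u = 1)
    (hfix : ∀ g : G, (∀ k ∈ K, g⁻¹ * k * g ∈ N) → extd N θ (g⁻¹ * u * g) = extd N θ u)
    (hcyc : ∀ k ∈ K, ∀ (y : G) (r : ℕ), 1 < r → r ∣ orderOf (k⁻¹ * u * k) →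
      y⁻¹ * (k⁻¹ * u * k) ^ r * y ∈ N → extd N θ (y⁻¹ * (k⁻¹ * u * k) ^ r * y) = 1) :
    ∃ z ∈ K, ∃ K₀ : Subgroup G, K₀ ≤ K ∧ (K₀.subgroupOf K).Normal ∧ (K₀.subgroupOf K).index = p ∧
      ∃ μ : ↥K₀ →* ℂˣ, (∀ k, μ k ^ p = 1) ∧
        ∃ hc : (fun y : G => y⁻¹ * z⁻¹ * y * z)^[p - 1] u ∈ K₀, μ ⟨_, hc⟩ ≠ 1 := by
  classical
  haveI : Fintype (G ⧸ N) := Fintype.ofFinite _
  have huN : u ∈ N := hKN huK
  have hcycu : ∀ (y : G) (r : ℕ), 1 < r → r ∣ orderOf u → y⁻¹ * u ^ r * y ∈ N →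
      extd N θ (y⁻¹ * u ^ r * y) = 1 := by
    intro y r hr hrd hmem
    have h := hcyc 1 K.one_mem y r hr
    simp only [inv_one, one_mul, mul_one] at h
    exact h hrd hmem
  rw [transfer_eq_prod_fixed N θ u hcycu] at htr
  -- the cosets fixed by `K`
  have hFKsub : (univ : Finset (G ⧸ N)).filter (fun x => ∀ k ∈ K, k • x = x) ⊆
      (univ : Finset (G ⧸ N)).filter (fun x => u • x = x) := by
    intro x hx
    rw [mem_filter] at hx ⊢
    exact ⟨mem_univ _, hx.2 u huK⟩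
  rw [← Finset.prod_sdiff hFKsub] at htr
  have hFK : ∏ x ∈ (univ : Finset (G ⧸ N)).filter (fun x => ∀ k ∈ K, k • x = x),
      extd N θ (x.out⁻¹ * u * x.out) =
      extd N θ u ^ ((univ : Finset (G ⧸ N)).filter (fun x => ∀ k ∈ K, k • x = x)).card := by
    apply Finset.prod_eq_pow_card
    intro x hx
    rw [mem_filter] at hx
    apply hfix
    intro k hk
    have h1 := hx.2 k hk
    rw [← QuotientGroup.out_eq' x, smul_mk_eq_iff] at h1
    exact h1
  have hcardFK : ¬ p ∣ ((univ : Finset (G ⧸ N)).filter (fun x => ∀ k ∈ K, k • x = x)).card := by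
    have h1 := hKp.card_modEq_card_fixedPoints (G ⧸ N)
    have h2 : Nat.card (MulAction.fixedPoints ↥K (G ⧸ N)) =
        ((univ : Finset (G ⧸ N)).filter (fun x => ∀ k ∈ K, k • x = x)).card := by
      rw [← Fintype.card_subtype, Nat.card_eq_fintype_card]
      apply Fintype.card_congr
      refine Equiv.subtypeEquivRight (fun x => ?_)
      rw [MulAction.mem_fixedPoints]
      constructor
      · intro h k hk
        exact h ⟨k, hk⟩
      · intro h k
        exact h k.1 k.2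
    rw [h2, ← Subgroup.index_eq_card] at h1
    intro hdvd
    apply hidx
    exact (Nat.modEq_zero_iff_dvd.mp (h1.trans (Nat.modEq_zero_iff_dvd.mpr hdvd)))
  have hθup : extd N θ u ^ p = 1 := by
    rw [extd_of_mem N θ huN]; exact hθp _
  have hord : orderOf (extd N θ u) = p := orderOf_eq_prime hθup hθu
  have hFKne : extd N θ u ^ ((univ : Finset (G ⧸ N)).filter (fun x => ∀ k ∈ K, k • x = x)).card ≠ 1 := by
    intro h
    apply hcardFK
    rw [← hord]
    exact orderOf_dvd_of_pow_eq_one h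
  have hrest : ∏ x ∈ (univ : Finset (G ⧸ N)).filter (fun x => u • x = x) \
      (univ : Finset (G ⧸ N)).filter (fun x => ∀ k ∈ K, k • x = x),
      extd N θ (x.out⁻¹ * u * x.out) ≠ 1 := by
    intro h1
    rw [h1, one_mul, hFK] at htr
    exact hFKne htr
  -- localise to an orbit of `K`
  obtain ⟨a, ha, hPB⟩ : ∃ a ∈ (univ : Finset (G ⧸ N)).filter (fun x => u • x = x) \
      (univ : Finset (G ⧸ N)).filter (fun x => ∀ k ∈ K, k • x = x),
      ∏ x ∈ ((univ : Finset (G ⧸ N)).filter (fun x => u • x = x) \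
        (univ : Finset (G ⧸ N)).filter (fun x => ∀ k ∈ K, k • x = x)).filter
        (fun x => (MulAction.orbitRel K (G ⧸ N)) x a), extd N θ (x.out⁻¹ * u * x.out) ≠ 1 := by
    by_contra hcon
    push Not at hcon
    exact hrest (Finset.prod_cancels_of_partition_cancels (MulAction.orbitRel K (G ⧸ N)) hcon)
  rw [mem_sdiff, mem_filter, mem_filter] at ha
  obtain ⟨⟨-, hafix⟩, hanK⟩ := ha
  have hWa : ¬ K ≤ MulAction.stabilizer G a := by
    intro hle
    apply hanK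
    exact ⟨mem_univ _, fun k hk => hle hk⟩
  obtain ⟨g, rfl⟩ := QuotientGroup.mk_surjective a
  -- the subgroups `K₁ ≤ K₀ ◁ K`
  have hK₁K : K ⊓ MulAction.stabilizer G (g : G ⧸ N) ≤ K := inf_le_left
  have hne : ¬ K ≤ K ⊓ MulAction.stabilizer G (g : G ⧸ N) := fun hle =>
    hWa (fun w hw => (hle hw).2)
  obtain ⟨K₀, hK₁₀, hK₀K, hK₀n, hK₀i⟩ :=
    exists_normal_index_p K (K ⊓ MulAction.stabilizer G (g : G ⧸ N)) hKp hK₁K hne
  have huK₀ : u ∈ K₀ := hK₁₀ ⟨huK, hafix⟩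
  have hWK₀ : ¬ K ≤ K₀ := by
    intro hle
    have h2 : K₀.subgroupOf K = ⊤ := Subgroup.subgroupOf_eq_top.mpr hle
    rw [h2, Subgroup.index_top] at hK₀i
    exact hp.out.one_lt.ne hK₀i
  obtain ⟨z, hzK, hzK₀⟩ := SetLike.not_le_iff_exists.mp hWK₀
  -- `K` normalises `K₀`
  have hKn : ∀ k ∈ K, ∀ d ∈ K₀, k⁻¹ * d * k ∈ K₀ := by
    intro k hk d hd
    have := hK₀n.conj_mem ⟨d, hK₀K hd⟩ (Subgroup.mem_subgroupOf.mpr hd) (⟨k, hk⟩ : ↥K)⁻¹
    rw [Subgroup.mem_subgroupOf] at this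
    simpa using this
  have hzi : ∀ (i : ℕ), ∀ d ∈ K₀, (z ^ i)⁻¹ * d * z ^ i ∈ K₀ := fun i d hd =>
    hKn _ (K.pow_mem hzK i) d hd
  -- coset representatives
  obtain ⟨hrep', hinj'⟩ := coset_reps_of_index_p (K₀.subgroupOf K) hK₀i (⟨z, hzK⟩ : ↥K)
    (fun hmem => hzK₀ (Subgroup.mem_subgroupOf.mp hmem))
  have hrep : ∀ k ∈ K, ∃ i < p, (z ^ i)⁻¹ * k ∈ K₀ := by
    intro k hk
    obtain ⟨i, hi, hmem⟩ := hrep' ⟨k, hk⟩
    refine ⟨i, hi, ?_⟩
    rw [Subgroup.mem_subgroupOf] at hmem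
    simpa using hmem
  have hinj : ∀ i < p, ∀ j < p, (z ^ j)⁻¹ * z ^ i ∈ K₀ → i = j := by
    intro i hi j hj hmem
    apply hinj' i hi j hj
    rw [Subgroup.mem_subgroupOf]
    simpa using hmem
  -- the transfer of `K₀` over the orbit of `g N`
  obtain ⟨μ, hμp, hμ⟩ := exists_orbit_transfer N θ K₀ g
  have hμp' := hμp p hθp
  have hvK₀ : ∀ i : ℕ, (z ^ i)⁻¹ * u * z ^ i ∈ K₀ := fun i => hzi i u huK₀
  have hμv : ∀ i : ℕ, μ ⟨(z ^ i)⁻¹ * u * z ^ i, hvK₀ i⟩ =
      ∏ x ∈ (univ : Finset (G ⧸ N)).filter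
        (fun x => x ∈ MulAction.orbit K₀ (g : G ⧸ N) ∧ ((z ^ i)⁻¹ * u * z ^ i) • x = x),
        extd N θ (x.out⁻¹ * ((z ^ i)⁻¹ * u * z ^ i) * x.out) := by
    intro i
    apply hμ _ (hvK₀ i) _ _ (by intro x; simp)
    intro y r hy hr hrd hmem
    have e : g⁻¹ * (y⁻¹ * ((z ^ i)⁻¹ * u * z ^ i) ^ r * y) * g =
        (y * g)⁻¹ * ((z ^ i)⁻¹ * u * z ^ i) ^ r * (y * g) := by group
    rw [e]
    apply hcyc _ (K.pow_mem hzK i) _ r hr hrd
    rw [← e, ← smul_mk_eq_iff]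
    exact hmem
  have hsB : ∀ x : G ⧸ N, x ∈ ((univ : Finset (G ⧸ N)).filter (fun x => u • x = x) \
        (univ : Finset (G ⧸ N)).filter (fun x => ∀ k ∈ K, k • x = x)).filter
        (fun x => (MulAction.orbitRel K (G ⧸ N)) x (g : G ⧸ N)) ↔
      (x ∈ MulAction.orbit K (g : G ⧸ N) ∧ u • x = x) := by
    intro x
    rw [mem_filter, mem_sdiff, mem_filter, mem_filter, MulAction.orbitRel_apply]
    constructor
    · rintro ⟨⟨⟨-, h2⟩, -⟩, h3⟩
      exact ⟨h3, h2⟩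
    · rintro ⟨h3, h2⟩
      refine ⟨⟨⟨mem_univ _, h2⟩, ?_⟩, h3⟩
      rintro ⟨-, hxK⟩
      obtain ⟨k, hk⟩ := h3
      have hk' : ((k : ↥K) : G) • (g : G ⧸ N) = x := hk
      apply hanK
      refine ⟨mem_univ _, fun k' hk'K => ?_⟩
      have h4 : (g : G ⧸ N) = ((k : ↥K) : G)⁻¹ • x := by
        rw [← hk', inv_smul_smul]
      have h5 : (g : G ⧸ N) = x := by
        rw [h4]
        exact hxK _ (K.inv_mem k.2)
      rw [h5]
      exact hxK k' hk'K
  -- the partition of the `K`-orbit into the translates of the `K₀`-orbit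
  have hcomm : ∀ (i : ℕ) (y : G ⧸ N), u • z ^ i • y = z ^ i • ((z ^ i)⁻¹ * u * z ^ i) • y := by
    intro i y
    rw [← mul_smul, ← mul_smul]
    congr 1
    group
  have hpart : ∏ x ∈ ((univ : Finset (G ⧸ N)).filter (fun x => u • x = x) \
        (univ : Finset (G ⧸ N)).filter (fun x => ∀ k ∈ K, k • x = x)).filter
        (fun x => (MulAction.orbitRel K (G ⧸ N)) x (g : G ⧸ N)),
        extd N θ (x.out⁻¹ * u * x.out) =
      ∏ i ∈ range p, μ ⟨(z ^ i)⁻¹ * u * z ^ i, hvK₀ i⟩ := by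
    rw [Finset.prod_congr rfl (fun i _ => hμv i), Finset.prod_sigma']
    symm
    apply Finset.prod_bij (fun (q : Σ _ : ℕ, G ⧸ N) _ => z ^ q.1 • q.2)
    · rintro ⟨i, y⟩ hq
      rw [mem_sigma, mem_filter] at hq
      obtain ⟨hi, -, ⟨k, hk⟩, hvy⟩ := hq
      have hk' : ((k : ↥K₀) : G) • (g : G ⧸ N) = y := hk
      rw [hsB]
      refine ⟨⟨⟨z ^ i * (k : G), K.mul_mem (K.pow_mem hzK i) (hK₀K k.2)⟩, ?_⟩, ?_⟩
      · show (z ^ i * (k : G)) • (g : G ⧸ N) = z ^ i • y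
        rw [mul_smul, hk']
      · show u • z ^ i • y = z ^ i • y
        rw [hcomm, hvy]
    · rintro ⟨i, y⟩ hq ⟨j, y'⟩ hq' heq
      rw [mem_sigma, mem_filter] at hq hq'
      obtain ⟨hi, -, ⟨k, hk⟩, -⟩ := hq
      obtain ⟨hj, -, ⟨k', hk'⟩, -⟩ := hq'
      have hk1 : ((k : ↥K₀) : G) • (g : G ⧸ N) = y := hk
      have hk1' : ((k' : ↥K₀) : G) • (g : G ⧸ N) = y' := hk'
      have heq' : z ^ i • y = z ^ j • y' := heq
      have hmem : (z ^ j * (k' : G))⁻¹ * (z ^ i * (k : G)) ∈ K ⊓ MulAction.stabilizer G (g : G ⧸ N) := by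
        refine ⟨K.mul_mem (K.inv_mem (K.mul_mem (K.pow_mem hzK j) (hK₀K k'.2)))
          (K.mul_mem (K.pow_mem hzK i) (hK₀K k.2)), ?_⟩
        show _ ∈ MulAction.stabilizer G (g : G ⧸ N)
        rw [MulAction.mem_stabilizer_iff]
        calc ((z ^ j * (k' : G))⁻¹ * (z ^ i * (k : G))) • (g : G ⧸ N)
            = (z ^ j * (k' : G))⁻¹ • (z ^ i • ((k : G) • (g : G ⧸ N))) := by rw [mul_smul, mul_smul]
          _ = (z ^ j * (k' : G))⁻¹ • ((z ^ j * (k' : G)) • (g : G ⧸ N)) := by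
              rw [hk1, heq', ← hk1', ← mul_smul (z ^ j)]
          _ = (g : G ⧸ N) := inv_smul_smul _ _
      have hmem2 := hK₁₀ hmem
      have hij : i = j := by
        apply hinj i (mem_range.mp hi) j (mem_range.mp hj)
        have h3 := K₀.mul_mem (K₀.mul_mem k'.2 hmem2) (K₀.inv_mem k.2)
        have e : (k' : G) * ((z ^ j * (k' : G))⁻¹ * (z ^ i * (k : G))) * (k : G)⁻¹ = (z ^ j)⁻¹ * z ^ i := by
          group
        rwa [e] at h3
      subst hij
      have hy : y = y' := MulAction.injective (z ^ i) heq'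
      subst hy
      rfl
    · intro x hx
      rw [hsB] at hx
      obtain ⟨⟨k, hk⟩, hux⟩ := hx
      have hk' : ((k : ↥K) : G) • (g : G ⧸ N) = x := hk
      obtain ⟨i, hi, hk₀⟩ := hrep _ k.2
      have hzy : z ^ i • (((z ^ i)⁻¹ * (k : G)) • (g : G ⧸ N)) = x := by
        rw [← mul_smul, mul_inv_cancel_left, hk']
      refine ⟨⟨i, ((z ^ i)⁻¹ * (k : G)) • (g : G ⧸ N)⟩, ?_, hzy⟩
      rw [mem_sigma, mem_filter]
      refine ⟨mem_range.mpr hi, mem_univ _, ⟨⟨_, hk₀⟩, rfl⟩, ?_⟩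
      have h1 := hcomm i (((z ^ i)⁻¹ * (k : G)) • (g : G ⧸ N))
      rw [hzy, hux, ← hzy] at h1
      have h2 := MulAction.injective (z ^ i) h1
      exact h2.symm
    · rintro ⟨i, y⟩ hq
      rw [mem_sigma, mem_filter] at hq
      obtain ⟨hi, -, -, hvy⟩ := hq
      show extd N θ (y.out⁻¹ * ((z ^ i)⁻¹ * u * z ^ i) * y.out) =
        extd N θ ((z ^ i • y).out⁻¹ * u * (z ^ i • y).out)
      have hgi : ((z ^ i * y.out : G) : G ⧸ N) = z ^ i • y := by
        have : ((z ^ i * y.out : G) : G ⧸ N) = z ^ i • ((y.out : G) : G ⧸ N) := rfl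
        rw [this, QuotientGroup.out_eq']
      have hfix' : u • (z ^ i • y) = z ^ i • y := by rw [hcomm, hvy]
      have hmemN : (z ^ i * y.out)⁻¹ * u * (z ^ i * y.out) ∈ N := by
        rw [← smul_mk_eq_iff, hgi]; exact hfix'
      rw [extd_out_conj N θ u _ _ hgi hmemN]
      congr 1
      group
  -- the finite-difference identity
  rw [hpart] at hPB
  obtain ⟨hprod, hcK₀⟩ := prod_conj_eq_of_torsion p K₀ (extd K₀ μ)
    (fun x hx y hy => extd_mul K₀ μ hx hy) z u (fun d hd => by simpa using hzi 1 d hd) huK₀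
    (fun i => by rw [extd_of_mem K₀ μ (hvK₀ i)]; exact hμp' _)
  rw [Finset.prod_congr rfl (fun i _ => (extd_of_mem K₀ μ (hvK₀ i)))] at hprod
  rw [hprod] at hPB
  refine ⟨z, hzK, K₀, hK₀K, hK₀n, hK₀i, μ, hμp', hcK₀, ?_⟩
  rwa [extd_of_mem K₀ μ hcK₀] at hPB

/-- a finite `p`-group with an Engel-type witness maps onto a Sylow `p`-subgroup of the symmetric group of degree `p²` -/
theorem exists_surjective_of_engel {P : Type*} [Group P] [Finite P] {p : ℕ} [hp : Fact p.Prime]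
    (hP : IsPGroup p P) (x z : P) (S₀ : Subgroup P) (hS₀i : S₀.index = p)
    (hc : (fun y : P => y⁻¹ * z⁻¹ * y * z)^[p - 1] x ∈ S₀)
    (hcfr : (⟨_, hc⟩ : ↥S₀) ∉ frattini ↥S₀) :
    ∃ (W : Sylow p (Equiv.Perm (Fin (p ^ 2))))
      (f : P →* ↥(W : Subgroup (Equiv.Perm (Fin (p ^ 2))))), Function.Surjective f := by
  classical
  generalize hcdef : (fun y : P => y⁻¹ * z⁻¹ * y * z)^[p - 1] x = cS at hc hcfr
  -- a maximal subgroup of `S₀` avoiding `c`
  obtain ⟨M, hM, hcM⟩ : ∃ M : Subgroup ↥S₀, IsCoatom M ∧ (⟨cS, hc⟩ : ↥S₀) ∉ M := by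
    by_contra hcon
    push Not at hcon
    apply hcfr
    unfold frattini Order.radical
    rw [Subgroup.mem_iInf]
    intro M
    rw [Subgroup.mem_iInf]
    intro hM
    exact hcon M hM
  have hS₀p : IsPGroup p ↥S₀ := hP.to_subgroup S₀
  have hMi : M.index = p := Cfsg.Agent.Lib.Helper1.coatom_index_of_isPGroup hS₀p hM
  have hM'i : (M.map S₀.subtype).index = p ^ 2 := by
    rw [Subgroup.index_map_subtype, hMi, hS₀i, pow_two]
  have hcM' : cS ∉ M.map S₀.subtype := by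
    rintro ⟨m, hm, hmc⟩
    apply hcM
    have : m = ⟨cS, hc⟩ := Subtype.ext hmc
    rwa [← this]
  have hcard : Nat.card (P ⧸ M.map S₀.subtype) = p ^ 2 := by
    rw [← Subgroup.index_eq_card]; exact hM'i
  let e : (P ⧸ M.map S₀.subtype) ≃ Fin (p ^ 2) := Finite.equivFinOfCardEq hcard
  let ρ : P →* Equiv.Perm (Fin (p ^ 2)) :=
    (e.permCongrHom.toMonoidHom).comp (MulAction.toPermHom P (P ⧸ M.map S₀.subtype))
  have hρc : ρ cS ≠ 1 := by
    intro h1
    have h2 : MulAction.toPermHom P (P ⧸ M.map S₀.subtype) cS = 1 := by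
      apply e.permCongrHom.injective
      rw [map_one]
      exact h1
    have h3 := congrArg (fun σ => σ ((1 : P) : P ⧸ M.map S₀.subtype)) h2
    simp only [MulAction.toPermHom_apply, MulAction.toPerm_apply, Equiv.Perm.coe_one, id_eq] at h3
    apply hcM'
    have h4 : ((cS * 1 : P) : P ⧸ M.map S₀.subtype) = ((1 : P) : P ⧸ M.map S₀.subtype) := h3
    rw [mul_one, QuotientGroup.eq, mul_one] at h4
    exact (Subgroup.inv_mem_iff _).mp h4
  have hR : IsPGroup p ρ.range := hP.of_surjective ρ.rangeRestrict ρ.rangeRestrict_surjective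
  obtain ⟨W, hRW⟩ := hR.exists_le_sylow
  refine ⟨W, ρ.codRestrict W (fun s => hRW ⟨s, rfl⟩), ?_⟩
  have hcardR : p ^ (p + 1) ≤ Nat.card ρ.range := by
    apply card_ge_of_iterate_comm_ne_one p hR (ρ.rangeRestrict x) (ρ.rangeRestrict z)
    rw [← map_iterate_comm]
    intro h1
    apply hρc
    have h2 := congrArg Subtype.val h1
    rw [hcdef] at h2
    exact h2
  have hRW' : ρ.range = (W : Subgroup (Equiv.Perm (Fin (p ^ 2)))) := by
    apply Subgroup.eq_of_le_of_card_ge hRW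
    rw [card_sylow_perm_sq p W]
    exact hcardR
  intro y
  have hy : (y : Equiv.Perm (Fin (p ^ 2))) ∈ ρ.range := by rw [hRW']; exact y.2
  obtain ⟨s, hs⟩ := hy
  exact ⟨s, Subtype.ext hs⟩

end Cfsg.Agent.Lib.Helper85
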