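import Cfsg.Agent.Lib.Helper85.FusionPark
import Cfsg.Agent.Lib.Helper85.YoshidaGroup

/-!
# Yoshida's theorem for saturated fusion systems (helper85 library)

* `exists_char_of_focal_lt`: (first half of Tate's theorem) if `S' ≤ D < foc(F)` then some character of order `p` of `S`
  is trivial on `D` but not on `foc(F)`.
* `yoshida_of_char`: if a character `λ` of order `p` of `S` is `Aut_F(S)`-invariant and nontrivial on `foc(F)`,
  then `S` maps onto `Z_p ≀ Z_p`.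
-/

set_option autoImplicit false
set_option linter.style.haveILetI false

namespace Cfsg.Agent.Lib.Helper85

open Cfsg Cfsg.FusionSystem
open Cfsg.Agent.Lib.Helper70.HallWielandt Cfsg.Agent.Lib.Helper70.Yoshida Cfsg.Agent.Lib.Helper70.YoshidaWreath

universe u

variable {Ω : Type u} [Group Ω] {S : Subgroup Ω}

theorem focal_le (F : FusionSystem S) : F.focalSubgroup ≤ S := by
  unfold FusionSystem.focalSubgroup
  rw [Subgroup.closure_le]
  rintro y ⟨P, φ, x, hφ, rfl⟩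
  exact S.mul_mem (S.inv_mem ((F.le_of_mem hφ).1 x.2)) ((F.le_of_mem hφ).2 x)

theorem inv_mul_map_mem_focal (F : FusionSystem S) {P : Subgroup Ω} {φ : P →* Ω} (hφ : φ ∈ F.Hom P)
    (x : P) : (x : Ω)⁻¹ * φ x ∈ F.focalSubgroup :=
  Subgroup.subset_closure ⟨P, φ, x, hφ, rfl⟩

theorem map_mem_focal (F : FusionSystem S) {P : Subgroup Ω} {φ : P →* Ω} (hφ : φ ∈ F.Hom P)
    (x : P) (hx : (x : Ω) ∈ F.focalSubgroup) : φ x ∈ F.focalSubgroup := by
  have h := F.focalSubgroup.mul_mem hx (inv_mul_map_mem_focal F hφ x)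
  rwa [mul_inv_cancel_left] at h

theorem conj_mem_focal (F : FusionSystem S) {w k : Ω} (hw : w ∈ F.focalSubgroup) (hk : k ∈ S) :
    k⁻¹ * w * k ∈ F.focalSubgroup := by
  have hwS : w ∈ S := focal_le F hw
  have h := map_mem_focal F (F.conj_mem (P := S) le_rfl (S.inv_mem hk)) ⟨w, hwS⟩ hw
  have e : conjHom S k⁻¹ ⟨w, hwS⟩ = k⁻¹ * w * k := by
    unfold conjHom
    simp
  rwa [e] at h

/-- an `F`-invariant homomorphism into an abelian group kills the focal subgroup -/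
theorem eq_one_of_mem_focal (F : FusionSystem S) {A : Type*} [CommGroup A] (τ : S →* A)
    (hτ : ∀ (P : Subgroup Ω) (φ : P →* Ω), φ ∈ F.Hom P → ∀ (x : P) (hx : (x : Ω) ∈ S)
      (hφx : φ x ∈ S), τ ⟨φ x, hφx⟩ = τ ⟨x, hx⟩)
    (w : S) (hw : (w : Ω) ∈ F.focalSubgroup) : τ w = 1 := by
  have hfoc : F.focalSubgroup ≤ (τ.ker).map S.subtype := by
    unfold FusionSystem.focalSubgroup
    rw [Subgroup.closure_le]
    rintro y ⟨P, φ, x, hφ, rfl⟩
    have hx : (x : Ω) ∈ S := (F.le_of_mem hφ).1 x.2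
    have hφx : φ x ∈ S := (F.le_of_mem hφ).2 x
    refine ⟨⟨(x : Ω)⁻¹ * φ x, S.mul_mem (S.inv_mem hx) hφx⟩, ?_, rfl⟩
    rw [SetLike.mem_coe, MonoidHom.mem_ker]
    have e : (⟨(x : Ω)⁻¹ * φ x, S.mul_mem (S.inv_mem hx) hφx⟩ : S) =
        (⟨x, hx⟩ : S)⁻¹ * ⟨φ x, hφx⟩ := rfl
    rw [e, map_mul, map_inv, hτ P φ hφ x hx hφx, inv_mul_cancel]
  obtain ⟨w', hw', hww'⟩ := hfoc hw
  have : w' = w := Subtype.ext hww'
  rw [← this]
  exact hw'

/-- in a finite abelian `p`-group situation: if every element of a family closed under the step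
`b ↦ b₁` with `b₁ ^ p = b ^ m` (`m` prime to `p`) ... then all elements are trivial -/
theorem eq_one_of_forall_exists_pow {M : Type*} [CommGroup M] [Finite M] {p : ℕ} [hp : Fact p.Prime]
    (hM : IsPGroup p M) (C : M → Prop) (m : ℕ) (hm : ¬ p ∣ m)
    (key : ∀ b, C b → ∃ b₁, C b₁ ∧ b₁ ^ p = b ^ m) : ∀ b, C b → b = 1 := by
  have hmc : m.Coprime p := by
    rw [Nat.coprime_comm, Nat.Prime.coprime_iff_not_dvd hp.out]; exact hm
  have hCord : ∀ b : M, ∃ j : ℕ, orderOf b = p ^ j := fun b => (IsPGroup.iff_orderOf.mp hM) b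
  have step : ∀ b, C b → b ≠ 1 → ∃ b₁, C b₁ ∧ b₁ ≠ 1 ∧ orderOf b < orderOf b₁ := by
    intro b hb hb1
    obtain ⟨b₁, hb₁, hbe⟩ := key b hb
    obtain ⟨j, hj⟩ := hCord b
    obtain ⟨j₁, hj₁⟩ := hCord b₁
    have hco : (orderOf b).Coprime m := by
      rw [hj]; exact Nat.Coprime.pow_left j hmc.symm
    have ho : orderOf (b ^ m) = orderOf b := hco.orderOf_pow
    have hbe1 : b ^ m ≠ 1 := by
      intro h
      rw [← orderOf_eq_one_iff, ho, orderOf_eq_one_iff] at h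
      exact hb1 h
    have hb₁1 : b₁ ≠ 1 := by
      intro h
      rw [h, one_pow] at hbe
      exact hbe1 hbe.symm
    refine ⟨b₁, hb₁, hb₁1, ?_⟩
    have hj₁0 : j₁ ≠ 0 := by
      intro h0
      rw [h0, pow_zero, orderOf_eq_one_iff] at hj₁
      exact hb₁1 hj₁
    have hpd : p ∣ orderOf b₁ := by rw [hj₁]; exact dvd_pow_self p hj₁0
    have ho1 : orderOf (b₁ ^ p) = orderOf b₁ / p := orderOf_pow_of_dvd hp.out.ne_zero hpd
    rw [hbe, ho] at ho1
    rw [ho1]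
    exact Nat.div_lt_self (orderOf_pos b₁) hp.out.one_lt
  intro b₀ hb₀
  by_contra hb₀1
  have unbounded : ∀ j : ℕ, ∃ b, C b ∧ b ≠ 1 ∧ j ≤ orderOf b := by
    intro j
    induction j with
    | zero => exact ⟨b₀, hb₀, hb₀1, Nat.zero_le _⟩
    | succ j ih =>
      obtain ⟨b, hb, hb1, hjb⟩ := ih
      obtain ⟨b₁, hb₁, hb₁1, hlt⟩ := step b hb hb1
      exact ⟨b₁, hb₁, hb₁1, by omega⟩
  obtain ⟨b, -, -, hb⟩ := unbounded (Nat.card M + 1)
  have := orderOf_le_card (G := M) (x := b)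
  omega

/-- **First half of Tate's theorem for fusion systems**: if `S' ≤ D < foc(F)`, some character of order `p` of `S`
is trivial on `D` but not on `foc(F)`. -/
theorem exists_char_of_focal_lt [Finite S] (F : FusionSystem S) {p : ℕ} [hp : Fact p.Prime]
    (hS : IsPGroup p S) (hF : F.IsSaturated p) (D : Subgroup Ω) (hDW : D ≤ F.focalSubgroup)
    (hSD : ⁅(S : Subgroup Ω), (S : Subgroup Ω)⁆ ≤ D) (hne : D ≠ F.focalSubgroup) :
    ∃ lam : S →* ℂˣ, (∀ s, lam s ^ p = 1) ∧ (∀ s : S, (s : Ω) ∈ D → lam s = 1) ∧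
      ∃ u : S, (u : Ω) ∈ F.focalSubgroup ∧ lam u ≠ 1 := by
  classical
  obtain ⟨𝔾, _, _, ι, H, ϕ, hιinj, hidx, hιH, hconj, hgraph⟩ := exists_park F hS hF
  have hWS : F.focalSubgroup ≤ S := focal_le F
  let τ : S →* Abelianization S := (MonoidHom.transfer ϕ).comp ι
  have hτconj : ∀ (P : Subgroup Ω) (φ : P →* Ω), φ ∈ F.Hom P → ∀ (x : P) (hx : (x : Ω) ∈ S)
      (hφx : φ x ∈ S), τ ⟨φ x, hφx⟩ = τ ⟨x, hx⟩ := by
    intro P φ hφ x hx hφx
    obtain ⟨g, hg⟩ := hconj P φ hφ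
    show MonoidHom.transfer ϕ (ι _) = MonoidHom.transfer ϕ (ι _)
    rw [hg x hx hφx, map_mul, map_mul, map_inv, mul_comm, inv_mul_cancel_left]
  have hτW : ∀ w : S, (w : Ω) ∈ F.focalSubgroup → τ w = 1 := eq_one_of_mem_focal F τ hτconj
  -- the quotient by the image of the focal subgroup
  let Wb : Subgroup (Abelianization S) := (F.focalSubgroup.subgroupOf S).map Abelianization.of
  have hqν : ∀ (R : Subgroup Ω) (ν : R →* Ω), ν ∈ F.Hom R → ∀ (t : S) (ht : (t : Ω) ∈ R)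
      (hν : ν ⟨t, ht⟩ ∈ S), QuotientGroup.mk' Wb (Abelianization.of ⟨ν ⟨t, ht⟩, hν⟩) =
        QuotientGroup.mk' Wb (Abelianization.of t) := by
    intro R ν hνm t ht hν
    have e : (⟨ν ⟨t, ht⟩, hν⟩ : S) = t * (t⁻¹ * ⟨ν ⟨t, ht⟩, hν⟩) := by
      rw [mul_inv_cancel_left]
    rw [e, map_mul, map_mul, mul_eq_left]
    rw [QuotientGroup.mk'_apply, QuotientGroup.eq_one_iff]
    refine ⟨t⁻¹ * ⟨ν ⟨t, ht⟩, hν⟩, ?_, rfl⟩
    rw [SetLike.mem_coe, Subgroup.mem_subgroupOf]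
    exact inv_mul_map_mem_focal F hνm ⟨t, ht⟩
  have hT2 : ∀ x : S, QuotientGroup.mk' Wb (τ x) =
      QuotientGroup.mk' Wb (Abelianization.of x) ^ H.index := by
    intro x
    show QuotientGroup.mk' Wb (MonoidHom.transfer ϕ (ι x)) = _
    rw [← transfer_comp_apply]
    apply transfer_eq_pow_of_forall
    intro k g₀ hk
    have e : g₀⁻¹ * ι x ^ k * g₀ = g₀⁻¹ * ι (x ^ k) * g₀ := by rw [map_pow]
    obtain ⟨R, ν, hν, hR⟩ := hgraph g₀
    obtain ⟨ht, hνS, h1⟩ := hR (x ^ k) (e ▸ hk)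
    have e2 : (⟨g₀⁻¹ * ι x ^ k * g₀, hk⟩ : H) = ⟨g₀⁻¹ * ι (x ^ k) * g₀, e ▸ hk⟩ := Subtype.ext e
    rw [MonoidHom.comp_apply, e2, h1, hqν R ν hν, map_pow, map_pow]
  -- the quotient by the image of `D`
  let Db : Subgroup (Abelianization S) := (D.subgroupOf S).map Abelianization.of
  let π : S →* Abelianization S ⧸ Db := (QuotientGroup.mk' Db).comp Abelianization.of
  have hπsurj : Function.Surjective π :=
    (QuotientGroup.mk'_surjective Db).comp (QuotientGroup.mk_surjective (s := commutator S))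
  have hπD : ∀ d : S, (d : Ω) ∈ D → π d = 1 := by
    intro d hd
    show QuotientGroup.mk' Db (Abelianization.of d) = 1
    rw [QuotientGroup.mk'_apply, QuotientGroup.eq_one_iff]
    exact ⟨d, Subgroup.mem_subgroupOf.mpr hd, rfl⟩
  have hπker : ∀ y : S, π y = 1 → (y : Ω) ∈ D := by
    intro y hy
    have hy' : QuotientGroup.mk' Db (Abelianization.of y) = 1 := hy
    rw [QuotientGroup.mk'_apply, QuotientGroup.eq_one_iff] at hy'
    obtain ⟨d, hd, hdy⟩ := hy'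
    rw [SetLike.mem_coe, Subgroup.mem_subgroupOf] at hd
    have h1 : Abelianization.of (d⁻¹ * y) = 1 := by
      rw [map_mul, map_inv, hdy, inv_mul_cancel]
    have h2 : d⁻¹ * y ∈ commutator S := by
      rw [← Abelianization.ker_of]; exact h1
    have h3 : ((d⁻¹ * y : S) : Ω) ∈ ⁅(S : Subgroup Ω), (S : Subgroup Ω)⁆ := by
      rw [← Subgroup.map_subtype_commutator]
      exact ⟨d⁻¹ * y, h2, rfl⟩
    have h4 := D.mul_mem hd (hSD h3)
    have e : (d : Ω) * ((d⁻¹ * y : S) : Ω) = (y : Ω) := by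
      push_cast
      rw [mul_inv_cancel_left]
    rwa [e] at h4
  have hMp : IsPGroup p (Abelianization S ⧸ Db) := hS.of_surjective π hπsurj
  by_contra hcon
  push Not at hcon
  -- step A
  have hA : ∀ w : S, (w : Ω) ∈ F.focalSubgroup → ∃ a : Abelianization S ⧸ Db, a ^ p = π w := by
    intro w hw
    by_contra hno
    push Not at hno
    obtain ⟨χ, hχp, hχb⟩ := exists_char_of_not_pow p (π w) hno
    apply hχb
    exact hcon (χ.comp π) (fun s => hχp _) (fun s hs => by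
      rw [MonoidHom.comp_apply, hπD s hs, map_one]) w hw
  -- step B
  have hB : ∀ b : Abelianization S ⧸ Db, (∃ w : S, (w : Ω) ∈ F.focalSubgroup ∧ π w = b) →
      ∃ b₁, (∃ w : S, (w : Ω) ∈ F.focalSubgroup ∧ π w = b₁) ∧ b₁ ^ p = b ^ H.index := by
    rintro _ ⟨w, hw, rfl⟩
    obtain ⟨a, ha⟩ := hA w hw
    obtain ⟨x, rfl⟩ := hπsurj a
    have h1 : π (x ^ p * w⁻¹) = 1 := by
      rw [map_mul, map_pow, map_inv, ha, mul_inv_cancel]
    have h2 : τ (x ^ p * w⁻¹) = 1 := hτW _ (hDW (hπker _ h1))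
    have h3 : τ x ^ p = 1 := by
      rw [map_mul, map_pow, map_inv, hτW w hw, inv_one, mul_one] at h2
      exact h2
    have h4 : τ x * (Abelianization.of x ^ H.index)⁻¹ ∈ Wb := by
      rw [← QuotientGroup.eq_one_iff, ← QuotientGroup.mk'_apply, map_mul, map_inv, map_pow, hT2,
        mul_inv_cancel]
    obtain ⟨w₁, hw₁, hw₁e⟩ := h4
    rw [SetLike.mem_coe, Subgroup.mem_subgroupOf] at hw₁
    refine ⟨π w₁⁻¹, ⟨w₁⁻¹, ?_, rfl⟩, ?_⟩
    · rw [Subgroup.coe_inv]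
      exact F.focalSubgroup.inv_mem hw₁
    · have h5 : Abelianization.of w₁ ^ p = ((Abelianization.of x ^ p) ^ H.index)⁻¹ := by
        rw [hw₁e, mul_pow, h3, one_mul, inv_pow, ← pow_mul, ← pow_mul, mul_comm]
      have h6 : π w₁ ^ p = ((π x ^ p) ^ H.index)⁻¹ := by
        show (QuotientGroup.mk' Db (Abelianization.of w₁)) ^ p = _
        rw [← map_pow, h5, map_inv, map_pow, map_pow]
        rfl
      rw [map_inv, inv_pow, h6, inv_inv, ha]
  have hall := eq_one_of_forall_exists_pow hMp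
    (fun b => ∃ w : S, (w : Ω) ∈ F.focalSubgroup ∧ π w = b) H.index hidx hB
  apply hne
  apply le_antisymm hDW
  intro w hw
  have h1 := hall (π ⟨w, hWS hw⟩) ⟨⟨w, hWS hw⟩, hw, rfl⟩
  exact hπker _ h1

/-- **Yoshida's theorem for fusion systems, character form.** -/
theorem yoshida_of_char [Finite S] (F : FusionSystem S) {p : ℕ} [hp : Fact p.Prime]
    (hS : IsPGroup p S) (hF : F.IsSaturated p) (lam : S →* ℂˣ) (hlamp : ∀ s, lam s ^ p = 1)
    (hinv : ∀ (ν : S →* Ω), ν ∈ F.Hom S → ∀ (s : S) (h : ν s ∈ S), lam ⟨ν s, h⟩ = lam s)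
    (u₁ : S) (hu₁W : (u₁ : Ω) ∈ F.focalSubgroup) (hu₁ : lam u₁ ≠ 1) :
    ∃ (W : Sylow p (Equiv.Perm (Fin (p ^ 2))))
      (f : S →* ↥(W : Subgroup (Equiv.Perm (Fin (p ^ 2))))), Function.Surjective f := by
  classical
  -- `u₀` of least order
  have hex : ∃ n : ℕ, ∃ u : S, (u : Ω) ∈ F.focalSubgroup ∧ lam u ≠ 1 ∧ orderOf u = n :=
    ⟨_, u₁, hu₁W, hu₁, rfl⟩
  obtain ⟨u₀, hu₀W, hu₀, hun⟩ := Nat.find_spec hex
  have hmin : ∀ v : S, (v : Ω) ∈ F.focalSubgroup → orderOf v < orderOf u₀ → lam v = 1 := by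
    intro v hv hlt
    by_contra hne
    exact Nat.find_min hex (hun ▸ hlt) ⟨v, hv, hne, rfl⟩
  obtain ⟨𝔾, _, _, ι, H, ϕ, hιinj, hidx, hιH, hconj, hgraph⟩ := exists_park F hS hF
  let lamb : Abelianization S →* ℂˣ := Abelianization.lift lam
  have hlamb : ∀ s : S, lamb (Abelianization.of s) = lam s := fun s => Abelianization.lift_apply_of lam s
  let θ : ↥H →* ℂˣ := lamb.comp ϕ
  have hθp : ∀ n, θ n ^ p = 1 := by
    intro n
    obtain ⟨s, hs⟩ := QuotientGroup.mk_surjective (s := commutator S) (ϕ n)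
    show lamb (ϕ n) ^ p = 1
    rw [← hs]
    exact (congrArg (· ^ p) (hlamb s)).trans (hlamp s)
  have hKp : IsPGroup p ι.range := hS.of_surjective ι.rangeRestrict ι.rangeRestrict_surjective
  have hKN : ι.range ≤ H := by
    rintro _ ⟨s, rfl⟩
    exact hιH s
  -- values of `θ` on conjugates
  have hval : ∀ (g : 𝔾) (t : S) (h : g⁻¹ * ι t * g ∈ H), ∃ (R : Subgroup Ω) (ν : R →* Ω), ν ∈ F.Hom R ∧
      ∃ (ht : (t : Ω) ∈ R) (hν : ν ⟨t, ht⟩ ∈ S), extd H θ (g⁻¹ * ι t * g) = lam ⟨ν ⟨t, ht⟩, hν⟩ ∧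
        ∀ t' : S, g⁻¹ * ι t' * g ∈ H → (t' : Ω) ∈ R := by
    intro g t h
    obtain ⟨R, ν, hν, hR⟩ := hgraph g
    obtain ⟨ht, hνS, h1⟩ := hR t h
    refine ⟨R, ν, hν, ht, hνS, ?_, fun t' h' => (hR t' h').1⟩
    rw [extd_of_mem H θ h]
    show lamb (ϕ _) = _
    rw [h1, hlamb]
  have hvalfix : ∀ g : 𝔾, (∀ k ∈ ι.range, g⁻¹ * k * g ∈ H) → extd H θ (g⁻¹ * ι u₀ * g) = lam u₀ := by
    intro g hg
    obtain ⟨R, ν, hν, ht, hνS, h1, hall⟩ := hval g u₀ (hg _ ⟨u₀, rfl⟩)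
    have hRS : R = S := by
      apply le_antisymm (F.le_of_mem hν).1
      intro s hs
      exact hall ⟨s, hs⟩ (hg _ ⟨⟨s, hs⟩, rfl⟩)
    subst hRS
    rw [h1]
    exact hinv ν hν u₀ hνS
  have hfix : ∀ g : 𝔾, (∀ k ∈ ι.range, g⁻¹ * k * g ∈ H) →
      extd H θ (g⁻¹ * ι u₀ * g) = extd H θ (ι u₀) := by
    intro g hg
    rw [hvalfix g hg]
    have h1 := hvalfix 1 (fun k hk => by simpa using hKN hk)
    simp only [inv_one, one_mul, mul_one] at h1
    exact h1.symm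
  have hθu : extd H θ (ι u₀) ≠ 1 := by
    have h1 := hvalfix 1 (fun k hk => by simpa using hKN hk)
    simp only [inv_one, one_mul, mul_one] at h1
    rw [h1]
    exact hu₀
  -- the transfer vanishes on the focal subgroup
  have htr : MonoidHom.transfer θ (ι u₀) = 1 := by
    have := eq_one_of_mem_focal F ((MonoidHom.transfer θ).comp ι) (by
      intro P φ hφ x hx hφx
      obtain ⟨g, hg⟩ := hconj P φ hφ
      show MonoidHom.transfer θ (ι _) = MonoidHom.transfer θ (ι _)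
      rw [hg x hx hφx, map_mul, map_mul, map_inv, mul_comm, inv_mul_cancel_left]) u₀ hu₀W
    exact this
  -- the longer cycles
  have hcyc : ∀ k ∈ ι.range, ∀ (y : 𝔾) (r : ℕ), 1 < r → r ∣ orderOf (k⁻¹ * ι u₀ * k) →
      y⁻¹ * (k⁻¹ * ι u₀ * k) ^ r * y ∈ H → extd H θ (y⁻¹ * (k⁻¹ * ι u₀ * k) ^ r * y) = 1 := by
    rintro _ ⟨k₀, rfl⟩ y r hr hrd hmem
    have e1 : (ι k₀)⁻¹ * ι u₀ * ι k₀ = ι (k₀⁻¹ * u₀ * k₀) := by
      rw [map_mul, map_mul, map_inv]
    have hv₀W : ((k₀⁻¹ * u₀ * k₀ : S) : Ω) ∈ F.focalSubgroup := by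
      have := conj_mem_focal F hu₀W k₀.2
      simpa using this
    have hv₀o : orderOf (k₀⁻¹ * u₀ * k₀) = orderOf u₀ := by
      have := (MulAut.conj k₀⁻¹).orderOf_eq u₀
      rwa [MulAut.conj_apply, inv_inv] at this
    rw [e1] at hrd hmem ⊢
    rw [orderOf_injective ι hιinj] at hrd
    rw [← map_pow] at hmem ⊢
    obtain ⟨R, ν, hν, ht, hνS, h1, -⟩ := hval y _ hmem
    rw [h1]
    apply hmin
    · exact map_mem_focal F hν ⟨_, ht⟩ (by
        show (((k₀⁻¹ * u₀ * k₀) ^ r : S) : Ω) ∈ F.focalSubgroup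
        rw [Subgroup.coe_pow]
        exact Subgroup.pow_mem _ hv₀W r)
    · have hr0 : r ≠ 0 := by omega
      have ho1 : orderOf ((k₀⁻¹ * u₀ * k₀) ^ r) = orderOf (k₀⁻¹ * u₀ * k₀) / r :=
        orderOf_pow_of_dvd hr0 hrd
      have ho2 : orderOf (⟨ν ⟨(((k₀⁻¹ * u₀ * k₀) ^ r : S) : Ω), ht⟩, hνS⟩ : S) =
          orderOf ((k₀⁻¹ * u₀ * k₀) ^ r) := by
        rw [← Subgroup.orderOf_coe, ← Subgroup.orderOf_coe]
        have h3 := orderOf_injective ν (F.injective_of_mem hν) ⟨(((k₀⁻¹ * u₀ * k₀) ^ r : S) : Ω), ht⟩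
        rw [h3, ← Subgroup.orderOf_coe]
      rw [ho2, ho1, hv₀o]
      exact Nat.div_lt_self (orderOf_pos u₀) hr
  obtain ⟨z, hzK, K₀, hK₀K, hK₀n, hK₀i, μ, hμp, hc, hμc⟩ :=
    engel_of_transfer H θ hθp ι.range hKp hKN hidx (ι u₀) ⟨u₀, rfl⟩ hθu htr hfix hcyc
  obtain ⟨z₀, rfl⟩ := hzK
  -- transport to `S`
  have hiter : ι ((fun y : S => y⁻¹ * z₀⁻¹ * y * z₀)^[p - 1] u₀) =
      (fun y : 𝔾 => y⁻¹ * (ι z₀)⁻¹ * y * ι z₀)^[p - 1] (ι u₀) := map_iterate_comm ι z₀ u₀ (p - 1)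
  have hS₀i : (K₀.comap ι).index = p := by
    rw [Subgroup.index_comap]
    exact hK₀i
  have hc₀ : (fun y : S => y⁻¹ * z₀⁻¹ * y * z₀)^[p - 1] u₀ ∈ K₀.comap ι := by
    rw [Subgroup.mem_comap, hiter]
    exact hc
  let μ₀ : ↥(K₀.comap ι) →* ℂˣ :=
    μ.comp ((ι.comp (K₀.comap ι).subtype).codRestrict K₀ (fun s => s.2))
  have hcfr : (⟨_, hc₀⟩ : ↥(K₀.comap ι)) ∉ frattini ↥(K₀.comap ι) := by
    intro hmem
    have hker := frattini_le_ker_of_pow p μ₀ (fun x => hμp _) hmem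
    rw [MonoidHom.mem_ker] at hker
    apply hμc
    rw [← hker]
    show μ _ = μ _
    congr 1
    exact Subtype.ext hiter.symm
  exact exists_surjective_of_engel hS u₀ z₀ (K₀.comap ι) hS₀i hc₀ hcfr

end Cfsg.Agent.Lib.Helper85
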