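import Cfsg.Agent.Lib.Helper85.FusionTate
import Cfsg.Agent.Lib.Helper85.FusionYoshida
import Cfsg.Agent.Lib.Helper88.GeneralTate
import Cfsg.Agent.Lib.Helper70.Yoshida

/-!
# Tate's theorem for fusion systems

`H ≤ F` saturated fusion systems over the finite `p`-group `S`.
* `focal_eq_of_frattini_sup_eq`: `Φ(S) foc(F) = Φ(S) foc(H)` implies `foc(F) = foc(H)`;
* `hyperfocal_le_of_focal_eq`: `foc(F) = foc(H)` implies `hyp(F) ≤ hyp(H)`.
-/

set_option autoImplicit false

namespace Cfsg.Agent.Lib.Helper85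

open Cfsg Cfsg.FusionSystem
open scoped commutatorElement

universe u

variable {Ω : Type u} [Group Ω] {S : Subgroup Ω}

theorem focal_mono {H F : FusionSystem S} (hHF : H.IsSubsystemOf F) : H.focalSubgroup ≤ F.focalSubgroup := by
  unfold FusionSystem.focalSubgroup
  rw [Subgroup.closure_le]
  rintro y ⟨P, φ, x, hφ, rfl⟩
  exact Subgroup.subset_closure ⟨P, φ, x, hHF P hφ, rfl⟩

theorem autGroup_mono {H F : FusionSystem S} (hHF : H.IsSubsystemOf F) (P : Subgroup Ω) :
    H.autGroup P ≤ F.autGroup P := by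
  unfold FusionSystem.autGroup
  apply Subgroup.closure_mono
  intro α hα
  exact hHF P hα

theorem hyperfocal_mono {H F : FusionSystem S} (hHF : H.IsSubsystemOf F) (p : ℕ) :
    H.hyperfocalSubgroup p ≤ F.hyperfocalSubgroup p := by
  unfold FusionSystem.hyperfocalSubgroup
  rw [Subgroup.closure_le]
  rintro y ⟨P, α, x, hPS, hα, rfl⟩
  have h1 := Helper84.map_pResidual_le p (Subgroup.inclusion (autGroup_mono hHF P))
    (Subgroup.mem_map_of_mem _ hα)
  exact Subgroup.subset_closure ⟨P, Subgroup.inclusion (autGroup_mono hHF P) α, x, hPS, h1, rfl⟩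

theorem commutator_le_focal (F : FusionSystem S) :
    ⁅(S : Subgroup Ω), (S : Subgroup Ω)⁆ ≤ F.focalSubgroup := by
  rw [Subgroup.commutator_le]
  intro g₁ hg₁ g₂ hg₂
  refine Subgroup.subset_closure ⟨S, conjHom S g₂, ⟨g₁⁻¹, S.inv_mem hg₁⟩, F.conj_mem le_rfl hg₂, ?_⟩
  rw [Helper87.conjHom_apply, commutatorElement_def]
  simp [mul_assoc]

/-- **Tate, first half**: if `Φ(S) foc(F) = Φ(S) foc(H)` then `foc(F) = foc(H)`. -/
theorem focal_eq_of_frattini_sup_eq [Finite S] (F H : FusionSystem S) {p : ℕ} [Fact p.Prime]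
    (hS : IsPGroup p S) (hF : F.IsSaturated p) (hHF : H.IsSubsystemOf F)
    (h : (frattini ↥S).map S.subtype ⊔ F.focalSubgroup = (frattini ↥S).map S.subtype ⊔ H.focalSubgroup) :
    F.focalSubgroup = H.focalSubgroup := by
  by_contra hne
  obtain ⟨lam, hlamp, hlamD, u, hu, hlamu⟩ := exists_char_of_focal_lt F hS hF H.focalSubgroup
    (focal_mono hHF) (commutator_le_focal H) (fun e => hne e.symm)
  have hle : (frattini ↥S).map S.subtype ⊔ H.focalSubgroup ≤ lam.ker.map S.subtype := by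
    apply sup_le
    · exact Subgroup.map_mono (Cfsg.Agent.Lib.Helper70.Yoshida.frattini_le_ker_of_pow p lam hlamp)
    · intro x hx
      have hxS : x ∈ S := focal_le H hx
      exact ⟨⟨x, hxS⟩, hlamD ⟨x, hxS⟩ hx, rfl⟩
  have hu' : (u : Ω) ∈ lam.ker.map S.subtype := hle (h ▸ Subgroup.mem_sup_right hu)
  obtain ⟨k, hk, hku⟩ := hu'
  have : k = u := Subtype.ext hku
  rw [this] at hk
  exact hlamu hk

open scoped IsMulCommutative in
/-- **Tate, second half**: if `foc(F) = foc(H)` then `hyp(F) ≤ hyp(H)`. -/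
theorem hyperfocal_le_of_focal_eq [Finite S] (F H : FusionSystem S) {p : ℕ} [hp : Fact p.Prime]
    (hS : IsPGroup p S) (hF : F.IsSaturated p) (hH : H.IsSaturated p) (hHF : H.IsSubsystemOf F)
    (h : F.focalSubgroup = H.focalSubgroup) :
    F.hyperfocalSubgroup p ≤ H.hyperfocalSubgroup p := by
  classical
  by_contra hne
  have hnil : Group.IsNilpotent S := hS.isNilpotent
  -- the subgroups of `S`
  have hTn : ((F.hyperfocalSubgroup p).subgroupOf S).Normal := by
    refine ⟨fun n hn g => ?_⟩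
    rw [Subgroup.mem_subgroupOf] at hn ⊢
    exact Cfsg.Agent.S5124.conj_mem_hyperfocal F p g.2 hn
  have hUn : ((H.hyperfocalSubgroup p).subgroupOf S).Normal := by
    refine ⟨fun n hn g => ?_⟩
    rw [Subgroup.mem_subgroupOf] at hn ⊢
    exact Cfsg.Agent.S5124.conj_mem_hyperfocal H p g.2 hn
  have hUT : (H.hyperfocalSubgroup p).subgroupOf S ≤ (F.hyperfocalSubgroup p).subgroupOf S := by
    intro x hx
    rw [Subgroup.mem_subgroupOf] at hx ⊢
    exact hyperfocal_mono hHF p hx
  have hne' : ¬ (F.hyperfocalSubgroup p).subgroupOf S ≤ (H.hyperfocalSubgroup p).subgroupOf S := by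
    intro hle
    apply hne
    intro x hx
    have hxS : x ∈ S := Cfsg.Agent.S5124.hyperfocal_le F p hx
    have := hle (show (⟨x, hxS⟩ : S) ∈ (F.hyperfocalSubgroup p).subgroupOf S from
      Subgroup.mem_subgroupOf.2 hx)
    exact Subgroup.mem_subgroupOf.1 this
  have hMne := Helper88.Tate.sup_commutator_top_ne ((F.hyperfocalSubgroup p).subgroupOf S)
    ((H.hyperfocalSubgroup p).subgroupOf S) hne'
  set M : Subgroup S := (H.hyperfocalSubgroup p).subgroupOf S ⊔
    ⁅(F.hyperfocalSubgroup p).subgroupOf S, (⊤ : Subgroup S)⁆ with hM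
  have hcn : (⁅(F.hyperfocalSubgroup p).subgroupOf S, (⊤ : Subgroup S)⁆).Normal :=
    Subgroup.commutator_normal _ _
  have hMn : M.Normal := Subgroup.sup_normal _ _
  have hMT : M ≤ (F.hyperfocalSubgroup p).subgroupOf S :=
    sup_le hUT (Subgroup.commutator_le_left _ _)
  apply hMne
  apply le_antisymm hMT
  -- the central subgroup `T / M` of `S / M`
  have hcentral : ∀ t : S, t ∈ (F.hyperfocalSubgroup p).subgroupOf S →
      QuotientGroup.mk' M t ∈ Subgroup.center (S ⧸ M) := by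
    intro t ht
    rw [Subgroup.mem_center_iff]
    intro g
    obtain ⟨s, rfl⟩ := QuotientGroup.mk'_surjective M g
    rw [← map_mul, ← map_mul, QuotientGroup.mk'_eq_mk']
    refine ⟨⁅t⁻¹, s⁻¹⁆, ?_, by rw [commutatorElement_def]; group⟩
    exact Subgroup.mem_sup_right (Subgroup.commutator_mem_commutator (Subgroup.inv_mem _ ht)
      (Subgroup.mem_top _))
  let L : S → Subgroup.center (S ⧸ M) := fun s =>
    if hs : s ∈ (F.hyperfocalSubgroup p).subgroupOf S then ⟨QuotientGroup.mk' M s, hcentral s hs⟩ else 1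
  have hL : ∀ (s : S) (hs : s ∈ (F.hyperfocalSubgroup p).subgroupOf S),
      L s = ⟨QuotientGroup.mk' M s, hcentral s hs⟩ := fun s hs => dif_pos hs
  have hLmul : ∀ a b : S, (a : Ω) ∈ F.hyperfocalSubgroup p → (b : Ω) ∈ F.hyperfocalSubgroup p →
      L (a * b) = L a * L b := by
    intro a b ha hb
    have ha' : a ∈ (F.hyperfocalSubgroup p).subgroupOf S := Subgroup.mem_subgroupOf.2 ha
    have hb' : b ∈ (F.hyperfocalSubgroup p).subgroupOf S := Subgroup.mem_subgroupOf.2 hb
    rw [hL a ha', hL b hb', hL (a * b) (Subgroup.mul_mem _ ha' hb')]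
    apply Subtype.ext
    show QuotientGroup.mk' M (a * b) = QuotientGroup.mk' M a * QuotientGroup.mk' M b
    exact map_mul _ a b
  have hLconj : ∀ s a : S, (a : Ω) ∈ F.hyperfocalSubgroup p → L (s * a * s⁻¹) = L a := by
    intro s a ha
    have ha' : a ∈ (F.hyperfocalSubgroup p).subgroupOf S := Subgroup.mem_subgroupOf.2 ha
    have hsa' : s * a * s⁻¹ ∈ (F.hyperfocalSubgroup p).subgroupOf S := hTn.conj_mem a ha' s
    rw [hL a ha', hL _ hsa']
    apply Subtype.ext
    show QuotientGroup.mk' M (s * a * s⁻¹) = QuotientGroup.mk' M a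
    rw [map_mul, map_mul, map_inv]
    have hc := Subgroup.mem_center_iff.1 (hcentral a ha') (QuotientGroup.mk' M s)
    rw [hc, mul_inv_cancel_right]
  obtain ⟨n, μ, hpn, hμ⟩ := tate_extension F hS hF L hLmul hLconj
  -- `μ` kills `foc(H) = foc(F)`
  have hker : F.focalSubgroup ≤ μ.ker.map S.subtype := by
    rw [h, Cfsg.Agent.S5092.result p hS H hH]
    apply sup_le
    · intro x hx
      have hxS : x ∈ S := Cfsg.Agent.S5124.hyperfocal_le H p hx
      refine ⟨⟨x, hxS⟩, ?_, rfl⟩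
      have hxU : (⟨x, hxS⟩ : S) ∈ (H.hyperfocalSubgroup p).subgroupOf S := Subgroup.mem_subgroupOf.2 hx
      have hxT : (⟨x, hxS⟩ : S) ∈ (F.hyperfocalSubgroup p).subgroupOf S := hUT hxU
      show μ ⟨x, hxS⟩ = 1
      rw [hμ _ (Subgroup.mem_subgroupOf.1 hxT), hL _ hxT]
      have : (⟨QuotientGroup.mk' M ⟨x, hxS⟩, hcentral _ hxT⟩ : Subgroup.center (S ⧸ M)) = 1 := by
        apply Subtype.ext
        show QuotientGroup.mk' M ⟨x, hxS⟩ = 1
        rw [QuotientGroup.mk'_apply, QuotientGroup.eq_one_iff]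
        exact Subgroup.mem_sup_left hxU
      rw [this, one_pow]
    · rw [Subgroup.commutator_le]
      intro g₁ hg₁ g₂ hg₂
      refine ⟨⁅(⟨g₁, hg₁⟩ : S), ⟨g₂, hg₂⟩⁆, ?_, rfl⟩
      exact Abelianization.commutator_subset_ker μ
        (Subgroup.commutator_mem_commutator (Subgroup.mem_top _) (Subgroup.mem_top _))
  intro t ht
  have htT : (t : Ω) ∈ F.hyperfocalSubgroup p := Subgroup.mem_subgroupOf.1 ht
  have htfoc : (t : Ω) ∈ F.focalSubgroup := by
    rw [Cfsg.Agent.S5092.result p hS F hF]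
    exact Subgroup.mem_sup_left htT
  obtain ⟨k, hk, hkt⟩ := hker htfoc
  have hkt' : k = t := Subtype.ext hkt
  rw [hkt'] at hk
  have h1 : μ t = 1 := hk
  rw [hμ t htT, hL t ht] at h1
  have h2 : QuotientGroup.mk' M t ^ n = 1 := by
    have := congrArg Subtype.val h1
    simpa using this
  rw [← map_pow, QuotientGroup.mk'_apply, QuotientGroup.eq_one_iff] at h2
  -- `t` is a `p`-element
  obtain ⟨j, hj⟩ := hS t
  have hdvd : orderOf t ∣ p ^ j := orderOf_dvd_of_pow_eq_one hj
  have hcop : Nat.Coprime n (orderOf t) :=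
    Nat.Coprime.coprime_dvd_right hdvd
      (Nat.Coprime.pow_right j ((Nat.Prime.coprime_iff_not_dvd hp.out).2 hpn).symm)
  obtain ⟨i, hi⟩ := exists_pow_eq_self_of_coprime hcop
  rw [← hi]
  exact Subgroup.pow_mem _ h2 i

end Cfsg.Agent.Lib.Helper85
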