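import Cfsg.Agent.Lib.Helper85.FusionNC
import Cfsg.Agent.Lib.Helper85.FusionNormal
import Cfsg.Agent.Lib.Helper85.FusionCentralComm
import Cfsg.Agent.Lib.Helper87.FusionNormalizer
import Cfsg.Agent.Lib.Helper84.ModelRadical
import Cfsg.Agent.S5126

/-!
helper85: basic lemmas on central subgroups of iterated normalizer systems, used for the control of weak closure of
elements in fusion systems (S5196).
-/

set_option autoImplicit false

namespace Cfsg.Agent.Lib.Helper85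

open Cfsg Cfsg.FusionSystem Cfsg.Agent.Lib.Helper87

variable {Ω : Type*} [Group Ω] {S : Subgroup Ω}

/-- if `χ` extends `ψ` and `ψ` maps `Q` onto `Q`, so does `χ` -/
theorem map_eq_of_extends {X Y Q : Subgroup Ω} (hXY : X ≤ Y) {ψ : X →* Ω} {χ : Y →* Ω}
    (hext : ∀ x : X, χ (Subgroup.inclusion hXY x) = ψ x) (hQX : Q ≤ X)
    (h : (Q.subgroupOf X).map ψ = Q) : (Q.subgroupOf Y).map χ = Q := by
  rw [Cfsg.Agent.Lib.Helper87.map_subgroupOf_eq_iff] at h ⊢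
  constructor
  · intro x hx
    have : x = Subgroup.inclusion hXY ⟨(x : Ω), hQX hx⟩ := Subtype.ext rfl
    rw [this, hext]
    exact h.1 _ hx
  · intro q hq
    obtain ⟨y, hy, hyq⟩ := h.2 q hq
    exact ⟨Subgroup.inclusion hXY y, hy, (hext y).trans hyq⟩

/-- a central subgroup of a system over `S` is centralized by `S` -/
theorem commute_of_isCentral (F : FusionSystem S) {Z : Subgroup Ω} (hZ : F.IsCentral Z) {z s : Ω}
    (hz : z ∈ Z) (hs : s ∈ S) : s * z * s⁻¹ = z := by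
  have h := apply_eq_of_isCentral F hZ (F.conj_mem hZ.1 hs) hz hz
  exact h

/-- the two normalizer systems at equal subgroups have the same central subgroups -/
theorem isCentral_of_eq (F : FusionSystem S) {V V' Z : Subgroup Ω} (h : V = V')
    {N : FusionSystem (normalizerIn S V)} (hN : F.IsNormalizerSystem V N)
    {N' : FusionSystem (normalizerIn S V')} (hN' : F.IsNormalizerSystem V' N') (hZ : N.IsCentral Z) :
    N'.IsCentral Z := by
  subst h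
  rw [← Cfsg.Agent.Lib.Helper84.Model.eq_of_isNormalizerSystem hN hN']
  exact hZ

/-- **Nested normalizer systems.** If `Z` is central in `N_F(V)`, it is central in `N_{N_F(U)}(V)`, when `V` is a
subgroup of `N_S(U)` normalized by `N_S(U)`. -/
theorem isCentral_nested (F : FusionSystem S) {U V Z : Subgroup Ω} [Finite U] [Finite V] (hUS : U ≤ S)
    (_hV : V ≤ normalizerIn S U) (hUV : normalizerIn S U ≤ normalizerIn S V)
    {FU : FusionSystem (normalizerIn S U)} (hFU : F.IsNormalizerSystem U FU)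
    {NV : FusionSystem (normalizerIn S V)} (hNV : F.IsNormalizerSystem V NV)
    {NUV : FusionSystem (normalizerIn (normalizerIn S U) V)} (hNUV : FU.IsNormalizerSystem V NUV)
    (hZ : NV.IsCentral Z) (hZU : Z ≤ normalizerIn S U) : NUV.IsCentral Z := by
  have hUU : U ≤ normalizerIn S U := le_normalizerIn hUS
  have hZNV : Z ≤ normalizerIn (normalizerIn S U) V := fun z hz => ⟨hZU hz, (hZ.1 hz).2⟩
  refine ⟨hZNV, fun P φ hφ => ?_⟩
  rw [hNUV P] at hφ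
  obtain ⟨hφFU, hPN, hφN, ψ₂, hψ₂, hψ₂e, hψ₂V⟩ := hφ
  rw [hFU (P ⊔ V)] at hψ₂
  obtain ⟨hψ₂F, hPVle, hψ₂N, ψ₃, hψ₃, hψ₃e, hψ₃U⟩ := hψ₂
  have hDle : (P ⊔ V) ⊔ U ≤ normalizerIn S U := sup_le hPVle hUU
  have hVD : V ≤ (P ⊔ V) ⊔ U := le_sup_of_le_left le_sup_right
  have hUD : U ≤ (P ⊔ V) ⊔ U := le_sup_right
  -- `ψ₃` normalizes `V`
  have hψ₃V : (V.subgroupOf ((P ⊔ V) ⊔ U)).map ψ₃ = V :=
    map_eq_of_extends le_sup_left hψ₃e le_sup_right hψ₂V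
  have hψ₃NV : ψ₃ ∈ NV.Hom ((P ⊔ V) ⊔ U) := by
    rw [hNV]
    exact Cfsg.Agent.S5126.mem_normalizerHom_of_map_eq F hVD (hDle.trans hUV) hψ₃ hψ₃V
  obtain ⟨ψ₄, hψ₄, hψ₄e, hψ₄Z⟩ := hZ.2 _ ψ₃ hψ₃NV
  have hψ₄F : ψ₄ ∈ F.Hom (((P ⊔ V) ⊔ U) ⊔ Z) := by
    rw [hNV] at hψ₄
    exact hψ₄.1
  have hψ₄U : (U.subgroupOf (((P ⊔ V) ⊔ U) ⊔ Z)).map ψ₄ = U :=
    map_eq_of_extends le_sup_left hψ₄e hUD hψ₃U
  have hψ₄V : (V.subgroupOf (((P ⊔ V) ⊔ U) ⊔ Z)).map ψ₄ = V :=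
    map_eq_of_extends le_sup_left hψ₄e hVD hψ₃V
  have hD'le : ((P ⊔ V) ⊔ U) ⊔ Z ≤ normalizerIn S U := sup_le hDle hZU
  have hψ₄FU : ψ₄ ∈ FU.Hom (((P ⊔ V) ⊔ U) ⊔ Z) := by
    rw [hFU]
    exact Cfsg.Agent.S5126.mem_normalizerHom_of_map_eq F (hUD.trans le_sup_left) hD'le hψ₄F hψ₄U
  have hD'le2 : ((P ⊔ V) ⊔ U) ⊔ Z ≤ normalizerIn (normalizerIn S U) V := by
    intro x hx
    exact ⟨hD'le hx, (hUV (hD'le hx)).2⟩
  have hψ₄NUV : ψ₄ ∈ NUV.Hom (((P ⊔ V) ⊔ U) ⊔ Z) := by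
    rw [hNUV]
    exact Cfsg.Agent.S5126.mem_normalizerHom_of_map_eq FU (hVD.trans le_sup_left) hD'le2 hψ₄FU hψ₄V
  have hPZ : P ⊔ Z ≤ ((P ⊔ V) ⊔ U) ⊔ Z :=
    sup_le ((le_sup_left.trans le_sup_left).trans le_sup_left) le_sup_right
  refine ⟨ψ₄.comp (Subgroup.inclusion hPZ), Cfsg.Agent.Lib.Helper87.restrict_mem NUV hψ₄NUV hPZ, ?_, ?_⟩
  · intro x
    have h1 : (Subgroup.inclusion hPZ) (Subgroup.inclusion le_sup_left x) =
        Subgroup.inclusion (le_sup_left : (P ⊔ V) ⊔ U ≤ ((P ⊔ V) ⊔ U) ⊔ Z)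
          (Subgroup.inclusion (le_sup_left : P ⊔ V ≤ (P ⊔ V) ⊔ U)
            (Subgroup.inclusion (le_sup_left : P ≤ P ⊔ V) x)) := Subtype.ext rfl
    show ψ₄ ((Subgroup.inclusion hPZ) (Subgroup.inclusion le_sup_left x)) = φ x
    rw [h1, hψ₄e, hψ₃e, hψ₂e]
  · intro z
    have h1 : (Subgroup.inclusion hPZ) (Subgroup.inclusion le_sup_right z) =
        Subgroup.inclusion (le_sup_right : Z ≤ ((P ⊔ V) ⊔ U) ⊔ Z) z := Subtype.ext rfl
    show ψ₄ ((Subgroup.inclusion hPZ) (Subgroup.inclusion le_sup_right z)) = z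
    rw [h1, hψ₄Z]

end Cfsg.Agent.Lib.Helper85
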