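import Cfsg.Agent.Lib.Helper85.FusionWCLocal
import Cfsg.Agent.Lib.Helper84.FusionKNormSys
import Cfsg.Agent.Lib.Helper87.FusionNormal

/-!
helper85: control of weak closure of elements in saturated fusion systems (Díaz–Glesser–Park–Stancu), global step.
If `W` is an isomorphism-invariant `p`-group functor containing the centre (`CenterLe`) and satisfying the group-theoretic
hypothesis `WCHyp`, then every subgroup central in `N_F(W(S))` is central in `F` (`isCentral_of_isCentral_normalizer`), hence
`Z(N_F(W(S))) = Z(F)` (`center_normalizer_eq`).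
-/

set_option autoImplicit false

universe u

namespace Cfsg.Agent.Lib.Helper85

open Cfsg Cfsg.FusionSystem Cfsg.Agent.Lib.Helper87 Cfsg.Agent.Lib.Helper88.NilpRed

variable {W : ∀ (Q : Type u) [Group Q], Subgroup Q} {p : ℕ} [Fact p.Prime]
variable {Ω : Type u} [Group Ω] {S : Subgroup Ω}

theorem range_comp_inclusion {A U : Subgroup Ω} (θ : A →* Ω) (hUA : U ≤ A) :
    (θ.comp (Subgroup.inclusion hUA)).range = (U.subgroupOf A).map θ := by
  ext y
  constructor
  · rintro ⟨x, rfl⟩
    exact ⟨Subgroup.inclusion hUA x, Subgroup.mem_subgroupOf.2 x.2, rfl⟩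
  · rintro ⟨x, hx, rfl⟩
    replace hx := Subgroup.mem_subgroupOf.1 hx
    exact ⟨⟨(x : Ω), hx⟩, rfl⟩

/-- **Descent along the tower.** For a well-placed subgroup `U` containing `Z`, with `Z` central in `N_F(W(S))`, the subgroup `Z`
is central in `N_F(U)`. Inductive form. -/
theorem isCentral_of_isWP_aux (hW : IsCharPFunctor p W) (hWZ : CenterLe p W) (hC : WCHyp p W) [Finite S]
    (hS : IsPGroup p S) (F : FusionSystem S) (hF : F.IsSaturated p)
    {N : FusionSystem (normalizerIn S (inducedFunctor W S))} (hN : F.IsNormalizerSystem (inducedFunctor W S) N)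
    {Z : Subgroup Ω} (hZ : N.IsCentral Z) :
    ∀ (n : ℕ) (U : Subgroup Ω), IsWP W F U → Z ≤ U → Nat.card S - Nat.card (normalizerIn S U) ≤ n →
      ∀ (FU : FusionSystem (normalizerIn S U)), F.IsNormalizerSystem U FU → FU.IsCentral Z := by
  have hSN : S ≤ normalizerIn S (inducedFunctor W S) := le_normalizerIn_inducedFunctor hW hS
  have hZS : Z ≤ S := hZ.1.trans (normalizerIn_le S _)
  have hZc : ∀ z ∈ Z, ∀ s ∈ S, s * z * s⁻¹ = z := fun z hz s hs => commute_of_isCentral N hZ hz (hSN hs)
  -- the common part of the induction step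
  have step : ∀ (U : Subgroup Ω), IsWP W F U → Z ≤ U →
      (∀ (NV : FusionSystem (normalizerIn S (inducedFunctor W (normalizerIn S U)))),
        F.IsNormalizerSystem (inducedFunctor W (normalizerIn S U)) NV → NV.IsCentral Z) →
      ∀ (FU : FusionSystem (normalizerIn S U)), F.IsNormalizerSystem U FU → FU.IsCentral Z := by
    intro U hWP hZU hNVc FU hFU
    have hUfn : F.IsFullyNormalized U := ((isWP_iff F U).1 hWP).1
    have hUS : U ≤ S := hUfn.1
    have hfinU : Finite U := finite_of_le hUS
    have hAS : normalizerIn S U ≤ S := normalizerIn_le S U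
    have hfinA : Finite (normalizerIn S U) := finite_of_le hAS
    have hpA : IsPGroup p (normalizerIn S U) := hS.to_le hAS
    have hFUsat : FU.IsSaturated p := isSaturated_of_isNormalizerSystem F hS hF hUfn hFU
    have hUn : FU.IsNormal U := Cfsg.Agent.Lib.Helper88.NilpRed.isNormal_of_isNormalizerSystem F hUS hFU
    have hVle : inducedFunctor W (normalizerIn S U) ≤ normalizerIn S U := inducedFunctor_le W _
    have hVS : inducedFunctor W (normalizerIn S U) ≤ S := hVle.trans hAS
    have hfinV : Finite (inducedFunctor W (normalizerIn S U) : Subgroup Ω) := finite_of_le hVS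
    have hUV : normalizerIn S U ≤ normalizerIn S (inducedFunctor W (normalizerIn S U)) :=
      normalizerIn_le_normalizerIn_wNext hW hS U
    have hNV := isNormalizerSystem_normalizerSystem F (inducedFunctor W (normalizerIn S U)) hVS
    have hNUV := isNormalizerSystem_normalizerSystem FU (inducedFunctor W (normalizerIn S U)) hVle
    have hZA : Z ≤ normalizerIn S U := hZU.trans (Cfsg.Agent.Lib.Helper87.le_normalizerIn hUS)
    have hZNUV := isCentral_nested F hUS hVle hUV hFU hNV hNUV (hNVc _ hNV) hZA
    exact isCentral_of_isNormal hW hWZ hC hpA FU hFUsat hUn hZU hNUV hZNUV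
  intro n
  induction n with
  | zero =>
    intro U hWP hZU hn FU hFU
    have hAS : normalizerIn S U ≤ S := normalizerIn_le S U
    have hcard : Nat.card (normalizerIn S U) ≤ Nat.card S := Subgroup.card_le_of_le hAS
    have hA : normalizerIn S U = S := Subgroup.eq_of_le_of_card_ge hAS (by omega)
    refine step U hWP hZU (fun NV hNV => ?_) FU hFU
    have hVeq : inducedFunctor W S = inducedFunctor W (normalizerIn S U) := by rw [hA]
    exact isCentral_of_eq F hVeq hN hNV hZ
  | succ n ih =>
    intro U hWP hZU hn FU hFU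
    have hUfn : F.IsFullyNormalized U := ((isWP_iff F U).1 hWP).1
    have hUS : U ≤ S := hUfn.1
    have hAS : normalizerIn S U ≤ S := normalizerIn_le S U
    have hfinA : Finite (normalizerIn S U) := finite_of_le hAS
    have hpA : IsPGroup p (normalizerIn S U) := hS.to_le hAS
    refine step U hWP hZU (fun NV hNV => ?_) FU hFU
    by_cases hA : normalizerIn S U = S
    · have hVeq : inducedFunctor W S = inducedFunctor W (normalizerIn S U) := by rw [hA]
      exact isCentral_of_eq F hVeq hN hNV hZ
    · have hWPV : IsWP W F (wNext W S U) := ((isWP_iff F U).1 hWP).2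
      have hZV : Z ≤ wNext W S U := by
        intro z hz
        apply centralizerIn_le_inducedFunctor hWZ hpA
        refine ⟨(Cfsg.Agent.Lib.Helper87.le_normalizerIn hUS) (hZU hz), Subgroup.mem_centralizer_iff.2 ?_⟩
        intro s hs
        have h1 := hZc z hz s (hAS hs)
        calc s * z = s * z * s⁻¹ * s := by group
          _ = z * s := by rw [h1]
      have hlt : Nat.card (normalizerIn S U) < Nat.card (normalizerIn S (wNext W S U)) := by
        have h1 := card_lt_card_normalizerIn hS hAS hA
        have hfin2 : Finite (normalizerIn S (wNext W S U)) := finite_of_le (normalizerIn_le S _)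
        exact h1.trans_le (Subgroup.card_le_of_le (normalizerIn_normalizerIn_le hW hS U))
      have hcardS : Nat.card (normalizerIn S (wNext W S U)) ≤ Nat.card S :=
        Subgroup.card_le_of_le (normalizerIn_le S _)
      exact ih (wNext W S U) hWPV hZV (by omega) NV hNV

/-- **Descent along the tower.** -/
theorem isCentral_of_isWP (hW : IsCharPFunctor p W) (hWZ : CenterLe p W) (hC : WCHyp p W) [Finite S]
    (hS : IsPGroup p S) (F : FusionSystem S) (hF : F.IsSaturated p)
    {N : FusionSystem (normalizerIn S (inducedFunctor W S))} (hN : F.IsNormalizerSystem (inducedFunctor W S) N)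
    {Z : Subgroup Ω} (hZ : N.IsCentral Z) {U : Subgroup Ω} (hWP : IsWP W F U) (hZU : Z ≤ U)
    {FU : FusionSystem (normalizerIn S U)} (hFU : F.IsNormalizerSystem U FU) : FU.IsCentral Z :=
  isCentral_of_isWP_aux hW hWZ hC hS F hF hN hZ _ U hWP hZU le_rfl FU hFU

/-- **Control of weak closure of elements.** A subgroup central in `N_F(W(S))` is central in `F`. -/
theorem isCentral_of_isCentral_normalizer (hW : IsCharPFunctor p W) (hWZ : CenterLe p W) (hC : WCHyp p W) [Finite S]
    (hS : IsPGroup p S) (F : FusionSystem S) (hF : F.IsSaturated p)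
    {N : FusionSystem (normalizerIn S (inducedFunctor W S))} (hN : F.IsNormalizerSystem (inducedFunctor W S) N)
    {Z : Subgroup Ω} (hZ : N.IsCentral Z) : F.IsCentral Z := by
  have hSN : S ≤ normalizerIn S (inducedFunctor W S) := le_normalizerIn_inducedFunctor hW hS
  have hZS : Z ≤ S := hZ.1.trans (normalizerIn_le S _)
  have hZc : ∀ z ∈ Z, ∀ s ∈ S, s * z * s⁻¹ = z := fun z hz s hs => commute_of_isCentral N hZ hz (hSN hs)
  have hVS : inducedFunctor W S ≤ S := inducedFunctor_le W S
  have hfinV : Finite (inducedFunctor W S : Subgroup Ω) := finite_of_le hVS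
  -- `S` is contained in the domain of the centralizer-type system
  have hSnK : S ≤ nK S (⊥ : Subgroup (MulAut Z)) (MulEquiv.refl Z) := by
    intro g hg
    refine ⟨hg, 1, Subgroup.one_mem _, fun u => ?_⟩
    show (u : Ω) = g * (u : Ω) * g⁻¹
    exact (hZc u u.2 g hg).symm
  -- membership in the centralizer-type system
  have hmemE : ∀ (R : Subgroup Ω) (hZR : Z ≤ R) (φ : R →* Ω), φ ∈ F.Hom R →
      (∀ z (hz : z ∈ Z), φ ⟨z, hZR hz⟩ = z) →
      φ ∈ (Cfsg.Agent.Lib.Helper84.kNormalizerSystem F Z ⊥ hZS).Hom R := by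
    intro R hZR φ hφ hfix
    have hRS : R ≤ S := (F.le_of_mem hφ).1
    have hle : R ⊔ Z ≤ R := sup_le le_rfl hZR
    refine ⟨hφ, hRS.trans hSnK, fun x => hSnK ((F.le_of_mem hφ).2 x), φ.comp (Subgroup.inclusion hle),
      Cfsg.Agent.Lib.Helper87.restrict_mem F hφ hle, fun x => ?_, 1, Subgroup.one_mem _, fun u => ?_⟩
    · show φ _ = φ x
      congr 1
    · show φ _ = (u : Ω)
      exact hfix u u.2
  have hfixE : ∀ (A : Subgroup Ω) (θ : A →* Ω), θ ∈ (Cfsg.Agent.Lib.Helper84.kNormalizerSystem F Z ⊥ hZS).Hom A →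
      ∀ z (hz : z ∈ Z) (hzA : z ∈ A), θ ⟨z, hzA⟩ = z := by
    rintro A θ ⟨-, -, -, ψ, -, hψe, κ, hκ, hψκ⟩ z hz hzA
    rw [Subgroup.mem_bot] at hκ
    have h1 := hψe ⟨z, hzA⟩
    have h2 := hψκ ⟨z, hz⟩
    have h3 : Subgroup.inclusion (le_sup_left : A ≤ A ⊔ Z) ⟨z, hzA⟩ =
        Subgroup.inclusion (le_sup_right : Z ≤ A ⊔ Z) ⟨z, hz⟩ := Subtype.ext rfl
    rw [← h1, h3, h2, hκ]
    rfl
  have key : ∀ P : Subgroup Ω, F.Hom P ⊆ (Cfsg.Agent.Lib.Helper84.kNormalizerSystem F Z ⊥ hZS).Hom P := by
    apply alperin_weak' F _ hS hF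
    intro R hRa hRr IH α hα
    have hRS : R ≤ S := hRa.1
    have hφ : R.subtype.comp α.toMonoidHom ∈ F.Hom R := (Cfsg.Agent.Lib.Helper87.mem_autGroup_iff F hRS).1 hα
    rcases Cfsg.Agent.Lib.Helper88.extender_proper_or F hS hRa hRr α hα with ⟨g, hgN, hgR⟩ | ⟨hc, hr, hn⟩
    · -- the automorphism extends to a strictly larger subgroup
      have hφr : (R.subtype.comp α.toMonoidHom).range = R := range_subtype_comp α
      obtain ⟨ψ, hψ, hψe⟩ := hRr.2 R _ hφ hφr
      have hRN : R ≤ extender S R (R.subtype.comp α.toMonoidHom) := by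
        intro r hr
        have hrC : r ∈ S := hRS hr
        rw [Cfsg.Agent.Lib.Helper85.mem_extender_iff]
        refine ⟨hrC, Subgroup.le_normalizer hr, (α ⟨r, hr⟩ : Ω), hRS (α ⟨r, hr⟩).2, ?_⟩
        intro x hx
        have : (⟨r * (x : Ω) * r⁻¹, hx⟩ : R) = ⟨r, hr⟩ * x * ⟨r, hr⟩⁻¹ := Subtype.ext rfl
        rw [this]
        simp
      have hNS : extender S R (R.subtype.comp α.toMonoidHom) ≤ S :=
        (extender_le S R _).trans (normalizerIn_le S R)
      have hfinN : Finite (extender S R (R.subtype.comp α.toMonoidHom)) := finite_of_le hNS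
      have hlt : Nat.card R < Nat.card (extender S R (R.subtype.comp α.toMonoidHom)) := by
        by_contra hle
        have heq := Subgroup.eq_of_le_of_card_ge hRN (not_lt.mp hle)
        exact hgR (heq ▸ hgN)
      have hψE := IH _ hlt hψ
      refine Cfsg.Agent.Lib.Helper87.restrict_mem' _ hψE hRN ?_
      intro x
      exact (hψe x.1 x.2 (hRN x.2)).symm
    · -- the centric radical case
      have hfinR : Finite R := finite_of_le hRS
      have hZR : Z ≤ R := by
        intro z hz
        apply hc.2 R (Cfsg.Agent.Lib.Helper87.isConj_refl F hRS)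
        refine ⟨hZS hz, Subgroup.mem_centralizer_iff.2 ?_⟩
        intro s hs
        have h1 := hZc z hz s (hRS hs)
        calc s * z = s * z * s⁻¹ * s := by group
          _ = z * s := by rw [h1]
      show R.subtype.comp α.toMonoidHom ∈ _
      apply hmemE R hZR _ hφ
      intro z hz
      show ((α ⟨z, hZR hz⟩ : R) : Ω) = z
      by_cases hRS' : R = S
      · subst hRS'
        have hφV : ((inducedFunctor W R).subgroupOf R).map (R.subtype.comp α.toMonoidHom) = inducedFunctor W R := by
          rw [Cfsg.Agent.Lib.Helper87.map_subgroupOf_eq_iff]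
          constructor
          · intro x hx
            exact (inducedFunctor_equiv hW hS (α : R ≃* R) x).1 hx
          · intro q hq
            refine ⟨α⁻¹ ⟨q, hVS hq⟩, ?_, ?_⟩
            · apply (inducedFunctor_equiv hW hS (α : R ≃* R) _).2
              rw [MulAut.apply_inv_self]
              exact hq
            · show ((α (α⁻¹ ⟨q, hVS hq⟩) : R) : Ω) = q
              rw [MulAut.apply_inv_self]
        have hφN : R.subtype.comp α.toMonoidHom ∈ N.Hom R := by
          rw [hN]
          exact Cfsg.Agent.S5126.mem_normalizerHom_of_map_eq F hVS hSN hφ hφV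
        exact apply_eq_of_isCentral N hZ hφN hz (hZR hz)
      · obtain ⟨θ, hθ, hWP⟩ := exists_wellPlaced hW hS F hF hRS
        have hRA : R ≤ normalizerIn S R := Cfsg.Agent.Lib.Helper87.le_normalizerIn hRS
        have hlt : Nat.card R < Nat.card (normalizerIn S R) := card_lt_card_normalizerIn hS hRS hRS'
        have hθE := IH _ hlt hθ
        have hθfix : ∀ z (hz : z ∈ Z), θ ⟨z, hRA (hZR hz)⟩ = z := fun z hz => hfixE _ θ hθE z hz _
        rw [← range_comp_inclusion θ hRA] at hWP
        have hθR : θ.comp (Subgroup.inclusion hRA) ∈ F.Hom R := Cfsg.Agent.Lib.Helper87.restrict_mem F hθ hRA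
        have hθRinj : Function.Injective (θ.comp (Subgroup.inclusion hRA)) := F.injective_of_mem hθR
        have hR'S : (θ.comp (Subgroup.inclusion hRA)).range ≤ S := by
          rintro _ ⟨x, rfl⟩
          exact (F.le_of_mem hθR).2 x
        have hfinR' : Finite (θ.comp (Subgroup.inclusion hRA)).range := finite_of_le hR'S
        have hZR' : Z ≤ (θ.comp (Subgroup.inclusion hRA)).range := by
          intro z hz
          exact ⟨⟨z, hZR hz⟩, hθfix z hz⟩
        have hFR' := isNormalizerSystem_normalizerSystem F _ hR'S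
        have hZFR' := isCentral_of_isWP hW hWZ hC hS F hF hN hZ hWP hZR' hFR'
        -- the transported automorphism
        obtain ⟨χ, hχ, hχinv⟩ := F.inv_mem hθR
        have hχR : ∀ y : (θ.comp (Subgroup.inclusion hRA)).range, χ y ∈ R := by
          rintro ⟨_, x, rfl⟩
          rw [hχinv x]
          exact x.2
        have hθα : (θ.comp (Subgroup.inclusion hRA)).comp α.toMonoidHom ∈ F.Hom R := by
          have h1 := F.comp_mem hφ hθR (fun x => (α x).2)
          have h2 : (θ.comp (Subgroup.inclusion hRA)).comp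
              ((R.subtype.comp α.toMonoidHom).codRestrict R (fun x => (α x).2)) =
              (θ.comp (Subgroup.inclusion hRA)).comp α.toMonoidHom := by
            ext x
            rfl
          rw [h2] at h1
          exact h1
        have hβ := F.comp_mem hχ hθα hχR
        have hβle : ∀ y, (((θ.comp (Subgroup.inclusion hRA)).comp α.toMonoidHom).comp
            (χ.codRestrict R hχR)) y ∈ (θ.comp (Subgroup.inclusion hRA)).range := fun y => ⟨_, rfl⟩
        have hβR' : ((θ.comp (Subgroup.inclusion hRA)).range.subgroupOf (θ.comp (Subgroup.inclusion hRA)).range).map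
            (((θ.comp (Subgroup.inclusion hRA)).comp α.toMonoidHom).comp (χ.codRestrict R hχR)) =
            (θ.comp (Subgroup.inclusion hRA)).range := by
          rw [Subgroup.subgroupOf_self, ← MonoidHom.range_eq_map]
          apply Subgroup.eq_of_le_of_card_ge
          · rintro _ ⟨y, rfl⟩
            exact hβle y
          · exact le_of_eq (Nat.card_congr (MonoidHom.ofInjective (F.injective_of_mem hβ)).toEquiv)
        have hβN : (((θ.comp (Subgroup.inclusion hRA)).comp α.toMonoidHom).comp (χ.codRestrict R hχR)) ∈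
            (normalizerSystem F _ hR'S).Hom (θ.comp (Subgroup.inclusion hRA)).range := by
          rw [hFR']
          exact Cfsg.Agent.S5126.mem_normalizerHom_of_map_eq F le_rfl
            (Cfsg.Agent.Lib.Helper87.le_normalizerIn hR'S) hβ hβR'
        have hfix := apply_eq_of_isCentral _ hZFR' hβN hz (hZR' hz)
        -- unfold
        have hχz : χ ⟨z, hZR' hz⟩ = z := by
          have h1 := hχinv ⟨z, hZR hz⟩
          have h2 : (⟨(θ.comp (Subgroup.inclusion hRA)) ⟨z, hZR hz⟩, ⟨⟨z, hZR hz⟩, rfl⟩⟩ :
              (θ.comp (Subgroup.inclusion hRA)).range) = ⟨z, hZR' hz⟩ := Subtype.ext (hθfix z hz)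
          rw [h2] at h1
          exact h1
        have h3 : (χ.codRestrict R hχR) ⟨z, hZR' hz⟩ = ⟨z, hZR hz⟩ := Subtype.ext hχz
        have h4 : (((θ.comp (Subgroup.inclusion hRA)).comp α.toMonoidHom).comp (χ.codRestrict R hχR)) ⟨z, hZR' hz⟩ =
            (θ.comp (Subgroup.inclusion hRA)) (α ⟨z, hZR hz⟩) := by
          show (θ.comp (Subgroup.inclusion hRA)) (α ((χ.codRestrict R hχR) ⟨z, hZR' hz⟩)) = _
          rw [h3]
        rw [h4] at hfix
        have h5 : (θ.comp (Subgroup.inclusion hRA)) (α ⟨z, hZR hz⟩) =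
            (θ.comp (Subgroup.inclusion hRA)) ⟨z, hZR hz⟩ := hfix.trans (hθfix z hz).symm
        exact congrArg Subtype.val (hθRinj h5)
  refine ⟨hZS, fun P φ hφ => ?_⟩
  obtain ⟨-, -, -, ψ, hψ, hψe, κ, hκ, hψκ⟩ := key P hφ
  rw [Subgroup.mem_bot] at hκ
  refine ⟨ψ, hψ, hψe, fun u => ?_⟩
  rw [hψκ u, hκ]
  rfl

/-- **Control of weak closure of elements**: `Z(N_F(W(S))) = Z(F)`. -/
theorem center_normalizer_eq (hW : IsCharPFunctor p W) (hWZ : CenterLe p W) (hC : WCHyp p W) [Finite S]
    (hS : IsPGroup p S) (F : FusionSystem S) (hF : F.IsSaturated p)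
    {N : FusionSystem (normalizerIn S (inducedFunctor W S))} (hN : F.IsNormalizerSystem (inducedFunctor W S) N) :
    N.center = F.center := by
  have hVS : inducedFunctor W S ≤ S := inducedFunctor_le W S
  have hfinV : Finite (inducedFunctor W S : Subgroup Ω) := finite_of_le hVS
  have hfinN : Finite (normalizerIn S (inducedFunctor W S)) := finite_of_le (normalizerIn_le S _)
  have hSN : S ≤ normalizerIn S (inducedFunctor W S) := le_normalizerIn_inducedFunctor hW hS
  apply le_antisymm
  · exact le_center_of_isCentral F (isCentral_of_isCentral_normalizer hW hWZ hC hS F hF hN (isCentral_center N))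
  · apply le_center_of_isCentral N
    have hZ : F.IsCentral F.center := isCentral_center F
    refine ⟨hZ.1.trans hSN, fun P φ hφ => ?_⟩
    rw [hN] at hφ
    obtain ⟨hφF, hPN, hφN, ψ, hψ, hψe, hψV⟩ := hφ
    obtain ⟨ψ', hψ', hψ'e, hψ'Z⟩ := hZ.2 _ ψ hψ
    have hψ'V : ((inducedFunctor W S).subgroupOf ((P ⊔ inducedFunctor W S) ⊔ F.center)).map ψ' = inducedFunctor W S :=
      map_eq_of_extends le_sup_left hψ'e le_sup_right hψV
    have hle : (P ⊔ inducedFunctor W S) ⊔ F.center ≤ normalizerIn S (inducedFunctor W S) :=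
      (F.le_of_mem hψ').1.trans hSN
    have hψ'N : ψ' ∈ N.Hom ((P ⊔ inducedFunctor W S) ⊔ F.center) := by
      rw [hN]
      exact Cfsg.Agent.S5126.mem_normalizerHom_of_map_eq F (le_sup_right.trans le_sup_left) hle hψ' hψ'V
    have hPZ : P ⊔ F.center ≤ (P ⊔ inducedFunctor W S) ⊔ F.center :=
      sup_le (le_sup_left.trans le_sup_left) le_sup_right
    refine ⟨ψ'.comp (Subgroup.inclusion hPZ), Cfsg.Agent.Lib.Helper87.restrict_mem N hψ'N hPZ, ?_, ?_⟩
    · intro x
      have h1 : (Subgroup.inclusion hPZ) (Subgroup.inclusion le_sup_left x) =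
          Subgroup.inclusion (le_sup_left : P ⊔ inducedFunctor W S ≤ (P ⊔ inducedFunctor W S) ⊔ F.center)
            (Subgroup.inclusion (le_sup_left : P ≤ P ⊔ inducedFunctor W S) x) := Subtype.ext rfl
      show ψ' ((Subgroup.inclusion hPZ) (Subgroup.inclusion le_sup_left x)) = φ x
      rw [h1, hψ'e, hψe]
    · intro z
      have h1 : (Subgroup.inclusion hPZ) (Subgroup.inclusion le_sup_right z) =
          Subgroup.inclusion (le_sup_right : F.center ≤ (P ⊔ inducedFunctor W S) ⊔ F.center) z := Subtype.ext rfl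
      show ψ' ((Subgroup.inclusion hPZ) (Subgroup.inclusion le_sup_right z)) = z
      rw [h1, hψ'Z]

end Cfsg.Agent.Lib.Helper85
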