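import Cfsg.Agent.Lib.Helper85.FusionWellPlaced
import Cfsg.Agent.Lib.Helper85.FusionRealized
import Cfsg.Agent.Lib.Helper88.FusionModelBasic
import Cfsg.Agent.Lib.Helper88.FusionNilpQuot
import Cfsg.Agent.Lib.Helper87.FusionKNormSat
import Cfsg.Agent.S5090

/-!
helper85: the local step for control of weak closure of elements in fusion systems.  If a functor `W` satisfies the group-theoretic
hypothesis `WCHyp` (elements of `O_p(G)` central in `N_G(W(P))` are central in `G`), then in every saturated fusion system `F`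
over `S`, a subgroup `Z` of a subgroup `Q` normal in `F` which is central in `N_F(W(S))` is central in `F`
(`isCentral_of_isNormal`).
-/

set_option autoImplicit false

universe u

namespace Cfsg.Agent.Lib.Helper85

open Cfsg Cfsg.FusionSystem Cfsg.Agent.Lib.Helper87 Cfsg.Agent.Lib.Helper88.NilpRed

/-- The group-theoretic hypothesis: elements of `O_p(G)` commuting with `N_G(W(P))` (`P` a Sylow `p`-subgroup) are central. -/
def WCHyp (p : ℕ) (W : ∀ (Q : Type u) [Group Q], Subgroup Q) : Prop :=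
  ∀ (G : Type u) [Group G] [Finite G] (P : Sylow p G) (x : G), x ∈ pCore p G →
    (∀ n ∈ Subgroup.normalizer ((inducedFunctor W (P : Subgroup G) : Subgroup G) : Set G), n * x = x * n) →
    ∀ g : G, g * x = x * g

/-- `W(Q)` contains the centre of `Q` for every finite `p`-group `Q`. -/
def CenterLe (p : ℕ) (W : ∀ (Q : Type u) [Group Q], Subgroup Q) : Prop :=
  ∀ (Q : Type u) [Group Q] [Finite Q], IsPGroup p Q → Subgroup.center Q ≤ W Q

variable {W : ∀ (Q : Type u) [Group Q], Subgroup Q} {p : ℕ} [Fact p.Prime]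
variable {Ω : Type u} [Group Ω]

omit [Fact p.Prime] in
theorem centralizerIn_le_inducedFunctor (hWZ : CenterLe p W) {P : Subgroup Ω} [Finite P] (hP : IsPGroup p P) :
    centralizerIn P P ≤ inducedFunctor W P := by
  intro x hx
  have hxP : x ∈ P := hx.1
  have hc : (⟨x, hxP⟩ : P) ∈ Subgroup.center P := by
    rw [Subgroup.mem_center_iff]
    intro g
    apply Subtype.ext
    exact Subgroup.mem_centralizer_iff.1 hx.2 g g.2
  exact (coe_mem_inducedFunctor_iff W P ⟨x, hxP⟩).2 (hWZ P hP hc)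

/-- `S` normalizes `W(S)` -/
theorem le_normalizerIn_inducedFunctor (hW : IsCharPFunctor p W) {S : Subgroup Ω} [Finite S] (hS : IsPGroup p S) :
    S ≤ normalizerIn S (inducedFunctor W S) := by
  intro s hs
  exact ⟨hs, inducedFunctor_normalizer hW hS (Subgroup.le_normalizer hs)⟩

/-- **Model case.** -/
theorem isCentral_of_model (hW : IsCharPFunctor p W) (hWZ : CenterLe p W) (hC : WCHyp p W)
    {S : Subgroup Ω} [Finite S] (hS : IsPGroup p S) (F : FusionSystem S)
    {G : Type u} [Group G] {ι : S →* G} (hM : F.IsModel p G ι) {Q Z : Subgroup Ω} (hQ : F.IsNormal Q) (hZQ : Z ≤ Q)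
    {N : FusionSystem (normalizerIn S (inducedFunctor W S))} (hN : F.IsNormalizerSystem (inducedFunctor W S) N)
    (hZ : N.IsCentral Z) : F.IsCentral Z := by
  obtain ⟨hfin, hR, ⟨T, hT⟩, hcen⟩ := hM
  have hinj : Function.Injective ι := hR.1
  have hVS : inducedFunctor W S ≤ S := inducedFunctor_le W S
  have hfinV : Finite (inducedFunctor W S : Subgroup Ω) := finite_of_le hVS
  have hSN : S ≤ normalizerIn S (inducedFunctor W S) := le_normalizerIn_inducedFunctor hW hS
  have hZS : Z ≤ S := hZQ.trans hQ.1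
  -- `Z` lies in the centre of `S`, hence in `W(S)`
  have hZV : Z ≤ inducedFunctor W S := by
    intro z hz
    apply centralizerIn_le_inducedFunctor hWZ hS
    refine ⟨hZS hz, Subgroup.mem_centralizer_iff.2 ?_⟩
    intro s hs
    have h1 := commute_of_isCentral N hZ hz (hSN hs)
    calc s * z = s * z * s⁻¹ * s := by group
      _ = z * s := by rw [h1]
  -- `ι(Z) ≤ O_p(G)`
  have hcore : ∀ z (hz : z ∈ Z), ι ⟨z, hZS hz⟩ ∈ pCore p G := by
    intro z hz
    have h1 : z ∈ F.core := le_core_of_isNormal F hQ (hZQ hz)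
    rw [Cfsg.Agent.Lib.Helper88.Model.core_eq_coreSub F hS hR T hT hcen] at h1
    obtain ⟨_, h2⟩ := Cfsg.Agent.Lib.Helper88.Model.mem_coreSub.1 h1
    exact h2
  -- the Sylow subgroup and the functor
  let e : S ≃* ((T : Subgroup G) : Subgroup G) :=
    (MonoidHom.ofInjective hinj).trans (MulEquiv.subgroupCongr hT.symm)
  have hKiff : ∀ s : S, ι s ∈ inducedFunctor W (T : Subgroup G) ↔ (s : Ω) ∈ inducedFunctor W S := by
    intro s
    exact (inducedFunctor_equiv hW hS e s).symm
  have hKle : inducedFunctor W (T : Subgroup G) ≤ ι.range := by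
    rw [← hT]
    exact inducedFunctor_le W _
  -- elements of `N_G(W(T))` centralize `ι(Z)`
  have hcomm : ∀ z (hz : z ∈ Z), ∀ n ∈ Subgroup.normalizer ((inducedFunctor W (T : Subgroup G) : Subgroup G) : Set G),
      n * ι ⟨z, hZS hz⟩ = ι ⟨z, hZS hz⟩ * n := by
    intro z hz n hn
    have hconjK : ∀ x : (inducedFunctor W S : Subgroup Ω), n * ι ⟨x, hVS x.2⟩ * n⁻¹ ∈ inducedFunctor W (T : Subgroup G) := by
      intro x
      exact (Subgroup.mem_normalizer_iff.1 hn _).1 ((hKiff ⟨x, hVS x.2⟩).2 x.2)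
    have h : ∀ x : (inducedFunctor W S : Subgroup Ω), n * ι ⟨x, hVS x.2⟩ * n⁻¹ ∈ ι.range := fun x => hKle (hconjK x)
    have hφ : conjι hinj hVS n h ∈ F.Hom (inducedFunctor W S) := conjι_mem_Hom hR hVS n h
    have hφV : ((inducedFunctor W S).subgroupOf (inducedFunctor W S)).map (conjι hinj hVS n h) = inducedFunctor W S := by
      rw [Cfsg.Agent.Lib.Helper87.map_subgroupOf_eq_iff]
      constructor
      · intro x _
        have h1 := ι_conjι hinj hVS n h x
        have h2 := hconjK x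
        rw [← h1] at h2
        exact (hKiff _).1 h2
      · intro q hq
        have hq' : ι ⟨q, hVS hq⟩ ∈ inducedFunctor W (T : Subgroup G) := (hKiff ⟨q, hVS hq⟩).2 hq
        have hn' : n⁻¹ ∈ Subgroup.normalizer ((inducedFunctor W (T : Subgroup G) : Subgroup G) : Set G) :=
          Subgroup.inv_mem _ hn
        have h3 : n⁻¹ * ι ⟨q, hVS hq⟩ * n⁻¹⁻¹ ∈ inducedFunctor W (T : Subgroup G) :=
          (Subgroup.mem_normalizer_iff.1 hn' _).1 hq'
        obtain ⟨s, hs⟩ := hKle h3
        have hsV : (s : Ω) ∈ inducedFunctor W S := by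
          apply (hKiff s).1
          rw [hs]
          exact h3
        refine ⟨⟨(s : Ω), hsV⟩, hsV, ?_⟩
        have h4 := ι_conjι hinj hVS n h ⟨(s : Ω), hsV⟩
        have h5 : ι ⟨(s : Ω), hVS hsV⟩ = ι s := rfl
        rw [h5, hs] at h4
        have h6 : n * (n⁻¹ * ι ⟨q, hVS hq⟩ * n⁻¹⁻¹) * n⁻¹ = ι ⟨q, hVS hq⟩ := by group
        rw [h6] at h4
        exact congrArg Subtype.val (hinj h4)
    have hφN : conjι hinj hVS n h ∈ N.Hom (inducedFunctor W S) := by
      rw [hN]
      exact Cfsg.Agent.S5126.mem_normalizerHom_of_map_eq F le_rfl (Cfsg.Agent.Lib.Helper87.le_normalizerIn hVS) hφ hφV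
    have hfix := apply_eq_of_isCentral N hZ hφN hz (hZV hz)
    have h7 := ι_conjι hinj hVS n h ⟨z, hZV hz⟩
    have h8 : ι ⟨conjι hinj hVS n h ⟨z, hZV hz⟩, conjι_mem hinj hVS n h _⟩ = ι ⟨z, hZS hz⟩ := by
      congr 1
      exact Subtype.ext hfix
    rw [h8] at h7
    have h9 : ι ⟨(⟨z, hZV hz⟩ : (inducedFunctor W S : Subgroup Ω)), hVS (hZV hz)⟩ = ι ⟨z, hZS hz⟩ := rfl
    rw [h9] at h7
    calc n * ι ⟨z, hZS hz⟩ = n * ι ⟨z, hZS hz⟩ * n⁻¹ * n := by group
      _ = ι ⟨z, hZS hz⟩ * n := by rw [← h7]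
  -- hence `ι(Z)` is central in `G`
  have hcentral : ∀ z (hz : z ∈ Z) (g : G), g * ι ⟨z, hZS hz⟩ = ι ⟨z, hZS hz⟩ * g := fun z hz g =>
    hC G T _ (hcore z hz) (hcomm z hz) g
  -- conclusion
  refine ⟨hZS, fun P φ hφ => ?_⟩
  have hPS : P ≤ S := (F.le_of_mem hφ).1
  obtain ⟨g, hg⟩ := exists_of_mem_Hom hR hφ
  have hPZS : P ⊔ Z ≤ S := sup_le hPS hZS
  -- the subgroup of `S` conjugated into `ι(S)` by `g`
  let D : Subgroup Ω := (ι.range.comap ((MulAut.conj g).toMonoidHom.comp ι)).map S.subtype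
  have hPD : P ≤ D := by
    intro x hx
    refine ⟨⟨x, hPS hx⟩, ?_, rfl⟩
    show g * ι ⟨x, hPS hx⟩ * g⁻¹ ∈ ι.range
    rw [← hg ⟨x, hx⟩]
    exact ⟨_, rfl⟩
  have hZD : Z ≤ D := by
    intro z hz
    refine ⟨⟨z, hZS hz⟩, ?_, rfl⟩
    show g * ι ⟨z, hZS hz⟩ * g⁻¹ ∈ ι.range
    rw [hcentral z hz g, mul_inv_cancel_right]
    exact ⟨_, rfl⟩
  have h : ∀ x : ↥(P ⊔ Z), g * ι ⟨x, hPZS x.2⟩ * g⁻¹ ∈ ι.range := by
    intro x
    obtain ⟨y, hy, hyx⟩ := (sup_le hPD hZD) x.2
    have : y = ⟨x, hPZS x.2⟩ := Subtype.ext hyx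
    rw [← this]
    exact hy
  refine ⟨conjι hinj hPZS g h, conjι_mem_Hom hR hPZS g h, ?_, ?_⟩
  · intro x
    have h1 := ι_conjι hinj hPZS g h (Subgroup.inclusion le_sup_left x)
    have h2 : ι ⟨(Subgroup.inclusion (le_sup_left : P ≤ P ⊔ Z) x : ↥(P ⊔ Z)), hPZS (Subgroup.inclusion le_sup_left x).2⟩ =
        ι ⟨x, hPS x.2⟩ := rfl
    rw [h2, ← hg x] at h1
    exact congrArg Subtype.val (hinj h1)
  · intro z
    have h1 := ι_conjι hinj hPZS g h (Subgroup.inclusion le_sup_right z)
    have h2 : ι ⟨(Subgroup.inclusion (le_sup_right : Z ≤ P ⊔ Z) z : ↥(P ⊔ Z)), hPZS (Subgroup.inclusion le_sup_right z).2⟩ =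
        ι ⟨z, hZS z.2⟩ := rfl
    rw [h2, hcentral z z.2 g, mul_inv_cancel_right] at h1
    exact congrArg Subtype.val (hinj h1)

omit [Fact p.Prime] in
/-- `S` normalizes `Q C_S(Q)` when it normalizes `Q` -/
theorem normalizerIn_sup_centralizerIn_eq {S Q : Subgroup Ω} [Finite S] (hQS : Q ≤ S)
    (hQn : ∀ g ∈ S, ∀ x ∈ Q, g * x * g⁻¹ ∈ Q) : normalizerIn S (Q ⊔ centralizerIn S Q) = S := by
  have hRS : Q ⊔ centralizerIn S Q ≤ S := sup_le hQS inf_le_left
  have hfin : Finite ↥(Q ⊔ centralizerIn S Q) := finite_of_le hRS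
  apply le_antisymm (normalizerIn_le S _)
  intro s hs
  refine ⟨hs, mem_normalizer_of_conj_le_of_finite ?_⟩
  have h1 : Q.map (MulAut.conj s).toMonoidHom ≤ Q := by
    rintro _ ⟨x, hx, rfl⟩
    exact hQn s hs x hx
  have h2 : (centralizerIn S Q).map (MulAut.conj s).toMonoidHom ≤ centralizerIn S Q := by
    rintro _ ⟨c, hc, rfl⟩
    refine ⟨S.mul_mem (S.mul_mem hs hc.1) (S.inv_mem hs), Subgroup.mem_centralizer_iff.2 ?_⟩
    intro q hq
    have hq' : s⁻¹ * q * s⁻¹⁻¹ ∈ Q := hQn s⁻¹ (S.inv_mem hs) q hq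
    have hcq := Subgroup.mem_centralizer_iff.1 hc.2 _ hq'
    show q * (s * c * s⁻¹) = s * c * s⁻¹ * q
    have e1 : q * (s * c * s⁻¹) = s * ((s⁻¹ * q * s⁻¹⁻¹) * c) * s⁻¹ := by group
    have e2 : s * c * s⁻¹ * q = s * (c * (s⁻¹ * q * s⁻¹⁻¹)) * s⁻¹ := by group
    rw [e1, e2, hcq]
  intro x hx
  have h3 : s * x * s⁻¹ ∈ (Q ⊔ centralizerIn S Q).map (MulAut.conj s).toMonoidHom := ⟨x, hx, rfl⟩
  rw [Subgroup.map_sup] at h3
  exact (sup_le_sup h1 h2) h3

/-- **Local step.** If `W` satisfies the group-theoretic hypothesis, then in a saturated fusion system `F` over `S` every subgroup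
`Z` of a subgroup `Q` normal in `F` that is central in `N_F(W(S))` is central in `F`. Inductive form. -/
theorem isCentral_of_isNormal_aux (hW : IsCharPFunctor p W) (hWZ : CenterLe p W) (hC : WCHyp p W) :
    ∀ (n : ℕ) {S : Subgroup Ω} [Finite S] (_ : IsPGroup p S) (F : FusionSystem S) (_ : F.IsSaturated p)
      (Q Z : Subgroup Ω) (_ : F.IsNormal Q) (_ : Z ≤ Q) (_ : Nat.card S - Nat.card Q ≤ n)
      (N : FusionSystem (normalizerIn S (inducedFunctor W S)))
      (_ : F.IsNormalizerSystem (inducedFunctor W S) N) (_ : N.IsCentral Z), F.IsCentral Z := by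
  intro n
  induction n with
  | zero =>
    intro S _ hS F hF Q Z hQ hZQ hn N hN hZ
    have hQS : Q ≤ S := hQ.1
    have hfinQ : Finite Q := finite_of_le hQS
    have hcard : Nat.card Q ≤ Nat.card S := Subgroup.card_le_of_le hQS
    have hQeq : Q = S := Subgroup.eq_of_le_of_card_ge hQS (by omega)
    have hwc : F.WeaklyClosed Q := Cfsg.Agent.Lib.Helper88.weaklyClosed_of_isNormal F hQ
    have hQc : F.IsCentric Q := by
      refine ⟨hQS, fun Q' hconj => ?_⟩
      obtain ⟨φ, hφ, hφr⟩ := hconj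
      have : Q' = Q := by rw [← hφr]; exact hwc.2 φ hφ
      rw [this, hQeq]
      exact inf_le_left
    obtain ⟨G, _, ι, hM⟩ := Cfsg.Agent.S5090.result p hS F ⟨hF, Q, hQ, hQc⟩
    exact isCentral_of_model hW hWZ hC hS F hM hQ hZQ hN hZ
  | succ n ih =>
    intro S _ hS F hF Q Z hQ hZQ hn N hN hZ
    have hQS : Q ≤ S := hQ.1
    have hfinQ : Finite Q := finite_of_le hQS
    have hwc : F.WeaklyClosed Q := Cfsg.Agent.Lib.Helper88.weaklyClosed_of_isNormal F hQ
    by_cases hcen : centralizerIn S Q ≤ Q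
    · have hQc : F.IsCentric Q := by
        refine ⟨hQS, fun Q' hconj => ?_⟩
        obtain ⟨φ, hφ, hφr⟩ := hconj
        have : Q' = Q := by rw [← hφr]; exact hwc.2 φ hφ
        rw [this]
        exact hcen
      obtain ⟨G, _, ι, hM⟩ := Cfsg.Agent.S5090.result p hS F ⟨hF, Q, hQ, hQc⟩
      exact isCentral_of_model hW hWZ hC hS F hM hQ hZQ hN hZ
    · -- the subgroup `R = Q C_S(Q)`
      have hQn : ∀ g ∈ S, ∀ x ∈ Q, g * x * g⁻¹ ∈ Q := by
        intro g hg x hx
        obtain ⟨α, -, hα⟩ := Cfsg.Agent.Lib.Helper88.exists_autInducedBy_of_isNormal F hQ hg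
        rw [← hα ⟨x, hx⟩]
        exact (α ⟨x, hx⟩).2
      have hRS : Q ⊔ centralizerIn S Q ≤ S := sup_le hQS inf_le_left
      have hRn : normalizerIn S (Q ⊔ centralizerIn S Q) = S := normalizerIn_sup_centralizerIn_eq hQS hQn
      have hfinR : Finite ↥(Q ⊔ centralizerIn S Q) := finite_of_le hRS
      have hRfn : F.IsFullyNormalized (Q ⊔ centralizerIn S Q) := isFullyNormalized_of_normalizerIn_eq F hRS hRn
      have hQR : Q ≤ Q ⊔ centralizerIn S Q := le_sup_left
      have hcardlt : Nat.card Q < Nat.card ↥(Q ⊔ centralizerIn S Q) := by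
        by_contra hle
        push Not at hle
        have := Subgroup.eq_of_le_of_card_ge hQR hle
        exact hcen (le_sup_right.trans (le_of_eq this.symm))
      -- the normalizer system of `R`
      have hFR := isNormalizerSystem_normalizerSystem F (Q ⊔ centralizerIn S Q) hRS
      have hfinS' : Finite (normalizerIn S (Q ⊔ centralizerIn S Q)) := finite_of_le (normalizerIn_le S _)
      have hS' : IsPGroup p (normalizerIn S (Q ⊔ centralizerIn S Q)) := hS.to_le (normalizerIn_le S _)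
      have hFRsat : (normalizerSystem F (Q ⊔ centralizerIn S Q) hRS).IsSaturated p :=
        isSaturated_of_isNormalizerSystem F hS hF hRfn hFR
      have hRnormal : (normalizerSystem F (Q ⊔ centralizerIn S Q) hRS).IsNormal (Q ⊔ centralizerIn S Q) :=
        Cfsg.Agent.Lib.Helper88.NilpRed.isNormal_of_isNormalizerSystem F hRS hFR
      have hcardS' : Nat.card (normalizerIn S (Q ⊔ centralizerIn S Q)) = Nat.card S := by rw [hRn]
      have hcardRS : Nat.card ↥(Q ⊔ centralizerIn S Q) ≤ Nat.card S := Subgroup.card_le_of_le hRS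
      -- the functor at `N_S(R) = S`
      have hVeq : inducedFunctor W S = inducedFunctor W (normalizerIn S (Q ⊔ centralizerIn S Q)) := by rw [hRn]
      have hV'le : inducedFunctor W (normalizerIn S (Q ⊔ centralizerIn S Q)) ≤ normalizerIn S (Q ⊔ centralizerIn S Q) :=
        inducedFunctor_le W _
      have hV'S : inducedFunctor W (normalizerIn S (Q ⊔ centralizerIn S Q)) ≤ S := hV'le.trans (normalizerIn_le S _)
      have hfinV' : Finite (inducedFunctor W (normalizerIn S (Q ⊔ centralizerIn S Q)) : Subgroup Ω) := finite_of_le hV'S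
      have hNV := isNormalizerSystem_normalizerSystem F (inducedFunctor W (normalizerIn S (Q ⊔ centralizerIn S Q))) hV'S
      have hZNV : (normalizerSystem F (inducedFunctor W (normalizerIn S (Q ⊔ centralizerIn S Q))) hV'S).IsCentral Z :=
        isCentral_of_eq F hVeq hN hNV hZ
      have hN' := isNormalizerSystem_normalizerSystem (normalizerSystem F (Q ⊔ centralizerIn S Q) hRS)
        (inducedFunctor W (normalizerIn S (Q ⊔ centralizerIn S Q))) hV'le
      have hUV : normalizerIn S (Q ⊔ centralizerIn S Q) ≤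
          normalizerIn S (inducedFunctor W (normalizerIn S (Q ⊔ centralizerIn S Q))) := by
        intro x hx
        have h1 := le_normalizerIn_inducedFunctor hW hS' hx
        exact ⟨hx.1, h1.2⟩
      have hZS : Z ≤ S := hZQ.trans hQS
      have hZS' : Z ≤ normalizerIn S (Q ⊔ centralizerIn S Q) := by rw [hRn]; exact hZS
      have hZN' := isCentral_nested F hRS hV'le hUV hFR hNV hN' hZNV hZS'
      have hZFR : (normalizerSystem F (Q ⊔ centralizerIn S Q) hRS).IsCentral Z :=
        ih hS' _ hFRsat _ Z hRnormal (hZQ.trans hQR) (by omega) _ hN' hZN'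
      -- back to `F`
      obtain ⟨-, hQr⟩ := Cfsg.Agent.Lib.Helper88.fullyAutomized_receptive_of_weaklyClosed F p hF hwc
      refine ⟨hZS, fun P φ hφ => ?_⟩
      obtain ⟨φ₁, hφ₁, hφ₁e, hφ₁Q⟩ := hQ.2 P φ hφ
      have hPZ : P ⊔ Z ≤ P ⊔ Q := sup_le_sup_left hZQ P
      have hQPQ : Q ≤ P ⊔ Q := le_sup_right
      -- the key claim: `φ₁` fixes `Z`
      have key : ∀ z (hz : z ∈ Z), φ₁ ⟨z, hQPQ (hZQ hz)⟩ = z := by
        intro z hz
        have hα : φ₁.comp (Subgroup.inclusion (le_sup_right : Q ≤ P ⊔ Q)) ∈ F.Hom Q :=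
          Cfsg.Agent.Lib.Helper87.restrict_mem F hφ₁ le_sup_right
        have hαr : (φ₁.comp (Subgroup.inclusion (le_sup_right : Q ≤ P ⊔ Q))).range = Q :=
          hwc.2 _ hα
        obtain ⟨γ, hγ, hγe⟩ := hQr.2 Q _ hα hαr
        -- `R` lies in the extender
        have hQext : Q ≤ extender S Q (φ₁.comp (Subgroup.inclusion (le_sup_right : Q ≤ P ⊔ Q))) := by
          intro r hr
          rw [mem_extender_iff]
          refine ⟨hQS hr, Subgroup.le_normalizer hr,
            φ₁ ⟨r, hQPQ hr⟩, (F.le_of_mem hφ₁).2 _, ?_⟩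
          intro x hx
          show φ₁ ⟨r * (x : Ω) * r⁻¹, _⟩ = φ₁ ⟨r, _⟩ * φ₁ ⟨(x : Ω), _⟩ * (φ₁ ⟨r, _⟩)⁻¹
          rw [← map_inv, ← map_mul, ← map_mul]
          rfl
        have hRext : Q ⊔ centralizerIn S Q ≤
            extender S Q (φ₁.comp (Subgroup.inclusion (le_sup_right : Q ≤ P ⊔ Q))) :=
          sup_le hQext (Cfsg.Agent.Lib.Helper88.centralizerIn_le_extender _)
        have hγR : γ.comp (Subgroup.inclusion hRext) ∈ F.Hom (Q ⊔ centralizerIn S Q) :=
          Cfsg.Agent.Lib.Helper87.restrict_mem F hγ hRext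
        have hγQ : ∀ (x : Ω) (hx : x ∈ Q), γ ⟨x, hRext (hQR hx)⟩ = φ₁ ⟨x, hQPQ hx⟩ := by
          intro x hx
          exact hγe x hx _
        -- `γ` maps `R` into `R`
        have hγle : ∀ x : ↥(Q ⊔ centralizerIn S Q), (γ.comp (Subgroup.inclusion hRext)) x ∈ Q ⊔ centralizerIn S Q := by
          intro x
          refine map_sup_mem (γ.comp (Subgroup.inclusion hRext)) (fun y => ?_) (fun c => ?_) x
          · apply hQR
            have : (γ.comp (Subgroup.inclusion hRext)) (Subgroup.inclusion le_sup_left y) = φ₁ ⟨y, hQPQ y.2⟩ :=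
              hγQ y y.2
            rw [this]
            exact (le_of_eq hαr) ⟨y, rfl⟩
          · apply (le_sup_right : centralizerIn S Q ≤ Q ⊔ centralizerIn S Q)
            refine ⟨(F.le_of_mem hγR).2 _, Subgroup.mem_centralizer_iff.2 ?_⟩
            intro q hq
            obtain ⟨q', rfl⟩ := (le_of_eq hαr.symm) hq
            have h1 : (φ₁.comp (Subgroup.inclusion (le_sup_right : Q ≤ P ⊔ Q))) q' =
                (γ.comp (Subgroup.inclusion hRext)) (Subgroup.inclusion le_sup_left q') := (hγQ q' q'.2).symm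
            rw [h1, ← map_mul, ← map_mul]
            congr 1
            apply Subtype.ext
            exact Subgroup.mem_centralizer_iff.1 c.2.2 q' q'.2
        have hγRR : ((Q ⊔ centralizerIn S Q).subgroupOf (Q ⊔ centralizerIn S Q)).map (γ.comp (Subgroup.inclusion hRext)) =
            Q ⊔ centralizerIn S Q := by
          rw [Subgroup.subgroupOf_self, ← MonoidHom.range_eq_map]
          apply Subgroup.eq_of_le_of_card_ge
          · rintro _ ⟨x, rfl⟩
            exact hγle x
          · exact le_of_eq (Nat.card_congr (MonoidHom.ofInjective (F.injective_of_mem hγR)).toEquiv)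
        have hγFR : γ.comp (Subgroup.inclusion hRext) ∈
            (normalizerSystem F (Q ⊔ centralizerIn S Q) hRS).Hom (Q ⊔ centralizerIn S Q) := by
          rw [hFR]
          exact Cfsg.Agent.S5126.mem_normalizerHom_of_map_eq F le_rfl
            (Cfsg.Agent.Lib.Helper87.le_normalizerIn hRS) hγR hγRR
        have hfix := apply_eq_of_isCentral _ hZFR hγFR hz (hQR (hZQ hz))
        rw [← hγQ z (hZQ hz)]
        exact hfix
      refine ⟨φ₁.comp (Subgroup.inclusion hPZ), Cfsg.Agent.Lib.Helper87.restrict_mem F hφ₁ hPZ, ?_, ?_⟩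
      · intro x
        exact hφ₁e x
      · intro z
        exact key z z.2

/-- **Local step.** -/
theorem isCentral_of_isNormal (hW : IsCharPFunctor p W) (hWZ : CenterLe p W) (hC : WCHyp p W)
    {S : Subgroup Ω} [Finite S] (hS : IsPGroup p S) (F : FusionSystem S) (hF : F.IsSaturated p)
    {Q Z : Subgroup Ω} (hQ : F.IsNormal Q) (hZQ : Z ≤ Q)
    {N : FusionSystem (normalizerIn S (inducedFunctor W S))}
    (hN : F.IsNormalizerSystem (inducedFunctor W S) N) (hZ : N.IsCentral Z) : F.IsCentral Z :=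
  isCentral_of_isNormal_aux hW hWZ hC _ hS F hF Q Z hQ hZQ le_rfl N hN hZ

end Cfsg.Agent.Lib.Helper85
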