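import Cfsg.Agent.Lib.Helper85.FusionWCBase
import Cfsg.Agent.Lib.Helper88.FusionNilpFunctor
import Cfsg.Agent.Lib.Helper88.FusionAlperinCR
import Cfsg.Agent.Lib.Helper84.ModelRadical

/-!
helper85: towers and well-placed subgroups in a saturated fusion system, for an isomorphism-invariant `p`-group functor `W`
(`Cfsg.IsCharPFunctor`).  The tower of `U ≤ S` is `U, W(N_S(U)), W(N_S(W(N_S(U)))), …`; `U` is *well placed* (`IsWP`) when
every term of the tower is fully normalized.  Main result (`exists_wellPlaced`): every `U ≤ S` has a map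
`θ : N_S(U) → S` of the system with `θ(U)` well placed.
-/

set_option autoImplicit false

universe u

namespace Cfsg.Agent.Lib.Helper85

open Cfsg Cfsg.FusionSystem Cfsg.Agent.Lib.Helper87 Cfsg.Agent.Lib.Helper88.NilpRed

variable (W : ∀ (Q : Type u) [Group Q], Subgroup Q) {Ω : Type u} [Group Ω] {S : Subgroup Ω}

/-- the next term of the `W`-tower of `U` in `S`: `W(N_S(U))` -/
def wNext (S U : Subgroup Ω) : Subgroup Ω := inducedFunctor W (normalizerIn S U)

/-- `U` is well placed in `F` with respect to `W`: every term of its tower is fully normalized -/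
def IsWP (F : FusionSystem S) (U : Subgroup Ω) : Prop :=
  ∀ i : ℕ, F.IsFullyNormalized ((wNext W S)^[i] U)

theorem wNext_le (U : Subgroup Ω) : wNext W S U ≤ normalizerIn S U := inducedFunctor_le W _

theorem wNext_le' (U : Subgroup Ω) : wNext W S U ≤ S := (wNext_le W U).trans (normalizerIn_le S U)

variable {W}

theorem isWP_iff (F : FusionSystem S) (U : Subgroup Ω) :
    IsWP W F U ↔ F.IsFullyNormalized U ∧ IsWP W F (wNext W S U) := by
  constructor
  · intro h
    refine ⟨h 0, fun i => ?_⟩
    have := h (i + 1)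
    rwa [Function.iterate_succ_apply] at this
  · rintro ⟨h0, h1⟩ i
    cases i with
    | zero => exact h0
    | succ i =>
      rw [Function.iterate_succ_apply]
      exact h1 i

variable {p : ℕ} [Fact p.Prime]

/-- `N_S(N_S(U))` normalizes `W(N_S(U))` -/
theorem normalizerIn_normalizerIn_le (hW : IsCharPFunctor p W) [Finite S] (hS : IsPGroup p S) (U : Subgroup Ω) :
    normalizerIn S (normalizerIn S U) ≤ normalizerIn S (wNext W S U) := by
  intro g hg
  have hfin : Finite (normalizerIn S U) := finite_of_le (normalizerIn_le S U)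
  exact ⟨hg.1, inducedFunctor_normalizer hW (hS.to_le (normalizerIn_le S U)) hg.2⟩

theorem normalizerIn_le_normalizerIn_wNext (hW : IsCharPFunctor p W) [Finite S] (hS : IsPGroup p S) (U : Subgroup Ω) :
    normalizerIn S U ≤ normalizerIn S (wNext W S U) :=
  (Cfsg.Agent.Lib.Helper87.le_normalizerIn (normalizerIn_le S U)).trans (normalizerIn_normalizerIn_le hW hS U)

theorem isFullyNormalized_of_normalizerIn_eq [Finite S] (F : FusionSystem S) {U : Subgroup Ω} (hU : U ≤ S)
    (h : normalizerIn S U = S) : F.IsFullyNormalized U := by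
  refine ⟨hU, fun Q _ => ?_⟩
  rw [h]
  exact Subgroup.card_le_of_le (normalizerIn_le S Q)

/-- a subgroup with `N_S(U) = S` which is fully normalized is well placed -/
theorem isWP_of_normalizerIn_eq (hW : IsCharPFunctor p W) [Finite S] (hS : IsPGroup p S) (F : FusionSystem S)
    {U : Subgroup Ω} (hU : U ≤ S) (h : normalizerIn S U = S) : IsWP W F U := by
  have hV : wNext W S U = inducedFunctor W S := by
    unfold wNext
    rw [h]
  have hVn : normalizerIn S (inducedFunctor W S) = S := by
    apply le_antisymm (normalizerIn_le S _)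
    have := normalizerIn_le_normalizerIn_wNext hW hS U
    rwa [h, hV] at this
  have hVV : wNext W S (inducedFunctor W S) = inducedFunctor W S := by
    unfold wNext
    rw [hVn]
  have hfix : ∀ i : ℕ, (wNext W S)^[i] (inducedFunctor W S) = inducedFunctor W S := fun i =>
    Function.iterate_fixed hVV i
  rw [isWP_iff]
  refine ⟨isFullyNormalized_of_normalizerIn_eq F hU h, fun i => ?_⟩
  rw [hV, hfix]
  exact isFullyNormalized_of_normalizerIn_eq F (inducedFunctor_le W S) hVn

/-- the functor evaluated at the image of an injective homomorphism -/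
theorem inducedFunctor_range (hW : IsCharPFunctor p W) {A : Subgroup Ω} [Finite A] (hA : IsPGroup p A)
    {θ : A →* Ω} (hθ : Function.Injective θ) :
    inducedFunctor W θ.range = ((inducedFunctor W A).subgroupOf A).map θ := by
  ext y
  constructor
  · intro hy
    have hyR : y ∈ θ.range := inducedFunctor_le W _ hy
    obtain ⟨x, rfl⟩ := hyR
    refine ⟨x, ?_, rfl⟩
    exact Subgroup.mem_subgroupOf.2 ((inducedFunctor_equiv hW hA (MonoidHom.ofInjective hθ) x).2 hy)
  · rintro ⟨x, hx, rfl⟩
    replace hx := Subgroup.mem_subgroupOf.1 hx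
    exact (inducedFunctor_equiv hW hA (MonoidHom.ofInjective hθ) x).1 hx

/-- image of a subgroup under a composite through `codRestrict` -/
theorem map_comp_codRestrict_eq {N N' V V' : Subgroup Ω} (χ : N →* Ω) (hχ : ∀ x : N, χ x ∈ N') (θ' : N' →* Ω)
    (h1 : ∀ x : N, (x : Ω) ∈ V → χ x ∈ V') (h2 : ∀ r ∈ V', ∃ x : N, (x : Ω) ∈ V ∧ χ x = r) :
    (V.subgroupOf N).map (θ'.comp (χ.codRestrict N' hχ)) = (V'.subgroupOf N').map θ' := by
  ext y
  constructor
  · rintro ⟨x, hx, rfl⟩
    replace hx := Subgroup.mem_subgroupOf.1 hx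
    exact ⟨χ.codRestrict N' hχ x, Subgroup.mem_subgroupOf.2 (h1 x hx), rfl⟩
  · rintro ⟨x', hx', rfl⟩
    replace hx' := Subgroup.mem_subgroupOf.1 hx'
    obtain ⟨x, hxV, hxx'⟩ := h2 _ hx'
    refine ⟨x, Subgroup.mem_subgroupOf.2 hxV, ?_⟩
    show θ' (χ.codRestrict N' hχ x) = θ' x'
    congr 1
    exact Subtype.ext hxx'

/-- image of a subgroup under a restriction -/
theorem map_comp_inclusion_eq {A N V : Subgroup Ω} (hAN : A ≤ N) (hVA : V ≤ A) (θ : N →* Ω) :
    (V.subgroupOf A).map (θ.comp (Subgroup.inclusion hAN)) = (V.subgroupOf N).map θ := by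
  ext y
  constructor
  · rintro ⟨x, hx, rfl⟩
    replace hx := Subgroup.mem_subgroupOf.1 hx
    exact ⟨Subgroup.inclusion hAN x, Subgroup.mem_subgroupOf.2 hx, rfl⟩
  · rintro ⟨x, hx, rfl⟩
    replace hx := Subgroup.mem_subgroupOf.1 hx
    exact ⟨⟨(x : Ω), hVA hx⟩, Subgroup.mem_subgroupOf.2 hx, rfl⟩

/-- a map of the system defined on `A` with `U ≤ A ≤ N_S(U)` sends `A` into `N_S(θ(U))` -/
theorem map_mem_normalizerIn_map [Finite S] (F : FusionSystem S) {A U : Subgroup Ω} {θ : A →* Ω}
    (hθ : θ ∈ F.Hom A) (_hUA : U ≤ A) (hAN : A ≤ normalizerIn S U) (a : A) :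
    θ a ∈ normalizerIn S ((U.subgroupOf A).map θ) := by
  have hle : (U.subgroupOf A).map θ ≤ S := by
    rintro _ ⟨x, -, rfl⟩
    exact hom_map_mem F hθ x
  have hfin : Finite ((U.subgroupOf A).map θ : Subgroup Ω) := finite_of_le hle
  refine ⟨hom_map_mem F hθ a, ?_⟩
  apply mem_normalizer_of_conj_le_of_finite
  rintro _ ⟨x, hx, rfl⟩
  replace hx := Subgroup.mem_subgroupOf.1 hx
  have hax : (a : Ω) * x * (a : Ω)⁻¹ ∈ U := (Subgroup.mem_normalizer_iff.1 (hAN a.2).2 x).1 hx
  refine ⟨a * x * a⁻¹, Subgroup.mem_subgroupOf.2 hax, ?_⟩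
  rw [map_mul, map_mul, map_inv]

/-- the restriction to `U` of a map defined on `A ≥ U` conjugates `U` to its image -/
theorem isConj_map (F : FusionSystem S) {A U : Subgroup Ω} {θ : A →* Ω} (hθ : θ ∈ F.Hom A) (hUA : U ≤ A) :
    F.IsConj U ((U.subgroupOf A).map θ) := by
  refine ⟨θ.comp (Subgroup.inclusion hUA), Cfsg.Agent.Lib.Helper87.restrict_mem F hθ hUA, ?_⟩
  ext y
  constructor
  · rintro ⟨x, rfl⟩
    exact ⟨Subgroup.inclusion hUA x, Subgroup.mem_subgroupOf.2 x.2, rfl⟩
  · rintro ⟨x, hx, rfl⟩
    replace hx := Subgroup.mem_subgroupOf.1 hx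
    exact ⟨⟨(x : Ω), hx⟩, rfl⟩

/-- **Well-placed conjugates**, for fully normalized subgroups, inductive form. -/
theorem exists_wellPlaced_aux (hW : IsCharPFunctor p W) [Finite S] (hS : IsPGroup p S) (F : FusionSystem S)
    (hF : F.IsSaturated p) : ∀ (n : ℕ) (U : Subgroup Ω), F.IsFullyNormalized U →
    Nat.card S - Nat.card (normalizerIn S U) ≤ n →
    ∃ θ : normalizerIn S U →* Ω, θ ∈ F.Hom (normalizerIn S U) ∧
      IsWP W F ((U.subgroupOf (normalizerIn S U)).map θ) := by
  intro n
  induction n with
  | zero =>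
    intro U hU hn
    have hUS : U ≤ S := hU.1
    have hAS : normalizerIn S U ≤ S := normalizerIn_le S U
    have hcard : Nat.card (normalizerIn S U) ≤ Nat.card S := Subgroup.card_le_of_le hAS
    have hA : normalizerIn S U = S := Subgroup.eq_of_le_of_card_ge hAS (by omega)
    refine ⟨(normalizerIn S U).subtype, Cfsg.Agent.Lib.Helper87.subtype_mem F hAS, ?_⟩
    have : (U.subgroupOf (normalizerIn S U)).map (normalizerIn S U).subtype = U := by
      rw [Subgroup.subgroupOf_map_subtype]
      exact inf_eq_left.2 (Cfsg.Agent.Lib.Helper87.le_normalizerIn hUS)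
    rw [this]
    exact isWP_of_normalizerIn_eq hW hS F hUS hA
  | succ n ih =>
    intro U hU hn
    have hUS : U ≤ S := hU.1
    have hAS : normalizerIn S U ≤ S := normalizerIn_le S U
    have hUA : U ≤ normalizerIn S U := Cfsg.Agent.Lib.Helper87.le_normalizerIn hUS
    by_cases hA : normalizerIn S U = S
    · refine ⟨(normalizerIn S U).subtype, Cfsg.Agent.Lib.Helper87.subtype_mem F hAS, ?_⟩
      have : (U.subgroupOf (normalizerIn S U)).map (normalizerIn S U).subtype = U := by
        rw [Subgroup.subgroupOf_map_subtype]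
        exact inf_eq_left.2 hUA
      rw [this]
      exact isWP_of_normalizerIn_eq hW hS F hUS hA
    · -- the next term and a fully normalized conjugate of it
      have hfinA : Finite (normalizerIn S U) := finite_of_le hAS
      have hpA : IsPGroup p (normalizerIn S U) := hS.to_le hAS
      have hVS : wNext W S U ≤ S := wNext_le' W U
      have hVA : wNext W S U ≤ normalizerIn S U := wNext_le W U
      have hAV : normalizerIn S U ≤ normalizerIn S (wNext W S U) := normalizerIn_le_normalizerIn_wNext hW hS U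
      have hlt : Nat.card (normalizerIn S U) < Nat.card (normalizerIn S (wNext W S U)) := by
        have h1 := card_lt_card_normalizerIn hS hAS hA
        have hfin2 : Finite (normalizerIn S (wNext W S U)) := finite_of_le (normalizerIn_le S _)
        exact h1.trans_le (Subgroup.card_le_of_le (normalizerIn_normalizerIn_le hW hS U))
      obtain ⟨V', χ, hV'n, hconj, hχ, hχN, hχ1, hχ2⟩ :=
        Cfsg.Agent.Lib.Helper84.Model.exists_fullyNormalized_transport hS F hF hVS
          (Cfsg.Agent.Lib.Helper87.le_normalizerIn hVS) (le_refl (normalizerIn S (wNext W S U)))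
      have hcardV' : Nat.card (normalizerIn S (wNext W S U)) ≤ Nat.card (normalizerIn S V') :=
        hV'n.2 _ (IsConj_symm hconj)
      have hcardS : Nat.card (normalizerIn S V') ≤ Nat.card S := Subgroup.card_le_of_le (normalizerIn_le S V')
      obtain ⟨θ', hθ', hWP'⟩ := ih V' hV'n (by omega)
      -- the composite
      have hfull : θ'.comp (χ.codRestrict (normalizerIn S V') hχN) ∈ F.Hom (normalizerIn S (wNext W S U)) :=
        F.comp_mem hχ hθ' hχN
      have hθ : (θ'.comp (χ.codRestrict (normalizerIn S V') hχN)).comp (Subgroup.inclusion hAV) ∈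
          F.Hom (normalizerIn S U) := Cfsg.Agent.Lib.Helper87.restrict_mem F hfull hAV
      refine ⟨_, hθ, ?_⟩
      set θ := (θ'.comp (χ.codRestrict (normalizerIn S V') hχN)).comp (Subgroup.inclusion hAV) with hθdef
      have hθinj : Function.Injective θ := F.injective_of_mem hθ
      have hconjU : F.IsConj U ((U.subgroupOf (normalizerIn S U)).map θ) := isConj_map F hθ hUA
      have hU'S : (U.subgroupOf (normalizerIn S U)).map θ ≤ S := IsConj_le_right hconjU
      have hfinN' : Finite (normalizerIn S ((U.subgroupOf (normalizerIn S U)).map θ)) :=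
        finite_of_le (normalizerIn_le S _)
      -- the image of `N_S(U)` is `N_S(U')`
      have hrange_le : θ.range ≤ normalizerIn S ((U.subgroupOf (normalizerIn S U)).map θ) := by
        rintro _ ⟨a, rfl⟩
        exact map_mem_normalizerIn_map F hθ hUA le_rfl a
      have hcard1 : Nat.card (normalizerIn S ((U.subgroupOf (normalizerIn S U)).map θ)) ≤
          Nat.card (normalizerIn S U) := hU.2 _ hconjU
      have hcard2 : Nat.card θ.range = Nat.card (normalizerIn S U) :=
        (Nat.card_congr (MonoidHom.ofInjective hθinj).toEquiv).symm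
      have hrange : θ.range = normalizerIn S ((U.subgroupOf (normalizerIn S U)).map θ) :=
        Subgroup.eq_of_le_of_card_ge hrange_le (by rw [hcard2]; exact hcard1)
      have hcard3 : Nat.card (normalizerIn S ((U.subgroupOf (normalizerIn S U)).map θ)) =
          Nat.card (normalizerIn S U) := by rw [← hrange, hcard2]
      rw [isWP_iff]
      constructor
      · refine ⟨hU'S, fun Q hQ => ?_⟩
        rw [hcard3]
        exact hU.2 Q (IsConj_trans hconjU hQ)
      · have hnext : wNext W S ((U.subgroupOf (normalizerIn S U)).map θ) =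
            (V'.subgroupOf (normalizerIn S V')).map θ' := by
          unfold wNext
          rw [← hrange, inducedFunctor_range hW hpA hθinj]
          show ((wNext W S U).subgroupOf (normalizerIn S U)).map θ = _
          rw [hθdef, map_comp_inclusion_eq hAV hVA]
          exact map_comp_codRestrict_eq χ hχN θ' hχ1 hχ2
        rw [hnext]
        exact hWP'

/-- **Well-placed conjugates.** Every subgroup `U ≤ S` has a map `θ : N_S(U) → S` of the saturated system with `θ(U)` well
placed. -/
theorem exists_wellPlaced (hW : IsCharPFunctor p W) [Finite S] (hS : IsPGroup p S) (F : FusionSystem S)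
    (hF : F.IsSaturated p) {U : Subgroup Ω} (hUS : U ≤ S) :
    ∃ θ : normalizerIn S U →* Ω, θ ∈ F.Hom (normalizerIn S U) ∧
      IsWP W F ((U.subgroupOf (normalizerIn S U)).map θ) := by
  obtain ⟨U₀, χ, hU₀n, -, hχ, hχN, hχ1, hχ2⟩ :=
    Cfsg.Agent.Lib.Helper84.Model.exists_fullyNormalized_transport hS F hF hUS
      (Cfsg.Agent.Lib.Helper87.le_normalizerIn hUS) (le_refl (normalizerIn S U))
  obtain ⟨θ₀, hθ₀, hWP⟩ := exists_wellPlaced_aux hW hS F hF _ U₀ hU₀n le_rfl
  refine ⟨θ₀.comp (χ.codRestrict (normalizerIn S U₀) hχN), F.comp_mem hχ hθ₀ hχN, ?_⟩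
  rw [map_comp_codRestrict_eq χ hχN θ₀ hχ1 hχ2]
  exact hWP

end Cfsg.Agent.Lib.Helper85
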