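import Mathlib

set_option autoImplicit false

/-!
# A ring identity behind "no quadratic action for `PSL₂(q)`, `q` odd" (helper85)

If `A B` are elements of a ring in which `2` is cancellable, `A B A = B A B` (braid relation),
`(A B A)² = 1` and `(A - 1)² = 0`, then `A = B`.
-/

namespace Cfsg.Agent.Lib.Helper85.NoQuadPSL

theorem eq_of_braid_aux {R : Type*} [Ring R] (h2 : ∀ r : R, 2 * r = 0 → r = 0) (N M W : R)
    (hWdef : W = (1 + N) * (1 + M) * (1 + N))
    (hbraid : W = (1 + M) * (1 + N) * (1 + M)) (hW : W * W = 1)
    (hN : N * N = 0) : N = M := by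
  -- `1 + M = W (1 + N) W`
  have hWA : W * (1 + N) = (1 + M) * W := by
    calc W * (1 + N) = ((1 + M) * (1 + N) * (1 + M)) * (1 + N) := by rw [← hbraid]
      _ = (1 + M) * ((1 + N) * (1 + M) * (1 + N)) := by noncomm_ring
      _ = (1 + M) * W := by rw [← hWdef]
  have hBW : 1 + M = W * (1 + N) * W := by
    calc 1 + M = (1 + M) * (W * W) := by rw [hW, mul_one]
      _ = ((1 + M) * W) * W := by rw [mul_assoc]
      _ = W * (1 + N) * W := by rw [← hWA]
  have hMW : M = W * N * W := by
    have h1 : W * (1 + N) * W = W * W + W * N * W := by noncomm_ring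
    rw [h1, hW] at hBW
    exact add_left_cancel hBW
  have hM : M * M = 0 := by
    rw [hMW]
    calc W * N * W * (W * N * W) = W * N * (W * W) * N * W := by noncomm_ring
      _ = W * (N * N) * W := by rw [hW]; noncomm_ring
      _ = 0 := by rw [hN]; simp
  -- expansions
  have hABA : W = 1 + 2 * N + M + N * M + M * N + N * M * N := by
    rw [hWdef]
    have : (1 + N) * (1 + M) * (1 + N)
        = 1 + 2 * N + M + N * M + M * N + N * M * N + N * N := by noncomm_ring
    rw [this, hN]; simp
  have hBAB : W = 1 + 2 * M + N + M * N + N * M + M * N * M := by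
    rw [hbraid]
    have : (1 + M) * (1 + N) * (1 + M)
        = 1 + 2 * M + N + M * N + N * M + M * N * M + M * M := by noncomm_ring
    rw [this, hM]; simp
  -- (I) : N + NMN = M + MNM
  have hI : N + N * M * N = M + M * N * M := by
    have h : 1 + 2 * N + M + N * M + M * N + N * M * N
        = 1 + 2 * M + N + M * N + N * M + M * N * M := by rw [← hABA, ← hBAB]
    have h' : (1 + 2 * N + M + N * M + M * N + N * M * N) - (1 + N + M + N * M + M * N)
        = (1 + 2 * M + N + M * N + N * M + M * N * M) - (1 + N + M + N * M + M * N) := by rw [h]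
    have e1 : (1 + 2 * N + M + N * M + M * N + N * M * N) - (1 + N + M + N * M + M * N)
        = N + N * M * N := by noncomm_ring
    have e2 : (1 + 2 * M + N + M * N + N * M + M * N * M) - (1 + N + M + N * M + M * N)
        = M + M * N * M := by noncomm_ring
    rw [e1, e2] at h'
    exact h'
  -- (a) NM + NMNM = 0 ; (b) MN + MNMN = 0
  have ha : N * M + N * M * N * M = 0 := by
    have h : N * (N + N * M * N) = N * (M + M * N * M) := by rw [hI]
    have e1 : N * (N + N * M * N) = N * N + (N * N) * M * N := by noncomm_ring
    have e3 : N * (M + M * N * M) = N * M + N * M * N * M := by noncomm_ring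
    rw [e1, e3, hN] at h
    rw [← h]; simp
  have hb : M * N + M * N * M * N = 0 := by
    have h : (N + N * M * N) * N = (M + M * N * M) * N := by rw [hI]
    have e1 : (N + N * M * N) * N = N * N + N * M * (N * N) := by noncomm_ring
    have e3 : (M + M * N * M) * N = M * N + M * N * M * N := by noncomm_ring
    rw [e1, e3, hN] at h
    rw [← h]; simp
  -- S = NM + MN, S² = -S
  obtain ⟨S, hSdef⟩ : ∃ S : R, S = N * M + M * N := ⟨_, rfl⟩
  have hSS : S * S = -S := by
    have : S * S = N * M * N * M + M * N * M * N + (N * (M * M) * N + M * (N * N) * M) := by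
      rw [hSdef]; noncomm_ring
    rw [this, hN, hM]
    have h1 : N * M * N * M = -(N * M) := eq_neg_of_add_eq_zero_right ha
    have h3 : M * N * M * N = -(M * N) := eq_neg_of_add_eq_zero_right hb
    rw [h1, h3, hSdef]; simp; abel
  -- S commutes with N, M
  have hSN : S * N = N * M * N := by
    have : S * N = N * M * N + M * (N * N) := by rw [hSdef]; noncomm_ring
    rw [this, hN]; simp
  have hNS : N * S = N * M * N := by
    have : N * S = (N * N) * M + N * M * N := by rw [hSdef]; noncomm_ring
    rw [this, hN]; simp
  have hSM : S * M = M * N * M := by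
    have : S * M = N * (M * M) + M * N * M := by rw [hSdef]; noncomm_ring
    rw [this, hM]; simp
  have hMS : M * S = M * N * M := by
    have : M * S = M * N * M + (M * M) * N := by rw [hSdef]; noncomm_ring
    rw [this, hM]; simp
  -- W = 1 + 2N + M + S + SN
  have hWexp : W = 1 + 2 * N + M + S + S * N := by
    rw [hABA, hSN, hSdef]; abel
  have hSW : S * W = S * (N + M) := by
    rw [hWexp]
    have : S * (1 + 2 * N + M + S + S * N)
        = S + 2 * (S * N) + S * M + S * S + (S * S) * N := by noncomm_ring
    rw [this, hSS]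
    noncomm_ring
  have hWS : W * S = S * W := by
    rw [hWexp]
    have e1 : (1 + 2 * N + M + S + S * N) * S
        = S + 2 * (N * S) + M * S + S * S + S * (N * S) := by noncomm_ring
    have e3 : S * (1 + 2 * N + M + S + S * N)
        = S + 2 * (S * N) + S * M + S * S + S * (S * N) := by noncomm_ring
    rw [e1, e3, hNS, hSN, hMS, hSM]
  have hNM2 : (N + M) * (N + M) = S := by
    have : (N + M) * (N + M) = N * N + M * M + (N * M + M * N) := by noncomm_ring
    rw [this, hN, hM, hSdef]; simp
  have hScomm : S * (N + M) = (N + M) * S := by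
    rw [mul_add, add_mul, hSN, hSM, hNS, hMS]
  have key1 : (S * W) * (S * W) = S * S := by
    calc (S * W) * (S * W) = S * (W * S) * W := by noncomm_ring
      _ = S * (S * W) * W := by rw [hWS]
      _ = S * S * (W * W) := by noncomm_ring
      _ = S * S := by rw [hW, mul_one]
  have key2 : (S * W) * (S * W) = S * S * S := by
    rw [hSW]
    calc (S * (N + M)) * (S * (N + M)) = S * ((N + M) * S) * (N + M) := by noncomm_ring
      _ = S * (S * (N + M)) * (N + M) := by rw [hScomm]
      _ = S * S * ((N + M) * (N + M)) := by noncomm_ring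
      _ = S * S * S := by rw [hNM2]
  have hS0 : S = 0 := by
    have h3 : S * S * S = S := by
      rw [hSS]
      have : -S * S = -(S * S) := by noncomm_ring
      rw [this, hSS, neg_neg]
    have h4 : -S = S := by rw [← hSS, ← key1, key2, h3]
    apply h2
    have : (2 : R) * S = S - (-S) := by noncomm_ring
    rw [this, h4, sub_self]
  -- conclusion
  have hNMN : N * M * N = 0 := by rw [← hSN, hS0, zero_mul]
  have hMNM : M * N * M = 0 := by rw [← hSM, hS0, zero_mul]
  rw [hNMN, hMNM, add_zero, add_zero] at hI
  exact hI

/-- [RING] braid relation + `W² = 1` + quadratic ⇒ equal. -/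
theorem eq_of_braid {R : Type*} [Ring R] (h2 : ∀ r : R, 2 * r = 0 → r = 0) (A B : R)
    (hbraid : A * B * A = B * A * B) (hW : (A * B * A) * (A * B * A) = 1)
    (hN : (A - 1) * (A - 1) = 0) : A = B := by
  have hA : A = 1 + (A - 1) := by abel
  have hB : B = 1 + (B - 1) := by abel
  have h := eq_of_braid_aux h2 (A - 1) (B - 1) (A * B * A)
    (by rw [← hA, ← hB]) (by rw [← hA, ← hB]; exact hbraid) hW hN
  rw [hA, hB, h]

end Cfsg.Agent.Lib.Helper85.NoQuadPSL
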