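import Mathlib
import Cfsg.Prelude.Def_LocalEven
import Cfsg.Agent.Lib.Helper85.NoQuadRing
import Cfsg.Agent.Lib.Helper10.QuadSL2

set_option autoImplicit false

/-!
# No quadratic action on modules for a group with "braid partners" (helper85)

`no_quad_of_partner`: `H` normalizes the elementary abelian `p`-group `V` (`p` odd), and
`Q = H / C_H(V)` has the property that every `x ≠ 1` with `x ^ p = 1` admits `y ≠ x` with
`x y x = y x y` and `(x y x)² = 1` (true for `PSL₂(F)`, `char F = p`).  Then no subgroup of `H` acts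
quadratically and nontrivially on `V`.
-/

namespace Cfsg.Agent.Lib.Helper85.NoQuadPSL

open scoped commutatorElement

universe u

theorem no_quad_of_partner {G : Type u} [Group G] {p : ℕ} [Fact p.Prime]
    (hp : p ≠ 2) (V H : Subgroup G)
    (hV : Cfsg.IsElementaryAbelian p V) (hHV : H ≤ Subgroup.normalizer (V : Set G))
    [hn : ((Subgroup.centralizer (V : Set G)).subgroupOf H).Normal]
    (hpartner : ∀ x : (↥H ⧸ (Subgroup.centralizer (V : Set G)).subgroupOf H), x ≠ 1 → x ^ p = 1 →
      ∃ y : (↥H ⧸ (Subgroup.centralizer (V : Set G)).subgroupOf H),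
        x * y * x = y * x * y ∧ (x * y * x) * (x * y * x) = 1 ∧ y ≠ x)
    (A : Subgroup G) (hA : A ≤ H) (hquad : ⁅⁅V, A⁆, A⁆ = ⊥) : ⁅V, A⁆ = ⊥ := by
  by_contra hne
  -- an element `a ∈ A` not centralizing `V`
  have h1 : ¬ V ≤ Subgroup.centralizer (A : Set G) := by
    intro h
    exact hne ((Subgroup.commutator_eq_bot_iff_le_centralizer).2 h)
  obtain ⟨v, hvV, hv⟩ := SetLike.not_le_iff_exists.1 h1
  rw [Subgroup.mem_centralizer_iff] at hv
  push Not at hv
  obtain ⟨a, haA, hav⟩ := hv
  have haH : a ∈ H := hA haA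
  have hqa : ⁅⁅V, Subgroup.zpowers a⁆, Subgroup.zpowers a⁆ = ⊥ := by
    rw [eq_bot_iff, ← hquad]
    have hz : Subgroup.zpowers a ≤ A := by rw [Subgroup.zpowers_le]; exact haA
    exact Subgroup.commutator_mono (Subgroup.commutator_mono le_rfl hz) hz
  obtain ⟨A₀, _, _, e, ρ, hadd, he1, hρ⟩ :=
    Cfsg.Agent.Lib.Helper10.exists_conj_rep p V H hV hHV
  set x : H := ⟨a, haH⟩ with hx
  have hq : ∀ w : A₀, ρ x (ρ x w - w) = ρ x w - w :=
    Cfsg.Agent.Lib.Helper10.quad_of_commutator V H e ρ hadd he1 hρ x hqa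
  -- kernel of ρ
  have hker : ∀ g : H, ρ g = 1 ↔ (g : G) ∈ Subgroup.centralizer (V : Set G) := by
    intro g
    constructor
    · intro hg
      rw [Subgroup.mem_centralizer_iff]
      intro n hn
      have h1 := hρ g ⟨n, hn⟩
      rw [hg, Module.End.one_apply, Equiv.symm_apply_apply] at h1
      have h2 : n = (g : G) * n * (g : G)⁻¹ := h1
      calc n * (g : G) = (g : G) * n * (g : G)⁻¹ * (g : G) := by rw [← h2]
        _ = (g : G) * n := by group
    · intro hg
      rw [Subgroup.mem_centralizer_iff] at hg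
      apply LinearMap.ext
      intro w
      obtain ⟨n, rfl⟩ := e.surjective w
      rw [Module.End.one_apply]
      have h1 := hρ g n
      have h2 : (g : G) * (n : G) * (g : G)⁻¹ = (n : G) := by
        rw [← hg (n : G) n.2]; group
      rw [h2] at h1
      have h3 : e.symm (ρ g (e n)) = n := Subtype.ext h1
      have := congrArg e h3
      rwa [Equiv.apply_symm_apply] at this
  set K : Subgroup H := (Subgroup.centralizer (V : Set G)).subgroupOf H with hK
  have hmk : ∀ g h : H, (QuotientGroup.mk g : H ⧸ K) = QuotientGroup.mk h → ρ g = ρ h := by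
    intro g h hgh
    rw [QuotientGroup.eq] at hgh
    have h1 : ((g⁻¹ * h : H) : G) ∈ Subgroup.centralizer (V : Set G) := by
      rw [hK, Subgroup.mem_subgroupOf] at hgh
      exact hgh
    have h2 := (hker (g⁻¹ * h)).2 h1
    have h3 : ρ (g * (g⁻¹ * h)) = ρ g * ρ (g⁻¹ * h) := map_mul ρ g (g⁻¹ * h)
    rw [h2, mul_one, mul_inv_cancel_left] at h3
    exact h3.symm
  have hmk' : ∀ g h : H, ρ g = ρ h → (QuotientGroup.mk g : H ⧸ K) = QuotientGroup.mk h := by
    intro g h hgh
    rw [QuotientGroup.eq, hK, Subgroup.mem_subgroupOf]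
    apply (hker (g⁻¹ * h)).1
    rw [map_mul, ← hgh, ← map_mul, inv_mul_cancel, map_one]
  -- ρ x ≠ 1
  have hx1 : (QuotientGroup.mk x : H ⧸ K) ≠ 1 := by
    intro h
    have h1 : ρ x = ρ 1 := hmk x 1 (by rw [h, QuotientGroup.mk_one])
    rw [map_one] at h1
    have h2 := (hker x).1 h1
    rw [Subgroup.mem_centralizer_iff] at h2
    exact hav (h2 v hvV).symm
  have hxp : (QuotientGroup.mk x : H ⧸ K) ^ p = 1 := by
    rw [← QuotientGroup.mk_pow, ← QuotientGroup.mk_one]
    apply hmk'
    rw [map_pow, map_one]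
    have : CharP (ZMod p) p := ZMod.charP p
    exact Cfsg.Agent.S0592.quad_pow_char (K := ZMod p) (p := p) (ρ x) hq
  obtain ⟨y, hbr, hsq, hyx⟩ := hpartner _ hx1 hxp
  obtain ⟨b, rfl⟩ := QuotientGroup.mk_surjective y
  -- transfer to the endomorphism ring
  have hbr' : ρ x * ρ b * ρ x = ρ b * ρ x * ρ b := by
    rw [← map_mul, ← map_mul, ← map_mul, ← map_mul]
    apply hmk
    simpa only [QuotientGroup.mk_mul] using hbr
  have hsq' : (ρ x * ρ b * ρ x) * (ρ x * ρ b * ρ x) = 1 := by
    have : ρ ((x * b * x) * (x * b * x)) = ρ 1 := by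
      apply hmk
      simpa only [QuotientGroup.mk_mul, QuotientGroup.mk_one] using hsq
    simpa only [map_mul, map_one] using this
  have hNN : (ρ x - 1) * (ρ x - 1) = 0 := by
    apply LinearMap.ext
    intro w
    rw [Module.End.mul_apply, LinearMap.sub_apply, LinearMap.sub_apply, Module.End.one_apply,
      Module.End.one_apply, LinearMap.zero_apply, hq w, sub_self]
  have h2 : ∀ r : Module.End (ZMod p) A₀, 2 * r = 0 → r = 0 := by
    intro r hr
    have hodd : (2 : ZMod p) ≠ 0 := by
      intro h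
      have h3 : ((2 : ℕ) : ZMod p) = 0 := by exact_mod_cast h
      rw [ZMod.natCast_eq_zero_iff] at h3
      have := (Nat.prime_dvd_prime_iff_eq (Fact.out : p.Prime) Nat.prime_two).1 h3
      exact hp this
    have h4 : (2 : ZMod p) • r = 0 := by rw [two_smul, ← two_mul]; exact hr
    exact (smul_eq_zero.1 h4).resolve_left hodd
  have heq := eq_of_braid h2 (ρ x) (ρ b) hbr' hsq' hNN
  exact hyx (hmk' x b heq).symm

end Cfsg.Agent.Lib.Helper85.NoQuadPSL
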