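import Mathlib
import Cfsg.Agent.Lib.Helper20.EqOrd
import Cfsg.Agent.Lib.Helper24.PGroupBasic
import Cfsg.Agent.Lib.Helper86.EssChain

/-!
# Pearls: a nonabelian group of order `p ^ 3` (`p` odd) whose automizer has a strongly `p`-embedded subgroup modulo
inner automorphisms has exponent `p` (helper85)
-/

set_option autoImplicit false
set_option linter.unusedSectionVars false
set_option linter.unusedVariables false

open scoped commutatorElement

namespace Cfsg.Agent.Lib.Helper85.Pearl

open Subgroup Cfsg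

variable {H : Type*} [Group H] [Finite H] {p : ℕ} [Fact p.Prime]

/-- in a nonabelian group of order `p ^ 3`, `p` odd, `x ↦ x ^ p` is an endomorphism with central values -/
theorem pow_hom_facts (hp2 : p ≠ 2) (hcard : Nat.card H = p ^ 3) (hna : ¬ IsMulCommutative H) :
    (∀ z ∈ center H, z ^ p = 1) ∧ (∀ x y : H, (x * y) ^ p = x ^ p * y ^ p) ∧ ∀ x : H, x ^ p ∈ center H := by
  have hp : p.Prime := Fact.out
  obtain ⟨hc, hcomm⟩ := Cfsg.Agent.Lib.Helper20.EqOrd.center_of_card_cube hcard hna
  have hzp : ∀ z ∈ center H, z ^ p = 1 := by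
    intro z hz
    have h1 : (⟨z, hz⟩ : center H) ^ Nat.card (center H) = 1 := pow_card_eq_one'
    rw [hc] at h1
    exact congrArg Subtype.val h1
  have h3 : 2 < p := lt_of_le_of_ne hp.two_le (Ne.symm hp2)
  have hdvd : p ∣ p.choose 2 := hp.dvd_choose_self (by norm_num) h3
  refine ⟨hzp, ?_, ?_⟩
  · intro x y
    have hz := hcomm y x
    have e : y * x = (y * x * y⁻¹ * x⁻¹) * x * y := by group
    have hzx : Commute (y * x * y⁻¹ * x⁻¹) x := (mem_center_iff.1 hz x).symm
    have hzy : Commute (y * x * y⁻¹ * x⁻¹) y := (mem_center_iff.1 hz y).symm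
    rw [Cfsg.Agent.Lib.Helper24.mul_pow_of_central_comm x y _ e hzx hzy p]
    obtain ⟨m, hm⟩ := hdvd
    rw [hm, pow_mul, hzp _ hz, one_pow, mul_one]
  · intro x
    rw [mem_center_iff]
    intro y
    have hz : ⁅y, x⁆ ∈ center H := by
      rw [commutatorElement_def]
      exact hcomm y x
    have hzx : Commute ⁅y, x⁆ x := (mem_center_iff.1 hz x).symm
    have h1 := Cfsg.Agent.Lib.Helper24.commutatorElement_pow_right_of_commute x y hzx p
    rw [hzp _ hz] at h1
    exact commutatorElement_eq_one_iff_mul_comm.1 h1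

/-- the chain `H ≥ Ω ≥ Z ≥ 1` -/
def chain4 (Ω Z : Subgroup H) : ℕ → Subgroup H
  | 0 => ⊤
  | 1 => Ω
  | 2 => Z
  | _ => ⊥

/-- **Exponent `p`.** -/
theorem pow_eq_one_of_spe_cube (hp2 : p ≠ 2) (hcard : Nat.card H = p ^ 3) (hna : ¬ IsMulCommutative H)
    (A : Subgroup (MulAut H)) [hn : ((Cfsg.Inn H).subgroupOf A).Normal]
    (M : Subgroup (A ⧸ (Cfsg.Inn H).subgroupOf A)) (hM : IsStronglyPEmbedded p M) :
    ∀ e : H, e ^ p = 1 := by
  have hp : p.Prime := Fact.out
  have hH : IsPGroup p H := IsPGroup.of_card hcard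
  obtain ⟨hzp, hmul, hcen⟩ := pow_hom_facts hp2 hcard hna
  obtain ⟨hc, -⟩ := Cfsg.Agent.Lib.Helper20.EqOrd.center_of_card_cube hcard hna
  by_contra hcon
  push Not at hcon
  obtain ⟨e₀, he₀⟩ := hcon
  let φ : H →* H :=
    { toFun := fun x => x ^ p
      map_one' := one_pow p
      map_mul' := hmul }
  have hφ : ∀ x, φ x = x ^ p := fun _ => rfl
  have hrange : φ.range ≤ center H := by
    rintro _ ⟨x, rfl⟩
    exact hcen x
  have hrcard : Nat.card φ.range = p := by
    have h1 : Nat.card φ.range ∣ p := by rw [← hc]; exact Subgroup.card_dvd_of_le hrange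
    rcases (Nat.dvd_prime hp).1 h1 with h | h
    · exfalso
      apply he₀
      have h2 : φ.range = ⊥ := Subgroup.card_eq_one.1 h
      have h3 : φ e₀ ∈ φ.range := ⟨e₀, rfl⟩
      rw [h2, Subgroup.mem_bot] at h3
      exact h3
    · exact h
  have hkcard : Nat.card φ.ker = p ^ 2 := by
    have h1 := Subgroup.card_eq_card_quotient_mul_card_subgroup φ.ker
    rw [Nat.card_congr (QuotientGroup.quotientKerEquivRange φ).toEquiv, hrcard, hcard] at h1
    have h2 : p * p ^ 2 = p * Nat.card φ.ker := by rw [← h1]; ring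
    exact (Nat.eq_of_mul_eq_mul_left hp.pos h2).symm
  have hZker : center H ≤ φ.ker := by
    intro z hz
    rw [MonoidHom.mem_ker, hφ]
    exact hzp z hz
  refine Cfsg.Agent.Lib.Helper86.false_of_chain hH A M hM 3 (chain4 φ.ker (center H)) rfl rfl ?_ ?_ ?_
  · intro j hj
    match j, hj with
    | 0, _ => exact (inferInstance : (⊤ : Subgroup H).Normal)
    | 1, _ => exact (inferInstance : φ.ker.Normal)
    | 2, _ => exact (inferInstance : (center H).Normal)
    | 3, _ => exact (inferInstance : (⊥ : Subgroup H).Normal)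
    | (k + 4), h => omega
  · intro j hj
    match j, hj with
    | 0, _ =>
      show φ.ker.relIndex ⊤ = p
      rw [Subgroup.relIndex_top_right]
      have h1 := Subgroup.card_mul_index φ.ker
      rw [hkcard, hcard] at h1
      have h2 : p ^ 2 * φ.ker.index = p ^ 2 * p := by rw [h1]; ring
      exact Nat.eq_of_mul_eq_mul_left (pow_pos hp.pos 2) h2
    | 1, _ =>
      show (center H).relIndex φ.ker = p
      have h1 : Nat.card (center H) * (center H).relIndex φ.ker = Nat.card φ.ker := by
        have h2 := ((center H).subgroupOf φ.ker).card_mul_index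
        rwa [Nat.card_congr (Subgroup.subgroupOfEquivOfLe hZker).toEquiv] at h2
      rw [hc, hkcard] at h1
      have h2 : p * (center H).relIndex φ.ker = p * p := by rw [h1]; ring
      exact Nat.eq_of_mul_eq_mul_left hp.pos h2
    | 2, _ =>
      show (⊥ : Subgroup H).relIndex (center H) = p
      rw [Subgroup.relIndex_bot_left, hc]
    | (k + 3), h => omega
  · intro j hj α hα x hx
    match j, hj, hx with
    | 0, _, _ => exact Subgroup.mem_top _
    | 1, _, hx =>
      show α x ∈ φ.ker
      have h1 : x ^ p = 1 := hx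
      rw [MonoidHom.mem_ker, hφ, ← map_pow, h1, map_one]
    | 2, _, hx =>
      show α x ∈ center H
      have h1 : x ∈ center H := hx
      rw [mem_center_iff] at h1 ⊢
      intro g
      have h2 := h1 (α⁻¹ g)
      have h3 := congrArg α h2
      rw [map_mul, map_mul, MulAut.apply_inv_self] at h3
      exact h3
    | 3, _, hx =>
      show α x ∈ (⊥ : Subgroup H)
      have h1 : x = 1 := hx
      rw [h1, map_one]
      exact Subgroup.one_mem _
    | (k + 4), h, _ => omega

end Cfsg.Agent.Lib.Helper85.Pearl
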