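import Mathlib
import Cfsg.Agent.Lib.Helper20.EqOrd
import Cfsg.Agent.Lib.Helper33.SylIn

/-!
# Pearls: the group-theoretic part (helper85)

Let `X` be a finite `p`-group and `B` a self-centralizing subgroup of order `p ^ 2` (abelian) or `p ^ 3`
(nonabelian).  We find elements of `B` whose centralizer in `X` has order `p ^ 2`
(`exists_centralizer_eq_of_abelian_sq`, `exists_centralizer_card_of_nonabelian_cube`); in the second case
under the additional hypothesis that every element of `X` centralizing `B / Z(B)` lies in `B`.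
-/

set_option autoImplicit false
set_option linter.unusedSectionVars false
set_option linter.unusedVariables false

namespace Cfsg.Agent.Lib.Helper85.Pearl

open Subgroup

variable {X : Type*} [Group X] [Finite X] {p : ℕ} [Fact p.Prime]

/-- the divisors of `p ^ 2` strictly between `1`-free chains: a subgroup of order dividing `p ^ 2` that properly
contains a nontrivial subgroup has order `p ^ 2`. -/
theorem card_eq_sq_of_lt {Z D : Subgroup X} (hZ1 : Z ≠ ⊥) (hZD : Z < D) (hD : Nat.card D ∣ p ^ 2) :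
    Nat.card D = p ^ 2 := by
  have hp : p.Prime := Fact.out
  obtain ⟨k, hk2, hk⟩ := (Nat.dvd_prime_pow hp).1 hD
  have hlt : Nat.card Z < Nat.card D := Cfsg.Agent.Lib.Helper33.card_lt_card_of_lt hZD
  have hdvd : Nat.card Z ∣ Nat.card D := Subgroup.card_dvd_of_le hZD.le
  have hZc : Nat.card Z ≠ 1 := fun h => hZ1 (Subgroup.card_eq_one.1 h)
  rw [hk] at hlt hdvd ⊢
  obtain ⟨j, hj, hjc⟩ := (Nat.dvd_prime_pow hp).1 hdvd
  rw [hjc] at hlt hZc
  have hj0 : j ≠ 0 := by
    rintro rfl
    exact hZc (pow_zero p)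
  have hjk : j < k := (Nat.pow_lt_pow_iff_right hp.one_lt).1 hlt
  have : k = 2 := by omega
  rw [this]

/-- same with `p ^ 3`: a subgroup of order dividing `p ^ 3` that properly contains a subgroup of order `p ^ 2`
has order `p ^ 3`. -/
theorem card_eq_cube_of_lt {Z D : Subgroup X} (hZ : Nat.card Z = p ^ 2) (hZD : Z < D)
    (hD : Nat.card D ∣ p ^ 3) : Nat.card D = p ^ 3 := by
  have hp : p.Prime := Fact.out
  obtain ⟨k, hk3, hk⟩ := (Nat.dvd_prime_pow hp).1 hD
  have hlt : Nat.card Z < Nat.card D := Cfsg.Agent.Lib.Helper33.card_lt_card_of_lt hZD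
  rw [hk, hZ] at hlt
  rw [hk]
  have h2k : 2 < k := (Nat.pow_lt_pow_iff_right hp.one_lt).1 hlt
  have : k = 3 := by omega
  rw [this]

/-- **The abelian pearl.** -/
theorem exists_centralizer_eq_of_abelian_sq (hX : IsPGroup p X) (A : Subgroup X)
    (hA : Nat.card A = p ^ 2) (hAc : ∀ a ∈ A, ∀ b ∈ A, a * b = b * a)
    (hCA : centralizer (A : Set X) ≤ A) (hne : A ≠ ⊤) :
    ∃ x ∈ A, centralizer ({x} : Set X) = A := by
  have hp : p.Prime := Fact.out
  have hnt : Nontrivial X := by
    by_contra h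
    rw [not_nontrivial_iff_subsingleton] at h
    exact hne (Subsingleton.elim _ _)
  have hZnt : Nontrivial (center X) := hX.center_nontrivial
  have hZ1 : center X ≠ ⊥ := by
    intro h
    have := (Subgroup.nontrivial_iff_ne_bot (center X)).1 hZnt
    exact this h
  have hZA : center X ≤ A := (Subgroup.center_le_centralizer _).trans hCA
  -- an element of `A` outside the centre
  obtain ⟨x, hxA, hxZ⟩ : ∃ x ∈ A, x ∉ center X := by
    by_contra hcon
    push Not at hcon
    apply hne
    rw [eq_top_iff]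
    intro g _
    apply hCA
    rw [mem_centralizer_iff]
    intro a ha
    exact (mem_center_iff.1 (hcon a ha) g).symm
  refine ⟨x, hxA, le_antisymm ?_ ?_⟩
  · intro g hg
    rw [mem_centralizer_singleton_iff] at hg
    apply hCA
    -- `D = C_A(g)` contains `Z(X)` and `x`
    have hZD : center X < A ⊓ centralizer ({g} : Set X) := by
      refine lt_of_le_of_ne (le_inf hZA (Subgroup.center_le_centralizer _)) ?_
      intro h
      apply hxZ
      rw [h]
      exact Subgroup.mem_inf.2 ⟨hxA, mem_centralizer_singleton_iff.2 hg.symm⟩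
    have hD : Nat.card (A ⊓ centralizer ({g} : Set X) : Subgroup X) = p ^ 2 :=
      card_eq_sq_of_lt hZ1 hZD (by rw [← hA]; exact Subgroup.card_dvd_of_le inf_le_left)
    have hDA : A ⊓ centralizer ({g} : Set X) = A :=
      Subgroup.eq_of_le_of_card_ge inf_le_left (by rw [hD, hA])
    rw [mem_centralizer_iff]
    intro a ha
    have h1 : a ∈ A ⊓ centralizer ({g} : Set X) := by rw [hDA]; exact ha
    exact mem_centralizer_singleton_iff.1 (Subgroup.mem_inf.1 h1).2
  · intro a ha
    rw [mem_centralizer_singleton_iff]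
    exact hAc a ha x hxA

/-- the centre of `X` when `X` has a self-centralizing nonabelian subgroup `B` of order `p ^ 3`: it is `Z(B)`, of
order `p`, and contains the commutators of `B`. -/
theorem center_facts_of_nonabelian_cube (hX : IsPGroup p X) (B : Subgroup X) (hB : Nat.card B = p ^ 3)
    (hBna : ∃ b₁ ∈ B, ∃ b₂ ∈ B, b₁ * b₂ ≠ b₂ * b₁) (hCB : centralizer (B : Set X) ≤ B) :
    Nat.card (center X) = p ∧ (∀ z ∈ B, (∀ c ∈ B, z * c = c * z) → z ∈ center X) ∧
      ∀ a ∈ B, ∀ b ∈ B, a * b * a⁻¹ * b⁻¹ ∈ center X := by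
  have hp : p.Prime := Fact.out
  obtain ⟨b₁, hb₁, b₂, hb₂, hne⟩ := hBna
  have hna : ¬ IsMulCommutative ↥B := by
    intro h
    apply hne
    have := h.is_comm.comm (⟨b₁, hb₁⟩ : B) ⟨b₂, hb₂⟩
    exact congrArg Subtype.val this
  obtain ⟨hc, hcomm⟩ := Cfsg.Agent.Lib.Helper20.EqOrd.center_of_card_cube (P := ↥B) hB hna
  have hnt : Nontrivial X := ⟨⟨b₁ * b₂, b₂ * b₁, hne⟩⟩
  have hZnt : Nontrivial (center X) := hX.center_nontrivial
  have hZ1 : Nat.card (center X) ≠ 1 := by
    intro h
    have h1 := Subgroup.card_eq_one.1 h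
    exact (Subgroup.nontrivial_iff_ne_bot (center X)).1 hZnt h1
  have hZB : center X ≤ B := (Subgroup.center_le_centralizer _).trans hCB
  set ZB : Subgroup X := (center ↥B).map B.subtype with hZBdef
  have hZBcard : Nat.card ZB = p := by
    rw [hZBdef, Subgroup.card_map_of_injective B.subtype_injective, hc]
  have hle : center X ≤ ZB := by
    intro z hz
    refine ⟨⟨z, hZB hz⟩, ?_, rfl⟩
    rw [SetLike.mem_coe, mem_center_iff]
    intro g
    apply Subtype.ext
    exact mem_center_iff.1 hz g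
  have hcard : Nat.card (center X) = p := by
    have h1 : Nat.card (center X) ∣ p := by rw [← hZBcard]; exact Subgroup.card_dvd_of_le hle
    rcases (Nat.dvd_prime hp).1 h1 with h | h
    · exact absurd h hZ1
    · exact h
  have heq : center X = ZB := Subgroup.eq_of_le_of_card_ge hle (by rw [hZBcard, hcard])
  refine ⟨hcard, ?_, ?_⟩
  · intro z hz hzc
    rw [heq]
    refine ⟨⟨z, hz⟩, ?_, rfl⟩
    rw [SetLike.mem_coe, mem_center_iff]
    intro g
    apply Subtype.ext
    exact (hzc g g.2).symm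
  · intro a ha b hb
    rw [heq]
    exact ⟨_, hcomm ⟨a, ha⟩ ⟨b, hb⟩, rfl⟩

/-- in a finite `p`-group whose centre is not everything, the second centre is strictly larger than the centre -/
theorem exists_mem_second_center (hX : IsPGroup p X) (hZ : center X ≠ ⊤) :
    ∃ g : X, g ∉ center X ∧ ∀ s : X, g * s * g⁻¹ * s⁻¹ ∈ center X := by
  have hQp : IsPGroup p (X ⧸ center X) := hX.to_quotient (center X)
  have hQnt : Nontrivial (X ⧸ center X) := by
    by_contra h
    rw [not_nontrivial_iff_subsingleton] at h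
    apply hZ
    rw [eq_top_iff]
    intro g _
    rw [← QuotientGroup.eq_one_iff]
    exact Subsingleton.elim _ _
  have hZnt : Nontrivial (center (X ⧸ center X)) := hQp.center_nontrivial
  obtain ⟨⟨q, hq⟩, hq1⟩ := exists_ne (1 : center (X ⧸ center X))
  obtain ⟨g, rfl⟩ := QuotientGroup.mk_surjective q
  refine ⟨g, ?_, ?_⟩
  · intro hg
    apply hq1
    apply Subtype.ext
    exact (QuotientGroup.eq_one_iff g).2 hg
  · intro s
    rw [← QuotientGroup.eq_one_iff]
    have h1 := mem_center_iff.1 hq (s : X ⧸ center X)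
    rw [QuotientGroup.mk_mul, QuotientGroup.mk_mul, QuotientGroup.mk_mul, QuotientGroup.mk_inv,
      QuotientGroup.mk_inv, ← h1]
    group

/-- **The nonabelian pearl.** -/
theorem exists_centralizer_card_of_nonabelian_cube (hX : IsPGroup p X) (B : Subgroup X)
    (hB : Nat.card B = p ^ 3) (hBna : ∃ b₁ ∈ B, ∃ b₂ ∈ B, b₁ * b₂ ≠ b₂ * b₁)
    (hCB : centralizer (B : Set X) ≤ B) (hne : B ≠ ⊤)
    (hT : ∀ g : X, (∀ b ∈ B, g * b * g⁻¹ * b⁻¹ ∈ center X) → g ∈ B) :
    ∃ y ∈ B, Nat.card (centralizer ({y} : Set X)) = p ^ 2 := by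
  have hp : p.Prime := Fact.out
  obtain ⟨hZcard, hZB', hcomm⟩ := center_facts_of_nonabelian_cube hX B hB hBna hCB
  obtain ⟨b₁, hb₁, b₂, hb₂, hb12⟩ := hBna
  have hZB : center X ≤ B := (Subgroup.center_le_centralizer _).trans hCB
  have hZtop : center X ≠ ⊤ := by
    intro h
    apply hb12
    have : b₁ ∈ center X := by rw [h]; exact mem_top _
    exact (mem_center_iff.1 this b₂).symm
  have hZ1 : center X ≠ ⊥ := by
    intro h
    rw [h, Subgroup.card_bot] at hZcard
    exact hp.one_lt.ne hZcard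
  -- the second centre
  let Z₂ : Subgroup X :=
    { carrier := {g | ∀ s : X, g * s * g⁻¹ * s⁻¹ ∈ center X}
      one_mem' := by
        intro s
        have : (1 : X) * s * 1⁻¹ * s⁻¹ = 1 := by group
        rw [this]; exact one_mem _
      mul_mem' := by
        intro a b ha hb s
        have e : a * b * s * (a * b)⁻¹ * s⁻¹ = a * (b * s * b⁻¹ * s⁻¹) * a⁻¹ * (a * s * a⁻¹ * s⁻¹) := by
          group
        rw [e]
        have h1 := mem_center_iff.1 (hb s) a
        rw [h1, mul_inv_cancel_right]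
        exact mul_mem (hb s) (ha s)
      inv_mem' := by
        intro a ha s
        have e : a⁻¹ * s * a⁻¹⁻¹ * s⁻¹ = (a⁻¹ * (a * s * a⁻¹ * s⁻¹) * a)⁻¹ := by group
        rw [e]
        have h1 := mem_center_iff.1 (ha s) a⁻¹
        rw [h1, inv_mul_cancel_right]
        exact inv_mem (ha s) }
  have hmemZ₂ : ∀ g : X, g ∈ Z₂ ↔ ∀ s : X, g * s * g⁻¹ * s⁻¹ ∈ center X := fun g => Iff.rfl
  have hZZ₂ : center X ≤ Z₂ := by
    intro z hz s
    have h1 := mem_center_iff.1 hz s
    have e : z * s * z⁻¹ * s⁻¹ = 1 := by rw [← h1]; group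
    rw [e]; exact one_mem _
  have hZ₂B : Z₂ ≤ B := fun g hg => hT g (fun b _ => hg b)
  have hZltZ₂ : center X < Z₂ := by
    obtain ⟨g, hgZ, hg⟩ := exists_mem_second_center hX hZtop
    exact lt_of_le_of_ne hZZ₂ (fun h => hgZ (by rw [h]; exact hg))
  -- commutators in the other order
  have hswap : ∀ g b : X, b * g * b⁻¹ * g⁻¹ ∈ center X → g * b * g⁻¹ * b⁻¹ ∈ center X := by
    intro g b h
    have e : g * b * g⁻¹ * b⁻¹ = (b * g * b⁻¹ * g⁻¹)⁻¹ := by group
    rw [e]; exact inv_mem h
  have hZ₂neB : Z₂ ≠ B := by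
    intro h
    apply hne
    rw [eq_top_iff]
    intro g _
    apply hT g
    intro b hb
    apply hswap
    have : b ∈ Z₂ := by rw [h]; exact hb
    exact this g
  have hZ₂card : Nat.card Z₂ = p ^ 2 := by
    obtain ⟨k, hk3, hk⟩ := (Nat.dvd_prime_pow hp).1 (hB ▸ Subgroup.card_dvd_of_le hZ₂B)
    have h1 : Nat.card (center X) < Nat.card Z₂ := Cfsg.Agent.Lib.Helper33.card_lt_card_of_lt hZltZ₂
    have h2 : Nat.card Z₂ < Nat.card B :=
      Cfsg.Agent.Lib.Helper33.card_lt_card_of_lt (lt_of_le_of_ne hZ₂B hZ₂neB)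
    rw [hk, hZcard] at h1
    rw [hk, hB] at h2
    have h3 : 1 < k := by
      have : p ^ 1 < p ^ k := by rwa [pow_one]
      exact (Nat.pow_lt_pow_iff_right hp.one_lt).1 this
    have h4 : k < 3 := (Nat.pow_lt_pow_iff_right hp.one_lt).1 h2
    have : k = 2 := by omega
    rw [hk, this]
  obtain ⟨y, hyB, hyZ₂⟩ : ∃ y ∈ B, y ∉ Z₂ := by
    by_contra hcon
    push Not at hcon
    exact hZ₂neB (le_antisymm hZ₂B hcon)
  have hyZ : y ∉ center X := fun h => hyZ₂ (hZZ₂ h)
  -- `C_X(y) ≤ B`
  have hCy : centralizer ({y} : Set X) ≤ B := by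
    intro g hg
    rw [mem_centralizer_singleton_iff] at hg
    let D : Subgroup X :=
      { carrier := {e | e ∈ B ∧ g * e * g⁻¹ * e⁻¹ ∈ center X}
        one_mem' := by
          refine ⟨one_mem _, ?_⟩
          have : g * 1 * g⁻¹ * (1 : X)⁻¹ = 1 := by group
          rw [this]; exact one_mem _
        mul_mem' := by
          rintro a b ⟨ha, ha'⟩ ⟨hb, hb'⟩
          refine ⟨mul_mem ha hb, ?_⟩
          have e : g * (a * b) * g⁻¹ * (a * b)⁻¹ = (g * a * g⁻¹ * a⁻¹) * (a * (g * b * g⁻¹ * b⁻¹) * a⁻¹) := by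
            group
          rw [e]
          have h1 := mem_center_iff.1 hb' a
          rw [h1, mul_inv_cancel_right]
          exact mul_mem ha' hb'
        inv_mem' := by
          rintro a ⟨ha, ha'⟩
          refine ⟨inv_mem ha, ?_⟩
          have e : g * a⁻¹ * g⁻¹ * a⁻¹⁻¹ = a⁻¹ * (g * a * g⁻¹ * a⁻¹)⁻¹ * a := by group
          rw [e]
          have h1 := mem_center_iff.1 (inv_mem ha') a⁻¹
          rw [h1, inv_mul_cancel_right]
          exact inv_mem ha' }
    have hDB : D ≤ B := fun e he => he.1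
    have hZ₂D : Z₂ < D := by
      refine lt_of_le_of_ne ?_ ?_
      · intro z hz
        exact ⟨hZ₂B hz, hswap g z (hz g)⟩
      · intro h
        apply hyZ₂
        rw [h]
        refine ⟨hyB, ?_⟩
        have : g * y * g⁻¹ * y⁻¹ = 1 := by rw [hg]; group
        rw [this]; exact one_mem _
    have hDcard : Nat.card D = p ^ 3 :=
      card_eq_cube_of_lt hZ₂card hZ₂D (hB ▸ Subgroup.card_dvd_of_le hDB)
    have hDeq : D = B := Subgroup.eq_of_le_of_card_ge hDB (by rw [hDcard, hB])
    apply hT g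
    intro b hb
    have : b ∈ D := by rw [hDeq]; exact hb
    exact this.2
  refine ⟨y, hyB, ?_⟩
  -- `|C_X(y)| = p ^ 2`
  have hZC : center X < centralizer ({y} : Set X) := by
    refine lt_of_le_of_ne (Subgroup.center_le_centralizer _) ?_
    intro h
    apply hyZ
    rw [h, mem_centralizer_singleton_iff]
  have hCne : centralizer ({y} : Set X) ≠ B := by
    intro h
    apply hyZ
    apply hZB' y hyB
    intro c hc
    have : c ∈ centralizer ({y} : Set X) := by rw [h]; exact hc
    exact (mem_centralizer_singleton_iff.1 this).symm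
  obtain ⟨k, hk3, hk⟩ := (Nat.dvd_prime_pow hp).1 (hB ▸ Subgroup.card_dvd_of_le hCy)
  have h1 : Nat.card (center X) < Nat.card (centralizer ({y} : Set X)) :=
    Cfsg.Agent.Lib.Helper33.card_lt_card_of_lt hZC
  have h2 : Nat.card (centralizer ({y} : Set X)) < Nat.card B :=
    Cfsg.Agent.Lib.Helper33.card_lt_card_of_lt (lt_of_le_of_ne hCy hCne)
  rw [hk, hZcard] at h1
  rw [hk, hB] at h2
  have h3 : 1 < k := by
    have : p ^ 1 < p ^ k := by rwa [pow_one]
    exact (Nat.pow_lt_pow_iff_right hp.one_lt).1 this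
  have h4 : k < 3 := (Nat.pow_lt_pow_iff_right hp.one_lt).1 h2
  have : k = 2 := by omega
  rw [hk, this]

end Cfsg.Agent.Lib.Helper85.Pearl
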