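import Mathlib
import Cfsg.Agent.Lib.Helper85.PearlGroup
import Cfsg.Agent.Lib.Helper85.PearlExp
import Cfsg.Agent.Lib.Helper73.Suzuki
import Cfsg.Agent.Lib.Helper86.EssChain2
import Cfsg.Agent.Lib.Helper87.OliverIndexP
import Cfsg.Agent.Lib.Helper87.OliverAut
import Cfsg.Agent.Lib.Helper88.FusionEssential
import Cfsg.Agent.Lib.Helper54.Coprime

/-!
# Pearls: module [PEARL] of helper87's plan for S5238 (helper85)

`pearl_element`: if a saturated fusion system over `S` (`p` odd) has an essential subgroup `E` which is a pearl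
(elementary abelian of order `p ^ 2`, or nonabelian of order `p ^ 3`), then `S` has maximal class and contains an
element `x` of order dividing `p` with `|C_S(x)| = p ^ 2`.
-/

set_option autoImplicit false
set_option linter.unusedSectionVars false
set_option linter.unusedVariables false
set_option maxHeartbeats 800000

namespace Cfsg.Agent.Lib.Helper85.Pearl

open Subgroup Cfsg Cfsg.FusionSystem
open Cfsg.Agent.Lib.Helper87

variable {Ω : Type*} [Group Ω] {S : Subgroup Ω}

/-- the centre of a group is invariant under automorphisms -/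
theorem apply_mem_center_iff {H : Type*} [Group H] (α : MulAut H) (y : H) :
    α y ∈ center H ↔ y ∈ center H := by
  constructor
  · intro h
    rw [mem_center_iff] at h ⊢
    intro g
    have h1 := h (α g)
    rw [← map_mul, ← map_mul] at h1
    exact α.injective h1
  · intro h
    rw [mem_center_iff] at h ⊢
    intro g
    have h2 := h (α⁻¹ g)
    have h3 := congrArg α h2
    rw [map_mul, map_mul, MulAut.apply_inv_self] at h3
    exact h3

/-- In a saturated fusion system, an element `g ∈ S` centralizing `E / Z(E)` for an essential subgroup `E`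
with `Z(E) ≤ Z(S)` lies in `E`. -/
theorem mem_of_commutators_central [Finite S] {p : ℕ} [Fact p.Prime] (hS : IsPGroup p S) (F : FusionSystem S)
    (E : Subgroup Ω) (hE : F.IsEssential p E)
    (hZES : ∀ z ∈ E, (∀ c ∈ E, z * c = c * z) → ∀ s ∈ S, z * s = s * z)
    {g : Ω} (hg : g ∈ S)
    (h : ∀ b ∈ E, g * b * g⁻¹ * b⁻¹ ∈ E ∧ ∀ c ∈ E, (g * b * g⁻¹ * b⁻¹) * c = c * (g * b * g⁻¹ * b⁻¹)) :
    g ∈ E := by
  obtain ⟨hcen, hfn, hN, M, hM⟩ := hE
  have hES : E ≤ S := hcen.1
  have hfinE : Finite E := finite_of_le hES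
  have hEp : IsPGroup p E := hS.to_le hES
  -- `g` normalizes `E`
  have hgN : g ∈ normalizer (E : Set Ω) := by
    rw [Cfsg.Agent.Lib.Helper54.mem_normalizer_iff_conj_smul]
    apply Subgroup.eq_of_le_of_card_ge
    · intro x hx
      rw [Cfsg.Agent.Lib.Helper54.mem_conj_smul_iff] at hx
      have h1 := (h _ hx).1
      have e : g * (g⁻¹ * x * g) * g⁻¹ * (g⁻¹ * x * g)⁻¹ * (g⁻¹ * x * g) = x := by group
      rw [← e]
      exact E.mul_mem h1 hx
    · rw [Cfsg.Agent.Lib.Helper54.card_conj_smul]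
  set α : MulAut E := conjAut E g hgN with hα
  have hαS : α ∈ autInducedBy S E := (mem_autInducedBy_iff _ _ _).2 ⟨g, hg, fun _ => rfl⟩
  have hαF : α ∈ F.autGroup E := autInducedBy_le_autGroup F hES hαS
  -- `α` stabilizes the chain `E ≥ Z(E) ≥ 1`
  have hαst : α ∈ stabGroup (F.autGroup E) (center E) := by
    apply mem_stabGroup_of hαF
    · intro y
      rw [mem_center_iff]
      intro c
      apply Subtype.ext
      obtain ⟨hk, hkc⟩ := h (y : Ω) y.2
      have e1 : ((y⁻¹ * α y : E) : Ω) = (y : Ω)⁻¹ * (g * (y : Ω) * g⁻¹ * (y : Ω)⁻¹) * (y : Ω) := by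
        show (y : Ω)⁻¹ * (g * (y : Ω) * g⁻¹) = _
        group
      have e2 : ((y⁻¹ * α y : E) : Ω) = g * (y : Ω) * g⁻¹ * (y : Ω)⁻¹ := by
        rw [e1, mul_assoc, hkc (y : Ω) y.2, ← mul_assoc, inv_mul_cancel, one_mul]
      show (c : Ω) * ((y⁻¹ * α y : E) : Ω) = ((y⁻¹ * α y : E) : Ω) * (c : Ω)
      rw [e2]
      exact (hkc (c : Ω) c.2).symm
    · intro d hd
      apply Subtype.ext
      show g * (d : Ω) * g⁻¹ = (d : Ω)
      have h1 : ∀ c ∈ E, (d : Ω) * c = c * (d : Ω) := by
        intro c hc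
        have := mem_center_iff.1 hd ⟨c, hc⟩
        exact (congrArg Subtype.val this).symm
      have h2 := hZES (d : Ω) d.2 h1 g hg
      rw [← h2, mul_inv_cancel_right]
  -- the stability group is a normal `p`-subgroup of `Aut_F(E)`, hence inner
  have hle : stabGroup (F.autGroup E) (center E) ≤ Cfsg.Inn E := by
    refine Cfsg.Agent.Lib.Helper86.normal_pSubgroup_le_inn (F.autGroup E) M hM _
      (stabGroup_le _ _) (stabGroup_isPGroup hEp _ _) ?_
    intro β hβ γ hγ
    exact stabGroup_conj_mem ⟨hβ, fun y => apply_mem_center_iff β y⟩ hγ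
  obtain ⟨u, hu⟩ := hle hαst
  apply mem_of_induces_inner F hcen hg u.2
  intro y hy
  have h1 := congrArg (fun f : MulAut E => ((f ⟨y, hy⟩ : E) : Ω)) hu
  exact h1.symm

/-- **Module [PEARL].** -/
theorem pearl_element {Ω : Type*} [Group Ω] {S : Subgroup Ω} [Finite S] (p : ℕ) [Fact p.Prime]
    (hS : IsPGroup p S) (F : Cfsg.FusionSystem S) (hF : F.IsSaturated p) (hp : p ≠ 2) (E : Subgroup Ω)
    (hE : F.IsEssential p E)
    (hpearl : (Nat.card E = p ^ 2 ∧ ∀ x ∈ E, x ^ p = 1 ∧ IsMulCommutative ↥E) ∨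
      (Nat.card E = p ^ 3 ∧ ¬ IsMulCommutative ↥E)) :
    (∀ n : ℕ, Nat.card S = p ^ n → 3 ≤ n ∧ Group.nilpotencyClass S = n - 1) ∧
      ∃ x : S, x ^ p = 1 ∧ Nat.card (Subgroup.centralizer ({x} : Set S)) = p ^ 2 := by
  have hpp : p.Prime := Fact.out
  have hEne : E ≠ S := Cfsg.Agent.Lib.Helper88.ne_top_of_essential F hF hE
  have hE' := hE
  obtain ⟨hcen, hfn, hN, M, hM⟩ := hE
  have hES : E ≤ S := hcen.1
  have hfinE : Finite E := finite_of_le hES
  have hcE : centralizerIn S E ≤ E := hcen.2 E (isConj_refl F hES)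
  -- the copy of `E` inside the group `S`
  set E' : Subgroup S := E.subgroupOf S with hE'def
  have hE'card : Nat.card E' = Nat.card E :=
    Nat.card_congr (Subgroup.subgroupOfEquivOfLe hES).toEquiv
  have hCE' : centralizer (E' : Set S) ≤ E' := by
    intro g hg
    rw [hE'def, mem_subgroupOf]
    apply hcE
    refine ⟨g.2, ?_⟩
    show (g : Ω) ∈ centralizer (E : Set Ω)
    rw [mem_centralizer_iff] at hg ⊢
    intro e he
    have := hg ⟨e, hES he⟩ (mem_subgroupOf.2 he)
    exact congrArg Subtype.val this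
  have hne' : E' ≠ ⊤ := by
    intro h
    apply hEne
    rw [hE'def, subgroupOf_eq_top] at h
    exact le_antisymm hES h
  have hlt : Nat.card E' < Nat.card S := by
    have h1 : E' < ⊤ := lt_top_iff_ne_top.2 hne'
    have h2 := Cfsg.Agent.Lib.Helper33.card_lt_card_of_lt h1
    rwa [Subgroup.card_top] at h2
  rcases hpearl with ⟨hcard, hab⟩ | ⟨hcard, hna⟩
  · -- the abelian pearl
    have hcomm : IsMulCommutative ↥E := (hab 1 (one_mem _)).2
    have hAc : ∀ a ∈ E', ∀ b ∈ E', a * b = b * a := by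
      intro a ha b hb
      apply Subtype.ext
      have := hcomm.is_comm.comm (⟨a, mem_subgroupOf.1 ha⟩ : E) ⟨b, mem_subgroupOf.1 hb⟩
      exact congrArg (fun t : E => (t : Ω)) this
    refine ⟨?_, ?_⟩
    · intro n hn
      refine ⟨?_, Cfsg.Agent.Lib.Helper73.suzuki_maximal_class n S hn E' (hE'card.trans hcard) hCE'⟩
      rw [hE'card, hcard, hn] at hlt
      exact (Nat.pow_lt_pow_iff_right hpp.one_lt).1 hlt
    · obtain ⟨x, hxE', hxC⟩ :=
        exists_centralizer_eq_of_abelian_sq (X := S) hS E' (hE'card.trans hcard) hAc hCE' hne'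
      refine ⟨x, ?_, ?_⟩
      · apply Subtype.ext
        exact (hab (x : Ω) (mem_subgroupOf.1 hxE')).1
      · rw [hxC, hE'card, hcard]
  · -- the nonabelian pearl
    have hBna : ∃ b₁ ∈ E', ∃ b₂ ∈ E', b₁ * b₂ ≠ b₂ * b₁ := by
      by_contra hcon
      push Not at hcon
      apply hna
      refine ⟨⟨fun a b => ?_⟩⟩
      apply Subtype.ext
      have := hcon ⟨a, hES a.2⟩ (mem_subgroupOf.2 a.2) ⟨b, hES b.2⟩ (mem_subgroupOf.2 b.2)
      exact congrArg (fun t : S => (t : Ω)) this
    refine ⟨?_, ?_⟩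
    · intro n hn
      refine ⟨?_, Cfsg.Agent.Lib.Helper73.maximal_class_of_nonabelian_cube n hn E' (hE'card.trans hcard)
        hBna hCE'⟩
      rw [hE'card, hcard, hn] at hlt
      have := (Nat.pow_lt_pow_iff_right hpp.one_lt).1 hlt
      omega
    · obtain ⟨hZcard, hZB, hcomm⟩ :=
        center_facts_of_nonabelian_cube (X := S) hS E' (hE'card.trans hcard) hBna hCE'
      have hZES : ∀ z ∈ E, (∀ c ∈ E, z * c = c * z) → ∀ s ∈ S, z * s = s * z := by
        intro z hz hzc s hs
        have h1 : (⟨z, hES hz⟩ : S) ∈ center S := by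
          apply hZB _ (mem_subgroupOf.2 hz)
          intro c hc
          apply Subtype.ext
          exact hzc (c : Ω) (mem_subgroupOf.1 hc)
        have h2 := mem_center_iff.1 h1 ⟨s, hs⟩
        exact (congrArg Subtype.val h2).symm
      have hZE' : center S ≤ E' := (Subgroup.center_le_centralizer _).trans hCE'
      have hT : ∀ g : S, (∀ b ∈ E', g * b * g⁻¹ * b⁻¹ ∈ center S) → g ∈ E' := by
        intro g hg
        rw [hE'def, mem_subgroupOf]
        apply mem_of_commutators_central hS F E hE' hZES g.2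
        intro b hb
        have h1 := hg ⟨b, hES hb⟩ (mem_subgroupOf.2 hb)
        refine ⟨mem_subgroupOf.1 (hZE' h1), fun c hc => ?_⟩
        have h2 := mem_center_iff.1 h1 ⟨c, hES hc⟩
        exact (congrArg Subtype.val h2).symm
      obtain ⟨y, hyE', hycard⟩ :=
        exists_centralizer_card_of_nonabelian_cube (X := S) hS E' (hE'card.trans hcard) hBna hCE' hne' hT
      refine ⟨y, ?_, hycard⟩
      have hexp := pow_eq_one_of_spe_cube (H := ↥E) hp hcard hna (F.autGroup E) M hM
      apply Subtype.ext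
      have := hexp ⟨(y : Ω), mem_subgroupOf.1 hyE'⟩
      have h3 := congrArg (fun t : E => (t : Ω)) this
      simpa using h3

end Cfsg.Agent.Lib.Helper85.Pearl
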