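import Mathlib
import Cfsg.Agent.Lib.Helper85.PearlExp
import Cfsg.Agent.Lib.Helper86.EssChain2
import Cfsg.Agent.Lib.Helper87.SL2Inv
import Cfsg.Agent.Lib.Helper87.FusionFrattini
import Cfsg.Agent.Lib.Helper87.FusionFully
import Cfsg.Agent.Lib.Helper88.FusionEssential
import Cfsg.Agent.S3074

/-!
# Pearls at `p = 3`, `|S| = 27`: module [FUS27] of helper87's plan for S5239 (helper85)

`pearl_card27`: if a saturated fusion system over a group `S` of order `27` has an essential subgroup `E` which is a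
pearl, then `S` is extraspecial of order `27` and exponent `3`.

Proof. `E ≠ S`, so `E` is elementary abelian of order `9`, normal and self-centralizing in `S`.  As `Out_F(E) = Aut_F(E)`
has a strongly `3`-embedded subgroup, the `3`-elements of `Aut_F(E)` do not all lie in `Aut_S(E)`, so (`SL₂`-lemma)
the inversion `τ` of `E` lies in `Aut_F(E)`.  It commutes with `Aut_S(E)`, so it extends to a map `θ : S → S` of the
system.  For `g ∈ S`, `g⁻¹ θ(g)` centralizes `E`, so lies in `E`; cubing is an endomorphism of `S` killing `E`, so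
`θ(g)³ = g³`; but `g³ ∈ Z(S) ≤ E`, so `θ(g³) = g⁻³`, whence `g⁶ = 1` and `g³ = 1`.
-/

set_option autoImplicit false
set_option linter.unusedSectionVars false
set_option linter.unusedVariables false
set_option maxHeartbeats 800000

namespace Cfsg.Agent.Lib.Helper85.PearlFus27

open Subgroup Cfsg Cfsg.FusionSystem
open Cfsg.Agent.Lib.Helper87

/-- A group of order `27` containing a self-centralizing normal subgroup `E ≠ ⊤` of exponent `3`, and having an
endomorphism inverting `E`, is nonabelian of exponent `3`. -/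
theorem pow_three_eq_one_of_inverting {H : Type*} [Group H] [Finite H] (hcard : Nat.card H = 3 ^ 3)
    (E : Subgroup H) (hEn : E.Normal) (hEexp : ∀ e ∈ E, e ^ 3 = 1)
    (hCE : Subgroup.centralizer (E : Set H) ≤ E) (hEne : E ≠ ⊤)
    (θ : H →* H) (hθ : ∀ e ∈ E, θ e = e⁻¹) :
    (∃ a b : H, a * b ≠ b * a) ∧ ∀ g : H, g ^ 3 = 1 := by
  have : Fact (Nat.Prime 3) := ⟨Nat.prime_three⟩
  have hna' : ∃ a b : H, a * b ≠ b * a := by
    by_contra hcon
    push Not at hcon
    apply hEne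
    rw [eq_top_iff]
    intro x _
    apply hCE
    rw [mem_centralizer_iff]
    intro e _
    exact hcon e x
  have hna : ¬ IsMulCommutative H := by
    intro h
    obtain ⟨a, b, hab⟩ := hna'
    exact hab (h.is_comm.comm a b)
  refine ⟨hna', ?_⟩
  obtain ⟨hzp, hmul, hcen⟩ := Cfsg.Agent.Lib.Helper85.Pearl.pow_hom_facts (p := 3) (by norm_num) hcard hna
  intro g
  have hconj : ∀ e ∈ E, θ g * e * (θ g)⁻¹ = g * e * g⁻¹ := by
    intro e he
    have he' : g * e⁻¹ * g⁻¹ ∈ E := hEn.conj_mem e⁻¹ (E.inv_mem he) g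
    have h1 := hθ _ he'
    rw [map_mul, map_mul, map_inv, map_inv, hθ _ he, inv_inv] at h1
    rw [h1]
    group
  have h1 : g⁻¹ * θ g ∈ E := by
    apply hCE
    rw [mem_centralizer_iff]
    intro e he
    have h2 := hconj e he
    have h3 : θ g * e = g * e * g⁻¹ * θ g := by
      rw [← h2]; group
    rw [mul_assoc, h3]
    group
  have h2 : (θ g) ^ 3 = g ^ 3 := by
    have e1 : θ g = g * (g⁻¹ * θ g) := by group
    rw [e1, hmul, hEexp _ h1, mul_one]
  have h3 : g ^ 3 ∈ E := hCE (Subgroup.center_le_centralizer _ (hcen g))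
  have h4 : θ (g ^ 3) = (g ^ 3)⁻¹ := hθ _ h3
  have h5 : g ^ 3 = (g ^ 3)⁻¹ := by rw [← h4, map_pow, h2]
  have h6 : (g ^ 3) ^ 3 = 1 := hzp _ (hcen g)
  have h7 : g ^ 3 * g ^ 3 = 1 := by
    nth_rewrite 1 [h5]
    exact inv_mul_cancel _
  have h8 : (g ^ 3) ^ 3 = g ^ 3 * g ^ 3 * g ^ 3 := by
    rw [pow_succ, pow_two]
  rw [h8, h7, one_mul] at h6
  exact h6

variable {Ω : Type*} [Group Ω] {S : Subgroup Ω}

/-- The inversion of an abelian essential subgroup `E` of order `9` and exponent `3` is a map of the system. -/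
theorem exists_inverting_aut [Finite S] (hS : IsPGroup 3 S) (F : FusionSystem S) [Fact (Nat.Prime 3)]
    (E : Subgroup Ω) (hE : F.IsEssential 3 E) (hcardE : Nat.card E = 9)
    (hEc : ∀ a b : E, a * b = b * a) (hEe : ∀ a : E, a ^ 3 = 1)
    (g₀ : Ω) (hg₀S : g₀ ∈ S) (hg₀N : g₀ ∈ normalizer (E : Set Ω)) (hg₀E : g₀ ∉ E) :
    ∃ τ ∈ F.autGroup E, ∀ w : E, τ w = w⁻¹ := by
  obtain ⟨hcen, hfn, hN, M, hM⟩ := hE
  have hES : E ≤ S := hcen.1
  have hfinE : Finite E := finite_of_le hES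
  have hcE : centralizerIn S E ≤ E := hcen.2 E (isConj_refl F hES)
  obtain ⟨t, ht⟩ : ∃ t : MulAut E, t = conjAut E g₀ hg₀N := ⟨_, rfl⟩
  have htS : t ∈ autInducedBy S E := (mem_autInducedBy_iff _ _ _).2 ⟨g₀, hg₀S, fun _ => by rw [ht]; rfl⟩
  have htA : t ∈ F.autGroup E := autInducedBy_le_autGroup F hES htS
  have ht1 : t ≠ 1 := by
    intro h
    apply hg₀E
    apply hcE
    refine ⟨hg₀S, ?_⟩
    show g₀ ∈ centralizer (E : Set Ω)
    rw [mem_centralizer_iff]
    intro e he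
    have h1 := congrArg (fun f : MulAut E => ((f ⟨e, he⟩ : E) : Ω)) h
    rw [ht] at h1
    have h2 : g₀ * e * g₀⁻¹ = e := h1
    calc e * g₀ = (g₀ * e * g₀⁻¹) * g₀ := by rw [h2]
      _ = g₀ * e := by group
  obtain ⟨a, hta0⟩ := autInducedBy_isPGroup hS E ⟨t, htS⟩
  have hta : t ^ 3 ^ a = 1 := congrArg Subtype.val hta0
  by_cases hall : ∀ t' ∈ F.autGroup E, (∃ b : ℕ, t' ^ 3 ^ b = 1) → t' ∈ zpowers t
  · exfalso
    have hle : zpowers t ≤ Cfsg.Inn E := by
      refine Cfsg.Agent.Lib.Helper86.normal_pSubgroup_le_inn (F.autGroup E) M hM (zpowers t) ?_ ?_ ?_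
      · rw [zpowers_le]; exact htA
      · rintro ⟨x, hx⟩
        obtain ⟨n, rfl⟩ := mem_zpowers_iff.1 hx
        refine ⟨a, Subtype.ext ?_⟩
        show (t ^ n) ^ 3 ^ a = 1
        rw [← zpow_natCast, ← zpow_mul, mul_comm, zpow_mul, zpow_natCast, hta, one_zpow]
      · intro α hα β hβ
        obtain ⟨n, rfl⟩ := mem_zpowers_iff.1 hβ
        have h1 : α * t * α⁻¹ ∈ zpowers t := by
          apply hall _ (mul_mem (mul_mem hα htA) (inv_mem hα))
          refine ⟨a, ?_⟩
          rw [conj_pow, hta, mul_one, mul_inv_cancel]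
        rw [← conj_zpow]
        exact zpow_mem h1 n
    obtain ⟨u, hu⟩ := hle (mem_zpowers t)
    apply ht1
    rw [← hu]
    ext x
    show ((u * x * u⁻¹ : E) : Ω) = x
    rw [hEc u x, mul_inv_cancel_right]
  · push Not at hall
    obtain ⟨t', ht'A, ⟨b, ht'b⟩, ht'ne⟩ := hall
    obtain ⟨-, τ, hτA, hτ⟩ := exists_inverting (p := 3) (by norm_num) hEc hEe (by rw [hcardE]; norm_num)
      (F.autGroup E) t t' htA ht'A ht1 hta ht'b ht'ne
    exact ⟨τ, hτA, hτ⟩

/-- The inversion of an abelian normal essential subgroup extends to the whole of `S`. -/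
theorem exists_inverting_hom [Finite S] (hS : IsPGroup 3 S) (F : FusionSystem S) (hF : F.IsSaturated 3)
    [Fact (Nat.Prime 3)] (E : Subgroup Ω) (hE : F.IsEssential 3 E) (hSN : S ≤ normalizer (E : Set Ω))
    (τ : MulAut E) (hτA : τ ∈ F.autGroup E) (hτ : ∀ w : E, τ w = w⁻¹) :
    ∃ θ : S →* S, ∀ e : S, (e : Ω) ∈ E → θ e = e⁻¹ := by
  obtain ⟨hcen, hfn, -⟩ := hE
  have hES : E ≤ S := hcen.1
  have hRr : F.IsReceptive E := (fullyAutomized_receptive_of_fullyNormalized F hS hF hfn).2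
  obtain ⟨X, ψ, hψ, hEX, hXN, hψτ, hXmem⟩ := exists_extension_aut F hES hRr τ hτA
  have hτinv : ∀ w : E, τ⁻¹ w = w⁻¹ := by
    intro w
    have h1 : τ w⁻¹ = w := by rw [hτ, inv_inv]
    conv_lhs => rw [← h1]
    exact MulAut.inv_apply_self E τ w⁻¹
  have hSX : S ≤ X := by
    intro g hg
    have hgN : g ∈ normalizerIn S E := ⟨hg, hSN hg⟩
    apply hXmem g hgN
    have h1 : τ * conjAut E g hgN.2 * τ⁻¹ = conjAut E g hgN.2 := by
      ext x
      show ((τ (conjAut E g hgN.2 (τ⁻¹ x)) : E) : Ω) = _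
      rw [hτinv, hτ, map_inv, inv_inv]
    rw [h1]
    exact (mem_autInducedBy_iff _ _ _).2 ⟨g, hg, fun _ => rfl⟩
  refine ⟨(ψ.comp (Subgroup.inclusion hSX)).codRestrict S (fun s => (F.le_of_mem hψ).2 _), ?_⟩
  intro e he
  apply Subtype.ext
  show ψ ⟨(e : Ω), hSX e.2⟩ = ((e⁻¹ : S) : Ω)
  rw [hψτ (e : Ω) he (hSX e.2), hτ]
  rfl

/-- **Module [FUS27].** -/
theorem pearl_card27 {Ω : Type*} [Group Ω] {S : Subgroup Ω} [Finite S] (hS : IsPGroup 3 S)
    (F : Cfsg.FusionSystem S) (hF : F.IsSaturated 3) [Fact (Nat.Prime 3)] (E : Subgroup Ω)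
    (hE : F.IsEssential 3 E)
    (hpearl : (Nat.card E = 9 ∧ ∀ x ∈ E, x ^ 3 = 1 ∧ IsMulCommutative ↥E) ∨
      (Nat.card E = 27 ∧ ¬ IsMulCommutative ↥E))
    (hcard : Nat.card S = 27) :
    Cfsg.IsExtraspecial 3 ↥S ∧ Nat.card S = 27 ∧ Monoid.exponent ↥S = 3 := by
  have hEne : E ≠ S := Cfsg.Agent.Lib.Helper88.ne_top_of_essential F hF hE
  have hES : E ≤ S := hE.1.1
  have hfinE : Finite E := finite_of_le hES
  have hcE : centralizerIn S E ≤ E := hE.1.2 E (isConj_refl F hES)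
  have h9 : Nat.card E = 9 ∧ ∀ x ∈ E, x ^ 3 = 1 ∧ IsMulCommutative ↥E := by
    rcases hpearl with h | ⟨h, -⟩
    · exact h
    · exfalso
      apply hEne
      exact Subgroup.eq_of_le_of_card_ge hES (by rw [h, hcard])
  obtain ⟨hcardE, hab⟩ := h9
  have hcomm : IsMulCommutative ↥E := (hab 1 (one_mem _)).2
  have hEc : ∀ a b : E, a * b = b * a := fun a b => hcomm.is_comm.comm a b
  have hEe : ∀ a : E, a ^ 3 = 1 := fun a => Subtype.ext (by simpa using (hab a.1 a.2).1)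
  obtain ⟨E', hE'def⟩ : ∃ E' : Subgroup S, E' = E.subgroupOf S := ⟨_, rfl⟩
  have hmemE' : ∀ x : S, x ∈ E' ↔ (x : Ω) ∈ E := fun x => by rw [hE'def, mem_subgroupOf]
  have hE'card : Nat.card E' = 9 := by
    rw [hE'def]
    exact (Nat.card_congr (Subgroup.subgroupOfEquivOfLe hES).toEquiv).trans hcardE
  have hE'n : E'.Normal := by
    apply Subgroup.normal_of_index_eq_minFac_card
    have h1 := E'.card_mul_index
    rw [hE'card, hcard] at h1
    have h2 : E'.index = 3 := by omega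
    rw [h2, hcard]
    norm_num
  have hSN : S ≤ normalizer (E : Set Ω) := by
    intro g hg
    apply Subgroup.mem_normalizer_fintype
    intro h hh
    have h1 := hE'n.conj_mem ⟨h, hES hh⟩ ((hmemE' _).2 hh) ⟨g, hg⟩
    exact (hmemE' _).1 h1
  obtain ⟨g₀, hg₀S, hg₀E⟩ := SetLike.exists_of_lt (lt_of_le_of_ne hES hEne)
  obtain ⟨τ, hτA, hτ⟩ := exists_inverting_aut hS F E hE hcardE hEc hEe g₀ hg₀S (hSN hg₀S) hg₀E
  obtain ⟨θ, hθ⟩ := exists_inverting_hom hS F hF E hE hSN τ hτA hτ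
  have hCE' : centralizer (E' : Set S) ≤ E' := by
    intro g hg
    rw [hmemE']
    apply hcE
    refine ⟨g.2, ?_⟩
    show (g : Ω) ∈ centralizer (E : Set Ω)
    rw [mem_centralizer_iff] at hg ⊢
    intro e he
    have := hg ⟨e, hES he⟩ ((hmemE' _).2 he)
    exact congrArg Subtype.val this
  have hne' : E' ≠ ⊤ := by
    intro h
    apply hEne
    rw [hE'def, subgroupOf_eq_top] at h
    exact le_antisymm hES h
  have hcard3 : Nat.card S = 3 ^ 3 := by rw [hcard]; norm_num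
  obtain ⟨hna, hexp⟩ := pow_three_eq_one_of_inverting hcard3 E' hE'n
    (fun e he => Subtype.ext (by simpa using (hab (e : Ω) ((hmemE' e).1 he)).1)) hCE' hne' θ
    (fun e he => hθ e ((hmemE' e).1 he))
  refine ⟨Cfsg.Agent.S3074.isExtraspecial_of_card_cube (p := 3) hcard3 hna hexp, hcard, ?_⟩
  have hdvd : Monoid.exponent ↥S ∣ 3 := Monoid.exponent_dvd_of_forall_pow_eq_one hexp
  rcases (Nat.dvd_prime Nat.prime_three).mp hdvd with h1 | h1
  · exfalso
    have hsub : Subsingleton ↥S := Monoid.exp_eq_one_iff.mp h1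
    have : Nat.card ↥S = 1 := Nat.card_eq_one_iff_unique.mpr ⟨hsub, ⟨1⟩⟩
    omega
  · exact h1

end Cfsg.Agent.Lib.Helper85.PearlFus27
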