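import Cfsg.Agent.Lib.Helper85.FusionQuotSat
import Cfsg.Agent.Lib.Helper87.FusionLift

/-!
# The subgroup correspondence for a factor system

For `θ : S →* Ω'` with kernel `K` (strongly closed in `F`) and image `S'`: full preimages of subgroups of `S'`, their
normalizers, orders, and the transfer of "fully normalized" and "centric" from the factor system to `F`.
-/

set_option autoImplicit false

namespace Cfsg.Agent.Lib.Helper85

open Cfsg Cfsg.FusionSystem

variable {Ω : Type*} [Group Ω] {S : Subgroup Ω} {Ω' : Type*} [Group Ω'] {S' : Subgroup Ω'}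

section corr

variable {K : Subgroup Ω} (θ : S →* Ω') (hKS : K ≤ S) (hker : ∀ s : S, θ s = 1 ↔ (s : Ω) ∈ K)

include hKS hker in
theorem ker_le_preimageAlong (X' : Subgroup Ω') : K ≤ preimageAlong θ X' := by
  intro k hk
  rw [mem_preimageAlong_iff]
  refine ⟨hKS hk, ?_⟩
  rw [(hker ⟨k, hKS hk⟩).mpr hk]
  exact X'.one_mem

/-- The full preimage of `N_{S'}(X')` is `N_S` of the full preimage of `X'`. -/
theorem preimageAlong_normalizerIn {X' : Subgroup Ω'} (hX' : X' ≤ θ.range) :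
    preimageAlong θ (normalizerIn θ.range X') = normalizerIn S (preimageAlong θ X') := by
  ext x
  rw [mem_preimageAlong_iff]
  constructor
  · rintro ⟨hxS, -, hxN⟩
    refine ⟨hxS, ?_⟩
    show x ∈ Subgroup.normalizer ((preimageAlong θ X' : Subgroup Ω) : Set Ω)
    rw [Subgroup.mem_normalizer_iff]
    have hxN' := Subgroup.mem_normalizer_iff.mp hxN
    intro y
    rw [mem_preimageAlong_iff, mem_preimageAlong_iff]
    constructor
    · rintro ⟨hyS, hyX⟩
      refine ⟨S.mul_mem (S.mul_mem hxS hyS) (S.inv_mem hxS), ?_⟩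
      have e : (⟨x * y * x⁻¹, S.mul_mem (S.mul_mem hxS hyS) (S.inv_mem hxS)⟩ : S) =
          ⟨x, hxS⟩ * ⟨y, hyS⟩ * ⟨x, hxS⟩⁻¹ := rfl
      rw [e, map_mul, map_mul, map_inv]
      exact (hxN' _).mp hyX
    · rintro ⟨hS, hX⟩
      have hyS : y ∈ S := by
        have : y = x⁻¹ * (x * y * x⁻¹) * x := by group
        rw [this]
        exact S.mul_mem (S.mul_mem (S.inv_mem hxS) hS) hxS
      refine ⟨hyS, ?_⟩
      have e : (⟨x * y * x⁻¹, hS⟩ : S) = ⟨x, hxS⟩ * ⟨y, hyS⟩ * ⟨x, hxS⟩⁻¹ := rfl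
      rw [e, map_mul, map_mul, map_inv] at hX
      exact (hxN' _).mpr hX
  · rintro ⟨hxS, hxN⟩
    refine ⟨hxS, ⟨⟨x, hxS⟩, rfl⟩, ?_⟩
    have hxN' := Subgroup.mem_normalizer_iff.mp hxN
    show θ ⟨x, hxS⟩ ∈ Subgroup.normalizer ((X' : Subgroup Ω') : Set Ω')
    rw [Subgroup.mem_normalizer_iff]
    intro y'
    constructor
    · intro hy'
      obtain ⟨s, rfl⟩ := hX' hy'
      have h1 : (s : Ω) ∈ preimageAlong θ X' := (mem_preimageAlong_iff θ X' s).mpr ⟨s.2, hy'⟩
      have h2 := (hxN' _).mp h1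
      obtain ⟨h3, h4⟩ := (mem_preimageAlong_iff θ X' _).mp h2
      have e : (⟨x * (s : Ω) * x⁻¹, h3⟩ : S) = ⟨x, hxS⟩ * s * ⟨x, hxS⟩⁻¹ := rfl
      rw [e, map_mul, map_mul, map_inv] at h4
      exact h4
    · intro hy'
      obtain ⟨w, hw⟩ := hX' hy'
      have h1 : (w : Ω) ∈ preimageAlong θ X' := (mem_preimageAlong_iff θ X' w).mpr ⟨w.2, by rw [hw]; exact hy'⟩
      have hxinv : x⁻¹ ∈ Subgroup.normalizer ((preimageAlong θ X' : Subgroup Ω) : Set Ω) :=
        Subgroup.inv_mem _ hxN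
      have h2 := (Subgroup.mem_normalizer_iff.mp hxinv _).mp h1
      obtain ⟨h3, h4⟩ := (mem_preimageAlong_iff θ X' _).mp h2
      have e : (⟨x⁻¹ * (w : Ω) * x⁻¹⁻¹, h3⟩ : S) = ⟨x, hxS⟩⁻¹ * w * ⟨x, hxS⟩⁻¹⁻¹ := rfl
      rw [e, inv_inv, map_mul, map_mul, map_inv, hw] at h4
      have e2 : (θ ⟨x, hxS⟩)⁻¹ * (θ ⟨x, hxS⟩ * y' * (θ ⟨x, hxS⟩)⁻¹) * θ ⟨x, hxS⟩ = y' := by group
      rwa [e2] at h4

include hKS hker in
/-- The order of a full preimage. -/
theorem card_preimageAlong [Finite S] {X' : Subgroup Ω'} (hX' : X' ≤ θ.range) :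
    Nat.card (preimageAlong θ X') = Nat.card X' * Nat.card K := by
  have hle : K ≤ preimageAlong θ X' := ker_le_preimageAlong θ hKS hker X'
  have hsurj := preimageRestrict_surjective θ hX'
  have hk : (preimageRestrict θ X').ker = K.subgroupOf (preimageAlong θ X') := by
    ext x
    rw [MonoidHom.mem_ker, Subgroup.mem_subgroupOf]
    constructor
    · intro h
      exact (hker _).mp (congrArg Subtype.val h)
    · intro h
      exact Subtype.ext ((hker ⟨x, preimageAlong_le θ X' x.2⟩).mpr h)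
  have h1 := Subgroup.card_eq_card_quotient_mul_card_subgroup (preimageRestrict θ X').ker
  have h2 : Nat.card (↥(preimageAlong θ X') ⧸ (preimageRestrict θ X').ker) = Nat.card X' :=
    Nat.card_congr (QuotientGroup.quotientKerEquivOfSurjective _ hsurj).toEquiv
  have h3 : Nat.card (preimageRestrict θ X').ker = Nat.card K := by
    rw [hk]
    exact Nat.card_congr (Subgroup.subgroupOfEquivOfLe hle).toEquiv
  rw [h1, h2, h3]

end corr

section transfer

variable (F : FusionSystem S) {K : Subgroup Ω} (hK : F.StronglyClosed K) (θ : S →* Ω')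
  (E : FusionSystem S') (hE : F.IsFactorSystem K θ E)

include hK hE in
/-- An `F`-conjugate of the full preimage of `R'` is the full preimage of an `E`-conjugate of `R'`. -/
theorem exists_isConj_of_isConj_preimageAlong [Finite S] {R' : Subgroup Ω'} (hR' : R' ≤ S') {R₂ : Subgroup Ω}
    (h : F.IsConj (preimageAlong θ R') R₂) :
    ∃ R₂' : Subgroup Ω', R₂' ≤ S' ∧ E.IsConj R' R₂' ∧ R₂ = preimageAlong θ R₂' := by
  obtain ⟨hKS, hker, hrange, hHom⟩ := hE
  obtain ⟨φ, hφ, hφr⟩ := h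
  have hR'r : R' ≤ θ.range := hrange ▸ hR'
  have hKP : K ≤ preimageAlong θ R' := ker_le_preimageAlong θ hKS hker R'
  have hKR₂ : K ≤ R₂ := by
    intro k hk
    obtain ⟨x, -, hx⟩ := stronglyClosed_surj F hK hφ hKP k hk
    rw [← hφr]
    exact ⟨x, hx⟩
  have hφS : ∀ x, φ x ∈ S := (F.le_of_mem hφ).2
  have hR₂S : R₂ ≤ S := by
    rw [← hφr]
    rintro _ ⟨x, rfl⟩
    exact hφS x
  have hkerφ : ∀ x : ↥(preimageAlong θ R'), θ ⟨x, preimageAlong_le θ _ x.2⟩ = 1 → θ ⟨φ x, hφS x⟩ = 1 := by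
    intro x hx
    have h1 : (x : Ω) ∈ K := (hker _).mp hx
    exact (hker _).mpr ((stronglyClosed_apply_mem_iff F hK hφ x).mpr h1)
  have hpre : preimageAlong θ (imageAlong θ R₂) = R₂ := by
    rw [Cfsg.Agent.Lib.Helper87.preimageAlong_imageAlong θ hker hKS hR₂S]
    exact sup_of_le_left hKR₂
  refine ⟨imageAlong θ R₂, ?_, ⟨inducedHom θ hR'r φ hφS hkerφ, ?_, ?_⟩, hpre.symm⟩
  · rintro _ ⟨x, -, rfl⟩
    exact hrange ▸ ⟨x, rfl⟩
  · rw [hHom]
    exact ⟨hR', φ, hφ, inducedAlong_inducedHom θ hR'r φ hφS hkerφ⟩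
  · ext y
    constructor
    · rintro ⟨z, rfl⟩
      obtain ⟨x, hx⟩ := exists_θp_eq θ hR'r z
      have hz : z = ⟨θp θ R' x, θp_mem θ R' x⟩ := Subtype.ext hx.symm
      rw [hz]
      have h1 := inducedHom_apply θ hR'r φ hφS hkerφ x (θp_mem θ R' x)
      refine (congrArg (· ∈ imageAlong θ R₂) h1).mpr ?_
      rw [mem_imageAlong_iff]
      exact ⟨φ x, hφS x, hφr ▸ ⟨x, rfl⟩, rfl⟩
    · intro hy
      rw [mem_imageAlong_iff] at hy
      obtain ⟨s, hsS, hsR, rfl⟩ := hy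
      rw [← hφr] at hsR
      obtain ⟨x, hx⟩ := hsR
      refine ⟨⟨θp θ R' x, θp_mem θ R' x⟩, ?_⟩
      have h1 := inducedHom_apply θ hR'r φ hφS hkerφ x (θp_mem θ R' x)
      refine h1.trans ?_
      congr 1
      exact Subtype.ext hx

include hK hE in
/-- The full preimage of a fully normalized subgroup of the factor system is fully normalized. -/
theorem isFullyNormalized_preimageAlong [Finite S] {R' : Subgroup Ω'} (hR' : E.IsFullyNormalized R') :
    F.IsFullyNormalized (preimageAlong θ R') := by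
  refine ⟨preimageAlong_le θ R', fun R₂ h => ?_⟩
  obtain ⟨R₂', hR₂'S, hconj, rfl⟩ := exists_isConj_of_isConj_preimageAlong F hK θ E hE hR'.1 h
  obtain ⟨hKS, hker, hrange, hHom⟩ := hE
  have h1 := hR'.2 R₂' hconj
  have hn : ∀ X' : Subgroup Ω', normalizerIn θ.range X' ≤ θ.range := fun X' => inf_le_left
  rw [← preimageAlong_normalizerIn θ (hrange ▸ hR₂'S), ← preimageAlong_normalizerIn θ (hrange ▸ hR'.1),
    card_preimageAlong θ hKS hker (hn _), card_preimageAlong θ hKS hker (hn _), hrange]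
  exact Nat.mul_le_mul_right _ h1

include hK hE in
/-- The full preimage of a centric subgroup of the factor system is centric. -/
theorem isCentric_preimageAlong [Finite S] {R' : Subgroup Ω'} (hR' : E.IsCentric R') :
    F.IsCentric (preimageAlong θ R') := by
  refine ⟨preimageAlong_le θ R', fun R₂ h => ?_⟩
  obtain ⟨R₂', hR₂'S, hconj, rfl⟩ := exists_isConj_of_isConj_preimageAlong F hK θ E hE hR'.1 h
  obtain ⟨hKS, hker, hrange, hHom⟩ := hE
  have h1 := hR'.2 R₂' hconj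
  rintro x ⟨hxS, hxC⟩
  rw [mem_preimageAlong_iff]
  refine ⟨hxS, h1 ⟨hrange ▸ ⟨⟨x, hxS⟩, rfl⟩, ?_⟩⟩
  show θ ⟨x, hxS⟩ ∈ Subgroup.centralizer ((R₂' : Subgroup Ω') : Set Ω')
  rw [Subgroup.mem_centralizer_iff]
  intro y' hy'
  obtain ⟨s, rfl⟩ : y' ∈ θ.range := hrange ▸ hR₂'S hy'
  have hs : (s : Ω) ∈ preimageAlong θ R₂' := (mem_preimageAlong_iff θ R₂' s).mpr ⟨s.2, hy'⟩
  have h2 := (Subgroup.mem_centralizer_iff.mp hxC) _ hs
  rw [← map_mul, ← map_mul]
  congr 1
  exact Subtype.ext h2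

end transfer

end Cfsg.Agent.Lib.Helper85
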