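import Mathlib
import Cfsg.Agent.Lib.Helper85.SqfDefs
import Cfsg.Agent.Lib.Helper85.SqfAux
import Cfsg.Agent.Lib.Helper52.SqfSSFinal
import Cfsg.Agent.Lib.Helper52.SqfIdxMFinal
import Cfsg.Agent.Lib.Helper46.SqfIdxF
import Cfsg.Agent.Lib.Helper50.Sqf.IdxUOf
import Cfsg.Agent.Lib.Helper46.SqfIdx
import Cfsg.Agent.Lib.Helper46.SqfClass2
import Cfsg.Agent.Lib.Helper48.Sqf.SqfDB
import Cfsg.Agent.Lib.Helper84.SqfKnoche
import Cfsg.Agent.Lib.Helper50.Sqf.DerBaseOf
import Cfsg.Agent.Lib.Helper46.SqfDer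

/-!
# Project SQF (S4130): glue - the top-level module results assembled from the landed modules (helper85)

Modules by helper1, helper14/helper48, helper36, helper42, helper46, helper50, helper52, helper73, helper81,
helper84, helper88, helper97 (see `Cfsg/Agent/Lib/Helper85/Sqf/SQF_SHEET.md`).
-/

set_option autoImplicit false

universe u

namespace Cfsg.Agent.Lib.Helper85.Sqf.Glue

open Cfsg Cfsg.Agent.Lib.Helper85.Sqf

/-- [SS] -/
theorem isSupersolvable_of_sqF {G : Type u} [Group G] [Finite G] [Group.IsSolvable G]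
    (h : SqF G) : Cfsg.IsSupersolvable G :=
  Cfsg.Agent.Lib.Helper52.Sqf.isSupersolvable_of_sqF h

/-- [IDX-U] -/
theorem exists_fitting_witness {G : Type*} [Group G] [Finite G] (h : SqF G)
    (hab : commutator G ≤ fittingSubgroup G) (q : ℕ) [Fact q.Prime] :
    ∃ u ∈ fittingSubgroup G, ∀ y : G, (∃ k : ℕ, orderOf y = q ^ k) → y * u = u * y →
      y ∈ fittingSubgroup G :=
  Cfsg.Agent.Lib.Helper50.Sqf.exists_fitting_witness_of q
    (fun p hp hpq x x1 hx hx1 hnx hnx1 => by
      haveI : Fact p.Prime := ⟨hp⟩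
      exact Cfsg.Agent.Lib.Helper52.Sqf.pCore_inf_centralizer_eq h hab hpq x x1 hx hx1 hnx hnx1)
    (fun x hx hc => Cfsg.Agent.Lib.Helper46.Sqf.mem_fitting_of_centralizes_pCores hab x hx hc)

/-- [IDX] -/
theorem squarefree_index_fitting {G : Type*} [Group G] [Finite G] (h : SqF G)
    (hab : commutator G ≤ fittingSubgroup G) : Squarefree (fittingSubgroup G).index :=
  Cfsg.Agent.Lib.Helper46.Sqf.squarefree_index_fitting_of h
    (fun q _ => exists_fitting_witness h hab q)

/-- [CLASS2] -/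
theorem upperCentralSeries_fitting_two {G : Type*} [Group G] [Finite G] (h : SqF G) :
    Subgroup.upperCentralSeries ↥(fittingSubgroup G) 2 = ⊤ :=
  Cfsg.Agent.Lib.Helper46.Sqf.upperCentralSeries_fitting_two h

/-- [DER-BASE] -/
theorem card_commutator_dvd_of_fitting_pGroup {G : Type*} [Group G] [Finite G] (h : SqF G)
    {p : ℕ} [Fact p.Prime] (hF : IsPGroup p (fittingSubgroup G))
    (hCF : Subgroup.centralizer (fittingSubgroup G : Set G) ≤ fittingSubgroup G)
    (hab : commutator G ≤ fittingSubgroup G) (hcyc : IsCyclic (G ⧸ fittingSubgroup G)) :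
    Nat.card (commutator G) ∣ p :=
  Cfsg.Agent.Lib.Helper50.Sqf.card_commutator_dvd_of_fitting_pGroup_of
    (fun P hPn hP t m hm htm htop hnc => by
      haveI := hPn
      exact Cfsg.Agent.Lib.Helper48.Sqf.card_commutator_dvd_of_split h P hP t m hm htm htop hnc)
    (fun hG => Cfsg.Agent.Lib.Helper84.Sqf.card_commutator_dvd_of_pGroup h hG)
    hF hCF hab hcyc

/-- [DER] -/
theorem squarefree_card_commutator {G : Type u} [Group G] [Finite G] [Group.IsSolvable G]
    (h : SqF G) : Squarefree (Nat.card (commutator G)) :=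
  Cfsg.Agent.Lib.Helper46.Sqf.squarefree_card_commutator_of
    (fun H _ _ _ hH => isSupersolvable_of_sqF hH)
    (fun H _ _ hH hab => squarefree_index_fitting hH hab)
    (fun H _ _ hH p _ hF hCF hab hcyc => card_commutator_dvd_of_fitting_pGroup hH hF hCF hab hcyc)
    h

end Cfsg.Agent.Lib.Helper85.Sqf.Glue
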