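import Mathlib
import Cfsg.Agent.Lib.Helper85.SqfAux
import Cfsg.Agent.Lib.Helper85.SqfGlue

/-!
# Project SQF (S4130): final assembly (helper85)

`Sqf.main`: a finite solvable group all of whose class sizes are squarefree is supersolvable,
`G/F(G)` and `G'` are cyclic of squarefree order, `F(G)` has class at most 2, `G` is metabelian.
-/

set_option autoImplicit false

universe u

namespace Cfsg.Agent.Lib.Helper85.Sqf

open Cfsg

/-- **Chillag-Herzog** for solvable groups (solvability itself is S4167). -/
theorem main {G : Type u} [Group G] [Finite G] [Group.IsSolvable G] (h : SqF G) :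
    Cfsg.IsSupersolvable G ∧ (Cfsg.fittingSubgroup G).Normal ∧
    (∀ _h : (Cfsg.fittingSubgroup G).Normal,
      IsCyclic (G ⧸ Cfsg.fittingSubgroup G) ∧ Squarefree (Cfsg.fittingSubgroup G).index) ∧
    IsCyclic (commutator G) ∧ Squarefree (Nat.card (commutator G)) ∧
    Subgroup.upperCentralSeries ↥(Cfsg.fittingSubgroup G) 2 = ⊤ ∧
    commutator ↥(commutator G) = ⊥ := by
  have hss : Cfsg.IsSupersolvable G := Glue.isSupersolvable_of_sqF h
  have hab : commutator G ≤ fittingSubgroup G := commutator_le_fitting_of_isSupersolvable hss
  have hsq : Squarefree (Nat.card (commutator G)) := Glue.squarefree_card_commutator h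
  have hcyc : IsCyclic (commutator G) := isCyclic_commutator hss hsq
  have hidx : Squarefree (fittingSubgroup G).index := Glue.squarefree_index_fitting h hab
  refine ⟨hss, Cfsg.Agent.Lib.Helper1.fittingSubgroup_normal, ?_, hcyc, hsq,
    Glue.upperCentralSeries_fitting_two h, ?_⟩
  · intro hn
    exact ⟨isCyclic_quotient_fitting_of hab hidx hn, hidx⟩
  · rw [commutator_eq_bot_iff_center_eq_top]
    have : IsMulCommutative (commutator G) := IsCyclic.isMulCommutative
    rw [eq_top_iff]
    intro z _
    rw [Subgroup.mem_center_iff]
    intro g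
    exact IsMulCommutative.is_comm.comm g z

end Cfsg.Agent.Lib.Helper85.Sqf
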