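import Cfsg.Agent.Lib.Helper85.Suz2Main
import Cfsg.Agent.S0012

/-!
# SUZ2: the structure statement of Higman's theorem (helper85)

`SHyp.structure`: for a nonabelian `P` under `SHyp`, `P' = Φ(P) = Z(P) = {x | x² = 1}`.
-/

set_option autoImplicit false
set_option linter.style.haveILetI false

namespace Cfsg.Agent.Lib.Helper85.Suz2

open Cfsg.Agent.Lib.Helper19.Suz
open scoped commutatorElement

universe u

variable {P : Type u} [Group P] {Y : Subgroup (MulAut P)}

/-- a subgroup containing `Z0 P`, when all squares lie in `Z0 P`, and maximal subject to avoiding `x`,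
has index two -/
theorem frattini_le_of_sq (hsq : ∀ x : P, x * x ∈ Z0 P) [Finite P] : frattini P ≤ Z0 P := by
  classical
  intro x hx
  by_contra hxZ
  let S : Set (Subgroup P) := {H | Z0 P ≤ H ∧ x ∉ H}
  have hne : S.Nonempty := ⟨Z0 P, le_rfl, hxZ⟩
  obtain ⟨M, hM⟩ := S.toFinite.exists_maximal hne
  obtain ⟨⟨hZM, hxM⟩, hmax⟩ := hM
  -- `M` contains all squares
  have hsqM : ∀ y : P, y * y ∈ M := fun y => hZM (hsq y)
  -- commutators are products of squares
  have hcomm : ∀ a b : P, a⁻¹ * b⁻¹ * a * b ∈ M := by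
    intro a b
    have e : a⁻¹ * b⁻¹ * a * b = (a⁻¹ * a⁻¹) * ((a * b⁻¹) * (a * b⁻¹)) * (b * b) := by group
    rw [e]
    exact M.mul_mem (M.mul_mem (hsqM _) (hsqM _)) (hsqM _)
  have hnorm : ∀ m ∈ M, ∀ g : P, g * m * g⁻¹ ∈ M := by
    intro m hm g
    have e : g * m * g⁻¹ = m * (m⁻¹ * g * m * g⁻¹) := by group
    rw [e]
    refine M.mul_mem hm ?_
    have := hcomm m g⁻¹
    simpa using this
  -- every `y ∉ M` lies in `x M`
  have hcos : ∀ y : P, y ∉ M → x⁻¹ * y ∈ M := by
    intro y hy
    -- the subgroup `M ∪ yM`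
    let H : Subgroup P :=
      { carrier := {g | g ∈ M ∨ y⁻¹ * g ∈ M}
        one_mem' := Or.inl M.one_mem
        mul_mem' := by
          rintro a b (ha | ha) (hb | hb)
          · exact Or.inl (M.mul_mem ha hb)
          · right
            have e : y⁻¹ * (a * b) = (y⁻¹ * a * y⁻¹⁻¹) * (y⁻¹ * b) := by group
            rw [e]
            exact M.mul_mem (hnorm a ha y⁻¹) hb
          · right
            have e : y⁻¹ * (a * b) = (y⁻¹ * a) * b := by group
            rw [e]
            exact M.mul_mem ha hb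
          · left
            have e : a * b = (y * (y⁻¹ * a) * y⁻¹) * (y * y) * (y⁻¹ * b) := by group
            rw [e]
            exact M.mul_mem (M.mul_mem (hnorm _ ha y) (hsqM y)) hb
        inv_mem' := by
          rintro a (ha | ha)
          · exact Or.inl (M.inv_mem ha)
          · right
            have e : y⁻¹ * a⁻¹ = (y⁻¹ * (y⁻¹ * a)⁻¹ * y⁻¹⁻¹) * (y * y)⁻¹ := by group
            rw [e]
            exact M.mul_mem (hnorm _ (M.inv_mem ha) y⁻¹) (M.inv_mem (hsqM y)) }
    have hMH : M ≤ H := fun g hg => Or.inl hg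
    have hyH : y ∈ H := Or.inr (by simp [M.one_mem])
    by_contra hxy
    have hxH : x ∉ H := by
      rintro (h1 | h1)
      · exact hxM h1
      · apply hxy
        have e : x⁻¹ * y = (y⁻¹ * x)⁻¹ := by group
        rw [e]
        exact M.inv_mem h1
    have hHS : H ∈ S := ⟨hZM.trans hMH, hxH⟩
    have := hmax hHS hMH
    exact hy (this hyH)
  -- `M` is a coatom
  have hco : IsCoatom M := by
    refine ⟨fun htop => hxM (htop ▸ Subgroup.mem_top x), ?_⟩
    intro K hK
    obtain ⟨y, hyK, hyM⟩ := SetLike.exists_of_lt hK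
    have hxK : x ∈ K := by
      have h1 := hcos y hyM
      have e : x = y * (x⁻¹ * y)⁻¹ := by group
      rw [e]
      exact K.mul_mem hyK (K.inv_mem (hK.le h1))
    rw [eq_top_iff]
    intro g _
    by_cases hg : g ∈ M
    · exact hK.le hg
    · have h1 := hcos g hg
      have e : g = x * (x⁻¹ * g) := by group
      rw [e]
      exact K.mul_mem hxK (hK.le h1)
  exact hxM (frattini_le_coatom hco hx)

/-- [FIN] -/
theorem SHyp.structure (h : SHyp P Y) (hna : ∃ x y : P, x * y ≠ y * x) :
    commutator P = frattini P ∧ frattini P = Subgroup.center P ∧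
      ∀ x : P, x ∈ Subgroup.center P ↔ x ^ 2 = 1 := by
  haveI := h.fin
  haveI : Fact (Nat.Prime 2) := ⟨Nat.prime_two⟩
  have h4 : ∀ x : P, (x * x) * (x * x) = 1 := by
    rcases Suz2.SHyp.main h with hab | h4
    · obtain ⟨x, y, hxy⟩ := hna
      exact absurd (hab x y) hxy
    · exact h4
  have hsq : ∀ x : P, x * x ∈ Z0 P := fun x => h.mem_Z0_iff.mpr (h4 x)
  -- the centre is `Z0 P`
  have hcen : Subgroup.center P = Z0 P := by
    apply le_antisymm
    · intro z hz
      by_contra hzZ
      have hz2 : z * z ≠ 1 := fun e => hzZ (h.mem_Z0_iff.mpr e)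
      obtain ⟨-, h4c⟩ := Suz2G.quot h hz hz2
      obtain ⟨x, y, hxy⟩ := hna
      exact hxy ((Subgroup.mem_center_iff.mp (h4c y (h4 y))) x)
    · exact Z0_le_center
  -- commutators lie in `Z0 P`
  have hcomm : ∀ a b : P, a⁻¹ * b⁻¹ * a * b ∈ Z0 P := by
    intro a b
    have e : a⁻¹ * b⁻¹ * a * b = (a⁻¹ * a⁻¹) * ((a * b⁻¹) * (a * b⁻¹)) * (b * b) := by group
    rw [e]
    exact (Z0 P).mul_mem ((Z0 P).mul_mem (hsq _) (hsq _)) (hsq _)
  have hcle : commutator P ≤ Z0 P := by
    rw [commutator_def, Subgroup.commutator_le]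
    intro a _ b _
    have := hcomm a⁻¹ b⁻¹
    rw [commutatorElement_def]
    simpa using this
  -- the commutator subgroup is nontrivial and invariant, hence equals `Z0 P`
  have hceq : commutator P = Z0 P := by
    apply h.Z0_irred _ hcle
    · intro k _ x hx
      have hchar : (commutator P).Characteristic := by
        rw [commutator_def]; infer_instance
      have := (Subgroup.characteristic_iff_map_le.mp hchar) k
      exact this (Subgroup.mem_map_of_mem _ hx)
    · intro hbot
      obtain ⟨x, y, hxy⟩ := hna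
      have hmem : ⁅x, y⁆ ∈ commutator P := by
        rw [commutator_def]
        exact Subgroup.commutator_mem_commutator (Subgroup.mem_top x) (Subgroup.mem_top y)
      rw [hbot, Subgroup.mem_bot, commutatorElement_eq_one_iff_mul_comm] at hmem
      exact hxy hmem
  have hfr : frattini P = Z0 P := by
    apply le_antisymm (frattini_le_of_sq hsq)
    rw [← hceq]
    exact (Cfsg.Agent.S0012.result 2 h.pgrp).1
  refine ⟨by rw [hceq, hfr], by rw [hfr, hcen], ?_⟩
  intro x
  rw [hcen, h.mem_Z0_iff, pow_two]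

end Cfsg.Agent.Lib.Helper85.Suz2
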