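import Cfsg.Agent.Lib.Helper85.Suz2Defs
import Cfsg.Agent.Lib.Helper65.Suz2B4
import Cfsg.Agent.Lib.Helper98.Suz2Quot
import Cfsg.Agent.Lib.Helper98.Suz2HupA
import Cfsg.Agent.Lib.Helper76.Suz2C2APrime
import Cfsg.Agent.Lib.Helper76.Suz2HupB
import Cfsg.Agent.Lib.Helper56.Suz2C1
import Cfsg.Agent.Lib.Helper56.Suz2Res
import Cfsg.Agent.Lib.Helper98.Suz2Coord
import Cfsg.Agent.Lib.Helper30.Suz2C2A
import Cfsg.Agent.Lib.Helper45.Suz2Absq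
import Cfsg.Agent.Lib.Helper45.Suz2L
import Cfsg.Agent.Lib.Helper50.Suz2.B7Of
import Cfsg.Agent.Lib.Helper37.Suz2B0
import Cfsg.Agent.Lib.Helper37.Suz2B3
import Cfsg.Agent.Lib.Helper37.Suz2B2Fin
import Cfsg.Agent.Lib.Helper36.Suz2B5
import Cfsg.Agent.Lib.Helper36.Suz2B6

/-!
# SUZ2: glue - the modules of part 1 under one namespace (helper85)
-/

set_option autoImplicit false

namespace Cfsg.Agent.Lib.Helper85.Suz2G

open Cfsg.Agent.Lib.Helper19.Suz Cfsg.Agent.Lib.Helper85.Suz2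

universe u

variable {P : Type u} [Group P] {Y : Subgroup (MulAut P)}

theorem restrict (h : SHyp P Y) (H : Subgroup P)
    (hinv : ∀ k ∈ Y, ∀ x ∈ H, k x ∈ H) (hZ : Z0 P ≤ H) : SHyp ↥H (resK Y H) :=
  Cfsg.Agent.Lib.Helper56.Suz2.SHyp.restrict h H hinv hZ

theorem quot (h : SHyp P Y) {z : P} (hz : z ∈ Subgroup.center P) (hz2 : z * z ≠ 1) :
    SHyp (P ⧸ Z0 P) (Kbar Y) ∧ (∀ x : P, (x * x) * (x * x) = 1 → x ∈ Subgroup.center P) :=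
  Cfsg.Agent.Lib.Helper98.Suz2.SHyp.quot h hz hz2

theorem four_of_N_nonabelian (h : SHyp P Y)
    (hN : ∃ x ∈ Nsub P, ∃ y ∈ Nsub P, x * y ≠ y * x) :
    (∀ x : P, x * x ∈ Z0 P) ∧ (∀ x y : P, x⁻¹ * y⁻¹ * x * y ∈ Z0 P) :=
  Cfsg.Agent.Lib.Helper56.Suz2.SHyp.four_of_N_nonabelian h hN

theorem exists_zcoord (h : SHyp P Y) :
    ∃ (F : Type) (_ : Field F) (_ : Fintype F) (aZ : P → F) (κ : MulAut P → F)
      (σ : MulAut P → (F ≃+* F)), ZCoord P Y F aZ κ σ :=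
  Cfsg.Agent.Lib.Helper98.Suz2.SHyp.exists_zcoord h

theorem exists_lam {F : Type} [Field F] [Fintype F] {aZ : P → F} {κ : MulAut P → F}
    {σ : MulAut P → (F ≃+* F)} (h : SHyp P Y) (zc : ZCoord P Y F aZ κ σ) :
    ∃ (ξ : MulAut P) (n e : ℕ), LamHyp P Y F κ σ ξ n e :=
  Cfsg.Agent.Lib.Helper76.Suz2.ZCoord.exists_lam h zc

theorem comm_of_N_central (h : SHyp P Y) (hcen : Nsub P ≤ Subgroup.center P)
    (hab : ∀ x y : P, x⁻¹ * y⁻¹ * x * y ∈ Z0 P) : ∀ x y : P, x * y = y * x := by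
  obtain ⟨F, _, _, aZ, κ, σ, zc⟩ := exists_zcoord h
  obtain ⟨ξ, n, e, L⟩ := exists_lam h zc
  exact Cfsg.Agent.Lib.Helper30.Suz2.comm_of_N_central_core h hcen hab zc L
    (fun k hk y hy hyk hex => Cfsg.Agent.Lib.Helper45.Suz2.SHyp.center_sq_surj h k hk y hy hyk hex)
    (fun B h1 h2 h3 h4 => Cfsg.Agent.Lib.Helper45.Suz2.alt_form_zero
      ⟨zc.char2, L.card, L.two_le, L.e_dvd, L.order⟩ B h1 h2 h3 h4)

theorem comm_mem_Z0_of_quot_four (h : SHyp P Y) (hQ : SHyp (P ⧸ Z0 P) (Kbar Y))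
    (hcen : Nsub P ≤ Subgroup.center P)
    (hq : ∀ x : P ⧸ Z0 P, (x * x) * (x * x) = 1) : ∀ x y : P, x⁻¹ * y⁻¹ * x * y ∈ Z0 P :=
  Cfsg.Agent.Lib.Helper76.Suz2.SHyp.comm_mem_Z0_of_quot_four h hQ hcen hq

section coords
variable {F : Type} [Field F] [Fintype F] {aZ : P → F} {κ : MulAut P → F}
  {σ : MulAut P → (F ≃+* F)} {c : (F ≃+* F) → P → F} {ξ : MulAut P} {n e : ℕ}

theorem exists_chyp (h : SHyp P Y) (zc : ZCoord P Y F aZ κ σ)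
    (hEab : ∀ a ∈ Nsub P, ∀ b ∈ Nsub P, a * b = b * a) (hne : ∃ a ∈ Nsub P, a ∉ Z0 P) :
    ∃ c : (F ≃+* F) → P → F, CHyp P Y F aZ κ σ c :=
  Cfsg.Agent.Lib.Helper98.Suz2.exists_chyp h zc hEab hne

theorem absurd (H : CHyp P Y F aZ κ σ c) (L : LamHyp P Y F κ σ ξ n e)
    (hCab : ∀ x y : P, (∀ a ∈ Nsub P, a * x = x * a) → (∀ a ∈ Nsub P, a * y = y * a) → x * y = y * x)
    (hnc : ∃ g : P, ∃ a ∈ Nsub P, a * g ≠ g * a) : False :=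
  Cfsg.Agent.Lib.Helper50.Suz2.CHyp.absurd_of H L hCab hnc
    (fun g => Cfsg.Agent.Lib.Helper37.Suz2.CHyp.coord_zero_iff H g)
    (fun g => Cfsg.Agent.Lib.Helper37.Suz2.CHyp.c_one H L g)
    (fun g τ₀ => Cfsg.Agent.Lib.Helper37.Suz2.CHyp.exists_pure_part H L g τ₀)
    (fun _ _ hp hne => Cfsg.Agent.Lib.Helper37.Suz2.CHyp.pure_facts H hp hne)
    (fun _ hτ _ hp hne => Cfsg.Agent.Lib.Helper65.Suz2.CHyp.pure_full H hτ hp hne)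
    (fun hcard _ hfull x hx => Cfsg.Agent.Lib.Helper36.Suz2.CHyp.cent_le_N H hCab hcard hfull x hx)
    (fun hCE => Cfsg.Agent.Lib.Helper36.Suz2.CHyp.bet_facts H hCE)

end coords

end Cfsg.Agent.Lib.Helper85.Suz2G
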