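import Cfsg.Agent.Lib.Helper85.Suz2ThDefs
import Cfsg.Agent.Lib.Helper42.Suz2TA1
import Cfsg.Agent.Lib.Helper42.Suz2TShyp
import Cfsg.Agent.Lib.Helper42.Suz2TRed
import Cfsg.Agent.Lib.Helper36.Suz2Homo
import Cfsg.Agent.Lib.Helper21.Suz2PLen
import Cfsg.Agent.Lib.Helper95.Suz2TFus
import Cfsg.Agent.Lib.Helper95.Suz2TSup
import Cfsg.Agent.Lib.Helper95.Suz2TA2
import Cfsg.Agent.Lib.Helper84.Suz2TB1
import Cfsg.Agent.Lib.Helper84.Suz2TB3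
import Cfsg.Agent.Lib.Helper36.Suz2TB2
import Cfsg.Agent.Lib.Helper21.Suz2B4
import Cfsg.Agent.Lib.Helper21.Suz2Normal
import Cfsg.Agent.Lib.Helper85.Suz2Fin

/-!
# SUZ2: glue - the modules of part 2 under one namespace (helper85)
-/

set_option autoImplicit false

namespace Cfsg.Agent.Lib.Helper85.Suz2G

open Cfsg Cfsg.Agent.Lib.Helper19.Suz Cfsg.Agent.Lib.Helper85.Suz2

universe u

theorem homocyclic {P : Type u} [Group P] {Y : Subgroup (MulAut P)} (h : SHyp P Y)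
    (hab : ∀ x y : P, x * y = y * x) :
    ∃ m r : ℕ, Nonempty (P ≃* (Fin r → Multiplicative (ZMod (2 ^ m)))) :=
  Cfsg.Agent.Lib.Helper36.Suz2.SHyp.homocyclic h hab

variable {G : Type u} [Group G]

theorem shyp_conjY [Finite G] (H N : Subgroup G) (hN : N ≤ Subgroup.normalizer (H : Set G))
    (hsol : Group.IsSolvable N) (hH : IsPGroup 2 H)
    (htrans : ∀ x ∈ H, ∀ y ∈ H, x ≠ 1 → x * x = 1 → y ≠ 1 → y * y = 1 →
      ∃ n ∈ N, n * x * n⁻¹ = y)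
    (htwo : ∃ x ∈ H, ∃ y ∈ H, x ≠ y ∧ x ≠ 1 ∧ x * x = 1 ∧ y ≠ 1 ∧ y * y = 1) :
    SHyp ↥H (conjY H N) :=
  Cfsg.Agent.Lib.Helper42.Suz2.shyp_conjY H N hN hsol hH htrans htwo

/-- [T-B4] -/
theorem sylow_le_core (h : THyp G) (S : Sylow 2 G)
    (hc : ∀ s ∈ (S : Subgroup G), ∀ x : G, x * x = 1 → s * x = x * s) :
    (S : Subgroup G) ≤ pCore 2 G :=
  Cfsg.Agent.Lib.Helper21.Suz2B4.sylow_le_core_of
    (fun P _ Y hP hna => Cfsg.Agent.Lib.Helper85.Suz2.SHyp.structure hP hna) S hc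
    (Cfsg.Agent.Lib.Helper84.Suz2.THyp.shyp_sylow h S hc)
    (Cfsg.Agent.Lib.Helper36.Suz2.THyp.shyp_core h)
    (fun t ht => Cfsg.Agent.Lib.Helper84.Suz2.THyp.mem_core_of_frattini h t ht)

/-- [T-NORMAL] -/
theorem sylow_normal (h : THyp G) (S : Sylow 2 G) : (S : Subgroup G).Normal :=
  Cfsg.Agent.Lib.Helper21.Suz2Normal.sylow_normal_of
    (fun G _ h S hS => Cfsg.Agent.Lib.Helper42.Suz2.THyp.exists_index_two h S hS)
    (fun G _ h IH G₁ hn hidx hP htr =>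
      Cfsg.Agent.Lib.Helper95.Suz2.THyp.index_two_absurd h IH G₁ hn hidx hP htr)
    (fun G _ h S hc => sylow_le_core h S hc) G h S

theorem thyp_quotient [Finite G] (hG : Group.IsSolvable G) (S : Sylow 2 G)
    (htwo : ∃ x y : G, x ∈ (S : Subgroup G) ∧ y ∈ (S : Subgroup G) ∧ x ≠ y ∧ x ≠ 1 ∧ x ^ 2 = 1 ∧
      y ≠ 1 ∧ y ^ 2 = 1)
    (hconj : ∀ x y : G, x ≠ 1 → x ^ 2 = 1 → y ≠ 1 → y ^ 2 = 1 → IsConj x y) :
    THyp (G ⧸ pPrimeCore 2 G) :=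
  Cfsg.Agent.Lib.Helper42.Suz2.thyp_quotient hG S htwo hconj

theorem plength_one [Finite G] (hG : Group.IsSolvable G) (S : Sylow 2 G)
    (hn : ((S : Subgroup G) ⊔ pPrimeCore 2 G).Normal) : Cfsg.PLengthLE 2 1 G :=
  Cfsg.Agent.Lib.Helper21.Suz2PLen.plength_one hG S hn

theorem sup_normal_of_quotient [Finite G] (S : Sylow 2 G)
    (hq : ∀ T : Sylow 2 (G ⧸ pPrimeCore 2 G), (T : Subgroup (G ⧸ pPrimeCore 2 G)).Normal) :
    ((S : Subgroup G) ⊔ pPrimeCore 2 G).Normal :=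
  Cfsg.Agent.Lib.Helper95.Suz2.sup_normal_of_quotient S hq

theorem fusion_in_normalizer [Finite G] (S : Sylow 2 G)
    (hn : ((S : Subgroup G) ⊔ pPrimeCore 2 G).Normal)
    (x y : G) (hx : x ∈ (S : Subgroup G)) (hy : y ∈ (S : Subgroup G)) (g : G) (hg : g * x * g⁻¹ = y) :
    ∃ n ∈ Subgroup.normalizer ((S : Subgroup G) : Set G), n * x * n⁻¹ = y :=
  Cfsg.Agent.Lib.Helper95.Suz2.fusion_in_normalizer S hn x y hx hy g hg

end Cfsg.Agent.Lib.Helper85.Suz2G
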