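import Cfsg.Agent.Lib.Helper85.Suz2Glue

/-!
# SUZ2: assembly of Theorem H (helper85)

`SHyp.main`: a finite 2-group with at least two involutions and a solvable group of automorphisms
transitive on the involutions is abelian or has exponent dividing 4.
-/

set_option autoImplicit false
set_option linter.style.haveILetI false

namespace Cfsg.Agent.Lib.Helper85.Suz2

open Cfsg.Agent.Lib.Helper19.Suz

universe u

/-- [C2B] -/
theorem SHyp.N_abelian_not_central_absurd {P : Type u} [Group P] {Y : Subgroup (MulAut P)}
    (h : SHyp P Y)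
    (hEab : ∀ a ∈ Nsub P, ∀ b ∈ Nsub P, a * b = b * a)
    (hCab : ∀ x y : P, (∀ a ∈ Nsub P, a * x = x * a) → (∀ a ∈ Nsub P, a * y = y * a) → x * y = y * x)
    (hnc : ∃ g : P, ∃ a ∈ Nsub P, a * g ≠ g * a) : False := by
  obtain ⟨F, _, _, aZ, κ, σ, zc⟩ := Suz2G.exists_zcoord h
  obtain ⟨ξ, n, e, L⟩ := Suz2G.exists_lam h zc
  have hne : ∃ a ∈ Nsub P, a ∉ Z0 P := by
    obtain ⟨g, a, ha, hag⟩ := hnc
    refine ⟨a, ha, fun hz => hag ?_⟩
    exact ((Subgroup.mem_center_iff.mp hz.1) g).symm
  obtain ⟨c, H⟩ := Suz2G.exists_chyp h zc hEab hne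
  exact Suz2G.absurd H L hCab hnc

theorem card_quot_Z0_lt {P : Type u} [Group P] {Y : Subgroup (MulAut P)} (h : SHyp P Y) :
    Nat.card (P ⧸ Z0 P) < Nat.card P := by
  haveI := h.fin
  obtain ⟨x, y, hxy, hx1, hx2, -⟩ := h.two
  have hxZ : x ∈ Z0 P := h.mem_Z0_iff.mpr hx2
  have hcard := Subgroup.card_eq_card_quotient_mul_card_subgroup (Z0 P)
  have h2 : 2 ≤ Nat.card ↥(Z0 P) := by
    have : Nontrivial ↥(Z0 P) := ⟨⟨⟨x, hxZ⟩, 1, fun e => hx1 (congrArg Subtype.val e)⟩⟩
    exact Finite.one_lt_card
  have hpos : 0 < Nat.card (P ⧸ Z0 P) := Nat.card_pos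
  rw [hcard]
  nlinarith

theorem main_aux : ∀ n : ℕ, ∀ (P : Type u) [Group P] (Y : Subgroup (MulAut P)), SHyp P Y →
    Nat.card P ≤ n → (∀ x y : P, x * y = y * x) ∨ (∀ x : P, (x * x) * (x * x) = 1) := by
  intro n
  induction n with
  | zero =>
    intro P _ Y h hn
    haveI := h.fin
    have : 0 < Nat.card P := Nat.card_pos
    omega
  | succ n IH =>
    intro P _ Y h hn
    haveI := h.fin
    by_cases hEab : ∀ a ∈ Nsub P, ∀ b ∈ Nsub P, a * b = b * a
    · by_cases hcen : ∀ a ∈ Nsub P, ∀ g : P, a * g = g * a
      · -- `Nsub P` central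
        left
        have hcen' : Nsub P ≤ Subgroup.center P := by
          intro a ha
          rw [Subgroup.mem_center_iff]
          intro g
          exact (hcen a ha g).symm
        by_cases hz : ∃ z ∈ Subgroup.center P, z * z ≠ 1
        · obtain ⟨z, hzc, hz2⟩ := hz
          obtain ⟨hQ, -⟩ := Suz2G.quot h hzc hz2
          have hlt : Nat.card (P ⧸ Z0 P) ≤ n := by
            have := card_quot_Z0_lt h
            omega
          rcases IH (P ⧸ Z0 P) (Kbar Y) hQ hlt with hq | hq
          · have hab : ∀ x y : P, x⁻¹ * y⁻¹ * x * y ∈ Z0 P := by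
              intro x y
              rw [← mk_eq_one_iff]
              have e := hq (QuotientGroup.mk x) (QuotientGroup.mk y)
              simp only [QuotientGroup.mk_mul, QuotientGroup.mk_inv]
              rw [mul_assoc, e]
              group
            exact Suz2G.comm_of_N_central h hcen' hab
          · exact Suz2G.comm_of_N_central h hcen'
              (Suz2G.comm_mem_Z0_of_quot_four h hQ hcen' hq)
        · -- the centre has exponent two, so `P = Z0 P`
          push Not at hz
          have hall : ∀ x : P, x ∈ Z0 P := by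
            by_contra hcon
            push Not at hcon
            obtain ⟨x₀, hx₀⟩ := hcon
            haveI : Nontrivial (P ⧸ Z0 P) := by
              refine ⟨⟨QuotientGroup.mk x₀, 1, ?_⟩⟩
              intro h1
              rw [mk_eq_one_iff] at h1
              exact hx₀ h1
            obtain ⟨u, huc, hu1, hu2⟩ := exists_central_involution (h.pgrp.to_quotient (Z0 P))
            induction u using QuotientGroup.induction_on with
            | H a =>
              have haN : a ∈ Nsub P := ⟨huc, hu2⟩
              have hac := hcen' haN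
              have := hz a hac
              exact hu1 (mk_eq_one_iff.mpr (h.mem_Z0_iff.mpr this))
          intro x y
          exact ((Subgroup.mem_center_iff.mp (hall y).1) x)
      · -- `Nsub P` abelian, not central
        exfalso
        push Not at hcen
        obtain ⟨a₀, ha₀, g₀, hag₀⟩ := hcen
        have hnc : ∃ g : P, ∃ a ∈ Nsub P, a * g ≠ g * a := ⟨g₀, a₀, ha₀, hag₀⟩
        have ha₀Z : a₀ ∉ Z0 P := fun hz => hag₀ ((Subgroup.mem_center_iff.mp hz.1) g₀).symm
        set C : Subgroup P := Subgroup.centralizer (Nsub P : Set P) with hCdef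
        have hCinv : ∀ k ∈ Y, ∀ x ∈ C, k x ∈ C := by
          intro k hk x hx
          rw [hCdef, Subgroup.mem_centralizer_iff] at hx ⊢
          intro b hb
          have hb' : k⁻¹ b ∈ Nsub P := aut_mem_Nsub k⁻¹ hb
          have := hx (k⁻¹ b) hb'
          have h2 := congrArg k this
          simpa using h2
        have hZC : Z0 P ≤ C := by
          intro z hz
          rw [hCdef, Subgroup.mem_centralizer_iff]
          intro b _
          exact ((Subgroup.mem_center_iff.mp hz.1) b)
        have hC := Suz2G.restrict h C hCinv hZC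
        have hClt : Nat.card ↥C ≤ n := by
          have hne : C ≠ ⊤ := by
            intro htop
            have : g₀ ∈ C := by rw [htop]; exact Subgroup.mem_top _
            rw [hCdef, Subgroup.mem_centralizer_iff] at this
            exact hag₀ (this a₀ ha₀)
          have hlt : Nat.card ↥C < Nat.card P := by
            have hidx : C.index ≠ 1 := fun e => hne (Subgroup.index_eq_one.mp e)
            have hmul := C.card_mul_index
            have hipos : 0 < C.index := Nat.pos_of_ne_zero (Subgroup.index_ne_zero_of_finite)
            have hcpos : 0 < Nat.card ↥C := Nat.card_pos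
            have h2 : 2 ≤ C.index := by omega
            nlinarith
          omega
        have ha₀C : a₀ ∈ C := by
          rw [hCdef, Subgroup.mem_centralizer_iff]
          intro b hb
          exact hEab b hb a₀ ha₀
        have hCab' : ∀ x y : ↥C, x * y = y * x := by
          rcases IH ↥C (resK Y C) hC hClt with hab | h4
          · exact hab
          · have hcenC : (⟨a₀, ha₀C⟩ : ↥C) ∈ Subgroup.center ↥C := by
              rw [Subgroup.mem_center_iff]
              intro g
              apply Subtype.ext
              have hg : (g : P) ∈ Subgroup.centralizer (Nsub P : Set P) := g.2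
              rw [Subgroup.mem_centralizer_iff] at hg
              exact (hg a₀ ha₀).symm
            have hne4 : (⟨a₀, ha₀C⟩ : ↥C) * ⟨a₀, ha₀C⟩ ≠ 1 := by
              intro e
              have e' : a₀ * a₀ = 1 := congrArg Subtype.val e
              exact ha₀Z (h.mem_Z0_iff.mpr e')
            obtain ⟨-, h4c⟩ := Suz2G.quot hC hcenC hne4
            intro x y
            exact (Subgroup.mem_center_iff.mp (h4c y (h4 y))) x
        refine Suz2.SHyp.N_abelian_not_central_absurd h hEab ?_ hnc
        intro x y hx hy
        have hxC : x ∈ C := by rw [hCdef, Subgroup.mem_centralizer_iff]; exact hx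
        have hyC : y ∈ C := by rw [hCdef, Subgroup.mem_centralizer_iff]; exact hy
        exact congrArg Subtype.val (hCab' ⟨x, hxC⟩ ⟨y, hyC⟩)
    · -- `Nsub P` nonabelian
      right
      push Not at hEab
      obtain ⟨a, ha, b, hb, hab⟩ := hEab
      have h1 := (Suz2G.four_of_N_nonabelian h ⟨a, ha, b, hb, hab⟩).1
      intro x
      exact (h1 x).2

/-- [MAIN] **Theorem H** -/
theorem SHyp.main {P : Type u} [Group P] {Y : Subgroup (MulAut P)} (h : SHyp P Y) :
    (∀ x y : P, x * y = y * x) ∨ (∀ x : P, (x * x) * (x * x) = 1) :=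
  main_aux (Nat.card P) P Y h le_rfl

end Cfsg.Agent.Lib.Helper85.Suz2
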