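import Cfsg.Agent.Lib.Helper85.FusionTransfer

/-!
# A twisted transfer on a biset with a degree map

`X` is an `(S × S)`-set with free right action, `π : S →* Q` is surjective and `deg : X → Q` is a map with
`deg (a ξ b⁻¹) = π a * deg ξ * (π b)⁻¹`.  Choosing representatives of degree `1` of the right orbits, every
function `L : S → A` into a commutative group which is multiplicative and `S`-invariant on `N = ker π` yields a
homomorphism `μ : S →* A` with `μ t = L t ^ |X/S| * f t` for `t ∈ N`, where the correction term `f` is invariant under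
conjugation in the group of right-equivariant permutations of `X`.
-/

set_option autoImplicit false

namespace Cfsg.Agent.Lib.Helper85

open Cfsg MulAction Cfsg.Agent.S5328

universe u

section Equivariant

/-- Existence of equivariant maps: if every point stabilizer of `X` fixes some point of `Y`, there is an equivariant map
`X → Y`. -/
theorem exists_equivariant_map {G X Y : Type*} [Group G] [MulAction G X] [MulAction G Y]
    (h : ∀ x : X, ∃ y : Y, stabilizer G x ≤ stabilizer G y) :
    ∃ f : X → Y, ∀ (g : G) (x : X), f (g • x) = g • f x := by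
  classical
  choose y hy using h
  let rep : X → X := fun x => (Quotient.mk (orbitRel G X) x).out
  have hrep : ∀ x, ∃ g : G, g • rep x = x := by
    intro x
    obtain ⟨k, hk⟩ : ∃ k : G, k • x = rep x :=
      Quotient.exact (Quotient.out_eq (Quotient.mk (orbitRel G X) x))
    exact ⟨k⁻¹, by rw [← hk, smul_smul, inv_mul_cancel, one_smul]⟩
  choose g hg using hrep
  have hr : ∀ (k : G) (x : X), rep (k • x) = rep x := by
    intro k x
    have : Quotient.mk (orbitRel G X) (k • x) = Quotient.mk (orbitRel G X) x :=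
      Quotient.sound ⟨k, rfl⟩
    show (Quotient.mk (orbitRel G X) (k • x)).out = (Quotient.mk (orbitRel G X) x).out
    rw [this]
  refine ⟨fun x => g x • y (rep x), fun k x => ?_⟩
  show g (k • x) • y (rep (k • x)) = k • g x • y (rep x)
  rw [hr k x]
  have h1 : ((g (k • x))⁻¹ * k * g x) ∈ stabilizer G (rep x) := by
    rw [mem_stabilizer_iff, mul_smul, mul_smul, hg x]
    have h2 := hg (k • x)
    rw [hr k x] at h2
    rw [inv_smul_eq_iff]
    exact h2.symm
  have h3 := hy (rep x) h1
  rw [mem_stabilizer_iff, mul_smul, mul_smul] at h3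
  exact (inv_smul_eq_iff.1 h3).symm

/-- Existence of a degree map on a biset. -/
theorem exists_degree {S Q X : Type*} [Group S] [Group Q] [MulAction (S × S) X] (π : S →* Q)
    (h : ∀ x : X, ∃ q : Q, ∀ z ∈ stabilizer (S × S) x, π z.1 * q * (π z.2)⁻¹ = q) :
    ∃ deg : X → Q, ∀ (a b : S) (x : X), deg ((a, b) • x) = π a * deg x * (π b)⁻¹ := by
  let _ : MulAction (S × S) Q :=
    { smul := fun z q => π z.1 * q * (π z.2)⁻¹
      one_smul := fun q => by
        show π (1 : S × S).1 * q * (π (1 : S × S).2)⁻¹ = q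
        simp
      mul_smul := fun z w q => by
        show π (z * w).1 * q * (π (z * w).2)⁻¹ = π z.1 * (π w.1 * q * (π w.2)⁻¹) * (π z.2)⁻¹
        rw [Prod.fst_mul, Prod.snd_mul, map_mul, map_mul, mul_inv_rev]
        simp only [mul_assoc] }
  obtain ⟨f, hf⟩ := exists_equivariant_map (G := S × S) (X := X) (Y := Q) (fun x => by
    obtain ⟨q, hq⟩ := h x
    exact ⟨q, fun z hz => hq z hz⟩)
  exact ⟨f, fun a b x => hf (a, b) x⟩

end Equivariant

section Section

variable {Ω : Type u} [Group Ω] {S : Subgroup Ω} {X : Type*} [MulAction (S × S) X]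
  {Q : Type*} [Group Q]

/-- A biset with free right action, a degree map and a section of the right orbits of degree one. -/
structure TwSection (S : Subgroup Ω) (X : Type*) [MulAction (S × S) X] {Q : Type*} [Group Q]
    (π : S →* Q) where
  /-- the degree map -/
  deg : X → Q
  /-- representatives of the right orbits -/
  r : Quotient (rightSetoid S X) → X
  /-- the coordinate of a point with respect to the representative of its right orbit -/
  c : X → S
  hfree : ∀ (x : X) (s s' : S), ((1 : S), s) • x = ((1 : S), s') • x → s = s'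
  hdeg : ∀ (a b : S) (x : X), deg ((a, b) • x) = π a * deg x * (π b)⁻¹
  hr : ∀ o, Quotient.mk (rightSetoid S X) (r o) = o
  hr1 : ∀ o, deg (r o) = 1
  hc : ∀ x : X, ((1 : S), c x) • r (Quotient.mk (rightSetoid S X) x) = x

theorem exists_twSection {π : S →* Q} (hπ : Function.Surjective π)
    (hfree : ∀ (x : X) (s s' : S), ((1 : S), s) • x = ((1 : S), s') • x → s = s')
    (deg : X → Q) (hdeg : ∀ (a b : S) (x : X), deg ((a, b) • x) = π a * deg x * (π b)⁻¹) :
    Nonempty (TwSection S X π) := by
  classical
  have h1 : ∀ o : Quotient (rightSetoid S X), ∃ x : X, Quotient.mk (rightSetoid S X) x = o ∧ deg x = 1 := by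
    intro o
    obtain ⟨b, hb⟩ := hπ (deg o.out)
    refine ⟨((1 : S), b) • o.out, ?_, ?_⟩
    · rw [← Quotient.out_eq o]
      apply Quotient.sound
      refine ⟨b⁻¹, ?_⟩
      rw [Quotient.out_eq o, smul_smul, Prod.mk_mul_mk, one_mul, inv_mul_cancel]
      exact one_smul _ _
    · rw [hdeg, map_one, one_mul, hb, mul_inv_cancel]
  choose r hr hr1 using h1
  have h2 : ∀ x : X, ∃ s : S, ((1 : S), s) • r (Quotient.mk (rightSetoid S X) x) = x := by
    intro x
    exact Quotient.exact (hr (Quotient.mk (rightSetoid S X) x))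
  choose c hc using h2
  exact ⟨⟨deg, r, c, hfree, hdeg, hr, hr1, hc⟩⟩

namespace TwSection

variable {π : S →* Q} (D : TwSection S X π)

theorem mk_smul (s : S) (x : X) :
    Quotient.mk (rightSetoid S X) (((1 : S), s) • x) = Quotient.mk (rightSetoid S X) x := by
  apply Quotient.sound
  refine ⟨s⁻¹, ?_⟩
  rw [smul_smul, Prod.mk_mul_mk, one_mul, inv_mul_cancel]
  exact one_smul _ _

include D in
theorem c_smul (s : S) (x : X) : D.c (((1 : S), s) • x) = s * D.c x := by
  have h1 := D.hc (((1 : S), s) • x)
  rw [mk_smul s x] at h1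
  have h2 : ((1 : S), s * D.c x) • D.r (Quotient.mk (rightSetoid S X) x) = ((1 : S), s) • x := by
    have e : (((1 : S), s * D.c x) : S × S) = ((1 : S), s) * ((1 : S), D.c x) := by
      rw [Prod.mk_mul_mk, one_mul]
    rw [e, mul_smul, D.hc x]
  exact D.hfree _ _ _ (h1.trans h2.symm)

theorem pi_c (x : X) : π (D.c x) = (D.deg x)⁻¹ := by
  have h1 : D.deg x = D.deg (((1 : S), D.c x) • D.r (Quotient.mk (rightSetoid S X) x)) := by
    rw [D.hc x]
  rw [D.hdeg, D.hr1, map_one, one_mul, one_mul] at h1
  rw [h1, inv_inv]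

theorem c_r (o : Quotient (rightSetoid S X)) : D.c (D.r o) = 1 := by
  have h1 := D.hc (D.r o)
  rw [D.hr o] at h1
  exact D.hfree _ _ _ (h1.trans (one_smul _ _).symm)

/-- the cocycle of a right-equivariant permutation with respect to the section -/
def gam (g : biG S X) (o : Quotient (rightSetoid S X)) : S := D.c ((g : Equiv.Perm X) (D.r o))

theorem c_apply_smul (g : biG S X) (s : S) (x : X) :
    D.c ((g : Equiv.Perm X) (((1 : S), s) • x)) = s * D.c ((g : Equiv.Perm X) x) := by
  rw [g.2 s x, D.c_smul]

theorem apply_r (g : biG S X) (o : Quotient (rightSetoid S X)) :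
    (g : Equiv.Perm X) (D.r o) = ((1 : S), D.gam g o) • D.r (g • o) := by
  have h1 := D.hc ((g : Equiv.Perm X) (D.r o))
  have h2 : Quotient.mk (rightSetoid S X) ((g : Equiv.Perm X) (D.r o)) = g • o := by
    rw [← smul_mk_rightQuotient, D.hr o]
  rw [h2] at h1
  exact h1.symm

theorem gam_mul (g h : biG S X) (o : Quotient (rightSetoid S X)) :
    D.gam (g * h) o = D.gam h o * D.gam g (h • o) := by
  have h1 : ((g * h : biG S X) : Equiv.Perm X) (D.r o) =
      (g : Equiv.Perm X) ((h : Equiv.Perm X) (D.r o)) := rfl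
  show D.c (((g * h : biG S X) : Equiv.Perm X) (D.r o)) = _
  rw [h1, D.apply_r h o, D.c_apply_smul]
  rfl

theorem pi_gam_biι (u : S) (o : Quotient (rightSetoid S X)) :
    π (D.gam (biι S X u) o) = (π u)⁻¹ := by
  show π (D.c (((biι S X u : biG S X) : Equiv.Perm X) (D.r o))) = _
  rw [biι_apply, D.pi_c, D.hdeg, D.hr1, map_one, inv_one, mul_one, mul_one]

end TwSection

end Section

section Transfer

variable {Ω : Type u} [Group Ω] {S : Subgroup Ω} {X : Type*} [MulAction (S × S) X]
  {Q : Type*} [Group Q] {π : S →* Q} (D : TwSection S X π)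
  [Fintype (Quotient (rightSetoid S X))]
  {A : Type*} [CommGroup A] (L : S → A)

namespace TwSection

/-- the twisted transfer -/
def mu (u : S) : A := ∏ o, L (u * D.gam (biι S X u) o)

/-- the correction term of the twisted transfer on the kernel -/
def ff (u : S) : A := ∏ o, L (D.gam (biι S X u) o)

variable (hLmul : ∀ a b : S, π a = 1 → π b = 1 → L (a * b) = L a * L b)
  (hLconj : ∀ s a : S, π a = 1 → L (s * a * s⁻¹) = L a)

include hLmul in
theorem L_one : L 1 = 1 := by
  have h := hLmul 1 1 (map_one π) (map_one π)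
  rw [mul_one] at h
  exact (mul_eq_left (a := L 1) (b := L 1)).1 h.symm

include hLmul in
theorem L_inv {a : S} (ha : π a = 1) : L a⁻¹ = (L a)⁻¹ := by
  have h := hLmul a⁻¹ a (by rw [map_inv, ha, inv_one]) ha
  rw [inv_mul_cancel, L_one L hLmul] at h
  exact eq_inv_of_mul_eq_one_left h.symm

include hLmul hLconj in
theorem mu_mul (u v : S) : D.mu L (u * v) = D.mu L u * D.mu L v := by
  have hterm : ∀ o : Quotient (rightSetoid S X),
      L (u * v * D.gam (biι S X (u * v)) o) =
        L (v * D.gam (biι S X v) o) * L (u * D.gam (biι S X u) (biι S X v • o)) := by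
    intro o
    rw [map_mul, D.gam_mul]
    have e : u * v * (D.gam (biι S X v) o * D.gam (biι S X u) (biι S X v • o)) =
        (u * (v * D.gam (biι S X v) o) * u⁻¹) * (u * D.gam (biι S X u) (biι S X v • o)) := by
      group
    have h1 : π (v * D.gam (biι S X v) o) = 1 := by
      rw [map_mul, D.pi_gam_biι, mul_inv_cancel]
    have h2 : π (u * D.gam (biι S X u) (biι S X v • o)) = 1 := by
      rw [map_mul, D.pi_gam_biι, mul_inv_cancel]
    have h3 : π (u * (v * D.gam (biι S X v) o) * u⁻¹) = 1 := by
      rw [map_mul, map_mul, h1, mul_one, map_inv, mul_inv_cancel]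
    rw [e, hLmul _ _ h3 h2, hLconj _ _ h1]
  have hre : (∏ o, L (u * D.gam (biι S X u) (biι S X v • o))) = ∏ o, L (u * D.gam (biι S X u) o) :=
    Equiv.prod_comp (MulAction.toPerm (biι S X v)) (fun o => L (u * D.gam (biι S X u) o))
  unfold mu
  rw [Finset.prod_congr rfl (fun o _ => hterm o), Finset.prod_mul_distrib, hre, mul_comm]

include hLmul in
theorem mu_of_ker {t : S} (ht : π t = 1) :
    D.mu L t = L t ^ Fintype.card (Quotient (rightSetoid S X)) * D.ff L t := by
  unfold mu ff
  have hterm : ∀ o : Quotient (rightSetoid S X),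
      L (t * D.gam (biι S X t) o) = L t * L (D.gam (biι S X t) o) := by
    intro o
    exact hLmul _ _ ht (by rw [D.pi_gam_biι, ht, inv_one])
  rw [Finset.prod_congr rfl (fun o _ => hterm o), Finset.prod_mul_distrib, Finset.prod_const,
    Finset.card_univ]

include hLmul hLconj in
/-- the correction term is invariant under conjugation in the group of right-equivariant permutations -/
theorem ff_conj (hπ : Function.Surjective π) {t t' : S} (ht : π t = 1) (ht' : π t' = 1) (g : biG S X)
    (hg : biι S X t' * g = g * biι S X t) : D.ff L t' = D.ff L t := by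
  classical
  -- the cocycle identity
  have hE : ∀ o : Quotient (rightSetoid S X),
      D.gam g o * D.gam (biι S X t') (g • o) = D.gam (biι S X t) o * D.gam g (biι S X t • o) := by
    intro o
    rw [← D.gam_mul, ← D.gam_mul, hg]
  have hk : ∀ o, π (D.gam (biι S X t) o) = 1 := fun o => by rw [D.pi_gam_biι, ht, inv_one]
  have hk' : ∀ o, π (D.gam (biι S X t') o) = 1 := fun o => by rw [D.pi_gam_biι, ht', inv_one]
  have hq : ∀ o, π (D.gam g (biι S X t • o)) = π (D.gam g o) := by
    intro o
    have h := congrArg π (hE o)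
    rw [map_mul, map_mul, hk' (g • o), hk o, mul_one, one_mul] at h
    exact h.symm
  -- coset representatives
  let σ : Q → S := Function.surjInv hπ
  have hσ : ∀ q, π (σ q) = q := Function.surjInv_eq hπ
  let y : Quotient (rightSetoid S X) → S := fun o => (σ (π (D.gam g o)))⁻¹ * D.gam g o
  have hy : ∀ o, π (y o) = 1 := by
    intro o
    show π ((σ (π (D.gam g o)))⁻¹ * D.gam g o) = 1
    rw [map_mul, map_inv, hσ, inv_mul_cancel]
  have hterm : ∀ o, L (D.gam (biι S X t') (g • o)) =
      (L (y o))⁻¹ * L (D.gam (biι S X t) o) * L (y (biι S X t • o)) := by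
    intro o
    have e : D.gam (biι S X t') (g • o) =
        (y o)⁻¹ * ((σ (π (D.gam g o)))⁻¹ * D.gam (biι S X t) o * ((σ (π (D.gam g o)))⁻¹)⁻¹) *
          y (biι S X t • o) := by
      have h1 : D.gam (biι S X t') (g • o) =
          (D.gam g o)⁻¹ * (D.gam (biι S X t) o * D.gam g (biι S X t • o)) := by
        rw [← hE o, inv_mul_cancel_left]
      show _ = ((σ (π (D.gam g o)))⁻¹ * D.gam g o)⁻¹ *
        ((σ (π (D.gam g o)))⁻¹ * D.gam (biι S X t) o * ((σ (π (D.gam g o)))⁻¹)⁻¹) *
          ((σ (π (D.gam g (biι S X t • o))))⁻¹ * D.gam g (biι S X t • o))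
      rw [hq o, h1]
      group
    have h2 : π ((σ (π (D.gam g o)))⁻¹ * D.gam (biι S X t) o * ((σ (π (D.gam g o)))⁻¹)⁻¹) = 1 := by
      rw [map_mul, map_mul, hk o, mul_one, ← map_mul, mul_inv_cancel, map_one]
    have h3 : π ((y o)⁻¹) = 1 := by rw [map_inv, hy o, inv_one]
    rw [e, hLmul _ _ (by rw [map_mul, h3, h2, mul_one]) (hy _), hLmul _ _ h3 h2, hLconj _ _ (hk o),
      L_inv L hLmul (hy o)]
  have h1 : D.ff L t' = ∏ o, L (D.gam (biι S X t') (g • o)) :=
    (Equiv.prod_comp (MulAction.toPerm g) (fun o => L (D.gam (biι S X t') o))).symm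
  have hre : (∏ o, L (y (biι S X t • o))) = ∏ o, L (y o) :=
    Equiv.prod_comp (MulAction.toPerm (biι S X t)) (fun o => L (y o))
  rw [h1, Finset.prod_congr rfl (fun o _ => hterm o), Finset.prod_mul_distrib, Finset.prod_mul_distrib,
    Finset.prod_inv_distrib, hre]
  unfold ff
  rw [mul_comm (∏ o, L (y o))⁻¹, mul_assoc, inv_mul_cancel, mul_one]

end TwSection

end Transfer

end Cfsg.Agent.Lib.Helper85
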