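import Cfsg.Agent.Lib.Helper85.WeakClosedFactor
import Cfsg.Agent.S1985

/-!
# The weakly closed elements of a Sylow subgroup form a direct factor of its centre

`WCFactor S`: the elements of `S` weakly closed in `S` with respect to `G` form a subgroup with a complement in `Z(S)`.
* `wcFactor_of_control`: from a subgroup `N ≥ S` controlling weak closure of elements and a commutative subgroup
  `Z(S) ≤ V ≤ S` normalized by `N`.
* `wcFactor_of_ne_two`: for odd `p` (Glauberman's `K_∞`).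
-/

set_option autoImplicit false

namespace Cfsg.Agent.Lib.Helper85

open Cfsg

universe u

variable {G : Type u} [Group G]

/-- The weakly closed elements of `S` form a subgroup with a complement in `Z(S)`. -/
def WCFactor (S : Subgroup G) : Prop :=
  ∃ W K : Subgroup G, (∀ x : G, x ∈ W ↔ (x ∈ S ∧ ∀ g : G, g * x * g⁻¹ ∈ S → g * x * g⁻¹ = x)) ∧
    K ≤ S ⊓ Subgroup.centralizer (S : Set G) ∧ W ⊓ K = ⊥ ∧ W ⊔ K = S ⊓ Subgroup.centralizer (S : Set G)

theorem conj_mem_center_of_mem_normalizer (Q : Subgroup G) {n : G} (hn : n ∈ Subgroup.normalizer (Q : Set G))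
    {x : G} (hx : x ∈ Q ⊓ Subgroup.centralizer (Q : Set G)) :
    n * x * n⁻¹ ∈ Q ⊓ Subgroup.centralizer (Q : Set G) := by
  refine Subgroup.mem_inf.mpr ⟨(Subgroup.mem_normalizer_iff.mp hn x).mp hx.1, ?_⟩
  rw [Subgroup.mem_centralizer_iff]
  intro y hy
  have hy' : n⁻¹ * y * n⁻¹⁻¹ ∈ Q := (Subgroup.mem_normalizer_iff.mp (Subgroup.inv_mem _ hn) y).mp hy
  have hc := (Subgroup.mem_centralizer_iff.mp hx.2) _ hy'
  calc y * (n * x * n⁻¹) = n * ((n⁻¹ * y * n⁻¹⁻¹) * x) * n⁻¹ := by group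
    _ = n * (x * (n⁻¹ * y * n⁻¹⁻¹)) * n⁻¹ := by rw [hc]
    _ = n * x * n⁻¹ * y := by group

theorem normalizer_le_normalizer_center (Q : Subgroup G) :
    Subgroup.normalizer (Q : Set G) ≤ Subgroup.normalizer ((Q ⊓ Subgroup.centralizer (Q : Set G) : Subgroup G) : Set G) := by
  intro n hn
  rw [Subgroup.mem_normalizer_iff]
  intro x
  constructor
  · exact conj_mem_center_of_mem_normalizer Q hn
  · intro h
    have := conj_mem_center_of_mem_normalizer Q (Subgroup.inv_mem _ hn) h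
    have e : n⁻¹ * (n * x * n⁻¹) * n⁻¹⁻¹ = x := by group
    rwa [e] at this

/-- **Main lemma.** -/
theorem wcFactor_of_control [Finite G] {p : ℕ} [Fact p.Prime] (S N V : Subgroup G) (hSp : IsPGroup p S)
    (hSidx : ¬ p ∣ S.index) (hSN : S ≤ N) (hVS : V ≤ S) (hVc : ∀ a ∈ V, ∀ b ∈ V, a * b = b * a)
    (hNV : N ≤ Subgroup.normalizer (V : Set G)) (hZV : S ⊓ Subgroup.centralizer (S : Set G) ≤ V)
    (hctl : ∀ x ∈ S ⊓ Subgroup.centralizer (N : Set G), ∀ g : G, g * x * g⁻¹ ∈ S → g * x * g⁻¹ = x) :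
    WCFactor S := by
  have hidx : ¬ p ∣ S.relIndex N := fun h => hSidx (h.trans (Subgroup.relIndex_dvd_index_of_le hSN))
  have hVp : IsPGroup p V := hSp.to_le hVS
  obtain ⟨K, hK1, hK2, hK3⟩ := exists_complement_fixed N S V hSN hidx hVp hVc hNV
  have hZ : V ⊓ Subgroup.centralizer (S : Set G) = S ⊓ Subgroup.centralizer (S : Set G) :=
    le_antisymm (inf_le_inf_right _ hVS) (le_inf hZV inf_le_right)
  refine ⟨V ⊓ Subgroup.centralizer (N : Set G), K, ?_, hZ ▸ hK1, hK2, hZ ▸ hK3⟩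
  intro x
  constructor
  · rintro ⟨hxV, hxN⟩
    exact ⟨hVS hxV, hctl x ⟨hVS hxV, hxN⟩⟩
  · rintro ⟨hxS, hwc⟩
    have hxZ : x ∈ S ⊓ Subgroup.centralizer (S : Set G) := by
      refine Subgroup.mem_inf.mpr ⟨hxS, ?_⟩
      rw [Subgroup.mem_centralizer_iff]
      intro s hs
      have h1 := hwc s (S.mul_mem (S.mul_mem hs hxS) (S.inv_mem hs))
      calc s * x = s * x * s⁻¹ * s := by group
        _ = x * s := by rw [h1]
    have hxV : x ∈ V := hZV hxZ
    refine Subgroup.mem_inf.mpr ⟨hxV, ?_⟩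
    rw [Subgroup.mem_centralizer_iff]
    intro n hn
    have h1 : n * x * n⁻¹ ∈ V := (Subgroup.mem_normalizer_iff.mp (hNV hn) x).mp hxV
    have h2 := hwc n (hVS h1)
    calc n * x = n * x * n⁻¹ * n := by group
      _ = x * n := by rw [h2]

/-- Transport of `WCFactor` along conjugation. -/
theorem WCFactor.conj {S : Subgroup G} (h : WCFactor S) (c : G) :
    WCFactor (S.map (MulAut.conj c).toMonoidHom) := by
  obtain ⟨W, K, hW, hK, hWK, hWK'⟩ := h
  have hinj : Function.Injective (MulAut.conj c).toMonoidHom := (MulAut.conj c).injective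
  have mem_iff : ∀ (H : Subgroup G) (x : G), x ∈ H.map (MulAut.conj c).toMonoidHom ↔ c⁻¹ * x * c ∈ H := by
    intro H x
    constructor
    · rintro ⟨y, hy, rfl⟩
      show c⁻¹ * (c * y * c⁻¹) * c ∈ H
      have e : c⁻¹ * (c * y * c⁻¹) * c = y := by group
      rwa [e]
    · intro hx
      refine ⟨c⁻¹ * x * c, hx, ?_⟩
      show c * (c⁻¹ * x * c) * c⁻¹ = x
      group
  have hZ : (S ⊓ Subgroup.centralizer (S : Set G)).map (MulAut.conj c).toMonoidHom =
      S.map (MulAut.conj c).toMonoidHom ⊓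
        Subgroup.centralizer ((S.map (MulAut.conj c).toMonoidHom : Subgroup G) : Set G) := by
    ext x
    rw [mem_iff, Subgroup.mem_inf, Subgroup.mem_inf, mem_iff, Subgroup.mem_centralizer_iff,
      Subgroup.mem_centralizer_iff]
    constructor
    · rintro ⟨h1, h2⟩
      refine ⟨h1, fun y hy => ?_⟩
      have hy' : c⁻¹ * y * c ∈ S := (mem_iff S y).mp hy
      have h3 := h2 _ hy'
      calc y * x = c * ((c⁻¹ * y * c) * (c⁻¹ * x * c)) * c⁻¹ := by group
        _ = c * ((c⁻¹ * x * c) * (c⁻¹ * y * c)) * c⁻¹ := by rw [h3]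
        _ = x * y := by group
    · rintro ⟨h1, h2⟩
      refine ⟨h1, fun y hy => ?_⟩
      have hy' : c * y * c⁻¹ ∈ S.map (MulAut.conj c).toMonoidHom := ⟨y, hy, rfl⟩
      have h3 := h2 _ hy'
      calc y * (c⁻¹ * x * c) = c⁻¹ * ((c * y * c⁻¹) * x) * c := by group
        _ = c⁻¹ * (x * (c * y * c⁻¹)) * c := by rw [h3]
        _ = c⁻¹ * x * c * y := by group
  refine ⟨W.map (MulAut.conj c).toMonoidHom, K.map (MulAut.conj c).toMonoidHom, ?_, ?_, ?_, ?_⟩
  · intro x
    rw [mem_iff, hW, mem_iff]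
    constructor
    · rintro ⟨h1, h2⟩
      refine ⟨h1, fun g hg => ?_⟩
      have hg' : c⁻¹ * (g * x * g⁻¹) * c ∈ S := (mem_iff S _).mp hg
      have e : (c⁻¹ * g * c) * (c⁻¹ * x * c) * (c⁻¹ * g * c)⁻¹ = c⁻¹ * (g * x * g⁻¹) * c := by group
      have h3 := h2 (c⁻¹ * g * c) (by rw [e]; exact hg')
      rw [e] at h3
      calc g * x * g⁻¹ = c * (c⁻¹ * (g * x * g⁻¹) * c) * c⁻¹ := by group
        _ = c * (c⁻¹ * x * c) * c⁻¹ := by rw [h3]
        _ = x := by group
    · rintro ⟨h1, h2⟩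
      refine ⟨h1, fun g hg => ?_⟩
      have e : g * (c⁻¹ * x * c) * g⁻¹ = c⁻¹ * ((c * g * c⁻¹) * x * (c * g * c⁻¹)⁻¹) * c := by group
      rw [e] at hg ⊢
      have h3 := h2 (c * g * c⁻¹) ((mem_iff S _).mpr hg)
      rw [h3]
  · rw [← hZ]
    exact Subgroup.map_mono hK
  · rw [← Subgroup.map_inf _ _ _ hinj, hWK, Subgroup.map_bot]
  · rw [← Subgroup.map_sup, hWK', hZ]

/-- **Odd `p`.** -/
theorem wcFactor_of_ne_two [Finite G] {p : ℕ} [Fact p.Prime] (hp : p ≠ 2) (S : Sylow p G) :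
    WCFactor (S : Subgroup G) := by
  obtain ⟨hZW, T, -, hTp, hTidx, hctl⟩ := Cfsg.Agent.S1985.result (G := G) hp
  have hW := Cfsg.Agent.Lib.Helper33.isCharPFunctor_kInfLower.{u} p
  have hcf := Cfsg.Agent.Lib.Helper33.isConjugacyFunctor_inducedFunctor (G := G) _ hW
  obtain ⟨W, hWdef⟩ : ∃ W : Subgroup G → Subgroup G, W = Cfsg.inducedFunctor (G := G) Cfsg.kInfLower := ⟨_, rfl⟩
  have hTidx' : ¬ p ∣ T.index := by rwa [Subgroup.relIndex_top_right] at hTidx
  obtain ⟨hWT, -, hWconj⟩ := hcf T hTp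
  have hT : WCFactor T := by
    refine wcFactor_of_control T (Subgroup.normalizer ((Cfsg.inducedFunctor (G := G) Cfsg.kInfLower T : Subgroup G) : Set G))
      (Cfsg.inducedFunctor (G := G) Cfsg.kInfLower T ⊓
        Subgroup.centralizer ((Cfsg.inducedFunctor (G := G) Cfsg.kInfLower T : Subgroup G) : Set G))
      hTp hTidx' ?_ (inf_le_left.trans hWT) ?_ (normalizer_le_normalizer_center _) ?_ ?_
    · intro t ht
      have h1 := hWconj t
      have h2 : T.map (MulAut.conj t).toMonoidHom = T := by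
        ext x
        constructor
        · rintro ⟨y, hy, rfl⟩
          exact T.mul_mem (T.mul_mem ht hy) (T.inv_mem ht)
        · intro hx
          refine ⟨t⁻¹ * x * t, T.mul_mem (T.mul_mem (T.inv_mem ht) hx) ht, ?_⟩
          show t * (t⁻¹ * x * t) * t⁻¹ = x
          group
      rw [h2] at h1
      rw [Subgroup.mem_normalizer_iff]
      intro x
      constructor
      · intro hx
        rw [h1]
        exact ⟨x, hx, rfl⟩
      · intro hx
        rw [h1] at hx
        obtain ⟨y, hy, hyx⟩ := hx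
        have : y = x := by
          have e : t * y * t⁻¹ = t * x * t⁻¹ := hyx
          exact mul_left_cancel (mul_right_cancel e)
        rwa [← this]
    · intro a ha b hb
      exact ((Subgroup.mem_centralizer_iff.mp hb.2) a ha.1)
    · intro x hx
      refine Subgroup.mem_inf.mpr ⟨hZW T hTp hx, ?_⟩
      rw [Subgroup.mem_centralizer_iff]
      intro y hy
      exact (Subgroup.mem_centralizer_iff.mp hx.2) y (hWT hy)
    · intro x hx g hg
      refine hctl x ⟨hx.1, ?_⟩ g (Subgroup.mem_top g) hg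
      rw [top_inf_eq]
      exact hx.2
  let T' : Sylow p G := hTp.toSylow hTidx'
  obtain ⟨c, hc⟩ := MulAction.exists_smul_eq G T' S
  have hST : (S : Subgroup G) = T.map (MulAut.conj c).toMonoidHom := by
    rw [← hc]
    rfl
  rw [hST]
  exact hT.conj c

end Cfsg.Agent.Lib.Helper85
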