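import Cfsg.Agent.Lib.Helper85.WeakClosedMain
import Cfsg.Agent.Lib.Helper87.FusionFrattini
import Cfsg.Agent.Lib.Helper1.MinimalNormal
import Cfsg.Agent.S4145

/-!
# Weakly closed elements in solvable groups

For a finite solvable group (any prime `p`), the weakly closed elements of a Sylow `p`-subgroup `S` are the elements of `S`
that are central modulo `O_{p'}(G)`; they have a complement in `Z(S)` (trace argument in `G / O_{p'}(G)`, using
Hall–Higman 1.2.3).
-/

set_option autoImplicit false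

namespace Cfsg.Agent.Lib.Helper85

open Cfsg

universe u

/-- A finite solvable group is `p`-solvable (proof of helper77, `Lib/Helper77/FongPrincipal.lean`, light imports). -/
theorem isPSolvable_of_isSolvable_aux (p : ℕ) [Fact p.Prime] :
    ∀ (n : ℕ) (G : Type u) [Group G] [Finite G] [Group.IsSolvable G], Nat.card G = n →
      IsPSolvable p G := by
  intro n
  induction n using Nat.strong_induction_on with
  | _ n ih =>
    intro G _ _ _ hn
    by_cases hG : Subsingleton G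
    · exact Cfsg.Agent.S4145.isPSolvable_of_subsingleton p
    · rw [not_subsingleton_iff_nontrivial] at hG
      obtain ⟨q, R, hq, hRn, hR1, hRq, -, -, -⟩ :=
        Cfsg.Agent.Lib.Helper1.exists_normal_pSubgroup_of_isSolvable (G := G)
      have hcard : Nat.card (G ⧸ R) < n := by
        rw [← hn, ← Subgroup.index_eq_card]
        have h1 : Nat.card R * R.index = Nat.card G := Subgroup.card_mul_index R
        have h2 : 1 < Nat.card R := by
          rw [Finite.one_lt_card_iff_nontrivial]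
          exact (Subgroup.nontrivial_iff_ne_bot R).mpr hR1
        have h3 : 0 < R.index := Nat.pos_of_ne_zero Subgroup.index_ne_zero_of_finite
        nlinarith
      have hquot : IsPSolvable p (G ⧸ R) := ih _ hcard (G ⧸ R) rfl
      apply Cfsg.Agent.S4145.isPSolvable_of_quotient p R _ hquot
      have : Fact q.Prime := ⟨hq⟩
      obtain ⟨k, hk⟩ := hRq.exists_card_eq
      by_cases hpq : q = p
      · left
        exact ⟨k, by rw [hk, hpq]⟩
      · right
        rw [hk]
        apply Nat.Coprime.pow_left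
        exact (Nat.coprime_primes hq (Fact.out : p.Prime)).mpr hpq

variable {G : Type u} [Group G]

/-- **Solvable groups.** -/
theorem wcFactor_of_isSolvable [Finite G] {p : ℕ} [Fact p.Prime] (hsolv : Group.IsSolvable G) (S : Sylow p G) :
    WCFactor (S : Subgroup G) := by
  have hKn : (pPrimeCore p G).Normal := inferInstance
  obtain ⟨Kp, hKp⟩ : ∃ Kp : Subgroup G, Kp = pPrimeCore p G := ⟨_, rfl⟩
  have hKpn : Kp.Normal := hKp ▸ hKn
  have hKcop : (Nat.card Kp).Coprime p := hKp ▸ Cfsg.Agent.Lib.Helper76.pPrimeCore_coprime p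
  obtain ⟨π, hπ⟩ : ∃ π : G →* G ⧸ Kp, π = QuotientGroup.mk' Kp := ⟨_, rfl⟩
  have hπs : Function.Surjective π := hπ ▸ QuotientGroup.mk'_surjective Kp
  have hker : ∀ x : G, π x = 1 ↔ x ∈ Kp := fun x => by rw [hπ]; exact QuotientGroup.eq_one_iff x
  -- `π` is injective on `S`
  have hinjS : ∀ x ∈ (S : Subgroup G), π x = 1 → x = 1 := by
    intro x hx h1
    have hxK : x ∈ Kp := (hker x).mp h1
    obtain ⟨k, hk⟩ := S.isPGroup' ⟨x, hx⟩
    have hk' : x ^ p ^ k = 1 := congrArg Subtype.val hk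
    have h2 : x ^ Nat.card Kp = 1 := by
      have := pow_card_eq_one' (G := ↥Kp) (x := ⟨x, hxK⟩)
      exact congrArg Subtype.val this
    exact Cfsg.Agent.Lib.Helper76.eq_one_of_pow_eq_one_of_coprime p x _ k hKcop h2 hk'
  have heqS : ∀ x ∈ (S : Subgroup G), ∀ y ∈ (S : Subgroup G), π x = π y → x = y := by
    intro x hx y hy h
    have h1 : π (x * y⁻¹) = 1 := by rw [map_mul, map_inv, h, mul_inv_cancel]
    have h2 := hinjS _ ((S : Subgroup G).mul_mem hx ((S : Subgroup G).inv_mem hy)) h1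
    exact mul_inv_eq_one.mp h2
  -- Hall–Higman in the quotient
  have hqsolv : Group.IsSolvable (G ⧸ Kp) := inferInstance
  have hq : IsPSolvable p (G ⧸ Kp) := isPSolvable_of_isSolvable_aux p _ (G ⧸ Kp) rfl
  have hcore : ∀ N : Subgroup (G ⧸ Kp), N.Normal → (Nat.card N).Coprime p → N = ⊥ := by
    subst hKp
    exact Cfsg.Agent.Lib.Helper76.quotient_pPrimeCore_core_trivial p
  have hHH := Cfsg.Agent.Lib.Helper76.centralizer_pCore_le p hq hcore
  obtain ⟨Q, hQ⟩ : ∃ Q : Subgroup (G ⧸ Kp), Q = pCore p (G ⧸ Kp) := ⟨_, rfl⟩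
  rw [← hQ] at hHH
  have hQn : Q.Normal := by
    rw [hQ]
    infer_instance
  obtain ⟨Sb, hSb⟩ : ∃ Sb : Sylow p (G ⧸ Kp), (Sb : Subgroup (G ⧸ Kp)) = (S : Subgroup G).map π :=
    ⟨S.mapSurjective hπs, Sylow.coe_mapSurjective hπs S⟩
  have hQS : Q ≤ (Sb : Subgroup (G ⧸ Kp)) := hQ ▸ Cfsg.Agent.Lib.Helper76.pCore_le_sylow p Sb
  -- the trace decomposition in the quotient
  have hVtop : (⊤ : Subgroup (G ⧸ Kp)) ≤
      Subgroup.normalizer ((Q ⊓ Subgroup.centralizer (Q : Set (G ⧸ Kp)) : Subgroup (G ⧸ Kp)) : Set (G ⧸ Kp)) := by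
    refine le_trans ?_ (normalizer_le_normalizer_center Q)
    rw [Subgroup.normalizer_eq_top_iff.mpr hQn]
  have hidx : ¬ p ∣ (Sb : Subgroup (G ⧸ Kp)).relIndex ⊤ := by
    rw [Subgroup.relIndex_top_right]
    exact Sb.not_dvd_index
  have hVS : Q ⊓ Subgroup.centralizer (Q : Set (G ⧸ Kp)) ≤ (Sb : Subgroup (G ⧸ Kp)) := inf_le_left.trans hQS
  obtain ⟨Kb, hK1, hK2, hK3⟩ := exists_complement_fixed' (⊤ : Subgroup (G ⧸ Kp)) (Sb : Subgroup (G ⧸ Kp))
    (Q ⊓ Subgroup.centralizer (Q : Set (G ⧸ Kp))) le_top hidx (Sb.isPGroup'.to_le hVS)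
    (fun a ha b hb => (Subgroup.mem_centralizer_iff.mp hb.2) a ha.1) hVtop
  -- the centre of `Sb` lies in `V`
  have hZV : (Sb : Subgroup (G ⧸ Kp)) ⊓ Subgroup.centralizer ((Sb : Subgroup (G ⧸ Kp)) : Set (G ⧸ Kp)) ≤
      Q ⊓ Subgroup.centralizer (Q : Set (G ⧸ Kp)) := by
    intro x hx
    have h1 : x ∈ Subgroup.centralizer (Q : Set (G ⧸ Kp)) := Subgroup.centralizer_le hQS hx.2
    exact ⟨hHH h1, h1⟩
  -- weakly closed elements are central in `S`
  have hcentral : ∀ x ∈ (S : Subgroup G), (∀ g : G, g * x * g⁻¹ ∈ (S : Subgroup G) → g * x * g⁻¹ = x) →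
      x ∈ Subgroup.centralizer ((S : Subgroup G) : Set G) := by
    intro x hxS hwc
    rw [Subgroup.mem_centralizer_iff]
    intro s hs
    have h1 := hwc s ((S : Subgroup G).mul_mem ((S : Subgroup G).mul_mem hs hxS) ((S : Subgroup G).inv_mem hs))
    calc s * x = s * x * s⁻¹ * s := by group
      _ = x * s := by rw [h1]
  have hπS : ∀ x ∈ (S : Subgroup G), π x ∈ (Sb : Subgroup (G ⧸ Kp)) := fun x hx => hSb ▸ ⟨x, hx, rfl⟩
  have hπZ : ∀ x ∈ (S : Subgroup G) ⊓ Subgroup.centralizer ((S : Subgroup G) : Set G),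
      π x ∈ (Sb : Subgroup (G ⧸ Kp)) ⊓ Subgroup.centralizer ((Sb : Subgroup (G ⧸ Kp)) : Set (G ⧸ Kp)) := by
    intro x hx
    refine Subgroup.mem_inf.mpr ⟨hπS x hx.1, ?_⟩
    rw [Subgroup.mem_centralizer_iff]
    intro y hy
    rw [hSb] at hy
    obtain ⟨s, hs, rfl⟩ := hy
    rw [← map_mul, ← map_mul, (Subgroup.mem_centralizer_iff.mp hx.2) s hs]
  -- elements of `S` central modulo `Kp` are central in `S`
  have hback : ∀ x ∈ (S : Subgroup G), π x ∈ Subgroup.centralizer ((Sb : Subgroup (G ⧸ Kp)) : Set (G ⧸ Kp)) →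
      x ∈ Subgroup.centralizer ((S : Subgroup G) : Set G) := by
    intro x hxS hc
    rw [Subgroup.mem_centralizer_iff]
    intro s hs
    apply heqS _ ((S : Subgroup G).mul_mem hs hxS) _ ((S : Subgroup G).mul_mem hxS hs)
    rw [map_mul, map_mul]
    exact (Subgroup.mem_centralizer_iff.mp hc) _ (hπS s hs)
  refine ⟨(S : Subgroup G) ⊓ ((Q ⊓ Subgroup.centralizer (Q : Set (G ⧸ Kp))) ⊓
      Subgroup.centralizer (((⊤ : Subgroup (G ⧸ Kp)) : Subgroup (G ⧸ Kp)) : Set (G ⧸ Kp))).comap π,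
    (S : Subgroup G) ⊓ Kb.comap π, ?_, ?_, ?_, ?_⟩
  · -- the first subgroup is the set of weakly closed elements
    intro x
    constructor
    · rintro ⟨hxS, hxV, hxc⟩
      refine ⟨hxS, fun g hg => ?_⟩
      apply heqS _ hg _ hxS
      have h1 := (Subgroup.mem_centralizer_iff.mp hxc) (π g) (Subgroup.mem_top _)
      rw [map_mul, map_mul, map_inv, h1]
      group
    · rintro ⟨hxS, hwc⟩
      have hxZ : x ∈ (S : Subgroup G) ⊓ Subgroup.centralizer ((S : Subgroup G) : Set G) :=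
        ⟨hxS, hcentral x hxS hwc⟩
      have hxV : π x ∈ Q ⊓ Subgroup.centralizer (Q : Set (G ⧸ Kp)) := hZV (hπZ x hxZ)
      refine Subgroup.mem_inf.mpr ⟨hxS, Subgroup.mem_comap.mpr (Subgroup.mem_inf.mpr ⟨hxV, ?_⟩)⟩
      rw [Subgroup.mem_centralizer_iff]
      intro gb _
      obtain ⟨g, rfl⟩ := hπs gb
      -- `y = g x g⁻¹` lies in the preimage of `Q`
      have hyQ : π (g * x * g⁻¹) ∈ Q := by
        rw [map_mul, map_mul, map_inv]
        exact hQn.conj_mem _ hxV.1 _
      have hMn : (Q.comap π).Normal := hQn.comap π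
      have hyp : IsPGroup p (Subgroup.zpowers (g * x * g⁻¹)) := by
        have hxp : IsPGroup p (Subgroup.zpowers x) :=
          S.isPGroup'.to_le (Subgroup.zpowers_le.mpr hxS)
        have e : Subgroup.zpowers (g * x * g⁻¹) = (Subgroup.zpowers x).map (MulAut.conj g).toMonoidHom := by
          rw [MonoidHom.map_zpowers]
          rfl
        rw [e]
        exact hxp.map _
      have hyM : Subgroup.zpowers (g * x * g⁻¹) ≤ Q.comap π := Subgroup.zpowers_le.mpr hyQ
      obtain ⟨m, hmM, hm⟩ := Cfsg.Agent.Lib.Helper87.exists_conj_mem_sylow_of_normal (Q.comap π) S hyp hyM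
      have h1 : m * (g * x * g⁻¹) * m⁻¹ ∈ (S : Subgroup G) := hm _ (Subgroup.mem_zpowers _)
      have e1 : m * (g * x * g⁻¹) * m⁻¹ = (m * g) * x * (m * g)⁻¹ := by group
      rw [e1] at h1
      have h2 := hwc (m * g) h1
      have h3 : π m * π (g * x * g⁻¹) * (π m)⁻¹ = π x := by
        rw [← map_inv, ← map_mul, ← map_mul, e1, h2]
      have hmQ : π m ∈ Q := hmM
      have hyV : π (g * x * g⁻¹) ∈ Subgroup.centralizer (Q : Set (G ⧸ Kp)) := by
        have : π (g * x * g⁻¹) ∈ Q ⊓ Subgroup.centralizer (Q : Set (G ⧸ Kp)) := by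
          have hn : π g ∈ Subgroup.normalizer (Q : Set (G ⧸ Kp)) := by
            rw [Subgroup.normalizer_eq_top_iff.mpr hQn]
            exact Subgroup.mem_top _
          have := conj_mem_center_of_mem_normalizer Q hn hxV
          rwa [map_mul, map_mul, map_inv]
        exact this.2
      have h4 : π m * π (g * x * g⁻¹) = π (g * x * g⁻¹) * π m :=
        (Subgroup.mem_centralizer_iff.mp hyV) _ hmQ
      have h5 : π (g * x * g⁻¹) = π x := by
        rw [← h3, h4]
        group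
      rw [map_mul, map_mul, map_inv] at h5
      calc π g * π x = π g * π x * (π g)⁻¹ * π g := by group
        _ = π x * π g := by rw [h5]
  · rintro x ⟨hxS, hxK⟩
    have h1 := hK1 (Subgroup.mem_comap.mp hxK)
    exact ⟨hxS, hback x hxS h1.2⟩
  · rw [eq_bot_iff]
    rintro x ⟨⟨hxS, hxW⟩, ⟨-, hxK⟩⟩
    have h1 : π x ∈ (⊥ : Subgroup (G ⧸ Kp)) := by
      rw [← hK2]
      exact ⟨hxW, hxK⟩
    exact hinjS x hxS ((Subgroup.mem_bot).mp h1)
  · apply le_antisymm
    · apply sup_le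
      · rintro x ⟨hxS, hxW⟩
        refine ⟨hxS, hback x hxS ?_⟩
        exact Subgroup.centralizer_le le_top (Subgroup.mem_comap.mp hxW).2
      · rintro x ⟨hxS, hxK⟩
        have h1 := hK1 (Subgroup.mem_comap.mp hxK)
        exact ⟨hxS, hback x hxS h1.2⟩
    · intro x hx
      have h1 : π x ∈ (Q ⊓ Subgroup.centralizer (Q : Set (G ⧸ Kp))) ⊓
          Subgroup.centralizer ((Sb : Subgroup (G ⧸ Kp)) : Set (G ⧸ Kp)) :=
        ⟨hZV (hπZ x hx), (hπZ x hx).2⟩
      obtain ⟨wb, hwb, kb, hkb, hxwk⟩ := hK3 _ h1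
      -- lift `wb`, `kb` to `S`
      have hwS : wb ∈ (Sb : Subgroup (G ⧸ Kp)) := hVS hwb.1
      have hkS : kb ∈ (Sb : Subgroup (G ⧸ Kp)) := hVS (hK1 hkb).1
      rw [hSb] at hwS hkS
      obtain ⟨w, hw, rfl⟩ := hwS
      obtain ⟨k, hk, rfl⟩ := hkS
      have hxe : x = w * k := by
        apply heqS x hx.1 _ ((S : Subgroup G).mul_mem hw hk)
        rw [map_mul]
        exact hxwk
      rw [hxe]
      exact Subgroup.mul_mem_sup ⟨hw, hwb⟩ ⟨hk, hkb⟩

end Cfsg.Agent.Lib.Helper85
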